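import Mathlib
import Cfsg.Agent.Chev.IsogBase
import Cfsg.Agent.S1054

/-! The special isogeny of type F₄ in characteristic 2 and the faithful 26-dimensional representation. -/

set_option autoImplicit false

namespace Cfsg.Agent.Chev.Isog

open Cfsg.Lie Cfsg.Lie.ChevalleyDatum

/-- Basis of the short-root ideal (type F4). -/
def iotaF4 : Fin 26 → chevF4.Idx := ![Sum.inr ⟨44, by decide⟩, Sum.inr ⟨40, by decide⟩, Sum.inr ⟨39, by decide⟩, Sum.inr ⟨38, by decide⟩, Sum.inr ⟨37, by decide⟩, Sum.inr ⟨36, by decide⟩, Sum.inr ⟨35, by decide⟩, Sum.inr ⟨34, by decide⟩, Sum.inr ⟨33, by decide⟩, Sum.inr ⟨29, by decide⟩, Sum.inr ⟨28, by decide⟩, Sum.inr ⟨27, by decide⟩, Sum.inl ⟨0, by decide⟩, Sum.inl ⟨1, by decide⟩, Sum.inr ⟨20, by decide⟩, Sum.inr ⟨19, by decide⟩, Sum.inr ⟨18, by decide⟩, Sum.inr ⟨14, by decide⟩, Sum.inr ⟨13, by decide⟩, Sum.inr ⟨12, by decide⟩, Sum.inr ⟨11, by decide⟩, Sum.inr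 ⟨10, by decide⟩, Sum.inr ⟨9, by decide⟩, Sum.inr ⟨8, by decide⟩, Sum.inr ⟨7, by decide⟩, Sum.inr ⟨3, by decide⟩]

/-- Matching basis of the quotient (type F4). -/
def kappaF4 : Fin 26 → chevF4.Idx := ![Sum.inr ⟨47, by decide⟩, Sum.inr ⟨46, by decide⟩, Sum.inr ⟨45, by decide⟩, Sum.inr ⟨43, by decide⟩, Sum.inr ⟨32, by decide⟩, Sum.inr ⟨42, by decide⟩, Sum.inr ⟨31, by decide⟩, Sum.inr ⟨26, by decide⟩, Sum.inr ⟨24, by decide⟩, Sum.inr ⟨41, by decide⟩, Sum.inr ⟨30, by decide⟩, Sum.inr ⟨25, by decide⟩, Sum.inl ⟨3, by decide⟩, Sum.inl ⟨2, by decide⟩, Sum.inr ⟨22, by decide⟩, Sum.inr ⟨17, by decide⟩, Sum.inr ⟨6, by decide⟩, Sum.inr ⟨23, by decide⟩, Sum.inr ⟨21, by decide⟩, Sum.inr ⟨16, by decide⟩, Sum.inr ⟨5, by decide⟩, Sum.inr ⟨15, by decide⟩, Sum.inr ⟨4, by decide⟩, Sum.inr ⟨2, by decide⟩, Sum.inr ⟨1, by decide⟩, Sum.inr ⟨0, by decide⟩]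

/-- The length-exchanging symmetry of the roots (type F4), on indices. -/
def barNF4 (r : ℕ) : ℕ := [3, 7, 8, 0, 9, 11, 18, 1, 2, 4, 15, 5, 16, 21, 23, 10, 12, 19, 6, 17, 22, 13, 20, 14, 33, 27, 34, 25, 30, 41, 28, 35, 37, 24, 26, 31, 42, 32, 43, 45, 46, 29, 36, 38, 47, 39, 40, 44].getD r 0

/-- The exponents: `1` on long roots, `2` on short roots (type F4). -/
def lamNF4 (r : ℕ) : ℕ := [1, 1, 1, 2, 1, 1, 1, 2, 2, 2, 2, 2, 2, 2, 2, 1, 1, 1, 2, 2, 2, 1, 1, 1, 1, 1, 1, 2, 2, 2, 1, 1, 1, 2, 2, 2, 2, 2, 2, 2, 2, 1, 1, 1, 2, 1, 1, 1].getD r 0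

theorem barNF4_lt : ∀ r : Fin chevF4.nroots, barNF4 r < chevF4.nroots := by decide

/-- The data of the special isogeny of type F4 in characteristic 2. -/
def dataF4 : Data chevF4 2 26 where
  ι := iotaF4
  κ := kappaF4
  bar r := ⟨barNF4 r, barNF4_lt r⟩
  lam r := lamNF4 r
  bij := by decide +kernel
  zero := by decide +kernel
  eq := by decide +kernel
  bar_bar := by decide +kernel
  lam_mul := by decide +kernel
  mem := by simp

theorem matA_injective_F4 (F : Type*) [Field F] [CharP F 2] :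
    Function.Injective (dataF4.matA F) := by
  have := (S1054.result (F := F) chevF4 (by simp)).1
  exact dataF4.matA_injective_of_simple ⟨24, by decide⟩ 3 4 (by decide) (by decide +kernel)

end Cfsg.Agent.Chev.Isog
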