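import Mathlib
import Cfsg.Agent.Chev.Good
import Cfsg.Agent.Chev.Torus

/-!
# The kernel of `torusHom` and the order of `H`
-/

set_option autoImplicit false

namespace Cfsg.Agent.Chev

/-- The action of an integer matrix on tuples of elements of a commutative group. -/
def matAct {ι G : Type*} [Fintype ι] [CommGroup G] (M : Matrix ι ι ℤ) (c : ι → G) : ι → G :=
  fun j => ∏ i, c i ^ M i j

section

variable {ι G : Type*} [Fintype ι] [CommGroup G]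

theorem matAct_mul (M N : Matrix ι ι ℤ) (c : ι → G) : matAct (M * N) c = matAct N (matAct M c) := by
  funext j
  simp only [matAct, Matrix.mul_apply, Cfsg.Lie.ChevalleyDatum.zpow_finsetSum', zpow_mul,
    ← Finset.prod_zpow]
  exact Finset.prod_comm

theorem matAct_one_right (M : Matrix ι ι ℤ) : matAct M (1 : ι → G) = 1 := by
  funext j; simp [matAct]

variable [DecidableEq ι]

theorem matAct_diagonal (d : ι → ℤ) (c : ι → G) :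
    matAct (Matrix.diagonal d) c = fun j => c j ^ d j := by
  funext j
  rw [matAct, Finset.prod_eq_single j] <;> simp +contextual [Matrix.diagonal_apply_ne]

theorem matAct_one (c : ι → G) : matAct (1 : Matrix ι ι ℤ) c = c := by
  rw [← Matrix.diagonal_one, matAct_diagonal]; simp

/-- The number of solutions of `matAct A c = 1` from a Smith form `P A Q = diag d`. -/
theorem card_matAct_eq_one {A P P' Q Q' : Matrix ι ι ℤ} {d : ι → ℕ} (hP : P * P' = 1)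
    (hQ : Q * Q' = 1) (h : P * A * Q = Matrix.diagonal fun k => (d k : ℤ)) :
    Nat.card {c : ι → G // matAct A c = 1} = ∏ k, Nat.card {x : G // x ^ d k = 1} := by
  have hP' : P' * P = 1 := mul_eq_one_comm.1 hP
  let e : (ι → G) ≃ (ι → G) :=
    ⟨matAct P, matAct P', fun c => by rw [← matAct_mul, hP, matAct_one],
      fun c => by rw [← matAct_mul, hP', matAct_one]⟩
  rw [← Nat.card_pi, ← Nat.card_congr (Equiv.subtypePiEquivPi (p := fun k (x : G) => x ^ d k = 1))]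
  refine (Nat.card_congr (e.subtypeEquiv fun c => ?_)).symm
  change _ ↔ matAct A (matAct P c) = 1
  have h1 : matAct Q (matAct A (matAct P c)) = fun k => c k ^ d k := by
    rw [← matAct_mul, ← matAct_mul, ← mul_assoc, h, matAct_diagonal]; simp
  constructor
  · intro h2
    rw [← matAct_one (matAct A _), ← hQ, matAct_mul, h1, show (fun k => c k ^ d k) = 1 from funext h2,
      matAct_one_right]
  · intro h2
    rw [h2, matAct_one_right] at h1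
    exact fun k => (congrFun h1 k).symm

end

end Cfsg.Agent.Chev

namespace Cfsg.Lie.ChevalleyDatum

open Cfsg.Agent.Chev

variable (D : ChevalleyDatum) [hG : D.Good] (F : Type*) [Field F]

theorem card_ker_torusHom {n : ℕ} (hn : D.rank = n) (P P' Q Q' : Matrix (Fin n) (Fin n) ℤ)
    (d : Fin n → ℕ) (hP : P * P' = 1) (hQ : Q * Q' = 1)
    (h : P * (Matrix.of fun i j : Fin n => D.cartan i (D.simple j)) * Q =
      Matrix.diagonal fun k => (d k : ℤ)) :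
    Nat.card (D.torusHom F).ker = ∏ k, Nat.card {x : Fˣ // x ^ d k = 1} := by
  subst hn
  rw [← card_matAct_eq_one hP hQ h]
  refine Nat.card_congr (Equiv.subtypeEquivRight fun c => ?_)
  rw [mem_ker_torusHom, funext_iff]
  rfl

theorem card_ker_mul_card_diagonal :
    Nat.card (D.torusHom F).ker * Nat.card (D.diagonalSubgroup F) = Nat.card Fˣ ^ D.rank := by
  rw [← range_torusHom, ← Subgroup.index_ker, Subgroup.card_mul_index, Nat.card_pi]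
  simp

end Cfsg.Lie.ChevalleyDatum

namespace Cfsg.Agent.Chev

open Cfsg.Lie

variable (F : Type*) [Field F]

theorem card_ker_torus_G2 : Nat.card (chevG2.torusHom F).ker =
    ∏ k : Fin 2, Nat.card {x : Fˣ // x ^ (![1, 1] : Fin 2 → ℕ) k = 1} :=
  chevG2.card_ker_torusHom F (n := 2) rfl
    !![0, -1; 1, 2]
    !![2, 1; -1, 0]
    !![1, 2; 0, 1]
    !![1, -2; 0, 1]
    _ (by decide +kernel) (by decide +kernel) (by decide +kernel)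

theorem card_ker_torus_B2 : Nat.card (chevB2.torusHom F).ker =
    ∏ k : Fin 2, Nat.card {x : Fˣ // x ^ (![1, 2] : Fin 2 → ℕ) k = 1} :=
  chevB2.card_ker_torusHom F (n := 2) rfl
    !![0, -1; 1, 2]
    !![2, 1; -1, 0]
    !![1, 2; 0, 1]
    !![1, -2; 0, 1]
    _ (by decide +kernel) (by decide +kernel) (by decide +kernel)

theorem card_ker_torus_D4 : Nat.card (chevD4.torusHom F).ker =
    ∏ k : Fin 4, Nat.card {x : Fˣ // x ^ (![1, 1, 2, 2] : Fin 4 → ℕ) k = 1} :=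
  chevD4.card_ker_torusHom F (n := 4) rfl
    !![-1, 0, 0, 0; -2, -1, 0, 0; -3, -2, -1, 0; 2, 2, 1, 1]
    !![-1, 0, 0, 0; 2, -1, 0, 0; -1, 2, -1, 0; -1, 0, 1, 1]
    !![0, 0, 0, 1; 1, 0, 0, 2; 0, 1, -1, 1; 0, 0, 1, 2]
    !![-2, 1, 0, 0; -3, 0, 1, 1; -2, 0, 0, 1; 1, 0, 0, 0]
    _ (by decide +kernel) (by decide +kernel) (by decide +kernel)

theorem card_ker_torus_F4 : Nat.card (chevF4.torusHom F).ker =
    ∏ k : Fin 4, Nat.card {x : Fˣ // x ^ (![1, 1, 1, 1] : Fin 4 → ℕ) k = 1} :=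
  chevF4.card_ker_torusHom F (n := 4) rfl
    !![-1, 0, 0, 0; 1, 0, -1, 0; -2, -1, 0, 0; -2, -2, -2, -1]
    !![-1, 0, 0, 0; 2, 0, -1, 0; -1, -1, 0, 0; 0, 2, 2, -1]
    !![0, 0, 1, -2; 1, 0, 2, -4; 0, 0, 2, -3; 0, 1, 2, -2]
    !![-2, 1, 0, 0; 2, 0, -2, 1; -3, 0, 2, 0; -2, 0, 1, 0]
    _ (by decide +kernel) (by decide +kernel) (by decide +kernel)

theorem card_ker_torus_E6 : Nat.card (chevE6.torusHom F).ker =
    ∏ k : Fin 6, Nat.card {x : Fˣ // x ^ (![1, 1, 1, 1, 1, 3] : Fin 6 → ℕ) k = 1} :=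
  chevE6.card_ker_torusHom F (n := 6) rfl
    !![-1, 0, 0, 0, 0, 0; 0, -1, 0, 0, 0, 0; 1, -2, 0, -1, 0, 0; 2, -3, 0, -2, -1, 0; -2, 1, -1, 0, 0, 0; -5, 0, -4, -3, -2, -1]
    !![-1, 0, 0, 0, 0, 0; 0, -1, 0, 0, 0, 0; 2, -1, 0, 0, -1, 0; -1, 2, -1, 0, 0, 0; 0, -1, 2, -1, 0, 0; 0, 0, -1, 2, 4, -1]
    !![0, 0, 0, 0, 1, -2; 0, 0, 0, 0, 2, -3; 1, 0, 0, 0, 2, -4; 0, 1, 0, 0, 4, -6; 0, 0, 1, 0, 4, -5; 0, 0, 0, 1, 4, -4]
    !![-2, 0, 1, 0, 0, 0; 0, -2, 0, 1, 0, 0; 2, -3, 0, 0, 1, 0; 4, -4, 0, 0, 0, 1; -3, 2, 0, 0, 0, 0; -2, 1, 0, 0, 0, 0]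
    _ (by decide +kernel) (by decide +kernel) (by decide +kernel)

theorem card_ker_torus_E7 : Nat.card (chevE7.torusHom F).ker =
    ∏ k : Fin 7, Nat.card {x : Fˣ // x ^ (![1, 1, 1, 1, 1, 1, 2] : Fin 7 → ℕ) k = 1} :=
  chevE7.card_ker_torusHom F (n := 7) rfl
    !![-1, 0, 0, 0, 0, 0, 0; 0, -1, 0, 0, 0, 0, 0; 1, -2, 0, -1, 0, 0, 0; 2, -3, 0, -2, -1, 0, 0; 3, -4, 0, -3, -2, -1, 0; -2, 1, -1, 0, 0, 0, 0; -4, -1, -4, -4, -3, -2, -1]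
    !![-1, 0, 0, 0, 0, 0, 0; 0, -1, 0, 0, 0, 0, 0; 2, -1, 0, 0, 0, -1, 0; -1, 2, -1, 0, 0, 0, 0; 0, -1, 2, -1, 0, 0, 0; 0, 0, -1, 2, -1, 0, 0; 0, 0, 0, -1, 2, 4, -1]
    !![0, 0, 0, 0, 0, 1, -2; 0, 0, 0, 0, 0, 2, -3; 1, 0, 0, 0, 0, 2, -4; 0, 1, 0, 0, 0, 4, -6; 0, 0, 1, 0, 0, 4, -5; 0, 0, 0, 1, 0, 4, -4; 0, 0, 0, 0, 1, 4, -3]
    !![-2, 0, 1, 0, 0, 0, 0; 0, -2, 0, 1, 0, 0, 0; 2, -3, 0, 0, 1, 0, 0; 4, -4, 0, 0, 0, 1, 0; 6, -5, 0, 0, 0, 0, 1; -3, 2, 0, 0, 0, 0, 0; -2, 1, 0, 0, 0, 0, 0]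
    _ (by decide +kernel) (by decide +kernel) (by decide +kernel)

theorem card_ker_torus_E8 : Nat.card (chevE8.torusHom F).ker =
    ∏ k : Fin 8, Nat.card {x : Fˣ // x ^ (![1, 1, 1, 1, 1, 1, 1, 1] : Fin 8 → ℕ) k = 1} :=
  chevE8.card_ker_torusHom F (n := 8) rfl
    !![-1, 0, 0, 0, 0, 0, 0, 0; 0, -1, 0, 0, 0, 0, 0, 0; 1, -2, 0, -1, 0, 0, 0, 0; 2, -3, 0, -2, -1, 0, 0, 0; 3, -4, 0, -3, -2, -1, 0, 0; 4, -5, 0, -4, -3, -2, -1, 0; -2, 1, -1, 0, 0, 0, 0, 0; -3, -2, -4, -5, -4, -3, -2, -1]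
    !![-1, 0, 0, 0, 0, 0, 0, 0; 0, -1, 0, 0, 0, 0, 0, 0; 2, -1, 0, 0, 0, 0, -1, 0; -1, 2, -1, 0, 0, 0, 0, 0; 0, -1, 2, -1, 0, 0, 0, 0; 0, 0, -1, 2, -1, 0, 0, 0; 0, 0, 0, -1, 2, -1, 0, 0; 0, 0, 0, 0, -1, 2, 4, -1]
    !![0, 0, 0, 0, 0, 0, 1, -2; 0, 0, 0, 0, 0, 0, 2, -3; 1, 0, 0, 0, 0, 0, 2, -4; 0, 1, 0, 0, 0, 0, 4, -6; 0, 0, 1, 0, 0, 0, 4, -5; 0, 0, 0, 1, 0, 0, 4, -4; 0, 0, 0, 0, 1, 0, 4, -3; 0, 0, 0, 0, 0, 1, 4, -2]
    !![-2, 0, 1, 0, 0, 0, 0, 0; 0, -2, 0, 1, 0, 0, 0, 0; 2, -3, 0, 0, 1, 0, 0, 0; 4, -4, 0, 0, 0, 1, 0, 0; 6, -5, 0, 0, 0, 0, 1, 0; 8, -6, 0, 0, 0, 0, 0, 1; -3, 2, 0, 0, 0, 0, 0, 0; -2, 1, 0, 0, 0, 0, 0, 0]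
    _ (by decide +kernel) (by decide +kernel) (by decide +kernel)

theorem card_pow_one_eq_one {G : Type*} [Monoid G] : Nat.card {x : G // x ^ 1 = 1} = 1 := by
  simp only [pow_one]
  exact Nat.card_unique

theorem card_units_pow_eq_one [Fintype F] (d : ℕ) :
    Nat.card {u : Fˣ // u ^ d = 1} = d.gcd (Fintype.card F - 1) := by
  classical
  rw [← Fintype.card_units, ← Nat.card_eq_fintype_card, Nat.gcd_comm,
    ← IsCyclic.card_powMonoidHom_ker]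
  rfl

end Cfsg.Agent.Chev
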