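import Mathlib
import Cfsg.Agent.Chev.StData
import Cfsg.Agent.Chev.StTrans

/-!
# Graph automorphisms of types `D₄` and `E₆`
-/

set_option autoImplicit false
set_option maxRecDepth 100000

namespace Cfsg.Agent.Chev

open Cfsg.Lie Cfsg.Lie.ChevalleyDatum

/-- root map -/
def grE6Map (r : ℕ) : ℕ := [
    0, 1, 2, 5, 16, 3, 6, 17, 8, 19, 22, 11, 26, 30, 33, 35, 4, 7, 18, 9, 20, 23, 10, 21, 24, 25,
    12, 27, 31, 34, 13, 28, 32, 14, 29, 15, 56, 42, 57, 39, 43, 58, 37, 40, 44, 59, 46, 47, 50,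
    61, 48, 51, 62, 53, 64, 67, 36, 38, 41, 45, 60, 49, 52, 63, 54, 65, 68, 55, 66, 69, 70, 71].getD r 0

/-- inverse root map -/
def grE6Inv (r : ℕ) : ℕ := [
    0, 1, 2, 5, 16, 3, 6, 17, 8, 19, 22, 11, 26, 30, 33, 35, 4, 7, 18, 9, 20, 23, 10, 21, 24, 25,
    12, 27, 31, 34, 13, 28, 32, 14, 29, 15, 56, 42, 57, 39, 43, 58, 37, 40, 44, 59, 46, 47, 50,
    61, 48, 51, 62, 53, 64, 67, 36, 38, 41, 45, 60, 49, 52, 63, 54, 65, 68, 55, 66, 69, 70, 71].getD r 0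

/-- signs -/
def grE6Eps (r : ℕ) : ℤ := ([
    1, 1, 1, 1, -1, 1, 1, -1, 1, -1, -1, 1, -1, 1, -1, 1, -1, -1, 1, -1, 1, 1, -1, 1, 1, 1, -1, 1,
    -1, 1, 1, -1, 1, -1, 1, 1, 1, 1, -1, 1, -1, 1, 1, -1, 1, -1, 1, 1, 1, -1, 1, 1, -1, 1, -1, -1,
    1, -1, 1, -1, 1, -1, -1, 1, -1, 1, 1, -1, 1, 1, 1, 1] : List ℤ).getD r 1

theorem grE6Map_lt : ∀ r < chevE6.nroots, grE6Map r < chevE6.nroots := by decide +kernel

theorem grE6_trans : StRoot.Trans chevE6.stRoot chevE6.stRoot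
    (fun r => ⟨grE6Map r, grE6Map_lt r r.2⟩) (fun r => grE6Eps r) :=
  chevE6.trans_of_table slE6 chevE6 slE6 grE6Map grE6Inv grE6Eps grE6Map_lt
    (by decide +kernel) (by decide +kernel) (by decide +kernel) (by decide +kernel)

/-- root map -/
def grD4aMap (r : ℕ) : ℕ := [
    0, 1, 6, 2, 7, 10, 3, 8, 4, 9, 11, 5, 18, 12, 14, 19, 15, 20, 13, 16, 21, 17, 22, 23].getD r 0

/-- inverse root map -/
def grD4aInv (r : ℕ) : ℕ := [
    0, 1, 3, 6, 8, 11, 2, 4, 7, 9, 5, 10, 13, 18, 14, 16, 19, 21, 12, 15, 17, 20, 22, 23].getD r 0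

/-- signs -/
def grD4aEps (r : ℕ) : ℤ := ([
    1, 1, -1, 1, -1, 1, -1, 1, -1, 1, 1, 1, 1, 1, 1, -1, 1, -1, 1, -1, 1, -1, 1, 1] : List ℤ).getD r 1

theorem grD4aMap_lt : ∀ r < chevD4.nroots, grD4aMap r < chevD4.nroots := by decide +kernel

theorem grD4a_trans : StRoot.Trans chevD4.stRoot chevD4.stRoot
    (fun r => ⟨grD4aMap r, grD4aMap_lt r r.2⟩) (fun r => grD4aEps r) :=
  chevD4.trans_of_table slD4 chevD4 slD4 grD4aMap grD4aInv grD4aEps grD4aMap_lt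
    (by decide +kernel) (by decide +kernel) (by decide +kernel) (by decide +kernel)

/-- root map -/
def grD4bMap (r : ℕ) : ℕ := [
    0, 1, 3, 6, 8, 11, 2, 4, 7, 9, 5, 10, 13, 18, 14, 16, 19, 21, 12, 15, 17, 20, 22, 23].getD r 0

/-- inverse root map -/
def grD4bInv (r : ℕ) : ℕ := [
    0, 1, 6, 2, 7, 10, 3, 8, 4, 9, 11, 5, 18, 12, 14, 19, 15, 20, 13, 16, 21, 17, 22, 23].getD r 0

/-- signs -/
def grD4bEps (r : ℕ) : ℤ := ([
    1, 1, 1, -1, -1, 1, -1, -1, 1, 1, 1, 1, 1, 1, 1, 1, -1, -1, 1, -1, -1, 1, 1, 1] : List ℤ).getD r 1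

theorem grD4bMap_lt : ∀ r < chevD4.nroots, grD4bMap r < chevD4.nroots := by decide +kernel

theorem grD4b_trans : StRoot.Trans chevD4.stRoot chevD4.stRoot
    (fun r => ⟨grD4bMap r, grD4bMap_lt r r.2⟩) (fun r => grD4bEps r) :=
  chevD4.trans_of_table slD4 chevD4 slD4 grD4bMap grD4bInv grD4bEps grD4bMap_lt
    (by decide +kernel) (by decide +kernel) (by decide +kernel) (by decide +kernel)

/-- root map -/
def grD4cMap (r : ℕ) : ℕ := [
    0, 1, 3, 2, 4, 5, 6, 8, 7, 9, 11, 10, 13, 12, 14, 16, 15, 17, 18, 19, 21, 20, 22, 23].getD r 0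

/-- inverse root map -/
def grD4cInv (r : ℕ) : ℕ := [
    0, 1, 3, 2, 4, 5, 6, 8, 7, 9, 11, 10, 13, 12, 14, 16, 15, 17, 18, 19, 21, 20, 22, 23].getD r 0

/-- signs -/
def grD4cEps (r : ℕ) : ℤ := ([
    1, 1, 1, 1, 1, 1, 1, 1, 1, 1, 1, 1, 1, 1, 1, 1, 1, 1, 1, 1, 1, 1, 1, 1] : List ℤ).getD r 1

theorem grD4cMap_lt : ∀ r < chevD4.nroots, grD4cMap r < chevD4.nroots := by decide +kernel

theorem grD4c_trans : StRoot.Trans chevD4.stRoot chevD4.stRoot
    (fun r => ⟨grD4cMap r, grD4cMap_lt r r.2⟩) (fun r => grD4cEps r) :=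
  chevD4.trans_of_table slD4 chevD4 slD4 grD4cMap grD4cInv grD4cEps grD4cMap_lt
    (by decide +kernel) (by decide +kernel) (by decide +kernel) (by decide +kernel)

/-- root map -/
def grD4dMap (r : ℕ) : ℕ := [
    0, 1, 2, 6, 7, 10, 3, 4, 8, 9, 5, 11, 12, 18, 14, 15, 19, 20, 13, 16, 17, 21, 22, 23].getD r 0

/-- inverse root map -/
def grD4dInv (r : ℕ) : ℕ := [
    0, 1, 2, 6, 7, 10, 3, 4, 8, 9, 5, 11, 12, 18, 14, 15, 19, 20, 13, 16, 17, 21, 22, 23].getD r 0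

/-- signs -/
def grD4dEps (r : ℕ) : ℤ := ([
    1, 1, 1, -1, -1, 1, -1, -1, 1, 1, 1, 1, 1, 1, 1, 1, -1, -1, 1, -1, -1, 1, 1, 1] : List ℤ).getD r 1

theorem grD4dMap_lt : ∀ r < chevD4.nroots, grD4dMap r < chevD4.nroots := by decide +kernel

theorem grD4d_trans : StRoot.Trans chevD4.stRoot chevD4.stRoot
    (fun r => ⟨grD4dMap r, grD4dMap_lt r r.2⟩) (fun r => grD4dEps r) :=
  chevD4.trans_of_table slD4 chevD4 slD4 grD4dMap grD4dInv grD4dEps grD4dMap_lt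
    (by decide +kernel) (by decide +kernel) (by decide +kernel) (by decide +kernel)

/-- root map -/
def grD4eMap (r : ℕ) : ℕ := [
    0, 1, 6, 3, 8, 11, 2, 7, 4, 9, 10, 5, 18, 13, 14, 19, 16, 21, 12, 15, 20, 17, 22, 23].getD r 0

/-- inverse root map -/
def grD4eInv (r : ℕ) : ℕ := [
    0, 1, 6, 3, 8, 11, 2, 7, 4, 9, 10, 5, 18, 13, 14, 19, 16, 21, 12, 15, 20, 17, 22, 23].getD r 0

/-- signs -/
def grD4eEps (r : ℕ) : ℤ := ([
    1, 1, -1, 1, -1, 1, -1, 1, -1, 1, 1, 1, 1, 1, 1, -1, 1, -1, 1, -1, 1, -1, 1, 1] : List ℤ).getD r 1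

theorem grD4eMap_lt : ∀ r < chevD4.nroots, grD4eMap r < chevD4.nroots := by decide +kernel

theorem grD4e_trans : StRoot.Trans chevD4.stRoot chevD4.stRoot
    (fun r => ⟨grD4eMap r, grD4eMap_lt r r.2⟩) (fun r => grD4eEps r) :=
  chevD4.trans_of_table slD4 chevD4 slD4 grD4eMap grD4eInv grD4eEps grD4eMap_lt
    (by decide +kernel) (by decide +kernel) (by decide +kernel) (by decide +kernel)


variable (K : Type*) [Field K]

/-- `α` permutes the fundamental root elements and their negatives according to `π`. -/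
def IsGr (D : ChevalleyDatum) [D.Good] (K : Type*) [Field K] (π : D.Nd → D.Nd)
    (α : D.group K ≃* D.group K) : Prop :=
  (∀ i t, α (D.XG K (D.sr i) t) = D.XG K (D.sr (π i)) t) ∧
    ∀ i t, α (D.XG K (D.ng (D.sr i)) t) = D.XG K (D.ng (D.sr (π i))) t

theorem exists_graph_E6 : ∃ α, IsGr chevE6 K (![5, 1, 4, 3, 2, 0] : Fin 6 → Fin 6) α := by
  obtain ⟨α, -, h⟩ := exists_equiv_of_trans K grE6_trans grE6_trans
    (π := (![5, 1, 4, 3, 2, 0] : Fin 6 → Fin 6)) (ρ := (![5, 1, 4, 3, 2, 0] : Fin 6 → Fin 6))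
    (by decide : ∀ i : Fin 6, (![5, 1, 4, 3, 2, 0] : Fin 6 → Fin 6) ((![5, 1, 4, 3, 2, 0] : Fin 6 → Fin 6) i) = i)
    (by decide : ∀ i : Fin 6, (![5, 1, 4, 3, 2, 0] : Fin 6 → Fin 6) ((![5, 1, 4, 3, 2, 0] : Fin 6 → Fin 6) i) = i)
    (fun i => ⟨Fin.ext ((by decide +kernel : ∀ i : Fin 6, grE6Map (chevE6.simple i) =
      chevE6.simple (![5, 1, 4, 3, 2, 0] i : Fin 6)) i),
      (by decide +kernel : ∀ i : Fin 6, grE6Eps (chevE6.simple i) = 1) i⟩)
    (fun i => ⟨Fin.ext ((by decide +kernel : ∀ i : Fin 6, grE6Map (chevE6.simple i) =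
      chevE6.simple (![5, 1, 4, 3, 2, 0] i : Fin 6)) i),
      (by decide +kernel : ∀ i : Fin 6, grE6Eps (chevE6.simple i) = 1) i⟩)
  exact ⟨α, h⟩

theorem exists_graph_D4a : ∃ α, IsGr chevD4 K (![2, 1, 3, 0] : Fin 4 → Fin 4) α := by
  obtain ⟨α, -, h⟩ := exists_equiv_of_trans K grD4a_trans grD4b_trans
    (π := (![2, 1, 3, 0] : Fin 4 → Fin 4)) (ρ := (![3, 1, 0, 2] : Fin 4 → Fin 4))
    (by decide : ∀ i : Fin 4, (![2, 1, 3, 0] : Fin 4 → Fin 4) ((![3, 1, 0, 2] : Fin 4 → Fin 4) i) = i)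
    (by decide : ∀ i : Fin 4, (![3, 1, 0, 2] : Fin 4 → Fin 4) ((![2, 1, 3, 0] : Fin 4 → Fin 4) i) = i)
    (fun i => ⟨Fin.ext ((by decide +kernel : ∀ i : Fin 4, grD4aMap (chevD4.simple i) =
      chevD4.simple (![2, 1, 3, 0] i : Fin 4)) i),
      (by decide +kernel : ∀ i : Fin 4, grD4aEps (chevD4.simple i) = 1) i⟩)
    (fun i => ⟨Fin.ext ((by decide +kernel : ∀ i : Fin 4, grD4bMap (chevD4.simple i) =
      chevD4.simple (![3, 1, 0, 2] i : Fin 4)) i),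
      (by decide +kernel : ∀ i : Fin 4, grD4bEps (chevD4.simple i) = 1) i⟩)
  exact ⟨α, h⟩

theorem exists_graph_D4b : ∃ α, IsGr chevD4 K (![3, 1, 0, 2] : Fin 4 → Fin 4) α := by
  obtain ⟨α, -, h⟩ := exists_equiv_of_trans K grD4b_trans grD4a_trans
    (π := (![3, 1, 0, 2] : Fin 4 → Fin 4)) (ρ := (![2, 1, 3, 0] : Fin 4 → Fin 4))
    (by decide : ∀ i : Fin 4, (![3, 1, 0, 2] : Fin 4 → Fin 4) ((![2, 1, 3, 0] : Fin 4 → Fin 4) i) = i)
    (by decide : ∀ i : Fin 4, (![2, 1, 3, 0] : Fin 4 → Fin 4) ((![3, 1, 0, 2] : Fin 4 → Fin 4) i) = i)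
    (fun i => ⟨Fin.ext ((by decide +kernel : ∀ i : Fin 4, grD4bMap (chevD4.simple i) =
      chevD4.simple (![3, 1, 0, 2] i : Fin 4)) i),
      (by decide +kernel : ∀ i : Fin 4, grD4bEps (chevD4.simple i) = 1) i⟩)
    (fun i => ⟨Fin.ext ((by decide +kernel : ∀ i : Fin 4, grD4aMap (chevD4.simple i) =
      chevD4.simple (![2, 1, 3, 0] i : Fin 4)) i),
      (by decide +kernel : ∀ i : Fin 4, grD4aEps (chevD4.simple i) = 1) i⟩)
  exact ⟨α, h⟩

theorem exists_graph_D4c : ∃ α, IsGr chevD4 K (![0, 1, 3, 2] : Fin 4 → Fin 4) α := by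
  obtain ⟨α, -, h⟩ := exists_equiv_of_trans K grD4c_trans grD4c_trans
    (π := (![0, 1, 3, 2] : Fin 4 → Fin 4)) (ρ := (![0, 1, 3, 2] : Fin 4 → Fin 4))
    (by decide : ∀ i : Fin 4, (![0, 1, 3, 2] : Fin 4 → Fin 4) ((![0, 1, 3, 2] : Fin 4 → Fin 4) i) = i)
    (by decide : ∀ i : Fin 4, (![0, 1, 3, 2] : Fin 4 → Fin 4) ((![0, 1, 3, 2] : Fin 4 → Fin 4) i) = i)
    (fun i => ⟨Fin.ext ((by decide +kernel : ∀ i : Fin 4, grD4cMap (chevD4.simple i) =
      chevD4.simple (![0, 1, 3, 2] i : Fin 4)) i),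
      (by decide +kernel : ∀ i : Fin 4, grD4cEps (chevD4.simple i) = 1) i⟩)
    (fun i => ⟨Fin.ext ((by decide +kernel : ∀ i : Fin 4, grD4cMap (chevD4.simple i) =
      chevD4.simple (![0, 1, 3, 2] i : Fin 4)) i),
      (by decide +kernel : ∀ i : Fin 4, grD4cEps (chevD4.simple i) = 1) i⟩)
  exact ⟨α, h⟩

theorem exists_graph_D4d : ∃ α, IsGr chevD4 K (![2, 1, 0, 3] : Fin 4 → Fin 4) α := by
  obtain ⟨α, -, h⟩ := exists_equiv_of_trans K grD4d_trans grD4d_trans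
    (π := (![2, 1, 0, 3] : Fin 4 → Fin 4)) (ρ := (![2, 1, 0, 3] : Fin 4 → Fin 4))
    (by decide : ∀ i : Fin 4, (![2, 1, 0, 3] : Fin 4 → Fin 4) ((![2, 1, 0, 3] : Fin 4 → Fin 4) i) = i)
    (by decide : ∀ i : Fin 4, (![2, 1, 0, 3] : Fin 4 → Fin 4) ((![2, 1, 0, 3] : Fin 4 → Fin 4) i) = i)
    (fun i => ⟨Fin.ext ((by decide +kernel : ∀ i : Fin 4, grD4dMap (chevD4.simple i) =
      chevD4.simple (![2, 1, 0, 3] i : Fin 4)) i),
      (by decide +kernel : ∀ i : Fin 4, grD4dEps (chevD4.simple i) = 1) i⟩)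
    (fun i => ⟨Fin.ext ((by decide +kernel : ∀ i : Fin 4, grD4dMap (chevD4.simple i) =
      chevD4.simple (![2, 1, 0, 3] i : Fin 4)) i),
      (by decide +kernel : ∀ i : Fin 4, grD4dEps (chevD4.simple i) = 1) i⟩)
  exact ⟨α, h⟩

theorem exists_graph_D4e : ∃ α, IsGr chevD4 K (![3, 1, 2, 0] : Fin 4 → Fin 4) α := by
  obtain ⟨α, -, h⟩ := exists_equiv_of_trans K grD4e_trans grD4e_trans
    (π := (![3, 1, 2, 0] : Fin 4 → Fin 4)) (ρ := (![3, 1, 2, 0] : Fin 4 → Fin 4))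
    (by decide : ∀ i : Fin 4, (![3, 1, 2, 0] : Fin 4 → Fin 4) ((![3, 1, 2, 0] : Fin 4 → Fin 4) i) = i)
    (by decide : ∀ i : Fin 4, (![3, 1, 2, 0] : Fin 4 → Fin 4) ((![3, 1, 2, 0] : Fin 4 → Fin 4) i) = i)
    (fun i => ⟨Fin.ext ((by decide +kernel : ∀ i : Fin 4, grD4eMap (chevD4.simple i) =
      chevD4.simple (![3, 1, 2, 0] i : Fin 4)) i),
      (by decide +kernel : ∀ i : Fin 4, grD4eEps (chevD4.simple i) = 1) i⟩)
    (fun i => ⟨Fin.ext ((by decide +kernel : ∀ i : Fin 4, grD4eMap (chevD4.simple i) =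
      chevD4.simple (![3, 1, 2, 0] i : Fin 4)) i),
      (by decide +kernel : ∀ i : Fin 4, grD4eEps (chevD4.simple i) = 1) i⟩)
  exact ⟨α, h⟩

theorem isGr_refl (D : ChevalleyDatum) [D.Good] : IsGr D K id (MulEquiv.refl _) :=
  ⟨fun _ _ => rfl, fun _ _ => rfl⟩

theorem diagramSymmetry_D4 : ∀ π : Equiv.Perm (Fin 4), chevD4.IsDiagramSymmetry π →
    ⇑π = id ∨ ⇑π = ![2, 1, 3, 0] ∨ ⇑π = ![3, 1, 0, 2] ∨ ⇑π = ![0, 1, 3, 2] ∨ ⇑π = ![2, 1, 0, 3] ∨
      ⇑π = ![3, 1, 2, 0] := by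
  unfold IsDiagramSymmetry
  decide +kernel

theorem diagramSymmetry_E6 : ∀ π : Equiv.Perm (Fin 6), chevE6.IsDiagramSymmetry π →
    ⇑π = id ∨ ⇑π = ![5, 1, 4, 3, 2, 0] := by
  unfold IsDiagramSymmetry
  decide +kernel

theorem exists_graph_of_symmetry_D4 (π : Equiv.Perm (Fin 4)) (hπ : chevD4.IsDiagramSymmetry π) :
    ∃ α, IsGr chevD4 K π α := by
  rcases diagramSymmetry_D4 π hπ with h | h | h | h | h | h <;> rw [h]
  exacts [⟨_, isGr_refl K _⟩, exists_graph_D4a K, exists_graph_D4b K, exists_graph_D4c K,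
    exists_graph_D4d K, exists_graph_D4e K]

theorem exists_graph_of_symmetry_E6 (π : Equiv.Perm (Fin 6)) (hπ : chevE6.IsDiagramSymmetry π) :
    ∃ α, IsGr chevE6 K π α := by
  rcases diagramSymmetry_E6 π hπ with h | h <;> rw [h]
  exacts [⟨_, isGr_refl K _⟩, exists_graph_E6 K]

variable {K}

/-- the matrix form of `IsGr` -/
theorem IsGr.matrix {D : ChevalleyDatum} [D.Good] {π : D.Nd → D.Nd} {α : D.group K ≃* D.group K}
    (h : IsGr D K π α) (g : D.group K) (i : D.Nd) (t : K) :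
    (((g : GL D.Idx K) : Matrix D.Idx D.Idx K) = D.x K (D.simple i) t →
      ((α g : GL D.Idx K) : Matrix D.Idx D.Idx K) = D.x K (D.simple (π i)) t) ∧
    (((g : GL D.Idx K) : Matrix D.Idx D.Idx K) = D.x K (D.neg (D.simple i)) t →
      ((α g : GL D.Idx K) : Matrix D.Idx D.Idx K) = D.x K (D.neg (D.simple (π i))) t) := by
  refine ⟨fun e => ?_, fun e => ?_⟩ <;> rw [D.eq_XG K e]
  · exact congrArg (fun z : D.group K => ((z : GL D.Idx K) : Matrix D.Idx D.Idx K)) (h.1 i t)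
  · exact congrArg (fun z : D.group K => ((z : GL D.Idx K) : Matrix D.Idx D.Idx K)) (h.2 i t)

theorem isGr_of_matrix {D : ChevalleyDatum} [D.Good] {π : D.Nd → D.Nd} {α : D.group K ≃* D.group K}
    (h : ∀ (g : D.group K) (i : D.Nd) (t : K),
      (((g : GL D.Idx K) : Matrix D.Idx D.Idx K) = D.x K (D.simple i) t →
        ((α g : GL D.Idx K) : Matrix D.Idx D.Idx K) = D.x K (D.simple (π i)) t) ∧
      (((g : GL D.Idx K) : Matrix D.Idx D.Idx K) = D.x K (D.neg (D.simple i)) t →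
        ((α g : GL D.Idx K) : Matrix D.Idx D.Idx K) = D.x K (D.neg (D.simple (π i))) t)) :
    IsGr D K π α :=
  ⟨fun i t => D.eq_XG K ((h _ i t).1 rfl), fun i t => D.eq_XG K ((h _ i t).2 rfl)⟩

/-- a graph automorphism sends `x_r(t)` to `x_{π r}(± t)` -/
theorem IsGr.exists_sign {D : ChevalleyDatum} [D.Good] {π : Equiv.Perm D.Nd}
    {α : D.group K ≃* D.group K} (h : IsGr D K π α)
    (hπ : ∀ i j, D.cartan (π i) (D.simple (π j)) = D.cartan i (D.simple j)) (r : D.Rt) :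
    ∃ (s : D.Rt) (ε : K), (∀ i, D.cw s (π i) = D.cw r i) ∧ (∀ i, D.wt s (π i) = D.wt r i) ∧
      (ε = 1 ∨ ε = -1) ∧ ∀ t, α (D.XG K r t) = D.XG K s (ε * t) := by
  have hs := (D.isModel_XG K).toIsSt
  have hn : ∀ i, α (D.stRoot.nn (fun r : D.Rt => D.XG K r) (D.sr i) 1) =
      D.stRoot.nn (fun r : D.Rt => D.XG K r) (D.sr (π i)) 1 := fun i => by
    simp only [StRoot.nn, map_mul, stRoot_ng, h.1, h.2]
  induction r using D.root_induction with
  | h0 i =>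
    refine ⟨D.sr (π i), 1, fun j => ?_, fun j => hπ j i, Or.inl rfl, fun t => by rw [h.1, one_mul]⟩
    rw [cw_sr, cw_sr, Pi.single_apply, Pi.single_apply]
    simp
  | hs i r ih =>
    obtain ⟨s, ε, h1, h2, h3, h4⟩ := ih
    have e1 : D.cartan (π i) s = D.cartan i r := h2 i
    have e2 : D.pairing s (D.sr (π i)) = D.pairing r (D.sr i) := by
      rw [pairing_eq_dot, pairing_eq_dot, dotProduct, dotProduct, ← Equiv.sum_comp π]
      exact Finset.sum_congr rfl fun j _ => by rw [h1]; exact congrArg _ (hπ j i)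
    refine ⟨D.sref (π i) s, D.etaR (D.sr (π i)) s * ε * D.etaR (D.sr i) r, fun j => ?_, fun j => ?_,
      ?_, fun t => ?_⟩
    · rw [cw_sref, cw_sref, e2, cw_sr, cw_sr]
      simp [h1, Pi.single_apply]
    · rw [wt_sref, wt_sref, e1, Pi.sub_apply, Pi.sub_apply, h2, Pi.smul_apply, Pi.smul_apply]
      exact congrArg _ (congrArg _ (hπ j i))
    · rcases D.etaR_sign (D.sr (π i)) s with a | a <;> rcases D.etaR_sign (D.sr i) r with b | b <;>
        rcases h3 with c | c <;> simp [a, b, c]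
    · have a := hs.nconj (D.sr i) r 1 one_ne_zero ((D.etaR (D.sr i) r : K) * t)
      have b := hs.nconj (D.sr (π i)) s 1 one_ne_zero (ε * ((D.etaR (D.sr i) r : K) * t))
      have c : (D.etaR (D.sr i) r : K) * D.etaR (D.sr i) r = 1 :=
        StRoot.eta_mul_self (R := D.stRoot) _ _
      simp only [one_zpow, mul_one, stRoot_refl, refl_sr, stRoot_eta] at a b
      rw [← mul_assoc (D.etaR (D.sr i) r : K), c, one_mul] at a
      rw [← a, map_mul, map_mul, map_inv, hn, h4, b]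
      congr 1
      ring

theorem cw_inj {D : ChevalleyDatum} [D.Good] {r s : D.Rt} (h : D.cw r = D.cw s) : r = s := by
  by_contra hne
  have h1 : D.pairing s r = 2 := by rw [pairing_eq_dot, ← h, ← pairing_eq_dot, pairing_self]
  have h2 : D.pairing r s = 2 := by rw [pairing_eq_dot, h, ← pairing_eq_dot, pairing_self]
  have h3 : r ≠ D.ng s := by
    rintro rfl
    rw [pairing_ng_right, pairing_self] at h1
    omega
  have := (D.pairOK hne h3).pairing_mul.2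
  rw [h1, h2] at this
  omega

theorem permRoot_eq {D : ChevalleyDatum} [D.Good] (π : Equiv.Perm D.Nd) {r s : D.Rt}
    (h : ∀ i, D.cw s (π i) = D.cw r i) : D.permRoot π r = s := by
  unfold permRoot
  have hs : ((List.finRange D.rank).all fun i =>
      (D.coroot.getD s #[]).getD (π i).val 0 == (D.coroot.getD r #[]).getD i.val 0) = true := by
    exact List.all_eq_true.2 fun i _ => beq_iff_eq.2 (h i)
  rcases hf : (List.range D.nroots).find? fun s => (List.finRange D.rank).all fun i =>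
      (D.coroot.getD s #[]).getD (π i).val 0 == (D.coroot.getD r #[]).getD i.val 0 with _ | u
  · exact absurd hs (by simpa using List.find?_eq_none.1 hf s (List.mem_range.2 s.2))
  · have h1 := List.find?_some hf
    have h2 := List.mem_range.1 (List.mem_of_find?_eq_some hf)
    have : (⟨u, h2⟩ : D.Rt) = s := cw_inj (funext fun j => by
      obtain ⟨i, rfl⟩ := π.surjective j
      rw [h]
      have := List.all_eq_true.1 h1 i (List.mem_finRange i)
      exact beq_iff_eq.1 this)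
    exact congrArg Fin.val this

theorem cartan_eq_of_symmetry {D : ChevalleyDatum} [D.Good] (hL : D.stRoot.SL) {π : Equiv.Perm D.Nd}
    (hπ : D.IsDiagramSymmetry π) (i j : D.Nd) :
    D.cartan (π i) (D.simple (π j)) = D.cartan i (D.simple j) := by
  by_cases e : i = j
  · rw [e, cartan_simple_self, cartan_simple_self]
  have key : ∀ i j : D.Nd, i ≠ j → D.cartan i (D.simple j) = - D.bonds i j := fun i j e => by
    have h1 := D.stRoot.A_sr_sr_nonpos e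
    have h2 := hL.ge (StRoot.Pos.ne_ng (D.stRoot.pos_sr i) (D.stRoot.pos_sr j))
    have h3 := hL.symm (D.stRoot.sr i) (D.stRoot.sr j)
    simp only [stRoot_A_sr_sr] at h1 h2 h3
    rw [bonds, ← h3]
    rcases (by omega : D.cartan i (D.simple j) = 0 ∨ D.cartan i (D.simple j) = -1) with a | a <;>
      simp [a]
  rw [key _ _ e, key _ _ (π.injective.ne e), hπ i j e]

end Cfsg.Agent.Chev
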