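import Mathlib
import Cfsg.Agent.Spor.Comp.Pres

/-! Generated by tools/pg: stabiliser chain g22 -/

set_option autoImplicit false
set_option maxRecDepth 100000
set_option linter.unusedVariables false
set_option exponentiation.threshold 100000

namespace Cfsg.Agent.Chev.G22

open Cfsg.Agent.Spor

noncomputable def g22_S_t0 : BT :=
(.node (.node (.node (.node (.node (.leaf (nat_lit 0x37865cf691dfba7dcec636e13038928201661ef396e0f62d66e348da5675e86535124453edc432ebb011f242f32a229))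
 (.leaf (nat_lit 0x17c316a188c2e89d03e3f3d99656cae9ab6d6f619cb9e8e35c6de77b925faeb544d14b4ce07f8dc92881c3105182040))
) (.leaf (nat_lit 0x18edaf544cf435db4ce4be6c6aa6286eb607f08f296cae89dc6de77c5fe65247ae56577e0d38c2c81ca2451840c2040))
) (.node (.node (.leaf (nat_lit 0x26925ebb85d7b3d35daab53bd4c56632a492bef3d8a3e5b737e1f81256b5ec66ec1a4481cd38c2e7a103c20440c6140))
 (.leaf (nat_lit 0x2f93d6aaa607f4cf5dbb6319944eeb6284f417f25c92477e1b71e763c19facad657ae689cc2cd38720a2461440c2040))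
) (.leaf (nat_lit 0x19be64e4b1e777e207d5a61622c92efd5872315feafc51c6cc2cd3ad479c3a6aa8e5b892a89d03f5db3d02046143100))
)) (.node (.node (.node (.leaf (nat_lit 0x33cacdeed28ef0af9fbda76b7abfcd67c78a8525c8e01a22905a46cf5425dd64805245e68400c2df9541e198e0d84cd))
 (.leaf (nat_lit 0x308f296cad03f6d73d3c5fe65247ae5655f818edaf544e7a1b71d7a4be6c6aa6286eb78dce34b3072092851840c2040))
) (.leaf (nat_lit 0x1a6585f9e903ce34c2e69648edbabb29aa07f2c70be18a89dd79b73ef7ced55935114b8df6d74cca2481c5183102040))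
) (.node (.leaf (nat_lit 0x39bacab2fa89f5db3d3ab6ba7dc7cc3bbf8de159449a98f40a2481e25534656646235df80e34c2de75c6c51840c1080))
 (.leaf (nat_lit 0x31f9791350b31f838dfdca362aa7ae555b6d599aff2bb0e35d79b7256bbc1246286dbb3d27a103c81c9283106142040))
))) (.node (.node (.node (.node (.leaf (nat_lit 0x132b821063c50518205fb66a5ec6885cbec9307676e0ae2cae96a8cf6795c9577f8747a68d38c2fd5bb4b5d800f4cc4))
 (.leaf (nat_lit 0x3dca362caf4ce89cf431f979114a18aeb4d3a56bbc144f5d9d79b7199aff29ab9e9654c2e07f7e0720a2440c5182040))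
) (.leaf (nat_lit 0x31cbbf2eb689f4cf6d7dfafc3ae6aa6caf8dd96a39165503dd79c6e59976228524544e07cc2ce3492881c51840c2040))
) (.node (.leaf (nat_lit 0x37a35ceeb72fb0f2fef89f6d3ae6bb29abdc507ce3155999451840cf80d2e18944d24666a46235c92881dd79c6c0042))
 (.leaf (nat_lit 0x24aa2ad6635d8928722d997f516b98d4c4e37c4ba4eec34cf8de07d5faf969ca1eec64c2db71e74f427a040c1086140))
)) (.node (.node (.node (.leaf (nat_lit 0x37d0dec518ef9063dce4966a1e769aabb2f7f0c7281b7239eeb6188f3355c40d35124766b8f192c20081f9e9654a049))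
 (.leaf (nat_lit 0x17f25c9245f833d36d63c19facad657ae503ef93d6aaa78ddc6dd7bb6319944eeb62867a0b30e3481c92861440c2040))
) (.leaf (nat_lit 0x269648e2877e35db3d1a6585d65544d2467a3ef7cefae5f81d79b732c70beeb6caeaa4f40d38b3092872061440c2040))
) (.node (.leaf (nat_lit 0x3b925fa2874ce07f8def619c955abb2aa4e363f3d9bae76d5b71d797c316adb9351244c2e89d03c92881c40c6142040))
 (.leaf (nat_lit 0x32f645eaa76d78ddf83ec588d35155bae4b31a97cbd2473d1e75b726670eebb2dba284e3503e7a072092840c6142040))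
))))

noncomputable def g22_S_t : BT :=
g22_S_t0

noncomputable def g22_S : ℕ → ℕ → ℕ := fun x i => Nat.land (Nat.shiftRight (BT.get g22_S_t x) (Nat.mul (nat_lit 6) i)) (nat_lit 63)

noncomputable def g22_defs : LT :=
(.node (.node (.node (.node (.node (.leaf [nat_lit 0])
 (.leaf [nat_lit 0,nat_lit 4,nat_lit 12,nat_lit 4,nat_lit 13,nat_lit 4])
) (.leaf [nat_lit 0])
) (.node (.node (.leaf [nat_lit 0])
 (.leaf [nat_lit 1,nat_lit 19])
) (.leaf [nat_lit 0,nat_lit 1,nat_lit 3,nat_lit 7,nat_lit 8,nat_lit 0])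
)) (.node (.node (.node (.leaf [nat_lit 0])
 (.leaf [nat_lit 0,nat_lit 14,nat_lit 16])
) (.leaf [nat_lit 0])
) (.node (.leaf [nat_lit 0])
 (.leaf [nat_lit 0,nat_lit 12,nat_lit 4])
))) (.node (.node (.node (.node (.leaf [nat_lit 0])
 (.leaf [nat_lit 1,nat_lit 14])
) (.leaf [nat_lit 0])
) (.node (.leaf [nat_lit 0])
 (.leaf [nat_lit 1,nat_lit 12])
)) (.node (.node (.node (.leaf [nat_lit 0])
 (.leaf [nat_lit 0,nat_lit 18,nat_lit 9])
) (.leaf [nat_lit 0])
) (.node (.leaf [nat_lit 0])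
 (.leaf [nat_lit 0,nat_lit 13,nat_lit 4,nat_lit 12])
))))
noncomputable def g22_iota : ℕ → ℕ := getP (nat_lit 8) (nat_lit 255) (nat_lit 0xb0a090807060503020100040f121413)
noncomputable def g22_inv : ℕ → ℕ := getP (nat_lit 8) (nat_lit 255) (nat_lit 0xf0e0d0c0b0a09080706050403020001)
noncomputable def g22_hws : LT := .leaf []

noncomputable def g22_T_t0 : BT :=
(.node (.node (.node (.node (.leaf (nat_lit 0x17f25c9245f833d36d63c19facad657ae503ef93d6aaa78ddc6dd7bb6319944eeb62867a0b30e3481c92861440c2040))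
 (.leaf (nat_lit 0x37d0dec518ef9063dce4966a1e769aabb2f7f0c7281b7239eeb6188f3355c40d35124766b8f192c20081f9e9654a049))
) (.node (.leaf (nat_lit 0x26925ebb85d7b3d35daab53bd4c56632a492bef3d8a3e5b737e1f81256b5ec66ec1a4481cd38c2e7a103c20440c6140))
 (.leaf (nat_lit 0x18edaf544cf435db4ce4be6c6aa6286eb607f08f296cae89dc6de77c5fe65247ae56577e0d38c2c81ca2451840c2040))
)) (.node (.node (.leaf (nat_lit 0x308f296cad03f6d73d3c5fe65247ae5655f818edaf544e7a1b71d7a4be6c6aa6286eb78dce34b3072092851840c2040))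
 (.leaf (nat_lit 0x39bacab2fa89f5db3d3ab6ba7dc7cc3bbf8de159449a98f40a2481e25534656646235df80e34c2de75c6c51840c1080))
) (.node (.leaf (nat_lit 0x132b821063c50518205fb66a5ec6885cbec9307676e0ae2cae96a8cf6795c9577f8747a68d38c2fd5bb4b5d800f4cc4))
 (.leaf (nat_lit 0x1a6585f9e903ce34c2e69648edbabb29aa07f2c70be18a89dd79b73ef7ced55935114b8df6d74cca2481c5183102040))
))) (.node (.node (.node (.leaf (nat_lit 0x2f93d6aaa607f4cf5dbb6319944eeb6284f417f25c92477e1b71e763c19facad657ae689cc2cd38720a2461440c2040))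
 (.leaf (nat_lit 0x37a35ceeb72fb0f2fef89f6d3ae6bb29abdc507ce3155999451840cf80d2e18944d24666a46235c92881dd79c6c0042))
) (.node (.leaf (nat_lit 0x37865cf691dfba7dcec636e13038928201661ef396e0f62d66e348da5675e86535124453edc432ebb011f242f32a229))
 (.leaf (nat_lit 0x31cbbf2eb689f4cf6d7dfafc3ae6aa6caf8dd96a39165503dd79c6e59976228524544e07cc2ce3492881c51840c2040))
)) (.node (.node (.leaf (nat_lit 0x32f645eaa76d78ddf83ec588d35155bae4b31a97cbd2473d1e75b726670eebb2dba284e3503e7a072092840c6142040))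
 (.leaf (nat_lit 0x3b925fa2874ce07f8def619c955abb2aa4e363f3d9bae76d5b71d797c316adb9351244c2e89d03c92881c40c6142040))
) (.node (.leaf (nat_lit 0x33cacdeed28ef0af9fbda76b7abfcd67c78a8525c8e01a22905a46cf5425dd64805245e68400c2df9541e198e0d84cd))
 (.leaf (nat_lit 0x269648e2877e35db3d1a6585d65544d2467a3ef7cefae5f81d79b732c70beeb6caeaa4f40d38b3092872061440c2040))
))))

noncomputable def g22_T_t : BT :=
g22_T_t0

noncomputable def g22_T : ℕ → ℕ → ℕ := fun x i => Nat.land (Nat.shiftRight (BT.get g22_T_t x) (Nat.mul (nat_lit 6) i)) (nat_lit 63)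

noncomputable def g22_E_t0 : BT :=
(.node (.node (.node (.leaf (nat_lit 0x102a02b0881503980c088050398730681d02d83c0d60d02d8630861ac2502b0461702983c058070398040a8090018530980701a0230981ec218140f81903d87c03606c1d03b01600c2504300602c0e0120661c82585100))
 (.leaf (nat_lit 0x805003012000000000000000000000))
) (.leaf (nat_lit 0xc0901c0320000000000))
) (.node (.leaf (nat_lit 0xc090240360701080000))
 (.leaf (nat_lit 0x8088000000000000000))
))

noncomputable def g22_E_t : BT :=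
g22_E_t0

noncomputable def g22_E : ℕ → ℕ → ℕ := fun x i => Nat.land (Nat.shiftRight (BT.get g22_E_t x) (Nat.mul (nat_lit 11) i)) (nat_lit 2047)

theorem g22_slp0 : allLt (nat_lit 9) (fun i => force (Nat.add (nat_lit 12) i) (slpOK g22_S g22_defs (nat_lit 63))) = true := by decide +kernel

theorem g22_ren : allLt (nat_lit 16) (fun x => force (g22_iota x) fun y => band (blt y (nat_lit 21)) (allRange (nat_lit 0) (nat_lit 63) fun i => Nat.beq (g22_S y i) (g22_T x i))) = true := by decide +kernel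

theorem g22_L4_o : band (allRange (nat_lit 0) (nat_lit 63) (orbOK g22_T (nat_lit 2) (g22_E (nat_lit 4)) (Nat.beq (nat_lit 7)))) (band (Nat.ble (nat_lit 4) (count2 (nat_lit 63) fun p => Nat.ble 256 (g22_E (nat_lit 4) p))) (allLt (nat_lit 0) (fun x => Nat.beq (g22_T x (nat_lit 7)) (nat_lit 7)))) = true := by decide +kernel

theorem g22_L3_o : band (allRange (nat_lit 0) (nat_lit 63) (orbOK g22_T (nat_lit 3) (g22_E (nat_lit 3)) (Nat.beq (nat_lit 5)))) (band (Nat.ble (nat_lit 2) (count2 (nat_lit 63) fun p => Nat.ble 256 (g22_E (nat_lit 3) p))) (allLt (nat_lit 2) (fun x => Nat.beq (g22_T x (nat_lit 5)) (nat_lit 5)))) = true := by decide +kernel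

theorem g22_L2_o : band (allRange (nat_lit 0) (nat_lit 63) (orbOK g22_T (nat_lit 4) (g22_E (nat_lit 2)) (Nat.beq (nat_lit 3)))) (band (Nat.ble (nat_lit 4) (count2 (nat_lit 63) fun p => Nat.ble 256 (g22_E (nat_lit 2) p))) (allLt (nat_lit 3) (fun x => Nat.beq (g22_T x (nat_lit 3)) (nat_lit 3)))) = true := by decide +kernel

theorem g22_L1_o : band (allRange (nat_lit 0) (nat_lit 63) (orbOK g22_T (nat_lit 5) (g22_E (nat_lit 1)) (Nat.beq (nat_lit 1)))) (band (Nat.ble (nat_lit 6) (count2 (nat_lit 63) fun p => Nat.ble 256 (g22_E (nat_lit 1) p))) (allLt (nat_lit 4) (fun x => Nat.beq (g22_T x (nat_lit 1)) (nat_lit 1)))) = true := by decide +kernel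

theorem g22_L0_o : band (allRange (nat_lit 0) (nat_lit 63) (orbOK g22_T (nat_lit 16) (g22_E (nat_lit 0)) (Nat.beq (nat_lit 0)))) (band (Nat.ble (nat_lit 63) (count2 (nat_lit 63) fun p => Nat.ble 256 (g22_E (nat_lit 0) p))) (allLt (nat_lit 5) (fun x => Nat.beq (g22_T x (nat_lit 0)) (nat_lit 0)))) = true := by decide +kernel

/-- The letters: a strong generating set, deepest stabiliser first. -/
noncomputable def g22_g {G : Type*} [Group G] (a : ℕ → G) : ℕ → G := fun x => slp a 12 g22_defs (g22_iota x)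

theorem g22_tabs {G α : Type*} [Group G] [MulAction G α] {e : ℕ → α} {a : ℕ → G} (h0 : Tabs e 63 g22_S a 12) : Tabs e 63 g22_T (g22_g a) 16 :=
  Tabs.rename (ι := g22_iota) (g := slp a 12 g22_defs) ((Tabs.slp_base g22_defs h0).slp_add (by decide) _ g22_slp0) g22_ren

theorem g22_gen {G : Type*} [Group G] (a : ℕ → G) : genLt (g22_g a) 16 = genLt a 12 :=
  genLt_slp_eq a g22_defs (back := getP 8 255 (nat_lit 0xf0e0d0c0b0a090408070605)) (by decide +kernel)

theorem g22_low4 {G α : Type*} [Group G] [MulAction G α] {e : ℕ → α} {a : ℕ → G} (he : Set.InjOn e (Set.Iio 63)) (h0 : Tabs e 63 g22_S a 12) :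
    LowLevel (genLt (g22_g a) 2) (genLt (g22_g a) 0) (e 7) 4 :=
  Tabs.lowLevel (g22_tabs h0) he (by decide) (by decide) (by decide) g22_L4_o

theorem g22_ge4 {G α : Type*} [Group G] [MulAction G α] {e : ℕ → α} {a : ℕ → G} (he : Set.InjOn e (Set.Iio 63)) (h0 : Tabs e 63 g22_S a 12) :
    Finite (genLt (g22_g a) 2) → 4 ≤ Nat.card (genLt (g22_g a) 2) := fun hK =>
  (g22_low4 he h0).card hK (one_le_card_fin _)

theorem g22_fix4 {G α : Type*} [Group G] [MulAction G α] {e : ℕ → α} {a : ℕ → G} (he : Set.InjOn e (Set.Iio 63)) (h0 : Tabs e 63 g22_S a 12) :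
    ∀ X : Subgroup G, Finite X → (genLt (g22_g a) 2) ≤ X → 4 * Nat.card (fixB e X [7]) ≤ Nat.card X :=
  (g22_low4 he h0).card_fix (card_fix_nil _ _)

theorem g22_low3 {G α : Type*} [Group G] [MulAction G α] {e : ℕ → α} {a : ℕ → G} (he : Set.InjOn e (Set.Iio 63)) (h0 : Tabs e 63 g22_S a 12) :
    LowLevel (genLt (g22_g a) 3) (genLt (g22_g a) 2) (e 5) 2 :=
  Tabs.lowLevel (g22_tabs h0) he (by decide) (by decide) (by decide) g22_L3_o

theorem g22_ge3 {G α : Type*} [Group G] [MulAction G α] {e : ℕ → α} {a : ℕ → G} (he : Set.InjOn e (Set.Iio 63)) (h0 : Tabs e 63 g22_S a 12) :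
    Finite (genLt (g22_g a) 3) → 8 ≤ Nat.card (genLt (g22_g a) 3) := fun hK =>
  (g22_low3 he h0).card hK (g22_ge4 he h0)

theorem g22_fix3 {G α : Type*} [Group G] [MulAction G α] {e : ℕ → α} {a : ℕ → G} (he : Set.InjOn e (Set.Iio 63)) (h0 : Tabs e 63 g22_S a 12) :
    ∀ X : Subgroup G, Finite X → (genLt (g22_g a) 3) ≤ X → 8 * Nat.card (fixB e X [5, 7]) ≤ Nat.card X :=
  (g22_low3 he h0).card_fix (g22_fix4 he h0)

theorem g22_low2 {G α : Type*} [Group G] [MulAction G α] {e : ℕ → α} {a : ℕ → G} (he : Set.InjOn e (Set.Iio 63)) (h0 : Tabs e 63 g22_S a 12) :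
    LowLevel (genLt (g22_g a) 4) (genLt (g22_g a) 3) (e 3) 4 :=
  Tabs.lowLevel (g22_tabs h0) he (by decide) (by decide) (by decide) g22_L2_o

theorem g22_ge2 {G α : Type*} [Group G] [MulAction G α] {e : ℕ → α} {a : ℕ → G} (he : Set.InjOn e (Set.Iio 63)) (h0 : Tabs e 63 g22_S a 12) :
    Finite (genLt (g22_g a) 4) → 32 ≤ Nat.card (genLt (g22_g a) 4) := fun hK =>
  (g22_low2 he h0).card hK (g22_ge3 he h0)

theorem g22_fix2 {G α : Type*} [Group G] [MulAction G α] {e : ℕ → α} {a : ℕ → G} (he : Set.InjOn e (Set.Iio 63)) (h0 : Tabs e 63 g22_S a 12) :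
    ∀ X : Subgroup G, Finite X → (genLt (g22_g a) 4) ≤ X → 32 * Nat.card (fixB e X [3, 5, 7]) ≤ Nat.card X :=
  (g22_low2 he h0).card_fix (g22_fix3 he h0)

theorem g22_low1 {G α : Type*} [Group G] [MulAction G α] {e : ℕ → α} {a : ℕ → G} (he : Set.InjOn e (Set.Iio 63)) (h0 : Tabs e 63 g22_S a 12) :
    LowLevel (genLt (g22_g a) 5) (genLt (g22_g a) 4) (e 1) 6 :=
  Tabs.lowLevel (g22_tabs h0) he (by decide) (by decide) (by decide) g22_L1_o

theorem g22_ge1 {G α : Type*} [Group G] [MulAction G α] {e : ℕ → α} {a : ℕ → G} (he : Set.InjOn e (Set.Iio 63)) (h0 : Tabs e 63 g22_S a 12) :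
    Finite (genLt (g22_g a) 5) → 192 ≤ Nat.card (genLt (g22_g a) 5) := fun hK =>
  (g22_low1 he h0).card hK (g22_ge2 he h0)

theorem g22_fix1 {G α : Type*} [Group G] [MulAction G α] {e : ℕ → α} {a : ℕ → G} (he : Set.InjOn e (Set.Iio 63)) (h0 : Tabs e 63 g22_S a 12) :
    ∀ X : Subgroup G, Finite X → (genLt (g22_g a) 5) ≤ X → 192 * Nat.card (fixB e X [1, 3, 5, 7]) ≤ Nat.card X :=
  (g22_low1 he h0).card_fix (g22_fix2 he h0)

theorem g22_low0 {G α : Type*} [Group G] [MulAction G α] {e : ℕ → α} {a : ℕ → G} (he : Set.InjOn e (Set.Iio 63)) (h0 : Tabs e 63 g22_S a 12) :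
    LowLevel (genLt (g22_g a) 16) (genLt (g22_g a) 5) (e 0) 63 :=
  Tabs.lowLevel (g22_tabs h0) he (by decide) (by decide) (by decide) g22_L0_o

theorem g22_ge0 {G α : Type*} [Group G] [MulAction G α] {e : ℕ → α} {a : ℕ → G} (he : Set.InjOn e (Set.Iio 63)) (h0 : Tabs e 63 g22_S a 12) :
    Finite (genLt (g22_g a) 16) → 12096 ≤ Nat.card (genLt (g22_g a) 16) := fun hK =>
  (g22_low0 he h0).card hK (g22_ge1 he h0)

theorem g22_fix0 {G α : Type*} [Group G] [MulAction G α] {e : ℕ → α} {a : ℕ → G} (he : Set.InjOn e (Set.Iio 63)) (h0 : Tabs e 63 g22_S a 12) :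
    ∀ X : Subgroup G, Finite X → (genLt (g22_g a) 16) ≤ X → 12096 * Nat.card (fixB e X [0, 1, 3, 5, 7]) ≤ Nat.card X :=
  (g22_low0 he h0).card_fix (g22_fix1 he h0)

theorem g22_ub0 {G α : Type*} [Group G] [MulAction G α] {e : ℕ → α} {a : ℕ → G} (he : Set.InjOn e (Set.Iio 63)) (h0 : Tabs e 63 g22_S a 12) (hub : Nat.card (genLt a 12) ≠ 0 ∧ Nat.card (genLt a 12) ≤ 12096) :
    Nat.card (genLt (g22_g a) 16) ≠ 0 ∧ Nat.card (genLt (g22_g a) 16) ≤ 12096 := by rw [g22_gen]; exact hub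

theorem g22_level0 {G α : Type*} [Group G] [MulAction G α] {e : ℕ → α} {a : ℕ → G} (he : Set.InjOn e (Set.Iio 63)) (h0 : Tabs e 63 g22_S a 12) (hub : Nat.card (genLt a 12) ≠ 0 ∧ Nat.card (genLt a 12) ≤ 12096) :
    Level (genLt (g22_g a) 16) (genLt (g22_g a) 5) (e 0) 63 :=
  ((g22_low0 he h0).level (c := 192) (g22_ub0 he h0 hub) (g22_ge1 he h0)).1

theorem g22_ub1 {G α : Type*} [Group G] [MulAction G α] {e : ℕ → α} {a : ℕ → G} (he : Set.InjOn e (Set.Iio 63)) (h0 : Tabs e 63 g22_S a 12) (hub : Nat.card (genLt a 12) ≠ 0 ∧ Nat.card (genLt a 12) ≤ 12096) :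
    Nat.card (genLt (g22_g a) 5) ≠ 0 ∧ Nat.card (genLt (g22_g a) 5) ≤ 192 :=
  ((g22_low0 he h0).level (c := 192) (g22_ub0 he h0 hub) (g22_ge1 he h0)).2

theorem g22_level1 {G α : Type*} [Group G] [MulAction G α] {e : ℕ → α} {a : ℕ → G} (he : Set.InjOn e (Set.Iio 63)) (h0 : Tabs e 63 g22_S a 12) (hub : Nat.card (genLt a 12) ≠ 0 ∧ Nat.card (genLt a 12) ≤ 12096) :
    Level (genLt (g22_g a) 5) (genLt (g22_g a) 4) (e 1) 6 :=
  ((g22_low1 he h0).level (c := 32) (g22_ub1 he h0 hub) (g22_ge2 he h0)).1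

theorem g22_ub2 {G α : Type*} [Group G] [MulAction G α] {e : ℕ → α} {a : ℕ → G} (he : Set.InjOn e (Set.Iio 63)) (h0 : Tabs e 63 g22_S a 12) (hub : Nat.card (genLt a 12) ≠ 0 ∧ Nat.card (genLt a 12) ≤ 12096) :
    Nat.card (genLt (g22_g a) 4) ≠ 0 ∧ Nat.card (genLt (g22_g a) 4) ≤ 32 :=
  ((g22_low1 he h0).level (c := 32) (g22_ub1 he h0 hub) (g22_ge2 he h0)).2

theorem g22_level2 {G α : Type*} [Group G] [MulAction G α] {e : ℕ → α} {a : ℕ → G} (he : Set.InjOn e (Set.Iio 63)) (h0 : Tabs e 63 g22_S a 12) (hub : Nat.card (genLt a 12) ≠ 0 ∧ Nat.card (genLt a 12) ≤ 12096) :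
    Level (genLt (g22_g a) 4) (genLt (g22_g a) 3) (e 3) 4 :=
  ((g22_low2 he h0).level (c := 8) (g22_ub2 he h0 hub) (g22_ge3 he h0)).1

theorem g22_ub3 {G α : Type*} [Group G] [MulAction G α] {e : ℕ → α} {a : ℕ → G} (he : Set.InjOn e (Set.Iio 63)) (h0 : Tabs e 63 g22_S a 12) (hub : Nat.card (genLt a 12) ≠ 0 ∧ Nat.card (genLt a 12) ≤ 12096) :
    Nat.card (genLt (g22_g a) 3) ≠ 0 ∧ Nat.card (genLt (g22_g a) 3) ≤ 8 :=
  ((g22_low2 he h0).level (c := 8) (g22_ub2 he h0 hub) (g22_ge3 he h0)).2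

theorem g22_level3 {G α : Type*} [Group G] [MulAction G α] {e : ℕ → α} {a : ℕ → G} (he : Set.InjOn e (Set.Iio 63)) (h0 : Tabs e 63 g22_S a 12) (hub : Nat.card (genLt a 12) ≠ 0 ∧ Nat.card (genLt a 12) ≤ 12096) :
    Level (genLt (g22_g a) 3) (genLt (g22_g a) 2) (e 5) 2 :=
  ((g22_low3 he h0).level (c := 4) (g22_ub3 he h0 hub) (g22_ge4 he h0)).1

theorem g22_ub4 {G α : Type*} [Group G] [MulAction G α] {e : ℕ → α} {a : ℕ → G} (he : Set.InjOn e (Set.Iio 63)) (h0 : Tabs e 63 g22_S a 12) (hub : Nat.card (genLt a 12) ≠ 0 ∧ Nat.card (genLt a 12) ≤ 12096) :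
    Nat.card (genLt (g22_g a) 2) ≠ 0 ∧ Nat.card (genLt (g22_g a) 2) ≤ 4 :=
  ((g22_low3 he h0).level (c := 4) (g22_ub3 he h0 hub) (g22_ge4 he h0)).2

theorem g22_level4 {G α : Type*} [Group G] [MulAction G α] {e : ℕ → α} {a : ℕ → G} (he : Set.InjOn e (Set.Iio 63)) (h0 : Tabs e 63 g22_S a 12) (hub : Nat.card (genLt a 12) ≠ 0 ∧ Nat.card (genLt a 12) ≤ 12096) :
    Level (genLt (g22_g a) 2) (genLt (g22_g a) 0) (e 7) 4 :=
  ((g22_low4 he h0).level (c := 1) (g22_ub4 he h0 hub) (one_le_card_fin _)).1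

theorem g22_card4 {G α : Type*} [Group G] [MulAction G α] {e : ℕ → α} {a : ℕ → G} (he : Set.InjOn e (Set.Iio 63)) (h0 : Tabs e 63 g22_S a 12) (hub : Nat.card (genLt a 12) ≠ 0 ∧ Nat.card (genLt a 12) ≤ 12096) :
    Nat.card (genLt (g22_g a) 2) = 4 :=
  (g22_level4 he h0 hub).card (card_genLt_zero _)

theorem g22_base4 {G α : Type*} [Group G] [MulAction G α] {e : ℕ → α} {a : ℕ → G} (he : Set.InjOn e (Set.Iio 63)) (h0 : Tabs e 63 g22_S a 12) (hub : Nat.card (genLt a 12) ≠ 0 ∧ Nat.card (genLt a 12) ≤ 12096) :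
    IsBase e (genLt (g22_g a) 2) [7] :=
  (g22_level4 he h0 hub).base (isBase_genLt_zero _ _)

theorem g22_card3 {G α : Type*} [Group G] [MulAction G α] {e : ℕ → α} {a : ℕ → G} (he : Set.InjOn e (Set.Iio 63)) (h0 : Tabs e 63 g22_S a 12) (hub : Nat.card (genLt a 12) ≠ 0 ∧ Nat.card (genLt a 12) ≤ 12096) :
    Nat.card (genLt (g22_g a) 3) = 8 :=
  (g22_level3 he h0 hub).card (g22_card4 he h0 hub)

theorem g22_base3 {G α : Type*} [Group G] [MulAction G α] {e : ℕ → α} {a : ℕ → G} (he : Set.InjOn e (Set.Iio 63)) (h0 : Tabs e 63 g22_S a 12) (hub : Nat.card (genLt a 12) ≠ 0 ∧ Nat.card (genLt a 12) ≤ 12096) :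
    IsBase e (genLt (g22_g a) 3) [5, 7] :=
  (g22_level3 he h0 hub).base (g22_base4 he h0 hub)

theorem g22_card2 {G α : Type*} [Group G] [MulAction G α] {e : ℕ → α} {a : ℕ → G} (he : Set.InjOn e (Set.Iio 63)) (h0 : Tabs e 63 g22_S a 12) (hub : Nat.card (genLt a 12) ≠ 0 ∧ Nat.card (genLt a 12) ≤ 12096) :
    Nat.card (genLt (g22_g a) 4) = 32 :=
  (g22_level2 he h0 hub).card (g22_card3 he h0 hub)

theorem g22_base2 {G α : Type*} [Group G] [MulAction G α] {e : ℕ → α} {a : ℕ → G} (he : Set.InjOn e (Set.Iio 63)) (h0 : Tabs e 63 g22_S a 12) (hub : Nat.card (genLt a 12) ≠ 0 ∧ Nat.card (genLt a 12) ≤ 12096) :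
    IsBase e (genLt (g22_g a) 4) [3, 5, 7] :=
  (g22_level2 he h0 hub).base (g22_base3 he h0 hub)

theorem g22_card1 {G α : Type*} [Group G] [MulAction G α] {e : ℕ → α} {a : ℕ → G} (he : Set.InjOn e (Set.Iio 63)) (h0 : Tabs e 63 g22_S a 12) (hub : Nat.card (genLt a 12) ≠ 0 ∧ Nat.card (genLt a 12) ≤ 12096) :
    Nat.card (genLt (g22_g a) 5) = 192 :=
  (g22_level1 he h0 hub).card (g22_card2 he h0 hub)

theorem g22_base1 {G α : Type*} [Group G] [MulAction G α] {e : ℕ → α} {a : ℕ → G} (he : Set.InjOn e (Set.Iio 63)) (h0 : Tabs e 63 g22_S a 12) (hub : Nat.card (genLt a 12) ≠ 0 ∧ Nat.card (genLt a 12) ≤ 12096) :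
    IsBase e (genLt (g22_g a) 5) [1, 3, 5, 7] :=
  (g22_level1 he h0 hub).base (g22_base2 he h0 hub)

theorem g22_card0 {G α : Type*} [Group G] [MulAction G α] {e : ℕ → α} {a : ℕ → G} (he : Set.InjOn e (Set.Iio 63)) (h0 : Tabs e 63 g22_S a 12) (hub : Nat.card (genLt a 12) ≠ 0 ∧ Nat.card (genLt a 12) ≤ 12096) :
    Nat.card (genLt (g22_g a) 16) = 12096 :=
  (g22_level0 he h0 hub).card (g22_card1 he h0 hub)

theorem g22_base0 {G α : Type*} [Group G] [MulAction G α] {e : ℕ → α} {a : ℕ → G} (he : Set.InjOn e (Set.Iio 63)) (h0 : Tabs e 63 g22_S a 12) (hub : Nat.card (genLt a 12) ≠ 0 ∧ Nat.card (genLt a 12) ≤ 12096) :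
    IsBase e (genLt (g22_g a) 16) [0, 1, 3, 5, 7] :=
  (g22_level0 he h0 hub).base (g22_base1 he h0 hub)

theorem g22_hinv {G α : Type*} [Group G] [MulAction G α] {e : ℕ → α} {a : ℕ → G} (he : Set.InjOn e (Set.Iio 63)) (h0 : Tabs e 63 g22_S a 12) (hub : Nat.card (genLt a 12) ≠ 0 ∧ Nat.card (genLt a 12) ≤ 12096) : ∀ x < 16, g22_g a x * g22_g a (g22_inv x) = 1 :=
  (g22_tabs h0).hinv_of_base (g22_base0 he h0 hub) (by decide +kernel)

theorem g22_card {G α : Type*} [Group G] [MulAction G α] {e : ℕ → α} {a : ℕ → G} (he : Set.InjOn e (Set.Iio 63)) (h0 : Tabs e 63 g22_S a 12) (hub : Nat.card (genLt a 12) ≠ 0 ∧ Nat.card (genLt a 12) ≤ 12096) :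
    Nat.card (genLt a 12) = 12096 := by
  rw [← g22_gen]; exact g22_card0 he h0 hub

end Cfsg.Agent.Chev.G22
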