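import Mathlib
import Cfsg.Agent.Spor.Comp.Pres

/-! Generated by tools/pg: stabiliser chain u33 -/

set_option autoImplicit false
set_option maxRecDepth 100000
set_option linter.unusedVariables false
set_option exponentiation.threshold 100000

namespace Cfsg.Agent.Chev.G22

open Cfsg.Agent.Spor

noncomputable def u33_S_t0 : BT :=
(.node (.node (.node (.node (.leaf (nat_lit 0xcf65cae3ba5c7d684b1eda2f8889adfa48d9d46f60fe634de6f398ab2043e554a9cf37b613569306749c60c2001105))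
 (.leaf (nat_lit 0xd30f38bb6eb30c6faab966928a678a36195db71a556491513435db4e39df2cfcefef7a7de860749287206083144040))
) (.leaf (nat_lit 0x828724655a65759b718966928a678a3d39cb5df3db810314206fb6bc6cab0b944d245030f38d2e17de81defdf3ee80))
) (.node (.node (.leaf (nat_lit 0x16f51c7886e427d4873bc8a93a3d9ad3a741dbf0b82d398a9e992770263dcc5547f39578b937ebdab28d86001144083))
 (.leaf (nat_lit 0x124544d06195db71a556d76d38e77cb3b6eb30c6faab34c3ce2e59a4a299e28df7a181df3bfbde892872060c2105040))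
) (.leaf (nat_lit 0x2103141a229639a99276567156d8697b6eb30c6faab2872481b3d38df2db5e544d245038d30f2fdefef3a7e181e740))
)) (.node (.node (.node (.leaf (nat_lit 0x31a5ce4ad0c79193b5ec67c35fb929b69d3f4ede0bda635b65270854f9b3f8a22572a87ceb8d62051020c0e9d40b181))
 (.leaf (nat_lit 0x115134905976da55961ccf4e37cb6d79aecc2faaeb7130f38d2e39289e29a5a5e8607ddefef7ce881c92861440c2040))
) (.leaf (nat_lit 0x124544d0b31aadbebbb05976da55961ca689e69648e238d30f2f7d73e74cb8d850840c11c920a19f86079df3ef7be80))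
) (.node (.node (.leaf (nat_lit 0x199f0d05ed696a8393d2f9c8ed7f2391f55a6b7b53546e4bb713c622c61ccc4daa2cd835e6bf80ba74b4012891c8006))
 (.leaf (nat_lit 0xe34c3cbaafbacaf0c6d8a79a48e8a6555a65759b7184d2454432df6d33e39d7df3bfba81f7a174720a2461440c2040))
) (.leaf (nat_lit 0x40c50816567156d8697e32d73db9d37a689e69648e22482871aabeeb2bc31b7cefef7a7a181f74c38d3cb512453400))
)))

noncomputable def u33_S_t : BT :=
u33_S_t0

noncomputable def u33_S : ℕ → ℕ → ℕ := fun x i => Nat.land (Nat.shiftRight (BT.get u33_S_t x) (Nat.mul (nat_lit 6) i)) (nat_lit 63)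

noncomputable def u33_defs : LT :=
(.node (.node (.node (.node (.leaf [nat_lit 0])
 (.leaf [nat_lit 0,nat_lit 7,nat_lit 4])
) (.leaf [nat_lit 0,nat_lit 2,nat_lit 3,nat_lit 2,nat_lit 3,nat_lit 0,nat_lit 3,nat_lit 2,nat_lit 3,nat_lit 2])
) (.node (.node (.leaf [nat_lit 1,nat_lit 0])
 (.leaf [nat_lit 1,nat_lit 8])
) (.leaf [nat_lit 1,nat_lit 4])
)) (.node (.node (.node (.leaf [nat_lit 0])
 (.leaf [nat_lit 0,nat_lit 5,nat_lit 4,nat_lit 7])
) (.leaf [nat_lit 0,nat_lit 1,nat_lit 0,nat_lit 3])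
) (.node (.node (.leaf [nat_lit 1,nat_lit 1])
 (.leaf [nat_lit 1,nat_lit 9])
) (.leaf [nat_lit 1,nat_lit 5])
)))
noncomputable def u33_iota : ℕ → ℕ := getP (nat_lit 8) (nat_lit 255) (nat_lit 0x301020006040a080b09)
noncomputable def u33_inv : ℕ → ℕ := getP (nat_lit 8) (nat_lit 255) (nat_lit 0x8090607040502030001)
noncomputable def u33_hws : LT := .leaf []

noncomputable def u33_T_t0 : BT :=
(.node (.node (.node (.node (.leaf (nat_lit 0x115134905976da55961ccf4e37cb6d79aecc2faaeb7130f38d2e39289e29a5a5e8607ddefef7ce881c92861440c2040))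
 (.leaf (nat_lit 0x31a5ce4ad0c79193b5ec67c35fb929b69d3f4ede0bda635b65270854f9b3f8a22572a87ceb8d62051020c0e9d40b181))
) (.leaf (nat_lit 0x828724655a65759b718966928a678a3d39cb5df3db810314206fb6bc6cab0b944d245030f38d2e17de81defdf3ee80))
) (.node (.leaf (nat_lit 0xd30f38bb6eb30c6faab966928a678a36195db71a556491513435db4e39df2cfcefef7a7de860749287206083144040))
 (.leaf (nat_lit 0xcf65cae3ba5c7d684b1eda2f8889adfa48d9d46f60fe634de6f398ab2043e554a9cf37b613569306749c60c2001105))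
)) (.node (.node (.node (.leaf (nat_lit 0xe34c3cbaafbacaf0c6d8a79a48e8a6555a65759b7184d2454432df6d33e39d7df3bfba81f7a174720a2461440c2040))
 (.leaf (nat_lit 0x199f0d05ed696a8393d2f9c8ed7f2391f55a6b7b53546e4bb713c622c61ccc4daa2cd835e6bf80ba74b4012891c8006))
) (.leaf (nat_lit 0x2103141a229639a99276567156d8697b6eb30c6faab2872481b3d38df2db5e544d245038d30f2fdefef3a7e181e740))
) (.node (.leaf (nat_lit 0x124544d06195db71a556d76d38e77cb3b6eb30c6faab34c3ce2e59a4a299e28df7a181df3bfbde892872060c2105040))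
 (.leaf (nat_lit 0x16f51c7886e427d4873bc8a93a3d9ad3a741dbf0b82d398a9e992770263dcc5547f39578b937ebdab28d86001144083))
)))

noncomputable def u33_T_t : BT :=
u33_T_t0

noncomputable def u33_T : ℕ → ℕ → ℕ := fun x i => Nat.land (Nat.shiftRight (BT.get u33_T_t x) (Nat.mul (nat_lit 6) i)) (nat_lit 63)

noncomputable def u33_E_t0 : BT :=
(.node (.node (.leaf (nat_lit 0x10160230560ac2604c0680f01a04c08a0d01e03407a0d02204d08a1301a8250680f01a03c0880f41a02b046090118240980f01a8440680d41a84c038050060030980100e81c00812c2202c0861082103b0240cc0d04900))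
 (.leaf (nat_lit 0x10120360640000000))
) (.node (.leaf (nat_lit 0x81400000000000000000000000000000000000000000000000000000000000000000000000000001020000000000000000000000000000000003010000000000060000000000000c140000000000080000))
 (.leaf (nat_lit 0x805003012000000000000000000000))
))

noncomputable def u33_E_t : BT :=
u33_E_t0

noncomputable def u33_E : ℕ → ℕ → ℕ := fun x i => Nat.land (Nat.shiftRight (BT.get u33_E_t x) (Nat.mul (nat_lit 11) i)) (nat_lit 2047)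

theorem u33_slp0 : allLt (nat_lit 10) (fun i => force (Nat.add (nat_lit 2) i) (slpOK u33_S u33_defs (nat_lit 63))) = true := by decide +kernel

theorem u33_ren : allLt (nat_lit 10) (fun x => force (u33_iota x) fun y => band (blt y (nat_lit 12)) (allRange (nat_lit 0) (nat_lit 63) fun i => Nat.beq (u33_S y i) (u33_T x i))) = true := by decide +kernel

theorem u33_L3_o : band (allRange (nat_lit 0) (nat_lit 63) (orbOK u33_T (nat_lit 2) (u33_E (nat_lit 3)) (Nat.beq (nat_lit 7)))) (band (Nat.ble (nat_lit 4) (count2 (nat_lit 63) fun p => Nat.ble 256 (u33_E (nat_lit 3) p))) (allLt (nat_lit 0) (fun x => Nat.beq (u33_T x (nat_lit 7)) (nat_lit 7)))) = true := by decide +kernel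

theorem u33_L2_o : band (allRange (nat_lit 0) (nat_lit 63) (orbOK u33_T (nat_lit 4) (u33_E (nat_lit 2)) (Nat.beq (nat_lit 2)))) (band (Nat.ble (nat_lit 4) (count2 (nat_lit 63) fun p => Nat.ble 256 (u33_E (nat_lit 2) p))) (allLt (nat_lit 2) (fun x => Nat.beq (u33_T x (nat_lit 2)) (nat_lit 2)))) = true := by decide +kernel

theorem u33_L1_o : band (allRange (nat_lit 0) (nat_lit 63) (orbOK u33_T (nat_lit 6) (u33_E (nat_lit 1)) (Nat.beq (nat_lit 1)))) (band (Nat.ble (nat_lit 6) (count2 (nat_lit 63) fun p => Nat.ble 256 (u33_E (nat_lit 1) p))) (allLt (nat_lit 4) (fun x => Nat.beq (u33_T x (nat_lit 1)) (nat_lit 1)))) = true := by decide +kernel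

theorem u33_L0_o : band (allRange (nat_lit 0) (nat_lit 63) (orbOK u33_T (nat_lit 10) (u33_E (nat_lit 0)) (Nat.beq (nat_lit 0)))) (band (Nat.ble (nat_lit 63) (count2 (nat_lit 63) fun p => Nat.ble 256 (u33_E (nat_lit 0) p))) (allLt (nat_lit 6) (fun x => Nat.beq (u33_T x (nat_lit 0)) (nat_lit 0)))) = true := by decide +kernel

/-- The letters: a strong generating set, deepest stabiliser first. -/
noncomputable def u33_g {G : Type*} [Group G] (a : ℕ → G) : ℕ → G := fun x => slp a 2 u33_defs (u33_iota x)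

theorem u33_tabs {G α : Type*} [Group G] [MulAction G α] {e : ℕ → α} {a : ℕ → G} (h0 : Tabs e 63 u33_S a 2) : Tabs e 63 u33_T (u33_g a) 10 :=
  Tabs.rename (ι := u33_iota) (g := slp a 2 u33_defs) ((Tabs.slp_base u33_defs h0).slp_add (by decide) _ u33_slp0) u33_ren

theorem u33_gen {G : Type*} [Group G] (a : ℕ → G) : genLt (u33_g a) 10 = genLt a 2 :=
  genLt_slp_eq a u33_defs (back := getP 8 255 (nat_lit 0x806)) (by decide +kernel)

theorem u33_low3 {G α : Type*} [Group G] [MulAction G α] {e : ℕ → α} {a : ℕ → G} (he : Set.InjOn e (Set.Iio 63)) (h0 : Tabs e 63 u33_S a 2) :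
    LowLevel (genLt (u33_g a) 2) (genLt (u33_g a) 0) (e 7) 4 :=
  Tabs.lowLevel (u33_tabs h0) he (by decide) (by decide) (by decide) u33_L3_o

theorem u33_ge3 {G α : Type*} [Group G] [MulAction G α] {e : ℕ → α} {a : ℕ → G} (he : Set.InjOn e (Set.Iio 63)) (h0 : Tabs e 63 u33_S a 2) :
    Finite (genLt (u33_g a) 2) → 4 ≤ Nat.card (genLt (u33_g a) 2) := fun hK =>
  (u33_low3 he h0).card hK (one_le_card_fin _)

theorem u33_fix3 {G α : Type*} [Group G] [MulAction G α] {e : ℕ → α} {a : ℕ → G} (he : Set.InjOn e (Set.Iio 63)) (h0 : Tabs e 63 u33_S a 2) :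
    ∀ X : Subgroup G, Finite X → (genLt (u33_g a) 2) ≤ X → 4 * Nat.card (fixB e X [7]) ≤ Nat.card X :=
  (u33_low3 he h0).card_fix (card_fix_nil _ _)

theorem u33_low2 {G α : Type*} [Group G] [MulAction G α] {e : ℕ → α} {a : ℕ → G} (he : Set.InjOn e (Set.Iio 63)) (h0 : Tabs e 63 u33_S a 2) :
    LowLevel (genLt (u33_g a) 4) (genLt (u33_g a) 2) (e 2) 4 :=
  Tabs.lowLevel (u33_tabs h0) he (by decide) (by decide) (by decide) u33_L2_o

theorem u33_ge2 {G α : Type*} [Group G] [MulAction G α] {e : ℕ → α} {a : ℕ → G} (he : Set.InjOn e (Set.Iio 63)) (h0 : Tabs e 63 u33_S a 2) :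
    Finite (genLt (u33_g a) 4) → 16 ≤ Nat.card (genLt (u33_g a) 4) := fun hK =>
  (u33_low2 he h0).card hK (u33_ge3 he h0)

theorem u33_fix2 {G α : Type*} [Group G] [MulAction G α] {e : ℕ → α} {a : ℕ → G} (he : Set.InjOn e (Set.Iio 63)) (h0 : Tabs e 63 u33_S a 2) :
    ∀ X : Subgroup G, Finite X → (genLt (u33_g a) 4) ≤ X → 16 * Nat.card (fixB e X [2, 7]) ≤ Nat.card X :=
  (u33_low2 he h0).card_fix (u33_fix3 he h0)

theorem u33_low1 {G α : Type*} [Group G] [MulAction G α] {e : ℕ → α} {a : ℕ → G} (he : Set.InjOn e (Set.Iio 63)) (h0 : Tabs e 63 u33_S a 2) :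
    LowLevel (genLt (u33_g a) 6) (genLt (u33_g a) 4) (e 1) 6 :=
  Tabs.lowLevel (u33_tabs h0) he (by decide) (by decide) (by decide) u33_L1_o

theorem u33_ge1 {G α : Type*} [Group G] [MulAction G α] {e : ℕ → α} {a : ℕ → G} (he : Set.InjOn e (Set.Iio 63)) (h0 : Tabs e 63 u33_S a 2) :
    Finite (genLt (u33_g a) 6) → 96 ≤ Nat.card (genLt (u33_g a) 6) := fun hK =>
  (u33_low1 he h0).card hK (u33_ge2 he h0)

theorem u33_fix1 {G α : Type*} [Group G] [MulAction G α] {e : ℕ → α} {a : ℕ → G} (he : Set.InjOn e (Set.Iio 63)) (h0 : Tabs e 63 u33_S a 2) :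
    ∀ X : Subgroup G, Finite X → (genLt (u33_g a) 6) ≤ X → 96 * Nat.card (fixB e X [1, 2, 7]) ≤ Nat.card X :=
  (u33_low1 he h0).card_fix (u33_fix2 he h0)

theorem u33_low0 {G α : Type*} [Group G] [MulAction G α] {e : ℕ → α} {a : ℕ → G} (he : Set.InjOn e (Set.Iio 63)) (h0 : Tabs e 63 u33_S a 2) :
    LowLevel (genLt (u33_g a) 10) (genLt (u33_g a) 6) (e 0) 63 :=
  Tabs.lowLevel (u33_tabs h0) he (by decide) (by decide) (by decide) u33_L0_o

theorem u33_ge0 {G α : Type*} [Group G] [MulAction G α] {e : ℕ → α} {a : ℕ → G} (he : Set.InjOn e (Set.Iio 63)) (h0 : Tabs e 63 u33_S a 2) :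
    Finite (genLt (u33_g a) 10) → 6048 ≤ Nat.card (genLt (u33_g a) 10) := fun hK =>
  (u33_low0 he h0).card hK (u33_ge1 he h0)

theorem u33_fix0 {G α : Type*} [Group G] [MulAction G α] {e : ℕ → α} {a : ℕ → G} (he : Set.InjOn e (Set.Iio 63)) (h0 : Tabs e 63 u33_S a 2) :
    ∀ X : Subgroup G, Finite X → (genLt (u33_g a) 10) ≤ X → 6048 * Nat.card (fixB e X [0, 1, 2, 7]) ≤ Nat.card X :=
  (u33_low0 he h0).card_fix (u33_fix1 he h0)

theorem u33_ub0 {G α : Type*} [Group G] [MulAction G α] {e : ℕ → α} {a : ℕ → G} (he : Set.InjOn e (Set.Iio 63)) (h0 : Tabs e 63 u33_S a 2) (hub : Nat.card (genLt a 2) ≠ 0 ∧ Nat.card (genLt a 2) ≤ 6048) :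
    Nat.card (genLt (u33_g a) 10) ≠ 0 ∧ Nat.card (genLt (u33_g a) 10) ≤ 6048 := by rw [u33_gen]; exact hub

theorem u33_level0 {G α : Type*} [Group G] [MulAction G α] {e : ℕ → α} {a : ℕ → G} (he : Set.InjOn e (Set.Iio 63)) (h0 : Tabs e 63 u33_S a 2) (hub : Nat.card (genLt a 2) ≠ 0 ∧ Nat.card (genLt a 2) ≤ 6048) :
    Level (genLt (u33_g a) 10) (genLt (u33_g a) 6) (e 0) 63 :=
  ((u33_low0 he h0).level (c := 96) (u33_ub0 he h0 hub) (u33_ge1 he h0)).1

theorem u33_ub1 {G α : Type*} [Group G] [MulAction G α] {e : ℕ → α} {a : ℕ → G} (he : Set.InjOn e (Set.Iio 63)) (h0 : Tabs e 63 u33_S a 2) (hub : Nat.card (genLt a 2) ≠ 0 ∧ Nat.card (genLt a 2) ≤ 6048) :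
    Nat.card (genLt (u33_g a) 6) ≠ 0 ∧ Nat.card (genLt (u33_g a) 6) ≤ 96 :=
  ((u33_low0 he h0).level (c := 96) (u33_ub0 he h0 hub) (u33_ge1 he h0)).2

theorem u33_level1 {G α : Type*} [Group G] [MulAction G α] {e : ℕ → α} {a : ℕ → G} (he : Set.InjOn e (Set.Iio 63)) (h0 : Tabs e 63 u33_S a 2) (hub : Nat.card (genLt a 2) ≠ 0 ∧ Nat.card (genLt a 2) ≤ 6048) :
    Level (genLt (u33_g a) 6) (genLt (u33_g a) 4) (e 1) 6 :=
  ((u33_low1 he h0).level (c := 16) (u33_ub1 he h0 hub) (u33_ge2 he h0)).1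

theorem u33_ub2 {G α : Type*} [Group G] [MulAction G α] {e : ℕ → α} {a : ℕ → G} (he : Set.InjOn e (Set.Iio 63)) (h0 : Tabs e 63 u33_S a 2) (hub : Nat.card (genLt a 2) ≠ 0 ∧ Nat.card (genLt a 2) ≤ 6048) :
    Nat.card (genLt (u33_g a) 4) ≠ 0 ∧ Nat.card (genLt (u33_g a) 4) ≤ 16 :=
  ((u33_low1 he h0).level (c := 16) (u33_ub1 he h0 hub) (u33_ge2 he h0)).2

theorem u33_level2 {G α : Type*} [Group G] [MulAction G α] {e : ℕ → α} {a : ℕ → G} (he : Set.InjOn e (Set.Iio 63)) (h0 : Tabs e 63 u33_S a 2) (hub : Nat.card (genLt a 2) ≠ 0 ∧ Nat.card (genLt a 2) ≤ 6048) :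
    Level (genLt (u33_g a) 4) (genLt (u33_g a) 2) (e 2) 4 :=
  ((u33_low2 he h0).level (c := 4) (u33_ub2 he h0 hub) (u33_ge3 he h0)).1

theorem u33_ub3 {G α : Type*} [Group G] [MulAction G α] {e : ℕ → α} {a : ℕ → G} (he : Set.InjOn e (Set.Iio 63)) (h0 : Tabs e 63 u33_S a 2) (hub : Nat.card (genLt a 2) ≠ 0 ∧ Nat.card (genLt a 2) ≤ 6048) :
    Nat.card (genLt (u33_g a) 2) ≠ 0 ∧ Nat.card (genLt (u33_g a) 2) ≤ 4 :=
  ((u33_low2 he h0).level (c := 4) (u33_ub2 he h0 hub) (u33_ge3 he h0)).2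

theorem u33_level3 {G α : Type*} [Group G] [MulAction G α] {e : ℕ → α} {a : ℕ → G} (he : Set.InjOn e (Set.Iio 63)) (h0 : Tabs e 63 u33_S a 2) (hub : Nat.card (genLt a 2) ≠ 0 ∧ Nat.card (genLt a 2) ≤ 6048) :
    Level (genLt (u33_g a) 2) (genLt (u33_g a) 0) (e 7) 4 :=
  ((u33_low3 he h0).level (c := 1) (u33_ub3 he h0 hub) (one_le_card_fin _)).1

theorem u33_card3 {G α : Type*} [Group G] [MulAction G α] {e : ℕ → α} {a : ℕ → G} (he : Set.InjOn e (Set.Iio 63)) (h0 : Tabs e 63 u33_S a 2) (hub : Nat.card (genLt a 2) ≠ 0 ∧ Nat.card (genLt a 2) ≤ 6048) :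
    Nat.card (genLt (u33_g a) 2) = 4 :=
  (u33_level3 he h0 hub).card (card_genLt_zero _)

theorem u33_base3 {G α : Type*} [Group G] [MulAction G α] {e : ℕ → α} {a : ℕ → G} (he : Set.InjOn e (Set.Iio 63)) (h0 : Tabs e 63 u33_S a 2) (hub : Nat.card (genLt a 2) ≠ 0 ∧ Nat.card (genLt a 2) ≤ 6048) :
    IsBase e (genLt (u33_g a) 2) [7] :=
  (u33_level3 he h0 hub).base (isBase_genLt_zero _ _)

theorem u33_card2 {G α : Type*} [Group G] [MulAction G α] {e : ℕ → α} {a : ℕ → G} (he : Set.InjOn e (Set.Iio 63)) (h0 : Tabs e 63 u33_S a 2) (hub : Nat.card (genLt a 2) ≠ 0 ∧ Nat.card (genLt a 2) ≤ 6048) :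
    Nat.card (genLt (u33_g a) 4) = 16 :=
  (u33_level2 he h0 hub).card (u33_card3 he h0 hub)

theorem u33_base2 {G α : Type*} [Group G] [MulAction G α] {e : ℕ → α} {a : ℕ → G} (he : Set.InjOn e (Set.Iio 63)) (h0 : Tabs e 63 u33_S a 2) (hub : Nat.card (genLt a 2) ≠ 0 ∧ Nat.card (genLt a 2) ≤ 6048) :
    IsBase e (genLt (u33_g a) 4) [2, 7] :=
  (u33_level2 he h0 hub).base (u33_base3 he h0 hub)

theorem u33_card1 {G α : Type*} [Group G] [MulAction G α] {e : ℕ → α} {a : ℕ → G} (he : Set.InjOn e (Set.Iio 63)) (h0 : Tabs e 63 u33_S a 2) (hub : Nat.card (genLt a 2) ≠ 0 ∧ Nat.card (genLt a 2) ≤ 6048) :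
    Nat.card (genLt (u33_g a) 6) = 96 :=
  (u33_level1 he h0 hub).card (u33_card2 he h0 hub)

theorem u33_base1 {G α : Type*} [Group G] [MulAction G α] {e : ℕ → α} {a : ℕ → G} (he : Set.InjOn e (Set.Iio 63)) (h0 : Tabs e 63 u33_S a 2) (hub : Nat.card (genLt a 2) ≠ 0 ∧ Nat.card (genLt a 2) ≤ 6048) :
    IsBase e (genLt (u33_g a) 6) [1, 2, 7] :=
  (u33_level1 he h0 hub).base (u33_base2 he h0 hub)

theorem u33_card0 {G α : Type*} [Group G] [MulAction G α] {e : ℕ → α} {a : ℕ → G} (he : Set.InjOn e (Set.Iio 63)) (h0 : Tabs e 63 u33_S a 2) (hub : Nat.card (genLt a 2) ≠ 0 ∧ Nat.card (genLt a 2) ≤ 6048) :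
    Nat.card (genLt (u33_g a) 10) = 6048 :=
  (u33_level0 he h0 hub).card (u33_card1 he h0 hub)

theorem u33_base0 {G α : Type*} [Group G] [MulAction G α] {e : ℕ → α} {a : ℕ → G} (he : Set.InjOn e (Set.Iio 63)) (h0 : Tabs e 63 u33_S a 2) (hub : Nat.card (genLt a 2) ≠ 0 ∧ Nat.card (genLt a 2) ≤ 6048) :
    IsBase e (genLt (u33_g a) 10) [0, 1, 2, 7] :=
  (u33_level0 he h0 hub).base (u33_base1 he h0 hub)

theorem u33_hinv {G α : Type*} [Group G] [MulAction G α] {e : ℕ → α} {a : ℕ → G} (he : Set.InjOn e (Set.Iio 63)) (h0 : Tabs e 63 u33_S a 2) (hub : Nat.card (genLt a 2) ≠ 0 ∧ Nat.card (genLt a 2) ≤ 6048) : ∀ x < 10, u33_g a x * u33_g a (u33_inv x) = 1 :=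
  (u33_tabs h0).hinv_of_base (u33_base0 he h0 hub) (by decide +kernel)

theorem u33_card {G α : Type*} [Group G] [MulAction G α] {e : ℕ → α} {a : ℕ → G} (he : Set.InjOn e (Set.Iio 63)) (h0 : Tabs e 63 u33_S a 2) (hub : Nat.card (genLt a 2) ≠ 0 ∧ Nat.card (genLt a 2) ≤ 6048) :
    Nat.card (genLt a 2) = 6048 := by
  rw [← u33_gen]; exact u33_card0 he h0 hub

end Cfsg.Agent.Chev.G22
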