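import Mathlib
import Cfsg.Agent.Chev.G22Ch
import Cfsg.Agent.Chev.U33Ch
import Cfsg.Agent.Chev.TwoPk
import Cfsg.Agent.Chev.IsogFix
import Cfsg.Agent.Chev.FieldMap
import Cfsg.Agent.Spor.PMat2
import Cfsg.Agent.Spor.Comp.Iso2
import Cfsg.Agent.Cl.GFSmall
import Cfsg.Agent.Cl.Transport
import Cfsg.Agent.S0283
import Cfsg.Agent.S1059

/-!
The group `G₂(2)` on the 63 long root vectors; its derived group is `U₃(3)`.
-/

set_option autoImplicit false
set_option maxRecDepth 100000

namespace Cfsg.Agent.Chev.G22

open Cfsg.Agent.Spor Cfsg.Lie Cfsg.Lie.ChevalleyDatum Subgroup
open scoped commutatorElement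

/-- The numbering of the coordinates. -/
def eps : chevG2.Idx ≃ Fin 14 := finSumFinEquiv (m := 2) (n := 12)

/-- The matrices of the root elements. -/
noncomputable def gM : ℕ → ℕ := BT.get
 (.node (.node (.node (.node (.leaf 0x1000000000000000000000000000001000000000000000000000000000001000000000000000000000000000001000000000000000000000000000001000000000000000000000000000001000000000000000000010000000001000000000000000000000000000001000000000000000001000000000001000000000000000001000000000001000000000000000000010000000001000000010000000000000000000001010000000000000000000000000001000100000000000000000000000001)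
 (.leaf 0x1000100010001000000000000000001000000000000000000000000000001000000010000000000000000000001000000000100000001010000000001000100000000000000000000000001000100010001000000000000000001000000000000000000000000000001000000010000000000000000000001000000000000000000000000000001000100000000000000000000000001000000000000000000000000000001000000000000000000000100000001000000000000000000010000000001))
 (.leaf 0x1000000000000000000000000000001000000000000000000000000000101000000000000000000000000010001000000000000000000000000000001000000000000000000000101010001000000000000000000000000000001000000000000000000000001000001000000000100000000000000010001000000000000000000000001000001000000000000000000000100010101000000000000000000000000000001000000000000000000000000000001000000000001000000000000000001))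
 (.node (.node (.leaf 0x1000000000000000000000000000001000000000000000000000000000001000000000000000000000001000001000000000000000000000001000001000000000000000000000000000001000000000000000000000000000001000000000000000100000000000001000000000000000100000000000001000000000000000100000000000001000000010100000100000001000001000000000100000100000001000001000000000100000000000000000001000000000000000000000000000001)
 (.leaf 0x1000000000100000000000000000001000000000000000001000101000001000000000100000000000000000001000000000000000000000000000001000000000100000000000000000001000000000000000000000000000001000000000100000000000000000001000000000000000000000000000001000000000000000000000000000001000000000000000000000000000001000000000000000000000000000001000000000000000000000000010001000000000000000000000001000001))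
 (.leaf 0x1010000000000000000000000000001000000000000000000000000000001000000000000000000000000000001010000000000000000000000000001000000000000000000000000000001010000000000000100000000000001000000000000000000000000000001010000000000000000000000000001000000000000000000000000000001000000000000000000000000000001010000000000000000000000000001000000000000000001000000000001000000000000000000000000000001)))
 (.node (.node (.node (.leaf 0x1000000000000000000000000000001000000000000000000000000000001000000000000000000000000000001000000000000000000000000000001000000000000000000010000000001000000000000000000000000000001000000000000000000010000000001000000000000000000000000000001000000000000000000010000000001000000000001000000000000000001000101000000000000010000000001000000010000000000000000000001000001000000000000000000000001)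
 (.leaf 0x1000001000000010000010000000001000001000000010000010000000001000000000000010000000100000001000000000000010000000000000001000000000000010000000000000001000000000000000000000000000001000000000000000000000000000001000001000000000000000000000001000001000000000000000000000001000000000000000000000000000001000000000000000000000000000001000000000000000000000001000001000000000000000000000000000001))
 (.leaf 0x1000000000000000000000000000101000000000000000000000000000001000000000000000000000000000001000000000000000000000000000101000000000000000000000000000001000000000000000000000000000101000000000000010000000000000001000000000000000000000000000101000000000000000000000000000001000000000000000000000000000001000000000000000000000000000101000000000000000100000000000001000000000000000000000000000001))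
 (.node (.node (.leaf 0x1000000000000000000000000000001000000000000000000000000010001000000000000000000000000000001000000000000000000000100000001000000000000000000000000000001000000000000000001000100010001000000000000000000000000010001000000000000000000010000000001000000010100000000000100000001000000000000000000000000000001000000000000000001000100010001000000000001000000000000000001000000000100000000000000000001)
 (.leaf 0x1000000000000000000000101000001000000000100000000000000000001000000000001000000000000000001000000000001000000000000000001000000000000000000000000000001000000000100000000000000000001000000000000000000000000000001000000000000000000000000000001000000000000000000000000000001000000000000000000000000000001000000000000000000000000000001000000000000000000000000000001000000000000000000000000010001))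
 (.leaf 0x1000000000000000000000000000001010100010000000000000000000001000001000000000000000000000001000100000000000000000000000001000001000000000100000000000001000000000000000000000000000001000101010000000000000000000001000000000000000000000000000001000100000000000000000000000001010000000000000000000000000001000000000000000000000000000001000000000000000000000000000001000000000000000001000000000001))))

/-- The 63 long root vectors. -/
noncomputable def gP : ℕ → ℕ := getP 112 0xffffffffffffffffffffffffffff
  0x100000100000001010101010101010100010101010001010101010100010101000101010001010101000100000000010000000101010100010101000101010101000101010101000101010001010100010101010001010101010001010100010100010000010001000101010001010001010100010001000001000101010101010000000100000100010101010000000100000000010001010001000000000000000001000101010101010001010001010101000101000001000000010001010100010001010101010001010001010001010000000001000000000101000100010101010101010001000100010100000100010001000100010001010001000100010001000001000101010100010000000100000100010101000000000100000000010001010000000000000000000001000101000100010101010101010000010101000101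000101010101000001000101010101000001010101010001000101010001010001010101000101000101010101010001010100000000000001010000000101010000000000000101010101000101000101010001010001010100010100000000000001010101010100010001010101000001010101010001000001010101010100000000000100010001010101010000000000010001010000000101000000000001000000000000010100000000000100000000000000010001010101000000000000000100010001010100000101000101000001010001010000000000000000000000000101000001000100010101010001000100000000000000010001000100010000000100000100010001000001000000010000010000000100000100000000000000000100000000010000000000000000000000000001000000010101000101000101010000000000000000000100010101000000010000010001000100000100000001000001000000010000010000000000000000010000000001000000000000000000000000000100000001010100010001000000000000000100010001000100000000000000000100000000010000000000000000000000000001000000000000000101010100010000000000000000000101010001000000000000000001000000000100000000000000000000000000010000000000000000010100000000000000000000000000010000000000000000000000000100000000000000000000000000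

/-- The 63 non-isotropic points. -/
noncomputable def uP : ℕ → ℕ := getP 24 0xffffff
  0x70801060801050801030801000801080701070701060701050701040701030701020701010701080601070601060601050601040601030601020601010601080501070501060501050501040501030501020501010501070401060401050401030401000401080301070301060301050301040301030301020301010301070201060201050201030201000201070101060101050101030101000101080001040001020001010001000001080100040100020100010100000100010000

/-- Two generators of `SU₃(3)`. -/
noncomputable def uM : ℕ → ℕ := BT.get (.node (.leaf 0x60300050500000001) (.leaf 0x1020000000200))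

/-- The scalars. -/
noncomputable def uA : ℕ → ℕ → ℕ := tabS (.node
  (.leaf 0x10101010101010101010101010101010101010101010101010101010101010101010101010101010101010101010101010101010101010101020806070505)
  (.leaf 0x40404040405050505050505050303030303030303070707070707070708080808080606060606060606010101010102020202020408010201020202020202)) 8 255

/-- The matching of the points. -/
noncomputable def pA : ℕ → ℕ := getP 8 255
  0x3d30200e2c311b21041f153e0f3c3a1d2d0d0533172703161c2522371a283619242b352e0639181e3b0b320c102f2a382326342913141112010a0902000708

/-- The inverse matching. -/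
noncomputable def pB : ℕ → ℕ := getP 8 255
  0x333e311630190f23201c0c2b14393d111b2e3a1d100b21290d251e0e24373c35172f2638221f182a2734090a070812323b2d1315050400011a2c3628030602

/-- Two commutators. -/
def cW : LT := .node (.leaf [3, 8, 3, 8]) (.leaf [4, 11, 0, 11, 4, 0])

/-- The root elements. -/
def x (r : ℕ) : chevG2.group Cl.GF2 := chevG2.XG Cl.GF2 r 1

/-- The action on subspaces. -/
@[reducible] def act : MulAction (chevG2.group Cl.GF2) (Submodule Cl.GF2 (chevG2.Idx → Cl.GF2)) :=
  PM.subAct (PM.chevRep chevG2 Cl.GF2)

attribute [local instance] act

/-- The points. -/
noncomputable def pt (i : ℕ) : Submodule Cl.GF2 (chevG2.Idx → Cl.GF2) := PM.ptOf Cl.gf2 eps (gP i)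

theorem tabs : Tabs pt 63 g22_S x 12 :=
  PM.tabs_pts eps _ (M := gM) (fun r hr => (chevG2.coe_X_eq Cl.GF2 ⟨r, hr⟩ 1).trans
    ((by decide +kernel : ∀ r : Fin 12, chevG2.xMat Cl.GF2 r 1 = PM.matOf Cl.gf2 eps (gM r)) ⟨r, hr⟩))
    (A := fun _ _ => 1) (by decide +kernel)

theorem injOn : Set.InjOn pt (Set.Iio 63) := PM.injOn_pts eps (by decide +kernel)

theorem card_G : Nat.card (chevG2.group Cl.GF2) = 12096 := S1059.result Cl.card_GF2

theorem base : IsBase pt (genLt x 12) [0, 1, 3, 5, 7] ∧ genLt x 12 = ⊤ := by
  have hc : Nat.card (⊤ : Subgroup (chevG2.group Cl.GF2)) = 12096 := card_top.trans card_G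
  have h := card_genLt_le (g := x) (m := 12) (fun _ _ => mem_top _) hc
  exact ⟨g22_gen x ▸ g22_base0 injOn tabs h, genLt_eq_of_card (fun _ _ => mem_top _) hc (g22_card injOn tabs h)⟩

theorem card_PSU : Nat.card (PSU 3 Cl.GF9 3) = 6048 := by
  have h := (Cl.uField_uConj (F := Cl.GF9) (q := 3) Cl.card_GF9).card_PSU (n := 3) (by norm_num)
  rw [show Cl.uOrd 3 3 = 24192 by decide +kernel, show Nat.gcd 3 (3 + 1) = 1 by norm_num] at h
  omega

theorem x_inv (r : ℕ) : (x r)⁻¹ = x r := Subtype.ext (X_inv r 1)

theorem nonempty_gen : Nonempty (genLt (fun j => evalW x (cW.get j)) 2 ≃* PSU 3 Cl.GF9 3) := by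
  let _ := PM.psuAct (n := 3) (q := 3) (Cl.TF.card_eq (D := Cl.gf9)) (by norm_num)
  have h1 := PM.tabs_psu (D := Cl.gf9) (n := 3) (q := 3) rfl (by norm_num) (M := uM) (m := 2)
    (by decide +kernel) (by decide +kernel) (P := uP) (N := 63) (T := u33_S) (A := uA) (by decide +kernel)
  have h2 := PM.injOn_pts (D := Cl.gf9) (Equiv.refl (Fin 3)) (P := uP) (N := 63) (by decide +kernel)
  have h3 := (tabs.wordsT (ws := cW) (r := 2) (by decide +kernel)).restrict_each (P := pA) (n' := 63)
    (T' := u33_S) (by decide +kernel)
  have h4 := injOn_restrict injOn (P := pA) (Q := pB) (n' := 63) (by decide +kernel)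
  have hc : Nat.card (⊤ : Subgroup (PSU 3 Cl.GF9 3)) = 6048 := card_top.trans card_PSU
  have h5 := card_genLt_le (g := fun x => (PM.suOf Cl.gf9 3 3 (uM x) : PSU 3 Cl.GF9 3)) (m := 2)
    (fun _ _ => mem_top _) hc
  have h6 := genLt_eq_of_card (fun _ _ => mem_top _) hc (u33_card h2 h1 h5)
  obtain ⟨ψ, -⟩ := exists_equiv_smul h3 h4 rfl (fun y _ hy => base.1 y (base.2.ge trivial) fun b hb => by
      have : ∀ b ∈ [0, 1, 3, 5, 7], pB b < 63 ∧ pA (pB b) = b := by decide +kernel
      simpa only [(this b hb).2] using hy _ (this b hb).1) h1 h2 h6
    (by rw [← h6, ← u33_gen]; exact (u33_base0 h2 h1 h5).faithful (by decide +kernel))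
  exact ⟨ψ.trans topEquiv⟩

theorem gen_eq : (genLt (fun j => evalW x (cW.get j)) 2).index = 2 ∧
    genLt (fun j => evalW x (cW.get j)) 2 = commutator (chevG2.group Cl.GF2) := by
  obtain ⟨e⟩ := nonempty_gen
  have h1 := card_mul_index (genLt (fun j => evalW x (cW.get j)) 2)
  rw [Nat.card_congr e.toEquiv, card_PSU, card_G] at h1
  have h2 : (genLt (fun j => evalW x (cW.get j)) 2).index = 2 := by omega
  have := normal_of_index_eq_two h2
  refine ⟨h2, le_antisymm (genLt_le fun j hj => ?_) (commutator_le.2 fun a _ b _ => ?_)⟩
  · obtain rfl | rfl : j = 0 ∨ j = 1 := by omega
    · rw [show evalW x (cW.get 0) = ⁅x 3, x 8⁆ by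
        simp [show cW.get 0 = [3, 8, 3, 8] from rfl, commutatorElement_def, x_inv, mul_assoc]]
      exact commutator_mem_commutator (mem_top _) (mem_top _)
    · rw [show evalW x (cW.get 1) = ⁅x 4 * x 11, x 0⁆ by
        simp [show cW.get 1 = [4, 11, 0, 11, 4, 0] from rfl, commutatorElement_def, x_inv, mul_assoc]]
      exact commutator_mem_commutator (mem_top _) (mem_top _)
  · simp only [commutatorElement_def, mul_mem_iff_of_index_two h2, inv_mem_iff]
    tauto

theorem index_comm : (commutator (chevG2.group Cl.GF2)).index = 2 := gen_eq.2 ▸ gen_eq.1

theorem nonempty_comm : Nonempty (commutator (chevG2.group Cl.GF2) ≃* PSU 3 Cl.GF9 3) :=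
  gen_eq.2 ▸ nonempty_gen

theorem eq_of_agree {v w : List ℕ}
    (h : band (lettersLt 12 v) (band (lettersLt 12 w) (agreeL g22_S v w [0, 1, 3, 5, 7])) = true) :
    evalW x v = evalW x w := tabs.eq_of_base base.1 (by decide +kernel) h

theorem trace_eq {v w : List ℕ} (hv : lettersLt 12 v = true) (hw : lettersLt 12 w = true)
    (h : evalW x v = evalW x w) {i : ℕ} (hi : i < 63) : traceP g22_S v i = traceP g22_S w i :=
  injOn (tabs.evalW hv i hi).1 (tabs.evalW hw i hi).1
    (by rw [← (tabs.evalW hv i hi).2, ← (tabs.evalW hw i hi).2, h])

theorem exists_word {g : chevG2.group Cl.GF2} (hg : (g : GL chevG2.Idx Cl.GF2) ∈ chevG2.posUnipotent Cl.GF2) :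
    ∃ w ∈ [7, 6, 8, 9, 10, 11].sublists', g = evalW x w := by
  obtain ⟨t, rfl⟩ := Isog.exists_prod_of_mem_U chevG2 Cl.GF2 (l := ([7, 6, 8, 9, 10, 11] : List (Fin 12)))
    (by decide : ([7, 6, 8, 9, 10, 11] : List (Fin 12)).Nodup)
    (by decide : ∀ r : Fin 12, r ∈ ([7, 6, 8, 9, 10, 11] : List (Fin 12)) ↔ chevG2.IsPosRoot r) hg
  have : ∀ l : List chevG2.Rt, ∃ w ∈ (l.map Fin.val).sublists',
      (l.map fun r : chevG2.Rt => chevG2.XG Cl.GF2 r (t r)).prod = evalW x w := fun l => by
    induction l with
    | nil => exact ⟨[], by simp, rfl⟩
    | cons r l ih =>
      obtain ⟨w, h1, h2⟩ := ih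
      rw [List.mem_sublists'] at h1
      rw [List.map_cons, List.map_cons, List.prod_cons, h2]
      obtain h | h := (by decide +kernel : ∀ t : Cl.GF2, t = 0 ∨ t = 1) (t r) <;> rw [h]
      · exact ⟨w, List.mem_sublists'.2 (h1.cons _), by
          rw [show chevG2.XG Cl.GF2 r 0 = 1 from Subtype.ext (chevG2.X_zero _ _), one_mul]⟩
      · exact ⟨r :: w, List.mem_sublists'.2 (h1.cons_cons _), (evalW_cons x r w).symm⟩
  exact this ([7, 6, 8, 9, 10, 11] : List (Fin 12))

theorem center_eq_bot_of_card {G : Type*} [Group G] [IsSimpleGroup G] (h : ¬ (Nat.card G).Prime) :
    center G = ⊥ := by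
  refine (Subgroup.Normal.eq_bot_or_eq_top inferInstance).resolve_right fun ht => h ?_
  let _ := Group.commGroupOfCenterEqTop ht
  exact IsSimpleGroup.prime_card

theorem twoPk_comm : TwoPk (commutator (chevG2.group Cl.GF2)) := by
  let K := (commutator (chevG2.group Cl.GF2)).map (chevG2.group Cl.GF2).subtype
  have hx : ∀ g : chevG2.group Cl.GF2, (g : GL chevG2.Idx Cl.GF2) ∈ K ↔ g ∈ commutator _ := fun g =>
    mem_map_iff_mem (subtype_injective _)
  have hW : ∀ (l : List (Fin 2)) (r s : ℕ), r < 12 ∧ chevG2.actN l r = s →
      (x s ∈ commutator _ ↔ x r ∈ commutator _) := fun l r s h => by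
    rw [← hx, ← hx, ← h.2]; exact X_wordW_mem_iff (D := chevG2) l h.1
  have h11 : x 11 ∈ commutator _ := by
    have := eq_of_agree (v := [11]) (w := [6, 10, 6, 10]) (by decide +kernel)
    rw [show x 11 = ⁅x 6, x 10⁆ by simpa [commutatorElement_def, x_inv, mul_assoc] using this]
    exact commutator_mem_commutator (mem_top _) (mem_top _)
  have h6 := (hW [1, 0] 6 11 (by decide +kernel)).1 h11
  have h10 := (hW [0] 6 10 (by decide +kernel)).2 h6
  have h8 := hW [1] 7 8 (by decide +kernel)
  have h9 := hW [0, 1] 7 9 (by decide +kernel)
  have h4 := hW [0] 7 4 (by decide +kernel)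
  have h := idxTwo (D := chevG2) (by decide +kernel) index_comm (a := (0 : Fin 2)) (b := (1 : Fin 2))
    (by decide : (0 : Fin 2) ≠ 1) (by decide : ∀ i : Fin 2, i = 0 ∨ i = 1) (fun _ => (hx (x 6)).2 h6)
    (r := (8 : Fin 12)) (by decide) (by decide +kernel) fun h => (hx (x 7)).2 (h8.1 ((hx (x 8)).1 h))
  have f := (commutator (chevG2.group Cl.GF2)).equivMapOfInjective _ (subtype_injective _)
  obtain ⟨e⟩ := nonempty_comm
  have hs := S0283.result (F := Cl.GF9) (q := 3) Cl.card_GF9 3 le_rfl (by simp)
  refine TwoPk.of_equiv ⟨locChar_of_idxTwo h, h.parSys, inferInstanceAs (Nontrivial (Fin 2)), Or.inr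
    ⟨?_, _, _, h.cen h.all fun z hz hK hc => ?_⟩⟩ f
  · have := (f.symm.trans e).isSimpleGroup
    exact center_eq_bot_of_card (by rw [Nat.card_congr (f.symm.trans e).toEquiv, card_PSU]; norm_num)
  have hU : ∀ r : Fin 12, chevG2.IsPosRoot r → (x r).1 ∈ (chevG2.rootBN Cl.GF2).U := fun r hr =>
    RootBN.X_le_U (R := chevG2.rootBN Cl.GF2) (r := r) hr (chevG2.X_mem_rootSubgroup _ _ _)
  obtain ⟨z, -, rfl⟩ := hK
  obtain ⟨w, hw, rfl⟩ := exists_word hz
  have e : (chevG2.rootBN Cl.GF2).s (0 : Fin 2) * (x 7).1 = (evalW x [7, 4]).1 := by
    change chevG2.X _ 7 1 * chevG2.X _ 4 (-1⁻¹) * chevG2.X _ 7 1 * chevG2.X _ 7 1 =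
      chevG2.X _ 7 1 * (chevG2.X _ 4 1 * 1)
    rw [mul_assoc, X_mul_self, inv_one, CharTwo.neg_eq, mul_one, mul_one]
  have key : ∀ t, (evalW x t).1 ∈ (chevG2.rootBN Cl.GF2).U → evalW x t ∈ commutator _ →
      evalW x (t ++ w) = evalW x (w ++ t) := fun t h1 h2 => by
    rw [evalW_append, evalW_append]; exact Subtype.ext (hc _ h1 ((hx _).2 h2))
  have chk : ∀ w ∈ [7, 6, 8, 9, 10, 11].sublists', lettersLt 12 w = true ∧
      ((∀ t ∈ [[6], [10], [7, 8], [7, 9]], ∀ i ∈ [0, 1, 3, 5, 7],
        traceP g22_S (t ++ w) i = traceP g22_S (w ++ t) i) → band (lettersLt 12 ([7, 4] ++ w))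
          (band (lettersLt 12 (w ++ [7, 4])) (agreeL g22_S ([7, 4] ++ w) (w ++ [7, 4]) [0, 1, 3, 5, 7])) = true) := by
    decide +kernel
  refine ⟨_, hU 7 (by decide), ?_, ?_⟩
  · erw [e, hx]
    simp [mul_mem_iff_of_index_two index_comm, h4]
  · erw [e]
    have hl : ∀ v w : List ℕ, lettersLt 12 (v ++ w) = true ↔ lettersLt 12 v = true ∧ lettersLt 12 w = true := by
      simp [lettersLt_iff, or_imp, forall_and]
    have := eq_of_agree ((chk w hw).2 fun t ht i hi => by
      have h1 : lettersLt 12 t = true ∧ i < 63 := by revert i t; decide +kernel
      refine trace_eq ((hl _ _).2 ⟨h1.1, (chk w hw).1⟩) ((hl _ _).2 ⟨(chk w hw).1, h1.1⟩) (key t ?_ ?_) h1.2 <;>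
        simp only [List.mem_cons, List.not_mem_nil, or_false] at ht <;> rcases ht with rfl | rfl | rfl | rfl <;>
        simp only [evalW_cons, evalW_nil, mul_one, mul_mem_iff_of_index_two index_comm, h6, h10, h8, h9]
      exacts [hU 6 (by decide), hU 10 (by decide), mul_mem (hU 7 (by decide)) (hU 8 (by decide)),
        mul_mem (hU 7 (by decide)) (hU 9 (by decide))])
    rw [evalW_append, evalW_append] at this
    exact congrArg Subtype.val this

theorem twoPk_psu (F : Type*) [Field F] [Fintype F] (hF : Fintype.card F = 9) : TwoPk (PSU 3 F 3) := by
  obtain ⟨e⟩ := nonempty_comm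
  obtain ⟨σ⟩ := Cl.nonempty_ringEquiv_GF9 F hF
  exact twoPk_comm.of_equiv ((Cl.psuMapEquiv 3 3 σ).trans e.symm)

end Cfsg.Agent.Chev.G22
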