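import Mathlib
import Cfsg.Agent.Chev.InvolClass
import Cfsg.Agent.Chev.Good

/-!
The finite checks for the involution classes of `G₂`, `F₄`, `E₈`.
-/

set_option autoImplicit false
set_option backward.isDefEq.respectTransparency false

namespace Cfsg.Agent.Chev

open Cfsg.Lie Cfsg.Lie.ChevalleyDatum

/-- `A₁ A₁` in `G₂`. -/
def sgnG2 : chevG2.SgnData (chevG2.bitsV 1) :=
  chevG2.mkSgn _ (![7, 11] : Fin 2 → Fin 12) (![![2, 0], ![-1, 1]] : Fin 2 → Fin 2 → ℤ)
    (fun b x => if b then x else x ^ 3) (![2, 2] : Fin 2 → ℤ) (![3840, 4224] : Fin 2 → ℤ)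
    (l := fun r => ∑ s : chevG2.Rt, chevG2.pairing r s ^ 2) (fun _ => sum_pairing_sq)
    (by decide +kernel) (by decide +kernel) (by decide +kernel)
    (by decide +kernel) (by decide +kernel) (by decide +kernel)

/-- `B₄` in `F₄`. -/
def sgnF4a : chevF4.SgnData (chevF4.bitsV 1) :=
  chevF4.mkSgn _ (![24, 25, 30, 33] : Fin 4 → Fin 48)
    (![![0, 0, 0, 2], ![0, -2, 2, 0], ![0, 2, 0, 0], ![2, 0, 0, 0]] : Fin 4 → Fin 4 → ℤ)
    (fun b x => if b then x else x ^ 3) (![10, 18, 26, 14] : Fin 4 → ℤ)
    (![5760, 10080, 13920, 7392] : Fin 4 → ℤ) (l := fun _ => 1) (fun _ _ _ => rfl)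
    (by decide +kernel) (by decide +kernel) (by decide +kernel)
    (by decide +kernel) (by decide +kernel) (by decide +kernel)

/-- `A₁ C₃` in `F₄`. -/
def sgnF4b : chevF4.SgnData (chevF4.bitsV 8) :=
  chevF4.mkSgn _ (![24, 27, 32, 33] : Fin 4 → Fin 48)
    (![![0, 0, 0, 2], ![0, 2, 0, 0], ![-1, -1, 1, 0], ![2, 0, 0, 0]] : Fin 4 → Fin 4 → ℤ)
    (fun b x => if b then x else x ^ 3) (![8, 14, 18, 10] : Fin 4 → ℤ)
    (![5280, 9096, 12312, 7440] : Fin 4 → ℤ) (l := fun _ => 1) (fun _ _ _ => rfl)
    (by decide +kernel) (by decide +kernel) (by decide +kernel)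
    (by decide +kernel) (by decide +kernel) (by decide +kernel)

/-- Table of the coroots of `E₈`. -/
def cwE8 (r i : ℕ) : ℤ := Chk.get4
  0xabcdecba9bcdecba9acdecba9abdecba9abcecba9abcdcba9abcdbba9abcdcaa9abcdbaa9abccbaa9abbcbaa9aabcbaa99abcbaa89abcbaa9abcdbb99abcdba99abccba99abbcba99aabcba999abcba989abcba99abccaa99abbcaa99aabcaa999abcaa989abcaa99abbbaa99aabbaa999abbaa989abbaa99aaabaa999aabaa989aabaa9999abaa9899abaa9889abaa99abbba999aabba9999abba9989abba999aaaba9999aaba9989aaba99999aba99899aba99889aba999aaaaa9999aaaa9989aaaa99999aaa99899aaa99889aaa999999aa998999aa998899aa998889aa999aaaa99999aaa99989aaa999999aa999899aa999889aa9999999a9998999a9998899a9998889a9999999999989999999889999998889999988889999999999898999998988999989888999898888998988888989888888899aaaa99899aaa99889aaa998999aa998899aa998889aa9989999a9988999a9988899a9988889a9989999999889999998889999988889999888889998999998988999989888999898888998988888989888888898999999888999998888999988888999888888998888888988999998888999988888999888888998888888988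899998888899988888899888888898888999888888998888888988888998888888988888898888888788888888788888877888888887888888778888877788888888788888877888887778888777788888888788888877888887778888777788877777888888887888888778888877788887777888777778877777788888888788888787888877878887778788777787877777878888877788887777888777778877777787777777888876778887767788777677877776778887667788776677877766778876667787766677876666778888888878888878788887787888777878877778787777787777777878888777788877777887777778777777777777777888767778877677787776777777767778876677787766777777667778766677777666777766667778887667788776677877766777777667788766677877666777776667787666677776666777666667788765677877656777776567787665677776656777666567787655677776556777665567776555677887656678776566777765667876656677766566776665667876556677765566776655667765556678765466777654667766546677655466776544667876545677765456776654567765545677654456776543567765435578765456677654566766545667655456676544566765435667654346676543556765434567654245676532456764324567543245665432456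 (8 * r + i)

/-- Table of the roots of `E₈`. -/
def wtE8 (r i : ℕ) : ℤ := Chk.get4
  0x98888888798888888798888888798888888798888888799888888799888889788888977988897889889788898978888997888889788888898888889788889877888979878897898789788987978889877888898788898788889797888978978897889788788897888898789889797898978978987889789889878898979788987897889898788898797888988788889888988878897988789789887878898878898798789797987878979878987898787978987887889878898879889798798878987988987979887979798887897988988789887987898887978988887889888988878997988789789887899879878979798789878987899887978979879789879797898878978998887899798878998798789988797899888788999888887979888879879888798879887988879879888879898888878a8988888797988887789888879879888779798887878988879887988779879887879798878878988798887997798879978798799788797997888789979888879879888798879887988879879888879798888878a8988889777988897787988977887989778887997788887a87988897787988977887989778887997788887a778988978887989788887997888887a7888989788887997888887a78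888997888887a788888a7888888698888889698888877988888896988889779888878798888889698888977988897879888788798888889699888977998897879989788799878887998888896898889779988978799897887999788879978888799888898688889797888978978897889789788897878888978888987798897977989789779978897797888977988987889897978899789788978897889898788899797888978978889987888897978888987888889888889868888978788897897889788978978889797888897788888978889887788979877897898779788987778889877889879878979798797897987788979878987898797978987789789879878898779788987878889878898878889798788978987887889878889879788979797887897978898789788797897888788978889887898979878987898789898797898797978988789789898878898798788988797889888788898898888789798887878988878987988787979887887898878988798787987987887979878887898789888798879887988879879888879798888878988988887897988878987988789887987898887978988887899888888799888888779888887879888878879888788879887888879978888879888888977888897788889788888978888897888889788888878888888 (8 * r + i)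

theorem cw_eq_of_tab (D : ChevalleyDatum) (C : ℕ → ℕ → ℤ) (h : Chk.allIdx D.coroot.toList
    (fun r c => Chk.allLt D.rank fun i => decide (c.getD i 0 = C r i)) 0 = true ∧
    D.nroots = D.coroot.toList.length) (r : D.Rt) (i : D.Nd) : D.cw r i = C r i :=
  of_decide_eq_true (Chk.allLt_iff.1 (Chk.allIdx_array h.1 #[] (r.2.trans_eq h.2)) i i.2)

theorem wt_eq_of_tab (D : ChevalleyDatum) (W : ℕ → ℕ → ℤ) (h : ∀ i : D.Nd,
    Chk.allIdx (D.cartanSR.getD i #[]).toList (fun r c => decide (c = W r i)) 0 = true ∧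
    D.nroots = (D.cartanSR.getD i #[]).toList.length) (r : D.Rt) (i : D.Nd) : D.wt r i = W r i :=
  of_decide_eq_true (Chk.allIdx_array (h i).1 0 (r.2.trans_eq (h i).2))

theorem cwE8_eq (r : chevE8.Rt) (i : chevE8.Nd) : chevE8.cw r i = cwE8 r i :=
  cw_eq_of_tab chevE8 cwE8 (by decide +kernel) r i

theorem wtE8_eq (r : chevE8.Rt) (i : chevE8.Nd) : chevE8.wt r i = wtE8 r i :=
  wt_eq_of_tab chevE8 wtE8 (by decide +kernel) r i

/-- `D₈` in `E₈`. -/
def sgnE8a : chevE8.SgnData (chevE8.bitsV 6) :=
  chevE8.mkSgn' (fun r i => cwE8 r i) (fun r i => wtE8 r i) cwE8_eq wtE8_eq _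
    (![120, 121, 123, 126, 130, 135, 141, 226] : Fin 8 → Fin 240)
    (![![0, -1, -2, -3, -4, -3, -2, 1], ![0, 0, 0, 0, 0, 0, 2, 0], ![0, 0, 0, 0, 0, 2, 0, 0],
      ![0, 0, 0, 0, 2, 0, 0, 0], ![0, 0, 0, 2, 0, 0, 0, 0], ![0, 0, 2, 0, 0, 0, 0, 0],
      ![0, 2, 0, 0, 0, 0, 0, 0], ![2, 0, 0, 0, 0, 0, 0, 0]] : Fin 8 → Fin 8 → ℤ)
    (fun b x => if b then x else x ^ 7) (![28, 56, 70, 110, 92, 72, 50, 26] : Fin 8 → ℤ)
    (![74082456336, 174799939104, 210215464872, 337226601480, 279931263504, 215279445984,
      145753914744, 73525025496] : Fin 8 → ℤ)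
    (by decide +kernel) (by decide +kernel) (by decide +kernel)
    (by decide +kernel) (by decide +kernel) (by decide +kernel)

/-- `E₇ A₁` in `E₈`. -/
def sgnE8b : chevE8.SgnData (chevE8.bitsV 1) :=
  chevE8.mkSgn' (fun r i => cwE8 r i) (fun r i => wtE8 r i) cwE8_eq wtE8_eq _
    (![120, 121, 123, 126, 130, 141, 162, 184] : Fin 8 → Fin 240)
    (![![0, 0, 0, 0, 0, 0, 2, 0], ![0, 0, 0, 0, 0, 2, 0, 0], ![0, 0, 0, -1, -2, -1, -1, 1],
      ![0, 0, 0, 0, 2, 0, 0, 0], ![0, 0, 0, 2, 0, 0, 0, 0], ![0, 0, 2, 0, 0, 0, 0, 0],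
      ![0, 2, 0, 0, 0, 0, 0, 0], ![2, 0, 0, 0, 0, 0, 0, 0]] : Fin 8 → Fin 8 → ℤ)
    (fun b x => if b then x else x ^ 5) (![50, 76, 98, 150, 124, 96, 66, 34] : Fin 8 → ℤ)
    (![266603880, 392852400, 494807880, 766943640, 632073840, 486184320, 331210440,
      168534600] : Fin 8 → ℤ)
    (by decide +kernel) (by decide +kernel) (by decide +kernel)
    (by decide +kernel) (by decide +kernel) (by decide +kernel)

variable {F : Type*} [Field F] [Fintype F] (hF : Odd (Fintype.card F))
include hF

theorem card_cent_G2 : Nat.card (Subgroup.centralizer {chevG2.sgnG F (chevG2.bitsV 1)}) =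
    Fintype.card F ^ 2 * ([2, 2].map fun d => Fintype.card F ^ d - 1).prod :=
  sgnG2.card_centralizer hF (ker_torus_G2 F) (A := [[2, 0], [0, 2]]) (by decide +kernel) (m := 3)
    (ord := ([0, 1] : List (Fin 2))) rfl (by decide +kernel) (by decide +kernel)

theorem card_cent_F4a : Nat.card (Subgroup.centralizer {chevF4.sgnG F (chevF4.bitsV 1)}) =
    Fintype.card F ^ 16 * ([2, 4, 6, 8].map fun d => Fintype.card F ^ d - 1).prod :=
  sgnF4a.card_centralizer hF (ker_torus_F4 F)
    (A := [[2, -1, -1, 0], [-1, 2, 0, 0], [-1, 0, 2, -2], [0, 0, -1, 2]]) (by decide +kernel)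
    (m := 10) (ord := ([1, 0, 2, 3] : List (Fin 4))) rfl (by decide +kernel) (by decide +kernel)

theorem card_cent_F4b : Nat.card (Subgroup.centralizer {chevF4.sgnG F (chevF4.bitsV 8)}) =
    Fintype.card F ^ 10 * ([2, 2, 4, 6].map fun d => Fintype.card F ^ d - 1).prod :=
  sgnF4b.card_centralizer hF (ker_torus_F4 F)
    (A := [[2, 0, 0, 0], [0, 2, 0, -1], [0, 0, 2, -2], [0, -1, -1, 2]]) (by decide +kernel)
    (m := 10) (ord := ([0, 1, 3, 2] : List (Fin 4))) rfl (by decide +kernel) (by decide +kernel)

theorem card_cent_E8a : Nat.card (Subgroup.centralizer {chevE8.sgnG F (chevE8.bitsV 6)}) =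
    Fintype.card F ^ 56 * ([8, 2, 4, 6, 8, 10, 12, 14].map fun d => Fintype.card F ^ d - 1).prod :=
  sgnE8a.card_centralizer hF (ker_torus_E8 F)
    (A := [[2, -1, 0, 0, 0, 0, 0, -1], [-1, 2, -1, 0, 0, 0, 0, 0], [0, -1, 2, -1, 0, 0, 0, 0],
      [0, 0, -1, 2, -1, 0, 0, 0], [0, 0, 0, -1, 2, -1, -1, 0], [0, 0, 0, 0, -1, 2, 0, 0],
      [0, 0, 0, 0, -1, 0, 2, 0], [-1, 0, 0, 0, 0, 0, 0, 2]])
    (by decide +kernel)
    (m := 20) (ord := ([7, 0, 1, 2, 3, 5, 4, 6] : List (Fin 8))) rfl (by decide +kernel)
    (by decide +kernel)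

theorem card_cent_E8b : Nat.card (Subgroup.centralizer {chevE8.sgnG F (chevE8.bitsV 1)}) =
    Fintype.card F ^ 64 *
      ([2, 2, 6, 8, 10, 12, 14, 18].map fun d => Fintype.card F ^ d - 1).prod :=
  sgnE8b.card_centralizer hF (ker_torus_E8 F)
    (A := [[2, -1, 0, 0, 0, 0, 0, 0], [-1, 2, -1, 0, 0, 0, 0, 0], [0, -1, 2, -1, 0, 0, 0, -1],
      [0, 0, -1, 2, -1, 0, 0, 0], [0, 0, 0, -1, 2, -1, 0, 0], [0, 0, 0, 0, -1, 2, 0, 0],
      [0, 0, 0, 0, 0, 0, 2, 0], [0, 0, -1, 0, 0, 0, 0, 2]])
    (by decide +kernel)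
    (m := 30) (ord := ([6, 5, 4, 3, 0, 1, 2, 7] : List (Fin 8))) rfl (by decide +kernel)
    (by decide +kernel)

theorem invol_conj_G2 {s : chevG2.group F} (hs : orderOf s = 2) :
    IsConj s (chevG2.sgnG F (chevG2.bitsV 1)) := by
  simpa using exists_isConj_of_orderOf hF (ker_torus_G2 _) (L := [1])
    (fun m => [0, 0, 2, 1].getD m 0) (by decide +kernel) (by simpa using ⟨sgnG2⟩) hs

theorem invol_conj_F4 {s : chevF4.group F} (hs : orderOf s = 2) :
    IsConj s (chevF4.sgnG F (chevF4.bitsV 1)) ∨ IsConj s (chevF4.sgnG F (chevF4.bitsV 8)) := by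
  simpa using exists_isConj_of_orderOf hF (ker_torus_F4 _) (L := [1, 8])
    (fun m => [0, 0, 2, 1, 2, 7, 3, 4, 0, 5, 3, 4, 1, 6, 2, 3].getD m 0) (by decide +kernel)
    (by simpa using ⟨⟨sgnF4a⟩, ⟨sgnF4b⟩⟩) hs

theorem invol_conj_E8 {s : chevE8.group F} (hs : orderOf s = 2) :
    IsConj s (chevE8.sgnG F (chevE8.bitsV 6)) ∨ IsConj s (chevE8.sgnG F (chevE8.bitsV 1)) := by
  simpa using exists_isConj_of_orderOf hF (ker_torus_E8 _) (L := [6, 1])
    (fun m => [0, 0, 6, 2, 2, 1, 0, 1, 4, 4, 5, 3, 3, 2, 4, 3, 6, 6, 16, 6, 8, 7, 6, 5, 5, 5, 6, 4,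
      4, 3, 5, 4, 8, 8, 14, 8, 10, 9, 8, 7, 12, 10, 13, 9, 11, 10, 12, 11, 7, 7, 15, 7, 9, 8, 7, 6,
      6, 6, 7, 5, 5, 4, 6, 5, 10, 10, 16, 10, 12, 11, 10, 9, 14, 12, 15, 11, 13, 12, 14, 13, 16,
      14, 28, 16, 16, 15, 16, 15, 15, 13, 16, 12, 14, 13, 15, 14, 9, 9, 15, 9, 11, 10, 9, 8, 13,
      11, 14, 10, 12, 11, 13, 12, 8, 8, 16, 8, 10, 9, 8, 7, 7, 7, 8, 6, 6, 5, 7, 6, 12, 12, 18, 12,
      14, 13, 12, 11, 16, 14, 17, 13, 15, 14, 16, 15, 18, 16, 26, 18, 18, 17, 18, 17, 17, 15, 18,
      14, 16, 15, 17, 16, 20, 18, 24, 20, 20, 19, 20, 19, 22, 22, 23, 21, 21, 20, 22, 21, 19, 17,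
      25, 19, 19, 18, 19, 18, 18, 16, 19, 15, 17, 16, 18, 17, 11, 11, 17, 11, 13, 12, 11, 10, 15,
      13, 16, 12, 14, 13, 15, 14, 17, 15, 27, 17, 17, 16, 17, 16, 16, 14, 17, 13, 15, 14, 16, 15,
      10, 10, 16, 10, 12, 11, 10, 9, 14, 12, 15, 11, 13, 12, 14, 13, 9, 9, 17, 9, 11, 10, 9, 8, 8,
      8, 9, 7, 7, 6, 8, 7].getD m 0) (by decide +kernel)
    (by simpa using ⟨⟨sgnE8a⟩, ⟨sgnE8b⟩⟩) hs

omit hF in
theorem not_isConj_of_card {G : Type*} [Group G] {s t : G} {q a b : ℕ} {l m : List ℕ} (hq : 1 < q)
    (hab : a < b) (hl : ∀ d ∈ l, d ≠ 0)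
    (hs : Nat.card (Subgroup.centralizer {s}) = q ^ a * (l.map fun d => q ^ d - 1).prod)
    (ht : Nat.card (Subgroup.centralizer {t}) = q ^ b * (m.map fun d => q ^ d - 1).prod) :
    ¬ IsConj s t := fun h => by
  obtain ⟨g, rfl⟩ := isConj_iff.1 h
  have h1 : Nat.card (Subgroup.centralizer {s}) = Nat.card (Subgroup.centralizer {g * s * g⁻¹}) :=
    Nat.card_congr ((MulAut.conj g).toEquiv.subtypeEquiv fun x => by
      simp only [Subgroup.mem_centralizer_singleton_iff, MulEquiv.toEquiv_eq_coe, EquivLike.coe_coe,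
        MulAut.conj_apply, conj_mul, mul_left_inj, mul_right_inj])
  obtain ⟨c, rfl⟩ := Nat.exists_eq_add_of_lt hab
  rw [hs, ht, add_assoc, pow_add, mul_assoc, Nat.mul_right_inj (by positivity)] at h1
  have h2 : Nat.Coprime q (l.map fun d => q ^ d - 1).prod :=
    Nat.coprime_list_prod_right_iff.2 fun x hx => by
      obtain ⟨d, hd, rfl⟩ := List.mem_map.1 hx
      exact (Nat.coprime_pow_left_iff (Nat.pos_of_ne_zero (hl d hd)) _ _).1
        ((Nat.coprime_self_sub_right (Nat.one_le_pow _ _ (by omega))).2 (Nat.coprime_one_right _))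
  rw [h1] at h2
  have := h2.eq_one_of_dvd (Dvd.dvd.mul_right (dvd_pow_self q c.succ_ne_zero) _)
  omega

end Cfsg.Agent.Chev
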