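import Mathlib
import Cfsg.Agent.Chev.StData
import Cfsg.Agent.Chev.StTrans

/-!
# Embeddings into `E₈`: tables
-/

set_option autoImplicit false
set_option maxRecDepth 100000

namespace Cfsg.Agent.Chev

open Cfsg.Lie Cfsg.Lie.ChevalleyDatum

/-- root map -/
def embE6Map (r : ℕ) : ℕ := [
    35, 45, 51, 54, 55, 61, 64, 65, 68, 69, 70, 73, 74, 75, 76, 77, 83, 86, 87, 90, 91, 92, 95,
    96, 97, 98, 101, 102, 103, 104, 107, 108, 109, 112, 113, 116, 123, 126, 127, 130, 131, 132,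
    135, 136, 137, 138, 141, 142, 143, 144, 147, 148, 149, 152, 153, 156, 162, 163, 164, 165, 166,
    169, 170, 171, 174, 175, 178, 184, 185, 188, 194, 204].getD r 0

/-- inverse root map -/
def embE6Inv (r : ℕ) : ℕ := [
    0, 0, 0, 0, 0, 0, 0, 0, 0, 0, 0, 0, 0, 0, 0, 0, 0, 0, 0, 0, 0, 0, 0, 0, 0, 0, 0, 0, 0, 0, 0,
    0, 0, 0, 0, 0, 0, 0, 0, 0, 0, 0, 0, 0, 0, 1, 0, 0, 0, 0, 0, 2, 0, 0, 3, 4, 0, 0, 0, 0, 0, 5,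
    0, 0, 6, 7, 0, 0, 8, 9, 10, 0, 0, 11, 12, 13, 14, 15, 0, 0, 0, 0, 0, 16, 0, 0, 17, 18, 0, 0,
    19, 20, 21, 0, 0, 22, 23, 24, 25, 0, 0, 26, 27, 28, 29, 0, 0, 30, 31, 32, 0, 0, 33, 34, 0, 0,
    35, 0, 0, 0, 0, 0, 0, 36, 0, 0, 37, 38, 0, 0, 39, 40, 41, 0, 0, 42, 43, 44, 45, 0, 0, 46, 47,
    48, 49, 0, 0, 50, 51, 52, 0, 0, 53, 54, 0, 0, 55, 0, 0, 0, 0, 0, 56, 57, 58, 59, 60, 0, 0, 61,
    62, 63, 0, 0, 64, 65, 0, 0, 66, 0, 0, 0, 0, 0, 67, 68, 0, 0, 69, 0, 0, 0, 0, 0, 70, 0, 0, 0,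
    0, 0, 0, 0, 0, 0, 71, 0, 0, 0, 0, 0, 0, 0, 0, 0, 0, 0, 0, 0, 0, 0, 0, 0, 0, 0, 0, 0, 0, 0, 0,
    0, 0, 0, 0, 0, 0, 0, 0, 0, 0, 0].getD r 0

/-- signs -/
def embE6Eps (r : ℕ) : ℤ := ([
    1, 1, 1, 1, 1, 1, 1, 1, 1, 1, 1, 1, 1, 1, 1, 1, 1, 1, 1, 1, 1, 1, 1, 1, 1, 1, 1, 1, 1, 1, 1,
    1, 1, 1, 1, 1, 1, 1, 1, 1, 1, 1, 1, 1, 1, 1, 1, 1, 1, 1, 1, 1, 1, 1, 1, 1, 1, 1, 1, 1, 1, 1,
    1, 1, 1, 1, 1, 1, 1, 1, 1, 1] : List ℤ).getD r 1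

theorem embE6Map_lt : ∀ r < chevE6.nroots, embE6Map r < chevE8.nroots := by decide +kernel

theorem embE6_trans : StRoot.Trans chevE6.stRoot chevE8.stRoot
    (fun r => ⟨embE6Map r, embE6Map_lt r r.2⟩) (fun r => embE6Eps r) :=
  chevE6.trans_of_table slE6 chevE8 slE8 embE6Map embE6Inv embE6Eps embE6Map_lt
    (by decide +kernel) (by decide +kernel) (by decide +kernel) (by decide +kernel)

/-- root map -/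
def embE7Map (r : ℕ) : ℕ := [
    13, 20, 25, 29, 32, 34, 35, 39, 42, 44, 45, 48, 50, 51, 53, 54, 55, 58, 60, 61, 63, 64, 65,
    67, 68, 69, 70, 72, 73, 74, 75, 76, 77, 80, 82, 83, 85, 86, 87, 89, 90, 91, 92, 94, 95, 96,
    97, 98, 100, 101, 102, 103, 104, 106, 107, 108, 109, 111, 112, 113, 115, 116, 118, 121, 123,
    124, 126, 127, 128, 130, 131, 132, 133, 135, 136, 137, 138, 139, 141, 142, 143, 144, 145, 147,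
    148, 149, 150, 152, 153, 154, 156, 157, 159, 162, 163, 164, 165, 166, 167, 169, 170, 171, 172,
    174, 175, 176, 178, 179, 181, 184, 185, 186, 188, 189, 191, 194, 195, 197, 200, 204, 205, 207,
    210, 214, 219, 226].getD r 0

/-- inverse root map -/
def embE7Inv (r : ℕ) : ℕ := [
    0, 0, 0, 0, 0, 0, 0, 0, 0, 0, 0, 0, 0, 0, 0, 0, 0, 0, 0, 0, 1, 0, 0, 0, 0, 2, 0, 0, 0, 3, 0,
    0, 4, 0, 5, 6, 0, 0, 0, 7, 0, 0, 8, 0, 9, 10, 0, 0, 11, 0, 12, 13, 0, 14, 15, 16, 0, 0, 17, 0,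
    18, 19, 0, 20, 21, 22, 0, 23, 24, 25, 26, 0, 27, 28, 29, 30, 31, 32, 0, 0, 33, 0, 34, 35, 0,
    36, 37, 38, 0, 39, 40, 41, 42, 0, 43, 44, 45, 46, 47, 0, 48, 49, 50, 51, 52, 0, 53, 54, 55,
    56, 0, 57, 58, 59, 0, 60, 61, 0, 62, 0, 0, 63, 0, 64, 65, 0, 66, 67, 68, 0, 69, 70, 71, 72, 0,
    73, 74, 75, 76, 77, 0, 78, 79, 80, 81, 82, 0, 83, 84, 85, 86, 0, 87, 88, 89, 0, 90, 91, 0, 92,
    0, 0, 93, 94, 95, 96, 97, 98, 0, 99, 100, 101, 102, 0, 103, 104, 105, 0, 106, 107, 0, 108, 0,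
    0, 109, 110, 111, 0, 112, 113, 0, 114, 0, 0, 115, 116, 0, 117, 0, 0, 118, 0, 0, 0, 119, 120,
    0, 121, 0, 0, 122, 0, 0, 0, 123, 0, 0, 0, 0, 124, 0, 0, 0, 0, 0, 0, 125, 0, 0, 0, 0, 0, 0, 0,
    0, 0, 0, 0, 0, 0].getD r 0

/-- signs -/
def embE7Eps (r : ℕ) : ℤ := ([
    1, 1, 1, 1, 1, 1, 1, 1, 1, 1, 1, 1, 1, 1, 1, 1, 1, 1, 1, 1, 1, 1, 1, 1, 1, 1, 1, 1, 1, 1, 1,
    1, 1, 1, 1, 1, 1, 1, 1, 1, 1, 1, 1, 1, 1, 1, 1, 1, 1, 1, 1, 1, 1, 1, 1, 1, 1, 1, 1, 1, 1, 1,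
    1, 1, 1, 1, 1, 1, 1, 1, 1, 1, 1, 1, 1, 1, 1, 1, 1, 1, 1, 1, 1, 1, 1, 1, 1, 1, 1, 1, 1, 1, 1,
    1, 1, 1, 1, 1, 1, 1, 1, 1, 1, 1, 1, 1, 1, 1, 1, 1, 1, 1, 1, 1, 1, 1, 1, 1, 1, 1, 1, 1, 1, 1,
    1, 1] : List ℤ).getD r 1

theorem embE7Map_lt : ∀ r < chevE7.nroots, embE7Map r < chevE8.nroots := by decide +kernel

theorem embE7_trans : StRoot.Trans chevE7.stRoot chevE8.stRoot
    (fun r => ⟨embE7Map r, embE7Map_lt r r.2⟩) (fun r => embE7Eps r) :=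
  chevE7.trans_of_table slE7 chevE8 slE8 embE7Map embE7Inv embE7Eps embE7Map_lt
    (by decide +kernel) (by decide +kernel) (by decide +kernel) (by decide +kernel)

/-- root map -/
def embD4Map (r : ℕ) : ℕ := [
    87, 91, 92, 96, 97, 98, 102, 103, 108, 109, 104, 113, 126, 135, 130, 131, 136, 137, 141, 142,
    143, 147, 148, 152].getD r 0

/-- inverse root map -/
def embD4Inv (r : ℕ) : ℕ := [
    0, 0, 0, 0, 0, 0, 0, 0, 0, 0, 0, 0, 0, 0, 0, 0, 0, 0, 0, 0, 0, 0, 0, 0, 0, 0, 0, 0, 0, 0, 0,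
    0, 0, 0, 0, 0, 0, 0, 0, 0, 0, 0, 0, 0, 0, 0, 0, 0, 0, 0, 0, 0, 0, 0, 0, 0, 0, 0, 0, 0, 0, 0,
    0, 0, 0, 0, 0, 0, 0, 0, 0, 0, 0, 0, 0, 0, 0, 0, 0, 0, 0, 0, 0, 0, 0, 0, 0, 0, 0, 0, 0, 1, 2,
    0, 0, 0, 3, 4, 5, 0, 0, 0, 6, 7, 10, 0, 0, 0, 8, 9, 0, 0, 0, 11, 0, 0, 0, 0, 0, 0, 0, 0, 0, 0,
    0, 0, 12, 0, 0, 0, 14, 15, 0, 0, 0, 13, 16, 17, 0, 0, 0, 18, 19, 20, 0, 0, 0, 21, 22, 0, 0, 0,
    23, 0, 0, 0, 0, 0, 0, 0, 0, 0, 0, 0, 0, 0, 0, 0, 0, 0, 0, 0, 0, 0, 0, 0, 0, 0, 0, 0, 0, 0, 0,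
    0, 0, 0, 0, 0, 0, 0, 0, 0, 0, 0, 0, 0, 0, 0, 0, 0, 0, 0, 0, 0, 0, 0, 0, 0, 0, 0, 0, 0, 0, 0,
    0, 0, 0, 0, 0, 0, 0, 0, 0, 0, 0, 0, 0, 0, 0, 0, 0, 0, 0, 0, 0, 0, 0, 0, 0, 0].getD r 0

/-- signs -/
def embD4Eps (r : ℕ) : ℤ := ([
    1, 1, 1, 1, 1, 1, -1, -1, 1, 1, 1, 1, 1, 1, 1, 1, -1, -1, 1, 1, 1, 1, 1, 1] : List ℤ).getD r 1

theorem embD4Map_lt : ∀ r < chevD4.nroots, embD4Map r < chevE8.nroots := by decide +kernel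

theorem embD4_trans : StRoot.Trans chevD4.stRoot chevE8.stRoot
    (fun r => ⟨embD4Map r, embD4Map_lt r r.2⟩) (fun r => embD4Eps r) :=
  chevD4.trans_of_table slD4 chevE8 slE8 embD4Map embD4Inv embD4Eps embD4Map_lt
    (by decide +kernel) (by decide +kernel) (by decide +kernel) (by decide +kernel)


end Cfsg.Agent.Chev
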