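import Mathlib
import Cfsg.Agent.Chev.Coll
import Cfsg.Agent.Chev.StData
import Cfsg.Agent.Chev.FldFix
import Cfsg.Agent.Chev.AutOut
import Cfsg.Agent.Chev.TwD4
import Cfsg.Agent.Chev.TwE6

/-!
# Folding: `G₂` in `D₄` and `F₄` in `E₆` as fixed points of graph automorphisms
-/

set_option autoImplicit false
set_option maxRecDepth 100000
set_option synthInstance.maxSize 100000

namespace Cfsg.Lie.ChevalleyDatum

open Cfsg.Agent.Chev

/-- Orbits of roots with signs. -/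
structure FoldTab where
  orb : ℕ → List ℕ
  own : ℕ → ℕ
  sg : ℕ → ℤ

namespace FoldTab

variable (Φ : FoldTab) {K : Type*} [Field K] {G : Type*} [Group G]

/-- the word of a folded root element -/
def w (a : ℕ) (c : ℤ) (e : List ℕ) : List Coll.Let := (Φ.orb a).map fun r => (r, Φ.sg r * c, e)

/-- the folded root element -/
def y (x : ℕ → K → G) (a : ℕ) (t : K) : G := ((Φ.orb a).map fun r => x r (Φ.sg r * t)).prod

theorem evW_w (x : ℕ → K → G) (v : ℕ → K) (a : ℕ) (c : ℤ) (e : List ℕ) :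
    Coll.evW x v (Φ.w a c e) = Φ.y x a (c * Coll.evE v e) := by
  simp [Coll.evW, w, y, Coll.ev, List.map_map, Function.comp_def, mul_assoc]

/-- the combinatorial conditions -/
def OK1 (E D : ChevalleyDatum) : Prop := ∀ a < E.nroots, Φ.orb a ≠ [] ∧ (Φ.orb a).Nodup ∧
  ∀ r ∈ Φ.orb a, r < D.nroots ∧ Φ.own r = a ∧ (Φ.sg r = 1 ∨ Φ.sg r = -1) ∧ (D.IsPosRoot r ↔ E.IsPosRoot a)

/-- additivity -/
def OK2 (E : ChevalleyDatum) (T : ℕ → ℕ → Option Coll.Terms) : Prop := ∀ a < E.nroots,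
  Coll.chk 0 T 20 ((Φ.orb a).flatMap fun r => [(r, Φ.sg r, [1, 0]), (r, Φ.sg r, [0, 1])])
    (Φ.w a 1 [1, 0] ++ Φ.w a 1 [0, 1]) = true

/-- the commutator formula -/
def OK3 (E : ChevalleyDatum) (T : ℕ → ℕ → Option Coll.Terms) : Prop := ∀ a < E.nroots, ∀ b < E.nroots,
  b ≠ a → b ≠ E.neg a → Coll.chk 0 T 40 (Φ.w b 1 [0, 1] ++ Φ.w a 1 [1, 0])
    (Φ.w a 1 [1, 0] ++ Φ.w b 1 [0, 1] ++
      (E.commTerms a b).flatMap fun c => Φ.w c.1 (c.2.1 * (-1) ^ c.2.2.1) [c.2.2.1, c.2.2.2]) = true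

variable {Φ} {E D : ChevalleyDatum} [E.Good] {T : ℕ → ℕ → Option Coll.Terms} {x : ℕ → K → G}

theorem isAB (h2 : Φ.OK2 E T) (h3 : Φ.OK3 E T) (hx : Coll.Rel 0 T x) :
    E.stRoot.IsAB (fun a : E.Rt => Φ.y x a) where
  add a t u := by
    have := hx.eq_of_chk (h2 a a.2) (fun k => if k = 0 then t else u)
    rw [Coll.evW_append, evW_w, evW_w, Coll.evW_flatMap] at this
    simpa [Coll.evE, Coll.evW, Coll.ev, y, mul_add, hx.add _ _ _] using this
  comm a b h1 h1' t u := by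
    have := hx.eq_of_chk (h3 a a.2 b b.2 (fun e => h1 (Fin.ext e)) fun e => h1' (Fin.ext e))
      (fun k => if k = 0 then t else u)
    rw [Coll.evW_append, Coll.evW_append, Coll.evW_append, evW_w, evW_w, Coll.evW_flatMap] at this
    simp only [evW_w, Coll.evE, ↓reduceIte, pow_one, pow_zero, mul_one, one_mul, Int.cast_one, zero_add,
      one_ne_zero] at this
    rw [stWord_cword, commWord, List.map_map, mul_assoc, this, mul_assoc, mul_assoc (Φ.y x a t),
      inv_mul_cancel_left, inv_mul_cancel_left]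
    congr 1
    refine List.map_congr_left fun c _ => ?_
    simp only [Function.comp_apply]
    congr 1
    push_cast
    rw [neg_pow t]
    ring

omit [E.Good] in
theorem y_mem_XS (h1 : Φ.OK1 E D) {S : Set D.Rt} {a : E.Rt} (hS : ∀ r : D.Rt, (r : ℕ) ∈ Φ.orb a → r ∈ S)
    (t : K) : Φ.y x a t ∈ Cfsg.Agent.Chev.XS (fun r : D.Rt => x r) S := by
  refine Subgroup.list_prod_mem _ fun g hg => ?_
  obtain ⟨r, hr, rfl⟩ := List.mem_map.1 hg
  exact x_mem_XS (fun r : D.Rt => x r) (r := ⟨r, ((h1 a a.2).2.2 r hr).1⟩) (hS _ hr) _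

variable [D.Good]

theorem isModel (h1 : Φ.OK1 E D) (hx : D.stRoot.IsModel (fun r : D.Rt => x r))
    (hy : E.stRoot.IsSt (fun a : E.Rt => Φ.y x a)) : E.stRoot.IsModel (fun a : E.Rt => Φ.y x a) where
  toIsSt := hy
  uniq := by
    classical
    obtain ⟨l, hl, hm, -⟩ := (E.isModel_XG K).uniq
    refine ⟨l, hl, hm, fun t t' e a ha => ?_⟩
    let f : E.Rt → List D.Rt := fun a => (Φ.orb a).pmap Fin.mk fun r hr => ((h1 a a.2).2.2 r hr).1
    have hf : ∀ (a : E.Rt) (r : D.Rt), r ∈ f a ↔ (r : ℕ) ∈ Φ.orb a := fun a r => by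
      simp only [f, List.mem_pmap]
      exact ⟨by rintro ⟨s, hs, rfl⟩; exact hs, fun h => ⟨r, h, rfl⟩⟩
    have hown : ∀ (a : E.Rt) (r : D.Rt), r ∈ f a → Φ.own r = a := fun a r hr =>
      ((h1 a a.2).2.2 r ((hf a r).1 hr)).2.1
    have key : ∀ t : E.Rt → K, stProd (fun a : E.Rt => Φ.y x a) l t =
        stProd (fun r : D.Rt => x r) (l.flatMap f) fun r => Φ.sg r * t (E.toRt a (Φ.own r)) := fun t => by
      rw [stProd, stProd, List.map_flatMap, List.flatMap_def, List.prod_flatten, List.map_map]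
      congr 1
      refine List.map_congr_left fun b _ => ?_
      rw [y, Function.comp_apply, List.map_congr_left (l := f b) (g := fun r : D.Rt => x r (Φ.sg r * t b))
        fun r hr => by rw [hown b r hr, toRt_coe]]
      simp only [f, List.map_pmap, List.pmap_eq_map]
    have hnd : (l.flatMap f).Nodup := List.nodup_flatMap.2 ⟨fun b _ =>
      (h1 b b.2).2.1.pmap fun _ _ _ _ h => congrArg Fin.val h,
      hl.imp fun {b c} hbc => List.disjoint_left.2 fun r hb hc =>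
        hbc (Fin.ext ((hown b r hb).symm.trans (hown c r hc)))⟩
    have hpos : ∀ r ∈ l.flatMap f, D.stRoot.Pos r := fun r hr => by
      obtain ⟨b, hb, hr⟩ := List.mem_flatMap.1 hr
      rw [stRoot_pos, ((h1 b b.2).2.2 r ((hf b r).1 hr)).2.2.2, ← stRoot_pos]
      exact (hm b).1 hb
    rw [key, key] at e
    obtain ⟨r, hr⟩ := List.exists_mem_of_ne_nil _ (h1 a a.2).1
    obtain ⟨hr1, hr2, hr3, -⟩ := (h1 a a.2).2.2 r hr
    have := hx.uniq_pos hnd hpos _ _ e ⟨r, hr1⟩ (List.mem_flatMap.2 ⟨a, ha, (hf a _).2 hr⟩)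
    simp only [hr2, toRt_coe] at this
    exact mul_left_cancel₀ (by rcases hr3 with h | h <;> simp [h]) this
  uv g hU hV := by
    refine hx.uv g (XS_le (fun a ha t => y_mem_XS h1 (fun r hr => ?_) t) hU)
      (XS_le (fun a ha t => y_mem_XS h1 (fun r hr => ?_) t) hV)
    · exact (D.stRoot_pos r).2 (((h1 a a.2).2.2 r hr).2.2.2.2 ((E.stRoot_pos a).1 ha))
    · exact fun hp => ha ((E.stRoot_pos a).2 (((h1 a a.2).2.2 r hr).2.2.2.1 ((D.stRoot_pos r).1 hp)))

omit [E.Good] in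
theorem coe_y {a : ℕ} {l : List ℕ} (h : Φ.orb a = l ∧ ∀ r ∈ l, Φ.sg r = 1) (t : K) :
    ((Φ.y (D.XG K) a t : D.group K) : GL D.Idx K) = (l.map fun r => D.X K r t).prod := by
  rw [y, h.1, Subgroup.val_list_prod, List.map_map]
  congr 1
  exact List.map_congr_left fun r hr => by simp [h.2 r hr, coe_XG]

/-- the folded system defines an embedding of the Chevalley group -/
theorem exists_hom [Finite K] (h1 : Φ.OK1 E D) (h2 : Φ.OK2 E T) (h3 : Φ.OK3 E T) (hx : Coll.Rel 0 T x)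
    (hm : D.stRoot.IsModel (fun r : D.Rt => x r)) (hc : Subgroup.center (E.SteinbergGroup K) = ⊥) :
    ∃ φ : E.group K →* G, Function.Injective φ ∧ ∀ (a : E.Rt) t, φ (E.XG K a t) = Φ.y x a t := by
  let ψ : E.SteinbergGroup K →* G :=
    (E.scLift (isAB h2 h3 hx)).comp (E.scEquivSt K (symbolTrivial_of_finite K)).symm.toMonoidHom
  have hψ : ∀ (a : E.Rt) t, ψ (E.stGen K a t) = Φ.y x a t := fun a t => by
    rw [← E.scEquivSt_scGen K (symbolTrivial_of_finite K)]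
    simp [ψ, scLift_scGen]
  have hs := (E.isModel_stGen K).toIsSt
  have hy : E.stRoot.IsSt (fun a : E.Rt => Φ.y x a) := by simpa only [hψ] using hs.map ψ
  suffices Function.Injective ψ from ⟨ψ.comp (E.stEquiv K hc).symm.toMonoidHom,
    this.comp (E.stEquiv K hc).symm.injective, fun a t => by rw [← E.stEquiv_stGen K hc]; simp [hψ]⟩
  refine (injective_iff_map_eq_one ψ).2 fun g hg => ?_
  have hu : ∀ g, g ∈ Cfsg.Agent.Chev.XS (fun a : E.Rt => E.stGen K a) Set.univ := fun g => by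
    rw [XS_stGen_univ]; trivial
  have := ((isModel h1 hm hy).ker_central hs ψ hψ (hu g) hg).2
  rw [← Subgroup.mem_bot, ← hc, Subgroup.mem_center_iff]
  exact fun a => (this.commute_of_trivial (hu a)).symm

end FoldTab

variable {E D : ChevalleyDatum} [E.Good] [D.Good] {K : Type*} [Field K]

theorem Twist.range_eq_of_fold {J : Type} (T : D.Twist K J) (hf : T.f = 1) {φ : E.group K →* D.group K}
    (ν : E.Nd → J) (hν : Function.Surjective ν)
    (h1 : ∀ (j : E.Nd) t, (φ (E.XG K (E.sr j) t) : GL D.Idx K) = T.y (ν j) t)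
    (h2 : ∀ (j : E.Nd) t, (φ (E.XG K (E.ng (E.sr j)) t) : GL D.Idx K) = T.ym (ν j) t) (g : D.group K) :
    (g : GL D.Idx K) ∈ T.G1 ↔ g ∈ φ.range := by
  constructor
  · intro hg
    have : T.G1 ≤ φ.range.map (D.group K).subtype := by
      refine (Subgroup.closure_le _).2 ?_
      rintro _ ⟨j, t, -, rfl | rfl⟩ <;> obtain ⟨j, rfl⟩ := hν j
      exacts [⟨_, ⟨_, rfl⟩, h1 j t⟩, ⟨_, ⟨_, rfl⟩, h2 j t⟩]
    obtain ⟨g', hg', e⟩ := this hg
    rwa [← Subtype.ext e]
  · rintro ⟨g, rfl⟩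
    have h3 : g ∈ Cfsg.Agent.Chev.XS (fun r : E.Rt => E.XG K r) Set.univ := by
      rw [E.XS_XG_univ K]; trivial
    rw [(E.isModel_XG K).toIsSt.XS_univ_eq] at h3
    refine Cfsg.Agent.Chev.XS_le (H := (T.G1.comap (D.group K).subtype).comap φ) ?_ h3
    rintro _ ⟨i, rfl | rfl⟩ t
    · have := T.y_mem_G1 (ν i) (t := t) (by rw [hf, one_pow]; rfl)
      rwa [← h1] at this
    · have := T.ym_mem_G1 (ν i) (t := t) (by rw [hf, one_pow]; rfl)
      rwa [← h2] at this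

theorem SymAut.α_eq (A : D.SymAut K) (hf : A.f = 1) {τ : D.group K →* D.group K}
    (h1 : ∀ (i : D.Nd) t, τ (D.XG K (D.sr i) t) = D.XG K (D.sr (A.π i)) t)
    (h2 : ∀ (i : D.Nd) t, τ (D.XG K (D.ng (D.sr i)) t) = D.XG K (D.ng (D.sr (A.π i))) t) : A.α = τ :=
  group_hom_ext K (fun i t => by rw [h1]; exact Subtype.ext ((A.α_pos i t).trans (by rw [hf]; rfl)))
    fun i t => by rw [h2]; exact Subtype.ext ((A.α_neg i t).trans (by rw [hf]; rfl))

theorem SymAut.mem_Fix_iff (A : D.SymAut K) (g : D.group K) : (g : GL D.Idx K) ∈ A.Fix ↔ A.α g = g := by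
  rw [SymAut.mem_Fix, SymAut.σ_coe]
  exact ⟨fun h => Subtype.ext h.2, fun h => ⟨g.2, congrArg Subtype.val h⟩⟩

end Cfsg.Lie.ChevalleyDatum

namespace Cfsg.Agent.Chev

open Cfsg.Lie Cfsg.Lie.ChevalleyDatum

/-- `G₂` in `D₄` -/
def foldG2 : FoldTab where
  orb a := [[0], [1], [2, 3, 6], [4, 7, 8], [5, 10, 11], [9], [14], [18, 13, 12], [15, 16, 19],
    [17, 20, 21], [22], [23]].getD a []
  own r := [0, 1, 2, 2, 3, 4, 2, 3, 3, 5, 4, 4, 7, 7, 6, 8, 8, 9, 7, 8, 9, 9, 10, 11].getD r 0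
  sg r := ([-1, -1, -1, -1, 1, 1, 1, -1, -1, 1, 1, 1, 1, 1, 1, -1, -1, 1, 1, 1, -1, -1, -1, -1] :
    List ℤ).getD r 1

/-- `F₄` in `E₆` -/
def foldF4 : FoldTab where
  orb a := [[0], [1], [2], [3, 5], [6], [8], [11], [4, 16], [7, 17], [9, 19], [12, 26], [10, 22], [13, 30],
    [14, 33], [15, 35], [18], [20], [27], [21, 23], [28, 31], [29, 34], [24], [32], [25], [46], [39], [47],
    [42, 37], [40, 43], [48, 50], [44], [51], [53], [56, 36], [38, 57], [41, 58], [49, 61], [45, 59],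
    [52, 62], [54, 64], [55, 67], [60], [63], [65], [66, 68], [69], [70], [71]].getD a []
  own r := [0, 1, 2, 3, 7, 3, 4, 8, 5, 9, 11, 6, 10, 12, 13, 14, 7, 8, 15, 9, 16, 18, 11, 18, 21, 23, 10, 17,
    19, 20, 12, 19, 22, 13, 20, 14, 33, 27, 34, 25, 28, 35, 27, 28, 30, 37, 24, 26, 29, 36, 29, 31, 38, 32,
    39, 40, 33, 34, 35, 37, 41, 36, 38, 42, 39, 43, 44, 40, 44, 45, 46, 47].getD r 0
  sg r := ([1, 1, 1, 1, 1, 1, 1, 1, 1, 1, 1, 1, 1, 1, 1, 1, -1, -1, 1, -1, 1, 1, -1, 1, -1, 1, -1, 1, 1, 1, 1,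
    -1, 1, -1, 1, 1, 1, 1, -1, 1, -1, 1, 1, 1, 1, -1, 1, -1, 1, -1, 1, 1, -1, 1, -1, -1, 1, 1, 1, 1, 1, 1, 1,
    1, 1, 1, 1, 1, 1, 1, 1, 1] : List ℤ).getD r 1

theorem foldG2_ok1 : foldG2.OK1 chevG2 chevD4 := by unfold FoldTab.OK1; decide +kernel
theorem foldG2_ok2 : foldG2.OK2 chevG2 chevD4.collS := by unfold FoldTab.OK2; decide +kernel
theorem foldG2_ok3 : foldG2.OK3 chevG2 chevD4.collS := by unfold FoldTab.OK3; decide +kernel
theorem foldF4_ok1 : foldF4.OK1 chevF4 chevE6 := by unfold FoldTab.OK1; decide +kernel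
theorem foldF4_ok2 : foldF4.OK2 chevF4 chevE6.collS := by unfold FoldTab.OK2; decide +kernel
theorem foldF4_ok3 : foldF4.OK3 chevF4 chevE6.collS := by unfold FoldTab.OK3; decide +kernel

variable (K : Type*) [Field K]

theorem exists_foldG2 [Finite K] : ∃ φ : chevG2.group K →* chevD4.group K, Function.Injective φ ∧
    ∀ (a : chevG2.Rt) t, φ (chevG2.XG K a t) = foldG2.y (chevD4.XG K) a t :=
  FoldTab.exists_hom foldG2_ok1 foldG2_ok2 foldG2_ok3
    (by rw [collS_eq slD4]; exact chevD4.rel_XG Nat.cast_zero) (chevD4.isModel_XG K) (center_stG2 K)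

theorem exists_foldF4 [Finite K] : ∃ φ : chevF4.group K →* chevE6.group K, Function.Injective φ ∧
    ∀ (a : chevF4.Rt) t, φ (chevF4.XG K a t) = foldF4.y (chevE6.XG K) a t :=
  FoldTab.exists_hom foldF4_ok1 foldF4_ok2 foldF4_ok3
    (by rw [collS_eq slE6]; exact chevE6.rel_XG Nat.cast_zero) (chevE6.isModel_XG K) (center_stF4 K)

theorem twD4_one_Fix : (twD4 (1 : RingAut K)).Fix = (twD4 (1 : RingAut K)).G1 := by
  refine Twist.Fix_eq_G1 _ fun c h2 => ⟨_, (twD4_σc_ker 1 h2).1, ?_⟩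
  change (twD4 1).σc _ = c * (twD4 1).σc ((twD4 1).σc c * c⁻¹)
  conv_rhs => rw [← (twD4_σc_ker 1 h2).2]
  rw [map_mul, mul_comm c, mul_assoc, inv_mul_cancel_right, mul_comm]

theorem twE6_one_σc (c : chevE6.Nd → Kˣ) :
    (twE6 (1 : RingAut K)).σc ((twE6 (1 : RingAut K)).σc c) = c := by
  rw [funext_iff, twE6_forall]
  exact ⟨rfl, rfl, rfl, rfl, rfl, rfl⟩

theorem twE6_one_Fix : (twE6 (1 : RingAut K)).Fix = (twE6 (1 : RingAut K)).G1 := by
  refine Twist.Fix_eq_G1 _ fun c h2 => ⟨_, pow_mem h2 2, ?_⟩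
  have h3 := twE6_ker_cube h2
  change (twE6 1).σc _ = c * _
  rw [map_mul, map_pow, map_mul, map_inv, twE6_one_σc]
  generalize (twE6 (1 : RingAut K)).σc c = d at h3 ⊢
  calc d * (c * d⁻¹) ^ 2 = d * (c * d⁻¹) ^ 2 * (d * c⁻¹) ^ 3 := by rw [h3, mul_one]
    _ = _ := by
      apply Additive.ofMul.injective
      simp only [ofMul_mul, ofMul_pow, ofMul_inv]
      module

variable {K}

/-- the fixed points of the standard triality automorphism -/
theorem exists_fix_triality [Finite K] {τ : chevD4.group K →* chevD4.group K}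
    (h1 : ∀ (i : chevD4.Nd) t, τ (chevD4.XG K (chevD4.sr i) t) = chevD4.XG K (chevD4.sr (d4Sym.π i)) t)
    (h2 : ∀ (i : chevD4.Nd) t, τ (chevD4.XG K (chevD4.ng (chevD4.sr i)) t) =
      chevD4.XG K (chevD4.ng (chevD4.sr (d4Sym.π i))) t) :
    ∃ φ : chevG2.group K →* chevD4.group K, Function.Injective φ ∧ ∀ g, τ g = g ↔ g ∈ φ.range := by
  obtain ⟨φ, hφ, h⟩ := exists_foldG2 K
  refine ⟨φ, hφ, fun g => ?_⟩
  rw [← (twD4 (1 : RingAut K)).α_eq rfl h1 h2, ← SymAut.mem_Fix_iff, twD4_one_Fix]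
  refine Twist.range_eq_of_fold _ rfl (![1, 0] : Fin 2 → Fin 2)
    (by decide : Function.Surjective (![1, 0] : Fin 2 → Fin 2)) (fun j t => ?_) (fun j t => ?_) g <;> rw [h] <;>
    fin_cases j
  · exact (FoldTab.coe_y (l := [18, 13, 12]) (by decide +kernel) t).trans
      (Eq.symm ((twD4_y 1 t).2.trans (by simp)))
  · exact (FoldTab.coe_y (l := [14]) (by decide +kernel) t).trans
      (Eq.symm ((twD4_y 1 t).1.trans (by simp)))
  · exact (FoldTab.coe_y (l := [5, 10, 11]) (by decide +kernel) t).trans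
      (Eq.symm ((twD4_ym 1 t).2.trans (by simp)))
  · exact (FoldTab.coe_y (l := [9]) (by decide +kernel) t).trans
      (Eq.symm ((twD4_ym 1 t).1.trans (by simp)))

/-- the fixed points of the standard graph automorphism of `E₆` -/
theorem exists_fix_graphE6 [Finite K] {τ : chevE6.group K →* chevE6.group K}
    (h1 : ∀ (i : chevE6.Nd) t, τ (chevE6.XG K (chevE6.sr i) t) = chevE6.XG K (chevE6.sr (e6Sym.π i)) t)
    (h2 : ∀ (i : chevE6.Nd) t, τ (chevE6.XG K (chevE6.ng (chevE6.sr i)) t) =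
      chevE6.XG K (chevE6.ng (chevE6.sr (e6Sym.π i))) t) :
    ∃ φ : chevF4.group K →* chevE6.group K, Function.Injective φ ∧ ∀ g, τ g = g ↔ g ∈ φ.range := by
  obtain ⟨φ, hφ, h⟩ := exists_foldF4 K
  refine ⟨φ, hφ, fun g => ?_⟩
  rw [← (twE6 (1 : RingAut K)).α_eq rfl h1 h2, ← SymAut.mem_Fix_iff, twE6_one_Fix]
  refine Twist.range_eq_of_fold _ rfl (![3, 2, 1, 0] : Fin 4 → Fin 4)
    (by decide : Function.Surjective (![3, 2, 1, 0] : Fin 4 → Fin 4)) (fun j t => ?_) (fun j t => ?_) g <;>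
    rw [h] <;> fin_cases j
  · exact (FoldTab.coe_y (l := [56, 36]) (by decide +kernel) t).trans
      (Eq.symm ((twE6_y 1 t).2.2.2.trans (by simp)))
  · exact (FoldTab.coe_y (l := [42, 37]) (by decide +kernel) t).trans
      (Eq.symm ((twE6_y 1 t).2.2.1.trans (by simp)))
  · exact (FoldTab.coe_y (l := [39]) (by decide +kernel) t).trans
      (Eq.symm ((twE6_y 1 t).2.1.trans (by simp)))
  · exact (FoldTab.coe_y (l := [46]) (by decide +kernel) t).trans
      (Eq.symm ((twE6_y 1 t).1.trans (by simp)))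
  · exact (FoldTab.coe_y (l := [15, 35]) (by decide +kernel) t).trans
      (Eq.symm ((twE6_ym 1 t).2.2.2.trans (by simp)))
  · exact (FoldTab.coe_y (l := [29, 34]) (by decide +kernel) t).trans
      (Eq.symm ((twE6_ym 1 t).2.2.1.trans (by simp)))
  · exact (FoldTab.coe_y (l := [32]) (by decide +kernel) t).trans
      (Eq.symm ((twE6_ym 1 t).2.1.trans (by simp)))
  · exact (FoldTab.coe_y (l := [25]) (by decide +kernel) t).trans
      (Eq.symm ((twE6_ym 1 t).1.trans (by simp)))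

end Cfsg.Agent.Chev
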