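import Mathlib
import Cfsg.Agent.Chev.FiE6c
import Cfsg.Agent.Spor.Y5.PCox

/-!
# Ten generating involutions of ²E₆(2) on the diagram `Y₃₃₃`
-/

set_option autoImplicit false

namespace Cfsg.Agent.Chev.Fi

open Cfsg.Lie Cfsg.Lie.ChevalleyDatum Cfsg.Agent.Spor Cfsg.Agent.Spor.NM Cfsg.Agent.Spor.Y5

/-- Words for the ten nodes. -/
def wY : List (List ℕ) :=
  [[0], [1, 0, 1], [11, 10, 9, 7, 4, 3, 2, 8, 3, 10, 1, 3, 2, 1, 0, 1, 2, 3, 1, 10, 3, 8, 2, 3, 4, 7,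
    9, 10, 11], [8, 6, 3, 10, 4, 2, 8, 3, 2, 0, 2, 3, 8, 2, 4, 10, 3, 6, 8], [2, 9, 8, 2, 1, 0, 1,
    2, 8, 9, 2], [10, 8, 6, 5, 2, 8, 3, 10, 2, 8, 3, 2, 1, 0, 1, 2, 3, 8, 2, 10, 3, 8, 2, 5, 6, 8,
    10], [3, 11, 9, 4, 2, 8, 3, 2, 0, 2, 3, 8, 2, 4, 9, 11, 3], [10, 4, 2, 8, 2, 1, 0, 1, 2, 8, 2,
    4, 10], [5, 9, 11, 5, 2, 8, 6, 3, 10, 2, 8, 3, 2, 1, 0, 1, 2, 3, 8, 2, 10, 3, 6, 8, 2, 5, 11, 9,
    5], [4, 8, 3, 10, 4, 2, 8, 3, 2, 0, 2, 3, 8, 2, 4, 10, 3, 8, 4]]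

/-- Words for sixteen root elements, each in the nodes and the earlier root elements. -/
def wG : List (List ℕ) :=
  [[0], [1, 0, 1], [5, 4, 2, 1, 0, 1, 2, 4, 5, 2, 1, 0, 7, 8, 9, 4, 0, 7, 8, 1, 0, 7, 6, 5, 4, 2, 1,
    0, 1, 2, 4, 5, 6, 7, 0, 1, 8, 7, 0, 4, 9, 8, 7, 0, 1, 2], [5, 4, 2, 1, 0, 1, 2, 0, 7, 8, 9, 1,
    0, 7, 8, 4, 0, 7, 5, 4, 3, 2, 1, 0, 1, 2, 3, 4, 5, 7, 0, 4, 8, 7, 0, 1, 9, 8, 7, 0, 4, 5], [5,
    6, 5, 13, 7, 2, 1, 0, 1, 2, 7, 13, 5, 6, 5, 7, 5, 2, 13, 3, 12, 7, 0, 7, 12, 3, 13, 2, 5, 7],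
    [2, 3, 2, 12, 7, 5, 4, 0, 4, 5, 7, 12, 2, 3, 2, 5, 2, 12, 7, 13, 3, 12, 7, 0, 7, 12, 3, 13, 7,
    12, 2, 5], [8, 15, 14, 4, 3, 2, 1, 0, 1, 2, 3, 4, 14, 15, 8, 15, 8, 15, 3, 12, 4, 2, 1, 0, 1, 2,
    4, 12, 3, 15, 8, 15], [14, 5, 15, 8, 7, 2, 1, 0, 1, 2, 7, 8, 15, 5, 14, 15, 8, 15, 3, 12, 4, 2,
    1, 0, 1, 2, 4, 12, 3, 15, 8, 15], [5, 14, 8, 15, 7, 2, 1, 0, 1, 2, 7, 15, 8, 14, 5, 3, 14, 7,
    11, 8, 7, 4, 0, 4, 7, 8, 11, 7, 14, 3], [3, 14, 7, 11, 8, 7, 4, 0, 4, 7, 8, 11, 7, 14, 3, 13, 3,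
    14, 7, 8, 0, 7, 0, 7, 0, 8, 7, 14, 3, 13], [8, 7, 14, 0, 7, 8, 7, 14, 7, 1, 0, 1, 7, 14, 7, 8,
    7, 0, 14, 7, 8], [7, 1, 2, 14, 8, 14, 2, 15, 4, 14, 7, 0, 7, 14, 4, 15, 2, 14, 8, 14, 2, 1, 7],
    [16, 17], [12, 13], [14, 15], [18, 19]]

/-- The product of two root elements with the parameters `ω ^ 2`, `ω`. -/
noncomputable def xp (r s : ℕ) : ℕ := mulW 78 (xc r 257 256) (xc s 256 257)

/-- The codes of the nodes and of the root elements. -/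
noncomputable def tbF (x : ℕ) : ℕ :=
  if x < 10 then wE (wY.getD x []) else if x < 22 then gE ([0, 1, 6, 7, 8, 9, 4, 5, 10, 11, 2, 3].getD (x - 10) 0)
  else xp ([56, 15, 42, 29].getD (x - 22) 0) ([36, 35, 37, 34].getD (x - 22) 0)

/-- The list of codes. -/
noncomputable def tbL : List ℕ := (List.range 26).map tbF

/-- The table of codes. -/
noncomputable def tbY (x : ℕ) : ℕ := tbL.getD x 0

theorem tbY_eq {x : ℕ} (hx : x < 26) : tbY x = tbF x := by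
  simp [tbY, tbL, List.getD_eq_getElem?_getD, hx]

/-- The word is trivial. -/
noncomputable def trW (g : ℕ → ℕ) (w : List ℕ) (k : ℕ) : Bool :=
  force (evN (mulW 78) (oneN 24 78) g w) fun a => Nat.beq (powN (mulW 78) (oneN 24 78) a k) (oneN 24 78)

/-- The relations of the diagram. -/
noncomputable def relY (g : ℕ → ℕ) : Bool :=
  band (allLt 10 fun i => band (Nat.beq (mulW 78 (g i) (g i)) (oneN 24 78)) (allLt i fun j =>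
    force (mulW 78 (g i) (g j)) fun a => force (mulW 78 (g j) (g i)) fun b =>
      cond (edY i j) (Nat.beq (mulW 78 a (g i)) (mulW 78 b (g j))) (Nat.beq a b))) <|
  band (trW g spW 10) <| band (trW g [0, 7, 1, 4, 8, 2, 9] 9) <|
    band (trW g [0, 1, 4, 7, 2, 5, 3] 9) (trW g [0, 4, 1, 7, 5, 2, 6] 9)

/-- The root elements are words in the nodes. -/
noncomputable def genY (g : ℕ → ℕ) : Bool :=
  allLt 16 fun j => band (lettersLt (10 + j) (wG.getD j [])) <|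
    Nat.beq (evN (mulW 78) (oneN 24 78) g (wG.getD j [])) (g (10 + j))

theorem relY_ok : forceL tbL (fun l => relY fun x => l.getD x 0) = true := by decide +kernel

theorem genY_ok : forceL tbL (fun l => genY fun x => l.getD x 0) = true := by decide +kernel

end Cfsg.Agent.Chev.Fi
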