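import Mathlib
import Cfsg.Agent.Chev.BNSteinberg
import Cfsg.Agent.Blk.GroupAlg

/-!
The Hecke algebra of a finite group with a (B,N)-pair, and the rationality of the Schur element
of a representation with scalar commutant.
-/

set_option autoImplicit false

namespace Cfsg.Agent.Chev

open CoxeterSystem Finset

section

variable {B W : Type*} [Group W] {M : CoxeterMatrix B} (cs : CoxeterSystem M W)
  {k A : Type*} [CommRing k] [Ring A] [Algebra k A]

/-- The family `t` satisfies the relations of the standard basis of the Hecke algebra. -/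
structure IsHecke (q : B → k) (t : W → A) : Prop where
  one_mul : ∀ w, t 1 * t w = t w
  mul_of_not : ∀ i w, ¬ cs.IsLeftDescent w i → t (cs.simple i) * t w = t (cs.simple i * w)
  sq : ∀ i, t (cs.simple i) * t (cs.simple i) = q i • t 1 + (q i - 1) • t (cs.simple i)

variable {cs} {q : B → k} {t : W → A}

theorem IsHecke.mul_of (h : IsHecke cs q t) {i : B} {w : W} (hw : cs.IsLeftDescent w i) :
    t (cs.simple i) * t w = q i • t (cs.simple i * w) + (q i - 1) • t w := by
  have h1 := h.mul_of_not i _ (cs.isLeftDescent_iff_not_isLeftDescent_mul.1 hw)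
  rw [simple_mul_simple_cancel_left] at h1
  conv_lhs => rw [← h1, ← mul_assoc, h.sq]
  rw [add_mul, smul_mul_assoc, smul_mul_assoc, h.one_mul, h1]

theorem IsHecke.mul_one (h : IsHecke cs q t) (w : W) : t w * t 1 = t w := by
  induction w using length_induction_left cs with
  | one => exact h.one_mul 1
  | step w i hw ih => rw [← h.mul_of_not i w hw, mul_assoc, ih]

theorem IsHecke.mul_mem_span (h : IsHecke cs q t) {x y : A}
    (hx : x ∈ Submodule.span k (Set.range t)) (hy : y ∈ Submodule.span k (Set.range t)) :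
    x * y ∈ Submodule.span k (Set.range t) := by
  have h1 : ∀ a : A, (∀ w, a * t w ∈ Submodule.span k (Set.range t)) →
      ∀ y ∈ Submodule.span k (Set.range t), a * y ∈ Submodule.span k (Set.range t) :=
    fun a ha y hy => Submodule.span_le (p := (Submodule.span k (Set.range t)).comap
      (LinearMap.mulLeft k a)).2 (by rintro _ ⟨w, rfl⟩; exact ha w) hy
  have h0 : ∀ w, t w ∈ Submodule.span k (Set.range t) := fun w => Submodule.subset_span ⟨w, rfl⟩
  have h2 : ∀ w, ∀ y ∈ Submodule.span k (Set.range t),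
      t w * y ∈ Submodule.span k (Set.range t) := by
    intro w
    induction w using length_induction_left cs with
    | one => exact h1 _ fun w => (h.one_mul w).symm ▸ h0 w
    | step w i hw ih =>
      intro y hy
      rw [← h.mul_of_not i w hw, mul_assoc]
      refine h1 _ (fun v => ?_) _ (ih y hy)
      by_cases hv : cs.IsLeftDescent v i
      · rw [h.mul_of hv]
        exact add_mem (Submodule.smul_mem _ _ (h0 _)) (Submodule.smul_mem _ _ (h0 _))
      · rw [h.mul_of_not i v hv]
        exact h0 _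
  exact Submodule.span_le (p := (Submodule.span k (Set.range t)).comap
    (LinearMap.mulRight k y)).2 (by rintro _ ⟨w, rfl⟩; exact h2 w y hy) hx

theorem IsHecke.prod {A' : Type*} [Ring A'] [Algebra k A'] {t' : W → A'} (h : IsHecke cs q t)
    (h' : IsHecke cs q t') : IsHecke cs q fun w => (t w, t' w) :=
  ⟨fun w => Prod.ext (h.one_mul w) (h'.one_mul w),
    fun i w hw => Prod.ext (h.mul_of_not i w hw) (h'.mul_of_not i w hw),
    fun i => Prod.ext (h.sq i) (h'.sq i)⟩

theorem IsHecke.wordProd (h : IsHecke cs q t) {l : List B} (hl : cs.IsReduced l) :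
    (l.map fun i => t (cs.simple i)).prod * t 1 = t (cs.wordProd l) := by
  induction l with
  | nil => simp
  | cons i l ih =>
    obtain ⟨h1, h2⟩ := (isReduced_cons_iff cs).1 hl
    rw [List.map_cons, List.prod_cons, mul_assoc, ih h1, h.mul_of_not i _ h2, wordProd_cons]

theorem exists_isHecke (r : B → A) (hq : ∀ i, r i * r i = q i • (1 : A) + (q i - 1) • r i)
    (hr : ∀ a b, orderOf (cs.simple a * cs.simple b) ≠ 0 →
      ((altWord a b (orderOf (cs.simple a * cs.simple b))).map r).prod =
        ((altWord b a (orderOf (cs.simple a * cs.simple b))).map r).prod) :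
    ∃ t : W → A, IsHecke cs q t ∧
      ∀ l, cs.IsReduced l → t (cs.wordProd l) = (l.map r).prod := by
  choose f hf hf' using cs.exists_isReduced
  have h1 : ∀ l, cs.IsReduced l → ((f (cs.wordProd l)).map r).prod = (l.map r).prod :=
    fun l hl => matsumoto cs r hr (hf _) hl (hf' _).symm
  have h2 : ((f 1).map r).prod = 1 := by simpa using h1 [] (isReduced_nil cs)
  have h3 : ∀ i, ((f (cs.simple i)).map r).prod = r i := fun i => by
    simpa using h1 [i] (by simp [CoxeterSystem.IsReduced])
  refine ⟨fun w => ((f w).map r).prod, ⟨fun w => by rw [h2, _root_.one_mul], fun i w hw => ?_,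
    fun i => by rw [h2, h3, hq]⟩, h1⟩
  have := h1 (i :: f w) ((isReduced_cons_iff cs).2 ⟨hf w, by rwa [← hf']⟩)
  rw [wordProd_cons, ← hf'] at this
  rw [this, h3, List.map_cons, List.prod_cons]

end

theorem exists_trace_eq_of_mul_self {n : Type*} [Fintype n] [DecidableEq n] {A : Matrix n n ℂ}
    {c : ℂ} (h : A * A = c • A) : ∃ r : ℕ, A.trace = c * r := by
  by_cases hc : c = 0
  · refine ⟨0, ?_⟩
    rw [hc, zero_smul] at h
    rw [hc, zero_mul]
    exact (Matrix.isNilpotent_trace_of_isNilpotent ⟨2, by rw [sq, h]⟩).eq_zero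
  · have h1 : IsIdempotentElem (Matrix.toLin' (c⁻¹ • A)) := by
      rw [IsIdempotentElem, Module.End.mul_eq_comp, ← Matrix.toLin'_mul, smul_mul_smul_comm, h,
        smul_smul, inv_mul_cancel_right₀ hc]
    have h2 := (LinearMap.IsIdempotentElem.isProj_range _ h1).trace
    rw [Matrix.trace_toLin'_eq, Matrix.trace_smul, smul_eq_mul, inv_mul_eq_iff_eq_mul₀ hc] at h2
    exact ⟨_, h2⟩

theorem coeff_one_mul_comm {G : Type*} [Group G] [Finite G] (x y : MonoidAlgebra ℂ G) :
    (x * y).coeff 1 = (y * x).coeff 1 := by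
  have := Fintype.ofFinite G
  rw [Blk.coeff_mul_sum, Blk.coeff_mul_sum']
  simp [mul_comm]

/-- The Schur element of a representation of the Hecke algebra with scalar commutant. -/
theorem exists_schur_mul_eq {B W : Type*} [Group W] [Fintype W] {M : CoxeterMatrix B}
    {cs : CoxeterSystem M W} {G : Type*} [Group G] [Finite G] {q : B → ℂ}
    {t : W → MonoidAlgebra ℂ G} (ht : IsHecke cs q t) {Q : W → ℂ} (hQ : ∀ w, Q w ≠ 0) {b : ℂ}
    (hb : b ≠ 0) (hτ : ∀ w, (t w * t w⁻¹).coeff 1 = b * Q w)
    (hτ' : ∀ w v, v ≠ w⁻¹ → (t w * t v).coeff 1 = 0) {n : Type*} [Fintype n] [DecidableEq n]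
    {r : W → Matrix n n ℂ} (hr : IsHecke cs q r) (hr1 : r 1 = 1)
    (hs : ∀ X : Matrix n n ℂ, (∀ i, X * r (cs.simple i) = r (cs.simple i) * X) →
      ∃ c : ℂ, X = c • 1) :
    ∃ m : ℕ, (∑ w, (Q w)⁻¹ * (r w⁻¹).trace * (r w).trace) * m =
      Fintype.card n * Fintype.card n * (Nat.card G * b) := by
  classical
  have := Fintype.ofFinite G
  have hu := ht.prod hr
  set u := fun w => (t w, r w) with hu'
  have h0 : ∀ w, u w ∈ Submodule.span ℂ (Set.range u) := fun w => Submodule.subset_span ⟨w, rfl⟩
  set z := ∑ w, ((Q w)⁻¹ * (r w⁻¹).trace) • u w with hz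
  have hzS : z ∈ Submodule.span ℂ (Set.range u) :=
    Submodule.sum_mem _ fun w _ => Submodule.smul_mem _ _ (h0 w)
  have h1 : ∀ (a : W → ℂ) v, ((∑ w, a w • u w).1 * t v).coeff 1 = a v⁻¹ * (b * Q v⁻¹) := by
    intro a v
    rw [Prod.fst_sum, sum_mul, Blk.coeff_sum_apply, sum_eq_single v⁻¹ _ (by simp)]
    · rw [Prod.smul_fst, smul_mul_assoc, Blk.coeff_smul_eq, ← hτ, inv_inv]
    · intro w _ hw
      rw [Prod.smul_fst, smul_mul_assoc, Blk.coeff_smul_eq, hτ' _ _ fun h => hw (by simp [h]),
        mul_zero]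
  have h2 : ∀ y ∈ Submodule.span ℂ (Set.range u), (z.1 * y.1).coeff 1 = b * y.2.trace := by
    intro y hy
    induction hy using Submodule.span_induction with
    | mem x hx =>
      obtain ⟨v, rfl⟩ := hx
      rw [hz, h1, inv_inv]
      have := hQ v⁻¹
      field_simp
      rfl
    | zero => simp
    | add x y _ _ hx hy =>
      rw [Prod.fst_add, mul_add, Blk.coeff_add_apply, hx, hy, Prod.snd_add, Matrix.trace_add,
        mul_add]
    | smul c x _ hx =>
      rw [Prod.smul_fst, mul_smul_comm, Blk.coeff_smul_eq, hx, Prod.smul_snd, Matrix.trace_smul,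
        smul_eq_mul, mul_left_comm]
  have h3 : ∀ y ∈ Submodule.span ℂ (Set.range u), (∀ v, (y.1 * t v).coeff 1 = 0) → y = 0 := by
    intro y hy h
    obtain ⟨a, rfl⟩ := (Submodule.mem_span_range_iff_exists_fun ℂ).1 hy
    refine sum_eq_zero fun w _ => ?_
    have := h w⁻¹
    rw [h1, inv_inv] at this
    rw [(mul_eq_zero.1 this).resolve_right (mul_ne_zero hb (hQ w)), zero_smul]
  obtain ⟨c, hc⟩ := hs z.2 fun i => by
    have := h3 (z * u (cs.simple i) - u (cs.simple i) * z)
      (sub_mem (hu.mul_mem_span hzS (h0 _)) (hu.mul_mem_span (h0 _) hzS)) fun v => by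
        have e1 := h2 _ (hu.mul_mem_span (h0 (cs.simple i)) (h0 v))
        have e2 := h2 _ (hu.mul_mem_span (h0 v) (h0 (cs.simple i)))
        rw [Prod.fst_sub, sub_mul, Blk.coeff_sub_apply, Prod.fst_mul, Prod.fst_mul, mul_assoc,
          mul_assoc, coeff_one_mul_comm (u _).1, mul_assoc]
        rw [Prod.fst_mul, Prod.snd_mul] at e1 e2
        rw [e1, e2, Matrix.trace_mul_comm, sub_self]
    exact sub_eq_zero.1 (congrArg Prod.snd this)
  have h4 := h3 (z * z - c • z) (sub_mem (hu.mul_mem_span hzS hzS) (Submodule.smul_mem _ _ hzS))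
    fun v => by
      have e1 := h2 _ (hu.mul_mem_span hzS (h0 v))
      have e2 := h2 _ (h0 v)
      rw [Prod.fst_mul, Prod.snd_mul, hc] at e1
      rw [Prod.fst_sub, sub_mul, Blk.coeff_sub_apply, Prod.fst_mul, mul_assoc, e1, Prod.smul_fst,
        smul_mul_assoc c z.1, Blk.coeff_smul_eq, e2]
      simp [mul_left_comm]
  have h5 : z.1 * z.1 = c • z.1 := sub_eq_zero.1 (congrArg Prod.fst h4)
  obtain ⟨m, hm⟩ := exists_trace_eq_of_mul_self (A := Blk.regMat z.1) (c := c) (by
    rw [← map_mul, h5]; ext; simp)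
  have h6 : z.1 * t 1 = z.1 := by
    simp only [hz, Prod.fst_sum, sum_mul, Prod.smul_fst, smul_mul_assoc, hu', ht.mul_one]
  have h7 := h2 _ (h0 1)
  rw [h6, show (u 1).2 = 1 from hr1, Matrix.trace_one] at h7
  have h8 : (Blk.regMat z.1).trace = Nat.card G * z.1.coeff 1 := by simp [Matrix.trace]
  have h9 : ∑ w, (Q w)⁻¹ * (r w⁻¹).trace * (r w).trace = c * Fintype.card n := by
    rw [← Matrix.trace_one, ← smul_eq_mul, ← Matrix.trace_smul, ← hc, hz, Prod.snd_sum,
      Matrix.trace_sum]
    simp [hu']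
  refine ⟨m, ?_⟩
  rw [h9, mul_right_comm, ← hm, h8, h7]
  ring

end Cfsg.Agent.Chev

namespace Cfsg.BNPair

open Cfsg.Agent Cfsg.Agent.Chev Finset

variable {G : Type*} [Group G] [Fintype G] (P : BNPair G)

open Classical in
/-- The standard basis element `T_w` of the Hecke algebra. -/
noncomputable def hk (w : P.W) : MonoidAlgebra ℂ G :=
  Blk.ofFun fun g => if P.cellOf g = w then (Nat.card P.B : ℂ)⁻¹ else 0

open Classical in
/-- The number of elements of a Bruhat cell. -/
noncomputable def ncell (w : P.W) : ℕ := #{g | P.cellOf g = w}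

/-- The index parameter `|B w B| / |B|`. -/
noncomputable def cq (w : P.W) : ℂ := P.ncell w / Nat.card P.B

variable {P}

open Classical in
theorem coeff_hk (w : P.W) (g : G) :
    (P.hk w).coeff g = if P.cellOf g = w then (Nat.card P.B : ℂ)⁻¹ else 0 := rfl

open Classical in
theorem coeff_hk_mul (w v : P.W) (z : G) : (P.hk w * P.hk v).coeff z =
    (#{x | P.cellOf x = w ∧ P.cellOf (x⁻¹ * z) = v} : ℂ) * (Nat.card P.B : ℂ)⁻¹ *
      (Nat.card P.B : ℂ)⁻¹ := by
  rw [Blk.coeff_mul_sum, ← sum_boole, sum_mul, sum_mul]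
  refine sum_congr rfl fun x _ => ?_
  simp only [coeff_hk, ite_and]
  split_ifs <;> simp

open Classical in
theorem card_coset (y : G) : #{x | y⁻¹ * x ∈ P.B} = Nat.card P.B := by
  rw [Nat.card_eq_fintype_card, Fintype.card_subtype]
  exact card_bij (fun x _ => y⁻¹ * x) (by simp) (by simp) fun b hb =>
    ⟨y * b, by simpa using hb, by simp⟩

theorem ncell_one : P.ncell 1 = Nat.card P.B := by
  classical
  rw [← card_coset 1, ncell]
  simp [cellOf_eq_one_iff]

theorem ncell_pos (w : P.W) : 0 < P.ncell w := by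
  classical
  obtain ⟨g, hg⟩ := P.cell_nonempty w
  exact card_pos.2 ⟨g, by simpa using cellOf_eq_iff.2 hg⟩

theorem cq_ne_zero (w : P.W) : P.cq w ≠ 0 :=
  div_ne_zero (Nat.cast_ne_zero.2 (ncell_pos w).ne') (natCard_subgroup_ne_zero _)

theorem cq_one : P.cq 1 = 1 := by
  rw [cq, ncell_one, div_self (natCard_subgroup_ne_zero _)]

theorem card_lt_ncell (s : P.S) : Nat.card P.B < P.ncell (P.simple s) := by
  classical
  rw [← card_coset (s : G), ncell]
  obtain ⟨b, hb, h⟩ := P.exists_conj_not_mem s
  refine card_lt_card ⟨fun x hx => ?_, fun h1 => h ?_⟩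
  · simp only [mem_filter, mem_univ, true_and] at hx ⊢
    rw [← mul_inv_cancel_left (s : G) x, cellOf_mul_right hx]
    exact cellOf_eq_iff.2 (coe_mem_cell_simple s)
  · have := h1 (x := b * s) (by
      simpa [cellOf_mul_left hb] using cellOf_eq_iff.2 (coe_mem_cell_simple s))
    simpa [mul_assoc] using mul_mem (P.sq_mem s s.2) (mem_filter.1 this).2

theorem isHecke_hk : IsHecke P.cs (fun s => P.cq (P.simple s)) P.hk := by
  classical
  have hB := natCard_subgroup_ne_zero P.B
  refine ⟨fun w => Blk.ext_coeff fun z => ?_, fun i w hw => Blk.ext_coeff fun z => ?_,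
    fun i => Blk.ext_coeff fun z => ?_⟩
  · rw [coeff_hk_mul, coeff_hk]
    split_ifs with h
    · rw [filter_congr (q := fun x => (1 : G)⁻¹ * x ∈ P.B) fun x _ => by
        simp only [cellOf_eq_one_iff, inv_one, one_mul, and_iff_left_iff_imp]
        exact fun hx => by rwa [cellOf_mul_left (inv_mem hx)], card_coset, mul_inv_cancel₀ hB,
        one_mul]
    · rw [filter_false_of_mem fun x _ hx => h (by
        rw [← hx.2, cellOf_mul_left (inv_mem (cellOf_eq_one_iff.1 hx.1))])]
      simp
  · rw [coeff_hk_mul, coeff_hk, cs_simple]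
    split_ifs with h
    · obtain ⟨n, rfl⟩ := P.toW_surjective w
      obtain ⟨b, hb, b', hb', rfl⟩ := (mem_cell_iff (n := P.repN i * n) (by
        rw [map_mul, toW_repN])).1 (cellOf_eq_iff.1 h)
      have h1 : P.cellOf (b * i) = P.simple i := by
        rw [cellOf_mul_left hb]; exact cellOf_eq_iff.2 (coe_mem_cell_simple i)
      have h2 : (b * i)⁻¹ * (b * (P.repN i * n : P.N) * b') = n * b' := by simp [mul_assoc]
      rw [filter_congr (q := fun x => (b * i)⁻¹ * x ∈ P.B) fun x _ => ⟨fun hx => ?_, fun hx => ?_⟩,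
        card_coset, mul_inv_cancel₀ hB, one_mul]
      · rcases simple_mul_mem_or (P.inv_simple i ▸ inv_mem_cell (cellOf_eq_iff.1 h1))
          (cellOf_eq_iff.1 hx.1) with h3 | h3
        · rwa [simple_mul_self, mem_cell_one] at h3
        · have h4 := simple_mul_mem hw h3 (cellOf_eq_iff.1 hx.2)
          rw [mul_assoc, mul_inv_cancel_left, h2, mem_cell_mul_iff hb', coe_mem_cell_iff] at h4
          exact absurd h4.symm (P.simple_mul_ne i _)
      · constructor
        · rw [← mul_inv_cancel_left (b * i) x, cellOf_mul_right hx, h1]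
        · rw [← cellOf_mul_left hx, mul_assoc, mul_inv_cancel_left, h2, cellOf_mul_right hb',
            cellOf_coe]
    · rw [filter_false_of_mem fun x _ hx => h (by
        simpa using cellOf_eq_iff.2 (simple_mul_mem hw (cellOf_eq_iff.1 hx.1)
          (cellOf_eq_iff.1 hx.2)))]
      simp
  · rw [coeff_hk_mul, Blk.coeff_add_apply, Blk.coeff_smul_eq, Blk.coeff_smul_eq, coeff_hk,
      coeff_hk, cs_simple, cq]
    by_cases h1 : P.cellOf z = 1
    · rw [if_pos h1, if_neg (h1 ▸ (P.simple_ne_one i).symm), mul_zero, add_zero,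
        filter_congr (q := fun x => P.cellOf x = P.simple i) fun x _ => by
          rw [cellOf_mul_right (cellOf_eq_one_iff.1 h1), cellOf_inv, and_iff_left_iff_imp]
          exact fun h => by rw [h, inv_simple], div_eq_mul_inv]
      rfl
    · rw [if_neg h1, mul_zero, zero_add]
      split_ifs with h2
      · have h3 := card_filter_add_card_filter_not (s := univ.filter fun x =>
          P.cellOf x = P.simple i) fun x => P.cellOf (x⁻¹ * z) = P.simple i
        rw [filter_filter, filter_filter, filter_congr (p := fun x => _ ∧ ¬ _)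
          (q := fun x => z⁻¹ * x ∈ P.B) fun x _ => ⟨fun hx => ?_, fun hx => ?_⟩, card_coset] at h3
        · rw [ncell, ← h3]
          push_cast
          field_simp
          ring
        · rcases simple_mul_mem_or (P.inv_simple i ▸ inv_mem_cell (cellOf_eq_iff.1 hx.1))
            (cellOf_eq_iff.1 h2) with h3 | h3
          · rw [simple_mul_self, mem_cell_one] at h3
            simpa using inv_mem h3
          · exact absurd (cellOf_eq_iff.2 h3) hx.2
        · constructor
          · rw [← mul_inv_cancel_left z x, cellOf_mul_right hx, h2]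
          · rw [cellOf_eq_one_iff.2 (by simpa using inv_mem hx)]
            exact (P.simple_ne_one i).symm
      · rw [filter_false_of_mem fun x _ hx => by
          rcases simple_mul_mem_or (cellOf_eq_iff.1 hx.1) (cellOf_eq_iff.1 hx.2) with h3 | h3
          · rw [simple_mul_self, mul_inv_cancel_left] at h3
            exact h1 (cellOf_eq_iff.2 h3)
          · rw [mul_inv_cancel_left] at h3
            exact h2 (cellOf_eq_iff.2 h3)]
        simp

theorem coeff_one_hk_mul_inv (w : P.W) :
    (P.hk w * P.hk w⁻¹).coeff 1 = (Nat.card P.B : ℂ)⁻¹ * P.cq w := by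
  classical
  rw [coeff_hk_mul, filter_congr (q := fun x => P.cellOf x = w) fun x _ => by
    simp [cellOf_inv], cq, ncell]
  ring

theorem coeff_one_hk_mul {w v : P.W} (h : v ≠ w⁻¹) : (P.hk w * P.hk v).coeff 1 = 0 := by
  classical
  rw [coeff_hk_mul, filter_false_of_mem fun x _ hx => h (by
    rw [← hx.2, mul_one, cellOf_inv, hx.1])]
  simp

theorem cq_simple_mul {i : P.S} {w : P.W} (h : ¬ P.cs.IsLeftDescent w i) :
    P.cq (P.simple i * w) = P.cq (P.simple i) * P.cq w := by
  classical
  have h1 : ∀ w, MonoidAlgebra.lift ℂ ℂ G 1 (P.hk w) = P.cq w := fun w => by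
    rw [Blk.eq_sum_single (P.hk w), map_sum, cq, ncell, ← sum_boole, sum_div]
    refine sum_congr rfl fun g _ => ?_
    rw [coeff_hk]
    split_ifs <;> simp
  rw [← h1, ← h1, ← h1, ← map_mul, ← cs_simple, isHecke_hk.mul_of_not i w h]

theorem cq_wordProd {l : List P.S} (hl : P.cs.IsReduced l) :
    P.cq (P.cs.wordProd l) = (l.map fun s => P.cq (P.simple s)).prod := by
  induction l with
  | nil => simpa using cq_one
  | cons i l ih =>
    obtain ⟨h1, h2⟩ := (isReduced_cons_iff P.cs).1 hl
    rw [CoxeterSystem.wordProd_cons, cs_simple, cq_simple_mul h2, ih h1, List.map_cons,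
      List.prod_cons]

end Cfsg.BNPair
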