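import Mathlib
import Cfsg.Agent.Chev.BNHecke
import Cfsg.Agent.Chev.CoxPoincTw

/-!
Two-dimensional representations of dihedral Hecke algebras and the Feit–Higman theorem.
-/

set_option autoImplicit false

namespace Cfsg.Agent.Chev.FH

open CoxeterSystem Finset Matrix

theorem prod_altWord_even {B X : Type*} [Monoid X] (f : B → X) (a b : B) (j : ℕ) :
    ((altWord a b (2 * j)).map f).prod = (f a * f b) ^ j := by
  induction j with
  | zero => simp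
  | succ j ih =>
    simp only [show 2 * (j + 1) = 2 * j + 1 + 1 by ring, altWord_succ, List.map_cons,
      List.prod_cons, ih, pow_succ', mul_assoc]

theorem prod_altWord_odd {B X : Type*} [Monoid X] (f : B → X) (a b : B) (j : ℕ) :
    ((altWord a b (2 * j + 1)).map f).prod = (f a * f b) ^ j * f a := by
  rw [altWord_succ, List.map_cons, List.prod_cons, prod_altWord_even, mul_pow_mul]

theorem altWord_even_concat {B : Type*} (a b : B) (j : ℕ) :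
    altWord a b (2 * j) ++ [a] = a :: altWord b a (2 * j) := by
  induction j with
  | zero => simp
  | succ j ih =>
    simp only [show 2 * (j + 1) = 2 * j + 1 + 1 by ring, altWord_succ, List.cons_append, ih]

theorem reverse_altWord_even {B : Type*} (a b : B) (j : ℕ) :
    (altWord a b (2 * j)).reverse = altWord b a (2 * j) := by
  induction j with
  | zero => simp
  | succ j ih =>
    simp only [show 2 * (j + 1) = 2 * j + 1 + 1 by ring, altWord_succ, List.reverse_cons, ih,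
      altWord_even_concat, List.cons_append]

theorem reverse_altWord_odd {B : Type*} (a b : B) (j : ℕ) :
    (altWord a b (2 * j + 1)).reverse = altWord a b (2 * j + 1) := by
  rw [altWord_succ, List.reverse_cons, reverse_altWord_even, altWord_even_concat]

theorem pow_eq_of_quad {A : Type*} [Ring A] [Algebra ℂ A] {x E : A} {a b : ℂ}
    (h1 : x * E = a • E) (h2 : x * (1 - E) = b • (1 - E)) (j : ℕ) :
    x ^ j = a ^ j • E + b ^ j • (1 - E) := by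
  induction j with
  | zero => simp
  | succ j ih => rw [pow_succ', ih, mul_add, mul_smul_comm, mul_smul_comm, h1, h2, smul_smul,
      smul_smul, pow_succ, pow_succ]

/-- The generators of the two-dimensional representation. -/
noncomputable def rm (σ τ ξ : ℂ) : Fin 2 → Matrix (Fin 2) (Fin 2) ℂ :=
  ![!![σ, 1; 0, -1], !![-1, 0; ξ + σ + τ, τ]]

theorem rm_sq (σ τ ξ : ℂ) (i : Fin 2) : rm σ τ ξ i * rm σ τ ξ i =
    ![σ, τ] i • (1 : Matrix (Fin 2) (Fin 2) ℂ) + (![σ, τ] i - 1) • rm σ τ ξ i := by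
  fin_cases i <;> ext a b <;> fin_cases a <;> fin_cases b <;>
    simp [rm, Matrix.mul_apply, Fin.sum_univ_two] <;> ring

theorem rm_schur {σ τ : ℂ} (ξ : ℂ) (hτ : τ + 1 ≠ 0) (X : Matrix (Fin 2) (Fin 2) ℂ)
    (h : ∀ i, X * rm σ τ ξ i = rm σ τ ξ i * X) : ∃ c : ℂ, X = c • 1 := by
  have h1 := congrFun₂ (h 0) 0 0
  have h2 := congrFun₂ (h 0) 0 1
  have h3 := congrFun₂ (h 1) 0 1
  simp [rm, Matrix.mul_apply, Fin.sum_univ_two] at h1 h2 h3
  have h4 : X 1 0 = 0 := by linear_combination -h1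
  have h5 : X 0 1 = 0 := (mul_eq_zero.1 (show X 0 1 * (τ + 1) = 0 by
    linear_combination h3)).resolve_right hτ
  refine ⟨X 0 0, ?_⟩
  ext a b
  fin_cases a <;> fin_cases b <;> simp [h4, h5]
  linear_combination -h2 - (σ + 1) * h5

section

variable {σ τ ρ ζ : ℂ} (hρ : ρ ^ 2 = σ * τ) (hσ : σ ≠ 0) (hτ : τ ≠ 0) (hζ : ζ ≠ 0)
  (hζ2 : ζ ^ 2 - 1 ≠ 0)
include hρ hσ hτ hζ hζ2

theorem rm_pow (a b : Fin 2) (hab : a ≠ b) (j : ℕ) :
    (rm σ τ (ρ * (ζ + ζ⁻¹)) a * rm σ τ (ρ * (ζ + ζ⁻¹)) b) ^ j =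
      (ρ * ζ) ^ j • ((ζ / (ρ * (ζ ^ 2 - 1))) •
        (rm σ τ (ρ * (ζ + ζ⁻¹)) a * rm σ τ (ρ * (ζ + ζ⁻¹)) b - (ρ * ζ⁻¹) • 1)) +
      (ρ * ζ⁻¹) ^ j • (1 - (ζ / (ρ * (ζ ^ 2 - 1))) •
        (rm σ τ (ρ * (ζ + ζ⁻¹)) a * rm σ τ (ρ * (ζ + ζ⁻¹)) b - (ρ * ζ⁻¹) • 1)) := by
  have hρ0 : ρ ≠ 0 := fun h => mul_ne_zero hσ hτ (by rw [← hρ, h]; simp)
  obtain rfl : σ = ρ ^ 2 / τ := by rw [hρ]; field_simp
  apply pow_eq_of_quad <;> fin_cases a <;> fin_cases b <;> simp only [ne_eq, not_true] at hab <;>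
    ext i j <;> fin_cases i <;> fin_cases j <;>
    simp [rm, Matrix.mul_apply, Fin.sum_univ_two] <;> field_simp <;> ring

theorem trace_rm_pow (a b : Fin 2) (hab : a ≠ b) (j : ℕ) :
    ((rm σ τ (ρ * (ζ + ζ⁻¹)) a * rm σ τ (ρ * (ζ + ζ⁻¹)) b) ^ j).trace =
      ρ ^ j * (ζ ^ j + (ζ ^ j)⁻¹) := by
  rw [rm_pow hρ hσ hτ hζ hζ2 a b hab, mul_pow, mul_pow, inv_pow]
  have hρ0 : ρ ≠ 0 := fun h => mul_ne_zero hσ hτ (by rw [← hρ, h]; simp)
  have := pow_ne_zero j hζ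
  generalize ρ ^ j = x, ζ ^ j = y at *
  fin_cases a <;> fin_cases b <;> simp only [ne_eq, not_true] at hab <;>
    simp [rm, Matrix.trace_fin_two] <;> field_simp <;> ring

theorem trace_rm_pow_mul_zero (j : ℕ) :
    ((rm σ τ (ρ * (ζ + ζ⁻¹)) 0 * rm σ τ (ρ * (ζ + ζ⁻¹)) 1) ^ j *
      rm σ τ (ρ * (ζ + ζ⁻¹)) 0).trace =
      ρ ^ j * (((σ - 1) * ζ ^ 2 + ρ * (τ - 1) / τ * ζ) / (ζ ^ 2 - 1) * ζ ^ j -
        ((σ - 1) + ρ * (τ - 1) / τ * ζ) / (ζ ^ 2 - 1) * (ζ ^ j)⁻¹) := by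
  rw [rm_pow hρ hσ hτ hζ hζ2 0 1 (by simp), mul_pow, mul_pow, inv_pow]
  have hρ0 : ρ ≠ 0 := fun h => mul_ne_zero hσ hτ (by rw [← hρ, h]; simp)
  have := pow_ne_zero j hζ
  generalize ρ ^ j = x, ζ ^ j = y at *
  obtain rfl : σ = ρ ^ 2 / τ := by rw [hρ]; field_simp
  simp [rm, Matrix.trace_fin_two, Matrix.mul_apply, Fin.sum_univ_two]
  field_simp
  ring

theorem trace_rm_pow_mul_one (j : ℕ) :
    ((rm σ τ (ρ * (ζ + ζ⁻¹)) 1 * rm σ τ (ρ * (ζ + ζ⁻¹)) 0) ^ j *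
      rm σ τ (ρ * (ζ + ζ⁻¹)) 1).trace =
      ρ ^ j * (τ / ρ) * (((σ - 1) + ρ * (τ - 1) / τ * ζ) / (ζ ^ 2 - 1) * (ζ ^ j * ζ) -
        ((σ - 1) * ζ ^ 2 + ρ * (τ - 1) / τ * ζ) / (ζ ^ 2 - 1) * (ζ ^ j * ζ)⁻¹) := by
  rw [rm_pow hρ hσ hτ hζ hζ2 1 0 (by simp), mul_pow, mul_pow, inv_pow]
  have hρ0 : ρ ≠ 0 := fun h => mul_ne_zero hσ hτ (by rw [← hρ, h]; simp)
  have := pow_ne_zero j hζ
  generalize ρ ^ j = x, ζ ^ j = y at *
  obtain rfl : σ = ρ ^ 2 / τ := by rw [hρ]; field_simp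
  simp [rm, Matrix.trace_fin_two, Matrix.mul_apply, Fin.sum_univ_two]
  field_simp
  ring

theorem braid_even {k : ℕ} (hk : ζ ^ (2 * k) = 1) :
    (rm σ τ (ρ * (ζ + ζ⁻¹)) 0 * rm σ τ (ρ * (ζ + ζ⁻¹)) 1) ^ k =
      (rm σ τ (ρ * (ζ + ζ⁻¹)) 1 * rm σ τ (ρ * (ζ + ζ⁻¹)) 0) ^ k := by
  have h : (ρ * ζ⁻¹) ^ k = (ρ * ζ) ^ k := by
    rw [mul_pow, mul_pow, inv_pow, inv_eq_of_mul_eq_one_left (by rw [← pow_add, ← two_mul, hk])]
  rw [rm_pow hρ hσ hτ hζ hζ2 0 1 (by simp), rm_pow hρ hσ hτ hζ hζ2 1 0 (by simp), h, ← smul_add,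
    ← smul_add, add_sub_cancel, add_sub_cancel]

end

theorem braid_odd {σ ζ : ℂ} (hσ : σ ≠ 0) (hζ : ζ ≠ 0) (hζ2 : ζ ^ 2 - 1 ≠ 0) {k : ℕ}
    (hk : ζ ^ (2 * k + 1) = 1) :
    (rm σ σ (σ * (ζ + ζ⁻¹)) 0 * rm σ σ (σ * (ζ + ζ⁻¹)) 1) ^ k * rm σ σ (σ * (ζ + ζ⁻¹)) 0 =
      (rm σ σ (σ * (ζ + ζ⁻¹)) 1 * rm σ σ (σ * (ζ + ζ⁻¹)) 0) ^ k * rm σ σ (σ * (ζ + ζ⁻¹)) 1 := by
  have h : (σ * ζ⁻¹) ^ k = (σ * ζ) ^ k * ζ := by
    rw [mul_pow, mul_pow, inv_pow, inv_eq_of_mul_eq_one_left (a := ζ ^ k * ζ) (by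
      rw [← hk]; ring), mul_assoc]
  rw [rm_pow (sq σ) hσ hσ hζ hζ2 0 1 (by simp), rm_pow (sq σ) hσ hσ hζ hζ2 1 0 (by simp), h]
  generalize (σ * ζ) ^ k = x
  ext i j
  fin_cases i <;> fin_cases j <;> simp [rm, Matrix.mul_apply, Fin.sum_univ_two] <;> field_simp <;>
    ring

theorem sum_eval {σ ζ u v : ℂ} (hσ : σ ≠ 0) (hζ : ζ ≠ 0) (hζ2 : ζ ^ 2 - 1 ≠ 0) {F F' : ℕ → ℂ}
    (h0 : ∀ j, F (2 * j) = (ζ ^ j + (ζ ^ j)⁻¹) ^ 2) (h0' : ∀ j, F' (2 * j) = (ζ ^ j + (ζ ^ j)⁻¹) ^ 2)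
    (h1 : ∀ j, F (2 * j + 1) = (u * ζ ^ j - v * (ζ ^ j)⁻¹) ^ 2 / σ)
    (h1' : ∀ j, F' (2 * j + 1) = (v * (ζ ^ j * ζ) - u * (ζ ^ j * ζ)⁻¹) ^ 2 / σ) {m : ℕ}
    (hm : ζ ^ m = 1) : ∑ n ∈ range m, (F' n + F (n + 1)) = 2 * m * (1 - u * v / σ) := by
  have h2 : ∀ k, ∑ n ∈ range (2 * k), (F' n + F (n + 1)) = 4 * k * (1 - u * v / σ) +
      ((ζ ^ k) ^ 2 - ((ζ ^ k) ^ 2)⁻¹) / (ζ ^ 2 - 1) *
        (1 + ζ ^ 2 + (u ^ 2 + ζ ^ 2 * v ^ 2) / σ) := by
    intro k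
    induction k with
    | zero => simp
    | succ k ih =>
      rw [show 2 * (k + 1) = 2 * k + 1 + 1 by ring, sum_range_succ, sum_range_succ, ih, h0', h1,
        h1', show 2 * k + 1 + 1 = 2 * (k + 1) by ring, h0, pow_succ ζ k]
      have := pow_ne_zero k hζ
      generalize ζ ^ k = y at *
      push_cast
      field_simp
      ring
  obtain ⟨k, rfl | rfl⟩ := m.even_or_odd'
  · rw [h2, ← pow_mul, mul_comm k, hm]
    push_cast
    ring
  · have h3 : (ζ ^ k) ^ 2 = ζ⁻¹ := eq_inv_of_mul_eq_one_left (by rw [← hm]; ring)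
    have h4 : ζ = ((ζ ^ k) ^ 2)⁻¹ := by rw [h3, inv_inv]
    rw [sum_range_succ, h2, h0', h1]
    have := pow_ne_zero k hζ
    generalize ζ ^ k = y at *
    subst h4
    have h5 : 1 - y ^ 4 ≠ 0 := fun h => hζ2 (by field_simp; linear_combination h)
    have h6 : (y ^ 2)⁻¹ ^ 2 - 1 = (1 - y ^ 4) / y ^ 4 := by field_simp
    rw [h6]
    push_cast
    field_simp
    ring

theorem exists_rat {W : Type*} [Group W] [Fintype W] {M : CoxeterMatrix (Fin 2)}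
    {cs : CoxeterSystem M W} {G : Type*} [Group G] [Finite G] {σ τ ρ ζ : ℂ}
    {t : W → MonoidAlgebra ℂ G} (ht : IsHecke cs ![σ, τ] t) {Q : W → ℂ} {b : ℚ}
    (hb : b ≠ 0) (hτ1 : ∀ w, (t w * t w⁻¹).coeff 1 = b * Q w)
    (hτ2 : ∀ w v, v ≠ w⁻¹ → (t w * t v).coeff 1 = 0)
    (hQ : ∀ l, cs.IsReduced l → Q (cs.wordProd l) = (l.map ![σ, τ]).prod)
    (hρ : ρ ^ 2 = σ * τ) (hσ : σ ≠ 0) (hτ : τ ≠ 0) (hτ' : τ + 1 ≠ 0)
    (hζ2 : ζ ^ 2 - 1 ≠ 0) (hm : ζ ^ orderOf (cs.simple 0 * cs.simple 1) = 1)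
    (hodd : Odd (orderOf (cs.simple 0 * cs.simple 1)) → τ = σ ∧ ρ = σ) :
    ∃ c : ℚ, (τ * (σ - 1) ^ 2 + σ * (τ - 1) ^ 2 + (σ - 1) * (τ - 1) * (ρ * (ζ + ζ⁻¹))) /
      (4 * (σ * τ) - (ρ * (ζ + ζ⁻¹)) ^ 2) = c := by
  set m := orderOf (cs.simple 0 * cs.simple 1) with hm'
  have hm0 : m ≠ 0 := (orderOf_pos _).ne'
  have hζ : ζ ≠ 0 := fun h => by rw [h, zero_pow hm0] at hm; exact zero_ne_one hm
  have hρ0 : ρ ≠ 0 := fun h => mul_ne_zero hσ hτ (by rw [← hρ, h]; simp)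
  have hbr : ((altWord 0 1 m).map (rm σ τ (ρ * (ζ + ζ⁻¹)))).prod =
      ((altWord 1 0 m).map (rm σ τ (ρ * (ζ + ζ⁻¹)))).prod := by
    obtain ⟨k, hk | hk⟩ := m.even_or_odd'
    · rw [hk, prod_altWord_even, prod_altWord_even, braid_even hρ hσ hτ hζ hζ2 (hk ▸ hm)]
    · obtain ⟨rfl, rfl⟩ := hodd ⟨k, hk⟩
      rw [hk, prod_altWord_odd, prod_altWord_odd, braid_odd hσ hζ hζ2 (hk ▸ hm)]
  obtain ⟨r, hr, hr'⟩ := exists_isHecke (cs := cs) (rm σ τ (ρ * (ζ + ζ⁻¹))) (rm_sq σ τ _)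
    fun a b _ => by
      have h : orderOf (cs.simple 1 * cs.simple 0) = m := by
        rw [hm', ← orderOf_inv, _root_.mul_inv_rev, inv_simple, inv_simple]
      fin_cases a <;> fin_cases b
      · rfl
      · exact hbr
      · exact h ▸ hbr.symm
      · rfl
  have hQ0 : ∀ w, Q w ≠ 0 := fun w => by
    obtain ⟨l, hl, rfl⟩ := cs.exists_isReduced w
    rw [hQ l hl]
    refine List.prod_ne_zero fun h => ?_
    obtain ⟨i, -, hi⟩ := List.mem_map.1 h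
    fin_cases i
    · exact hσ hi
    · exact hτ hi
  obtain ⟨n, hn⟩ := exists_schur_mul_eq ht hQ0 (Rat.cast_ne_zero.2 hb) hτ1 hτ2 hr
    (by simpa using hr' [] (isReduced_nil cs)) fun X hX => rm_schur _ hτ' X fun i => by
      have := hr' [i] (by simp [CoxeterSystem.IsReduced])
      simp only [wordProd_singleton, List.map_singleton, List.prod_singleton] at this
      rw [← this, hX]
  have hrev : ∀ l, cs.IsReduced l → (Q (cs.wordProd l))⁻¹ * (r (cs.wordProd l)⁻¹).trace *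
      (r (cs.wordProd l)).trace = ((l.map ![σ, τ]).prod)⁻¹ *
        ((l.reverse.map (rm σ τ (ρ * (ζ + ζ⁻¹)))).prod).trace *
        ((l.map (rm σ τ (ρ * (ζ + ζ⁻¹)))).prod).trace := fun l hl => by
    rw [hQ l hl, hr' l hl, ← wordProd_reverse, hr' _ hl.reverse]
  rw [sum_dihedral cs, ← hm', sum_congr rfl fun i hi => by
      rw [hrev _ (isReduced_altWord cs (mem_range.1 hi).le).2,
        hrev _ (isReduced_altWord cs (mem_range.1 hi)).1],
    sum_eval (u := ((σ - 1) * ζ ^ 2 + ρ * (τ - 1) / τ * ζ) / (ζ ^ 2 - 1))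
      (v := ((σ - 1) + ρ * (τ - 1) / τ * ζ) / (ζ ^ 2 - 1)) hσ hζ hζ2
      (F := fun i => (((altWord 0 1 i).map ![σ, τ]).prod)⁻¹ *
        (((altWord 0 1 i).reverse.map (rm σ τ (ρ * (ζ + ζ⁻¹)))).prod).trace *
        (((altWord 0 1 i).map (rm σ τ (ρ * (ζ + ζ⁻¹)))).prod).trace)
      (F' := fun i => (((altWord 1 0 i).map ![σ, τ]).prod)⁻¹ *
        (((altWord 1 0 i).reverse.map (rm σ τ (ρ * (ζ + ζ⁻¹)))).prod).trace *
        (((altWord 1 0 i).map (rm σ τ (ρ * (ζ + ζ⁻¹)))).prod).trace) ?_ ?_ ?_ ?_ hm] at hn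
  · have hn0 : (n : ℂ) ≠ 0 := fun h => by
      rw [h, mul_zero] at hn
      simp [hb, Nat.card_pos.ne'] at hn
    refine ⟨2 * 2 * (Nat.card G * b) / (2 * m * n) - 1, ?_⟩
    have := Nat.cast_ne_zero (R := ℂ).2 hm0
    simp only [Fintype.card_fin, Nat.cast_ofNat] at hn
    push_cast
    rw [← hn]
    obtain rfl : σ = ρ ^ 2 / τ := by rw [hρ]; field_simp
    have h1 : 4 * (ρ ^ 2 / τ * τ) - (ρ * (ζ + ζ⁻¹)) ^ 2 = -(ρ * (ζ ^ 2 - 1) / ζ) ^ 2 := by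
      field_simp; ring
    rw [h1]
    field_simp
    ring
  all_goals intro j
  all_goals
    have := pow_ne_zero j hζ
    have := pow_ne_zero j hρ0
    have h1 : (σ * τ) ^ j = (ρ ^ j) ^ 2 := by rw [← hρ, ← pow_mul, ← pow_mul, mul_comm]
  · simp only [reverse_altWord_even, prod_altWord_even, trace_rm_pow hρ hσ hτ hζ hζ2 0 1 (by simp),
      trace_rm_pow hρ hσ hτ hζ hζ2 1 0 (by simp), cons_val_zero, cons_val_one, h1]
    field_simp
  · simp only [reverse_altWord_even, prod_altWord_even, trace_rm_pow hρ hσ hτ hζ hζ2 0 1 (by simp),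
      trace_rm_pow hρ hσ hτ hζ hζ2 1 0 (by simp), cons_val_zero, cons_val_one, mul_comm τ, h1]
    field_simp
  · simp only [reverse_altWord_odd, prod_altWord_odd, trace_rm_pow_mul_zero hρ hσ hτ hζ hζ2,
      cons_val_zero, cons_val_one, h1]
    field_simp
  · simp only [reverse_altWord_odd, prod_altWord_odd, trace_rm_pow_mul_one hρ hσ hτ hζ hζ2,
      cons_val_zero, cons_val_one, mul_comm τ σ, h1]
    obtain rfl : σ = ρ ^ 2 / τ := by rw [hρ]; field_simp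
    field_simp

theorem exp_facts (r : ℚ) (h0 : 0 < r) (h1 : r < 1) :
    Complex.exp (r * Real.pi * Complex.I) ^ 2 - 1 ≠ 0 ∧
    Complex.exp (r * Real.pi * Complex.I) + (Complex.exp (r * Real.pi * Complex.I))⁻¹ =
      2 * (Real.cos (r * Real.pi) : ℝ) ∧
    ∀ m k : ℕ, r * m = 2 * k → Complex.exp (r * Real.pi * Complex.I) ^ m = 1 := by
  refine ⟨fun h => ?_, ?_, fun m k h => ?_⟩
  · rw [sub_eq_zero, ← Complex.exp_nat_mul, Complex.exp_eq_one_iff] at h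
    obtain ⟨n, hn⟩ := h
    have h2 : (r : ℂ) = n := by
      have := Complex.I_ne_zero
      have := Complex.ofReal_ne_zero.2 Real.pi_ne_zero
      push_cast at hn
      field_simp at hn
      exact hn
    have h3 : r = n := by exact_mod_cast h2
    rw [h3] at h0 h1
    have h4 : 0 < n := by exact_mod_cast h0
    have h5 : n < 1 := by exact_mod_cast h1
    omega
  · rw [← Complex.exp_neg, Complex.ofReal_cos, Complex.two_cos]
    simp
  · rw [← Complex.exp_nat_mul, Complex.exp_eq_one_iff]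
    have h2 : (r : ℂ) * m = 2 * k := by exact_mod_cast h
    exact ⟨k, by push_cast; linear_combination (Real.pi * Complex.I) * h2⟩

theorem mem_of_rat {m : ℕ} (hm : 2 ≤ m) {σ τ : ℚ} (hσ : 1 < σ) (hτ : 1 < τ) (hodd : Odd m → τ = σ)
    (h : ∀ ρ ζ : ℂ, ρ ^ 2 = σ * τ → ζ ^ 2 - 1 ≠ 0 → ζ ^ m = 1 → (Odd m → ρ = σ) →
      ∃ c : ℚ, (τ * (σ - 1) ^ 2 + σ * (τ - 1) ^ 2 + (σ - 1) * (τ - 1) * (ρ * (ζ + ζ⁻¹))) /
        (4 * (σ * τ) - (ρ * (ζ + ζ⁻¹)) ^ 2) = c) : m = 2 ∨ m = 3 ∨ m = 4 ∨ m = 6 ∨ m = 8 := by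
  have hσ0 : (σ : ℂ) ≠ 0 := Rat.cast_ne_zero.2 (by positivity)
  have hτ0 : (τ : ℂ) ≠ 0 := Rat.cast_ne_zero.2 (by positivity)
  have hσ1 : (σ : ℂ) - 1 ≠ 0 := by exact_mod_cast (sub_pos.2 hσ).ne'
  have hτ1 : (τ : ℂ) - 1 ≠ 0 := by exact_mod_cast (sub_pos.2 hτ).ne'
  have hm0 : (0 : ℚ) < m := by positivity
  have hden : ∀ ρ ζ : ℂ, ρ ^ 2 = σ * τ → ζ ^ 2 - 1 ≠ 0 → ζ ^ m = 1 →
      4 * (σ * τ) - (ρ * (ζ + ζ⁻¹)) ^ 2 ≠ 0 := by
    intro ρ ζ h1 h2 h3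
    have hζ : ζ ≠ 0 := fun h => by rw [h, zero_pow (by omega)] at h3; exact zero_ne_one h3
    have hρ : ρ ≠ 0 := fun h => mul_ne_zero hσ0 hτ0 (by rw [← h1, h]; simp)
    rw [← h1, show 4 * ρ ^ 2 - (ρ * (ζ + ζ⁻¹)) ^ 2 = -(ρ * (ζ ^ 2 - 1) / ζ) ^ 2 by
      field_simp; ring]
    simp [hρ, hζ, h2]
  rcases hm.eq_or_lt with rfl | hm2
  · simp
  have hm3 : (2 : ℚ) < m := by exact_mod_cast hm2
  obtain ⟨e1, e2, e3⟩ := exp_facts (2 / m) (by positivity) ((div_lt_one hm0).2 hm3)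
  replace e3 := e3 m 1 (by field_simp; simp)
  rcases m.even_or_odd with he | ho
  · obtain ⟨ρ, hρ⟩ := IsAlgClosed.exists_pow_nat_eq ((σ : ℂ) * τ) two_pos
    have hρ0 : ρ ≠ 0 := fun h => mul_ne_zero hσ0 hτ0 (by rw [← hρ, h]; simp)
    have key : ∀ ζ : ℂ, ζ ^ 2 - 1 ≠ 0 → ζ ^ m = 1 → ∃ c : ℚ, ρ * (ζ + ζ⁻¹) = c := by
      intro ζ h2 h3
      obtain ⟨c, hc⟩ := h ρ ζ hρ h2 h3 fun ho => absurd ho (Nat.not_odd_iff_even.2 he)
      obtain ⟨d, hd⟩ := h ρ (-ζ) hρ (by rwa [neg_sq]) (by rwa [he.neg_pow])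
        fun ho => absurd ho (Nat.not_odd_iff_even.2 he)
      rw [inv_neg, ← neg_add, mul_neg, neg_sq] at hd
      have h4 := hden ρ ζ hρ h2 h3
      rw [div_eq_iff h4] at hc hd
      have h5 : (τ * (σ - 1) ^ 2 + σ * (τ - 1) ^ 2 : ℂ) ≠ 0 := by
        have : 0 < τ * (σ - 1) ^ 2 + σ * (τ - 1) ^ 2 := by
          have := sub_pos.2 hσ
          have := sub_pos.2 hτ
          positivity
        exact_mod_cast this.ne'
      have h6 : (c : ℂ) + d ≠ 0 := fun h => h5 (by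
        linear_combination (hc + hd) / 2 + (4 * (σ * τ) - (ρ * (ζ + ζ⁻¹)) ^ 2) / 2 * h)
      refine ⟨(c - d) * (τ * (σ - 1) ^ 2 + σ * (τ - 1) ^ 2) / ((c + d) * ((σ - 1) * (τ - 1))), ?_⟩
      push_cast
      rw [eq_div_iff (mul_ne_zero h6 (mul_ne_zero hσ1 hτ1))]
      linear_combination (d : ℂ) * hc - (c : ℂ) * hd
    obtain ⟨c, hc⟩ := key _ e1 e3
    rw [e2] at hc
    have hm4 : (4 : ℚ) ≤ m := by
      obtain ⟨k, rfl⟩ := he
      exact_mod_cast (by omega : 4 ≤ k + k)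
    have h1 := niven_angle_div_pi_eq (r := 4 / m) ⟨c ^ 2 / (2 * (σ * τ)) - 1, by
      rw [show ((4 / m : ℚ) : ℝ) * Real.pi = 2 * ((2 / m : ℚ) * Real.pi) by push_cast; ring,
        Real.cos_two_mul]
      apply Complex.ofReal_injective
      rw [Complex.ofReal_sub, Complex.ofReal_mul, Complex.ofReal_pow]
      generalize ((Real.cos ((2 / m : ℚ) * Real.pi) : ℝ) : ℂ) = y at *
      push_cast
      rw [← hc, ← hρ]
      field_simp⟩ ⟨by positivity, (div_le_one hm0).2 hm4⟩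
    simp only [Set.mem_insert_iff, Set.mem_singleton_iff, div_eq_iff hm0.ne'] at h1
    have h2 : m = 12 ∨ m = 8 ∨ m = 6 ∨ m = 4 := by
      rcases h1 with h1 | h1 | h1 | h1 | h1
      · norm_num at h1
      · exact Or.inl (by exact_mod_cast (by linarith : (m : ℚ) = 12))
      · exact Or.inr (Or.inl (by exact_mod_cast (by linarith : (m : ℚ) = 8)))
      · exact Or.inr (Or.inr (Or.inl (by exact_mod_cast (by linarith : (m : ℚ) = 6))))
      · exact Or.inr (Or.inr (Or.inr (by exact_mod_cast (by linarith : (m : ℚ) = 4))))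
    rcases h2 with rfl | h2
    · exfalso
      obtain ⟨f1, f2, f3⟩ := exp_facts (1 / 3) (by norm_num) (by norm_num)
      obtain ⟨d, hd⟩ := key _ f1 (f3 12 2 (by norm_num))
      rw [f2, show ((1 / 3 : ℚ) : ℝ) * Real.pi = Real.pi / 3 by push_cast; ring,
        Real.cos_pi_div_three] at hd
      have h3 := niven_angle_div_pi_eq (r := 2 / (12 : ℕ)) ⟨c / (2 * d), by
        apply Complex.ofReal_injective
        generalize ((Real.cos ((2 / (12 : ℕ) : ℚ) * Real.pi) : ℝ) : ℂ) = y at *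
        push_cast at hd ⊢
        rw [← hc, ← hd]
        field_simp⟩ ⟨by norm_num, by norm_num⟩
      norm_num at h3
    · omega
  · obtain rfl := hodd ho
    obtain ⟨c, hc⟩ := h τ _ (sq _) e1 e3 fun _ => rfl
    have h4 := hden τ _ (sq _) e1 e3
    rw [div_eq_iff h4, e2] at hc
    rw [e2] at h4
    have h1 := niven_angle_div_pi_eq (r := 2 / m) ⟨1 - (τ - 1) ^ 2 / (2 * τ * c), by
      apply Complex.ofReal_injective
      generalize ((Real.cos ((2 / m : ℚ) * Real.pi) : ℝ) : ℂ) = y at *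
      have h5 : 1 + y ≠ 0 := fun h => h4 (by linear_combination 4 * τ ^ 2 * (1 - y) * h)
      have h6 : (τ - 1) ^ 2 = 2 * τ * c * (1 - y) := by
        apply mul_left_cancel₀ (mul_ne_zero hτ0 h5)
        linear_combination hc / 2
      have h7 : (c : ℂ) ≠ 0 := fun h => hτ1 (by simpa [h] using h6)
      push_cast
      rw [h6]
      field_simp
      ring⟩ ⟨by positivity, (div_le_one hm0).2 hm3.le⟩
    simp only [Set.mem_insert_iff, Set.mem_singleton_iff, div_eq_iff hm0.ne'] at h1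
    rcases h1 with h1 | h1 | h1 | h1 | h1
    · norm_num at h1
    · have : m = 6 := by exact_mod_cast (by linarith : (m : ℚ) = 6)
      omega
    · have : m = 4 := by exact_mod_cast (by linarith : (m : ℚ) = 4)
      omega
    · have : m = 3 := by exact_mod_cast (by linarith : (m : ℚ) = 3)
      omega
    · have : m = 2 := by exact_mod_cast (by linarith : (m : ℚ) = 2)
      omega

theorem length_reindex {B B' W : Type*} [Group W] {M : CoxeterMatrix B} (cs : CoxeterSystem M W)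
    (e : B ≃ B') (w : W) : (cs.reindex e).length w = cs.length w := by
  have h1 : ∀ l, (cs.reindex e).wordProd l = cs.wordProd (l.map e.symm) := fun l => by
    induction l with
    | nil => simp
    | cons i l ih => simp [wordProd_cons, ih]
  apply le_antisymm
  · obtain ⟨l, h2, rfl⟩ := cs.exists_isReduced w
    have := (cs.reindex e).length_wordProd_le (l.map e)
    rw [h1] at this
    simpa [h2.eq] using this
  · obtain ⟨l, h2, rfl⟩ := (cs.reindex e).exists_isReduced w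
    rw [h2, h1]
    exact (cs.length_wordProd_le _).trans_eq (List.length_map _)

end Cfsg.Agent.Chev.FH

namespace Cfsg.BNPair

open Cfsg.Agent.Chev Cfsg.Agent.Chev.FH

/-- The Feit–Higman theorem for groups with a (B,N)-pair of rank two. -/
theorem feit_higman {G : Type*} [Group G] [Finite G] (P : BNPair G) (e : P.S ≃ Fin 2) :
    ∃ m, orderOf (P.simple (e.symm 0) * P.simple (e.symm 1)) = m ∧ Nat.card P.W = 2 * m ∧
      (m = 2 ∨ m = 3 ∨ m = 4 ∨ m = 6 ∨ m = 8) := by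
  classical
  have := Fintype.ofFinite G
  have := Fintype.ofFinite P.W
  have hs : ∀ i, (P.cs.reindex e).simple i = P.simple (e.symm i) := fun i => P.cs_simple _
  have hd : ∀ w i, (P.cs.reindex e).IsLeftDescent w i ↔ P.cs.IsLeftDescent w (e.symm i) :=
    fun w i => by simp only [CoxeterSystem.IsLeftDescent, length_reindex]; rfl
  obtain ⟨q, hq, hq'⟩ : ∃ q : P.S → ℚ, (∀ s, 1 < q s) ∧ ∀ s, P.cq (P.simple s) = q s :=
    ⟨fun s => P.ncell (P.simple s) / Nat.card P.B, fun s => (one_lt_div (by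
      exact_mod_cast Nat.card_pos)).2 (by exact_mod_cast card_lt_ncell s), fun s => by simp [cq]⟩
  have hv : ∀ i, ![(q (e.symm 0) : ℂ), q (e.symm 1)] i = P.cq (P.simple (e.symm i)) := fun i => by
    fin_cases i <;> simp [hq']
  have hQ : ∀ l, (P.cs.reindex e).IsReduced l → P.cq ((P.cs.reindex e).wordProd l) =
      (l.map ![(q (e.symm 0) : ℂ), q (e.symm 1)]).prod := by
    intro l hl
    induction l with
    | nil => simpa using cq_one
    | cons i l ih =>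
      obtain ⟨h1, h2⟩ := (isReduced_cons_iff _).1 hl
      rw [CoxeterSystem.wordProd_cons, hs, cq_simple_mul (mt (hd _ _).2 h2), ih h1, List.map_cons,
        List.prod_cons, hv]
  have ht : IsHecke (P.cs.reindex e) ![(q (e.symm 0) : ℂ), q (e.symm 1)] P.hk :=
    ⟨isHecke_hk.one_mul, fun i w hw => isHecke_hk.mul_of_not _ w (mt (hd _ _).2 hw),
      fun i => hv i ▸ isHecke_hk.sq _⟩
  have h0 : ∀ s, (q s : ℂ) ≠ 0 := fun s => Rat.cast_ne_zero.2 (by have := hq s; positivity)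
  refine ⟨_, rfl, ?_, ?_⟩
  · have := sum_dihedral (P.cs.reindex e) fun _ => 1
    simpa [mul_comm] using this
  rw [← hs, ← hs]
  have hodd : Odd (orderOf ((P.cs.reindex e).simple 0 * (P.cs.reindex e).simple 1)) →
      q (e.symm 1) = q (e.symm 0) := fun ⟨k, hk⟩ => by
    obtain ⟨h1, h2⟩ := isReduced_altWord (P.cs.reindex e) le_rfl
    have h3 := hQ _ h1
    rw [(wordProd_altWord_eq_iff _ _).2 dvd_rfl, hQ _ h2, hk, prod_altWord_odd, prod_altWord_odd,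
      mul_comm (![(q (e.symm 0) : ℂ), q (e.symm 1)] 1)] at h3
    exact Rat.cast_injective (mul_left_cancel₀ (pow_ne_zero k (mul_ne_zero (h0 _) (h0 _))) h3)
  refine mem_of_rat ?_ (hq (e.symm 0)) (hq (e.symm 1)) hodd fun ρ ζ h1 h2 h3 h4 =>
    exists_rat ht (b := (Nat.card P.B : ℚ)⁻¹) (by simp)
      (fun w => by simpa using coeff_one_hk_mul_inv w) (fun _ _ => coeff_one_hk_mul) hQ h1 (h0 _)
      (h0 _) (by exact_mod_cast (by have := hq (e.symm 1); positivity)) h2 h3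
      fun h => ⟨congrArg _ (hodd h), h4 h⟩
  refine (Nat.succ_le_of_lt (orderOf_pos _)).lt_of_ne fun h => ?_
  rw [eq_comm, orderOf_eq_one_iff, hs, hs, mul_eq_one_iff_eq_inv, inv_simple] at h
  simpa using P.simple_injective h

end Cfsg.BNPair
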