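import Mathlib
import Cfsg.Agent.Chev.AltFin
import Cfsg.Agent.Chev.StEmb
import Cfsg.Agent.Chev.InvolTab
import Cfsg.Agent.Chev.WeylPoinc

/-!
# Weight tables for `F₄`, `E₆`, `E₇`, `E₈` and the alcove computations
-/

set_option autoImplicit false
set_option maxRecDepth 100000

namespace Cfsg.Agent.Chev.Alc

open Cfsg.Lie Cfsg.Lie.ChevalleyDatum Chk

/-- weights in root coordinates -/
def tlF4 : List (List ℕ) := [[0, 0, 0, 0], [0, 0, 0, 0], [0, 0, 0, 0], [0, 0, 0, 0], [383, 381, 382, 383], [383, 381, 382, 384],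
    [383, 381, 383, 384], [383, 382, 383, 384], [383, 383, 383, 384], [383, 383, 384, 384], [383,
    383, 384, 0], [384, 382, 383, 384], [384, 383, 383, 384], [384, 383, 384, 384], [384, 383, 384,
    0], [384, 384, 384, 384], [384, 384, 384, 0], [384, 384, 0, 0], [384, 0, 0, 0], [0, 383, 383,
    384], [0, 383, 384, 384], [0, 383, 384, 0], [0, 384, 384, 384], [0, 384, 384, 0], [0, 384, 0,
    0], [0, 0, 384, 384], [0, 0, 384, 0], [0, 0, 0, 384], [0, 0, 0, 1], [0, 0, 1, 0], [0, 0, 1, 1],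
    [0, 1, 0, 0], [0, 1, 1, 0], [0, 1, 1, 1], [0, 2, 1, 0], [0, 2, 1, 1], [0, 2, 2, 1], [1, 0, 0,
    0], [1, 1, 0, 0], [1, 1, 1, 0], [1, 1, 1, 1], [1, 2, 1, 0], [1, 2, 1, 1], [1, 2, 2, 1], [1, 3,
    2, 1], [2, 2, 1, 0], [2, 2, 1, 1], [2, 2, 2, 1], [2, 3, 2, 1], [2, 4, 2, 1], [2, 4, 3, 1], [2,
    4, 3, 2]]

/-- weights in root coordinates -/
def tlE8 : List (List ℕ) := [[0, 0, 0, 0, 0, 0, 0, 0], [0, 0, 0, 0, 0, 0, 0, 0], [0, 0, 0, 0, 0, 0, 0, 0], [0, 0, 0, 0, 0, 0, 0,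
    0], [0, 0, 0, 0, 0, 0, 0, 0], [0, 0, 0, 0, 0, 0, 0, 0], [0, 0, 0, 0, 0, 0, 0, 0], [0, 0, 0, 0,
    0, 0, 0, 0], [15, 14, 13, 11, 12, 13, 14, 15], [15, 14, 13, 11, 12, 13, 14, 16], [15, 14, 13,
    11, 12, 13, 15, 16], [15, 14, 13, 11, 12, 14, 15, 16], [15, 14, 13, 11, 13, 14, 15, 16], [15,
    14, 13, 12, 13, 14, 15, 16], [15, 14, 14, 12, 13, 14, 15, 16], [15, 15, 13, 12, 13, 14, 15, 16],
    [15, 15, 14, 12, 13, 14, 15, 16], [15, 15, 14, 13, 13, 14, 15, 16], [15, 15, 14, 13, 14, 14, 15,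
    16], [15, 15, 14, 13, 14, 15, 15, 16], [15, 15, 14, 13, 14, 15, 16, 16], [15, 15, 14, 13, 14,
    15, 16, 0], [16, 14, 14, 12, 13, 14, 15, 16], [16, 15, 14, 12, 13, 14, 15, 16], [16, 15, 14, 13,
    13, 14, 15, 16], [16, 15, 14, 13, 14, 14, 15, 16], [16, 15, 14, 13, 14, 15, 15, 16], [16, 15,
    14, 13, 14, 15, 16, 16], [16, 15, 14, 13, 14, 15, 16, 0], [16, 15, 15, 13, 13, 14, 15, 16], [16,
    15, 15, 13, 14, 14, 15, 16], [16, 15, 15, 13, 14, 15, 15, 16], [16, 15, 15, 13, 14, 15, 16, 16],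
    [16, 15, 15, 13, 14, 15, 16, 0], [16, 15, 15, 14, 14, 14, 15, 16], [16, 15, 15, 14, 14, 15, 15,
    16], [16, 15, 15, 14, 14, 15, 16, 16], [16, 15, 15, 14, 14, 15, 16, 0], [16, 15, 15, 14, 15, 15,
    15, 16], [16, 15, 15, 14, 15, 15, 16, 16], [16, 15, 15, 14, 15, 15, 16, 0], [16, 15, 15, 14, 15,
    16, 16, 16], [16, 15, 15, 14, 15, 16, 16, 0], [16, 15, 15, 14, 15, 16, 0, 0], [16, 16, 15, 14,
    14, 14, 15, 16], [16, 16, 15, 14, 14, 15, 15, 16], [16, 16, 15, 14, 14, 15, 16, 16], [16, 16,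
    15, 14, 14, 15, 16, 0], [16, 16, 15, 14, 15, 15, 15, 16], [16, 16, 15, 14, 15, 15, 16, 16], [16,
    16, 15, 14, 15, 15, 16, 0], [16, 16, 15, 14, 15, 16, 16, 16], [16, 16, 15, 14, 15, 16, 16, 0],
    [16, 16, 15, 14, 15, 16, 0, 0], [16, 16, 15, 15, 15, 15, 15, 16], [16, 16, 15, 15, 15, 15, 16,
    16], [16, 16, 15, 15, 15, 15, 16, 0], [16, 16, 15, 15, 15, 16, 16, 16], [16, 16, 15, 15, 15, 16,
    16, 0], [16, 16, 15, 15, 15, 16, 0, 0], [16, 16, 15, 15, 16, 16, 16, 16], [16, 16, 15, 15, 16,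
    16, 16, 0], [16, 16, 15, 15, 16, 16, 0, 0], [16, 16, 15, 15, 16, 0, 0, 0], [16, 16, 16, 15, 15,
    15, 15, 16], [16, 16, 16, 15, 15, 15, 16, 16], [16, 16, 16, 15, 15, 15, 16, 0], [16, 16, 16, 15,
    15, 16, 16, 16], [16, 16, 16, 15, 15, 16, 16, 0], [16, 16, 16, 15, 15, 16, 0, 0], [16, 16, 16,
    15, 16, 16, 16, 16], [16, 16, 16, 15, 16, 16, 16, 0], [16, 16, 16, 15, 16, 16, 0, 0], [16, 16,
    16, 15, 16, 0, 0, 0], [16, 16, 16, 16, 16, 16, 16, 16], [16, 16, 16, 16, 16, 16, 16, 0], [16,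
    16, 16, 16, 16, 16, 0, 0], [16, 16, 16, 16, 16, 0, 0, 0], [16, 16, 16, 16, 0, 0, 0, 0], [16, 0,
    16, 16, 16, 16, 16, 16], [16, 0, 16, 16, 16, 16, 16, 0], [16, 0, 16, 16, 16, 16, 0, 0], [16, 0,
    16, 16, 16, 0, 0, 0], [16, 0, 16, 16, 0, 0, 0, 0], [16, 0, 16, 0, 0, 0, 0, 0], [16, 0, 0, 0, 0,
    0, 0, 0], [0, 16, 16, 15, 15, 15, 15, 16], [0, 16, 16, 15, 15, 15, 16, 16], [0, 16, 16, 15, 15,
    15, 16, 0], [0, 16, 16, 15, 15, 16, 16, 16], [0, 16, 16, 15, 15, 16, 16, 0], [0, 16, 16, 15, 15,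
    16, 0, 0], [0, 16, 16, 15, 16, 16, 16, 16], [0, 16, 16, 15, 16, 16, 16, 0], [0, 16, 16, 15, 16,
    16, 0, 0], [0, 16, 16, 15, 16, 0, 0, 0], [0, 16, 16, 16, 16, 16, 16, 16], [0, 16, 16, 16, 16,
    16, 16, 0], [0, 16, 16, 16, 16, 16, 0, 0], [0, 16, 16, 16, 16, 0, 0, 0], [0, 16, 16, 16, 0, 0,
    0, 0], [0, 16, 0, 16, 16, 16, 16, 16], [0, 16, 0, 16, 16, 16, 16, 0], [0, 16, 0, 16, 16, 16, 0,
    0], [0, 16, 0, 16, 16, 0, 0, 0], [0, 16, 0, 16, 0, 0, 0, 0], [0, 16, 0, 0, 0, 0, 0, 0], [0, 0,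
    16, 16, 16, 16, 16, 16], [0, 0, 16, 16, 16, 16, 16, 0], [0, 0, 16, 16, 16, 16, 0, 0], [0, 0, 16,
    16, 16, 0, 0, 0], [0, 0, 16, 16, 0, 0, 0, 0], [0, 0, 16, 0, 0, 0, 0, 0], [0, 0, 0, 16, 16, 16,
    16, 16], [0, 0, 0, 16, 16, 16, 16, 0], [0, 0, 0, 16, 16, 16, 0, 0], [0, 0, 0, 16, 16, 0, 0, 0],
    [0, 0, 0, 16, 0, 0, 0, 0], [0, 0, 0, 0, 16, 16, 16, 16], [0, 0, 0, 0, 16, 16, 16, 0], [0, 0, 0,
    0, 16, 16, 0, 0], [0, 0, 0, 0, 16, 0, 0, 0], [0, 0, 0, 0, 0, 16, 16, 16], [0, 0, 0, 0, 0, 16,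
    16, 0], [0, 0, 0, 0, 0, 16, 0, 0], [0, 0, 0, 0, 0, 0, 16, 16], [0, 0, 0, 0, 0, 0, 16, 0], [0, 0,
    0, 0, 0, 0, 0, 16], [0, 0, 0, 0, 0, 0, 0, 1], [0, 0, 0, 0, 0, 0, 1, 0], [0, 0, 0, 0, 0, 0, 1,
    1], [0, 0, 0, 0, 0, 1, 0, 0], [0, 0, 0, 0, 0, 1, 1, 0], [0, 0, 0, 0, 0, 1, 1, 1], [0, 0, 0, 0,
    1, 0, 0, 0], [0, 0, 0, 0, 1, 1, 0, 0], [0, 0, 0, 0, 1, 1, 1, 0], [0, 0, 0, 0, 1, 1, 1, 1], [0,
    0, 0, 1, 0, 0, 0, 0], [0, 0, 0, 1, 1, 0, 0, 0], [0, 0, 0, 1, 1, 1, 0, 0], [0, 0, 0, 1, 1, 1, 1,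
    0], [0, 0, 0, 1, 1, 1, 1, 1], [0, 0, 1, 0, 0, 0, 0, 0], [0, 0, 1, 1, 0, 0, 0, 0], [0, 0, 1, 1,
    1, 0, 0, 0], [0, 0, 1, 1, 1, 1, 0, 0], [0, 0, 1, 1, 1, 1, 1, 0], [0, 0, 1, 1, 1, 1, 1, 1], [0,
    1, 0, 0, 0, 0, 0, 0], [0, 1, 0, 1, 0, 0, 0, 0], [0, 1, 0, 1, 1, 0, 0, 0], [0, 1, 0, 1, 1, 1, 0,
    0], [0, 1, 0, 1, 1, 1, 1, 0], [0, 1, 0, 1, 1, 1, 1, 1], [0, 1, 1, 1, 0, 0, 0, 0], [0, 1, 1, 1,
    1, 0, 0, 0], [0, 1, 1, 1, 1, 1, 0, 0], [0, 1, 1, 1, 1, 1, 1, 0], [0, 1, 1, 1, 1, 1, 1, 1], [0,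
    1, 1, 2, 1, 0, 0, 0], [0, 1, 1, 2, 1, 1, 0, 0], [0, 1, 1, 2, 1, 1, 1, 0], [0, 1, 1, 2, 1, 1, 1,
    1], [0, 1, 1, 2, 2, 1, 0, 0], [0, 1, 1, 2, 2, 1, 1, 0], [0, 1, 1, 2, 2, 1, 1, 1], [0, 1, 1, 2,
    2, 2, 1, 0], [0, 1, 1, 2, 2, 2, 1, 1], [0, 1, 1, 2, 2, 2, 2, 1], [1, 0, 0, 0, 0, 0, 0, 0], [1,
    0, 1, 0, 0, 0, 0, 0], [1, 0, 1, 1, 0, 0, 0, 0], [1, 0, 1, 1, 1, 0, 0, 0], [1, 0, 1, 1, 1, 1, 0,
    0], [1, 0, 1, 1, 1, 1, 1, 0], [1, 0, 1, 1, 1, 1, 1, 1], [1, 1, 1, 1, 0, 0, 0, 0], [1, 1, 1, 1,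
    1, 0, 0, 0], [1, 1, 1, 1, 1, 1, 0, 0], [1, 1, 1, 1, 1, 1, 1, 0], [1, 1, 1, 1, 1, 1, 1, 1], [1,
    1, 1, 2, 1, 0, 0, 0], [1, 1, 1, 2, 1, 1, 0, 0], [1, 1, 1, 2, 1, 1, 1, 0], [1, 1, 1, 2, 1, 1, 1,
    1], [1, 1, 1, 2, 2, 1, 0, 0], [1, 1, 1, 2, 2, 1, 1, 0], [1, 1, 1, 2, 2, 1, 1, 1], [1, 1, 1, 2,
    2, 2, 1, 0], [1, 1, 1, 2, 2, 2, 1, 1], [1, 1, 1, 2, 2, 2, 2, 1], [1, 1, 2, 2, 1, 0, 0, 0], [1,
    1, 2, 2, 1, 1, 0, 0], [1, 1, 2, 2, 1, 1, 1, 0], [1, 1, 2, 2, 1, 1, 1, 1], [1, 1, 2, 2, 2, 1, 0,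
    0], [1, 1, 2, 2, 2, 1, 1, 0], [1, 1, 2, 2, 2, 1, 1, 1], [1, 1, 2, 2, 2, 2, 1, 0], [1, 1, 2, 2,
    2, 2, 1, 1], [1, 1, 2, 2, 2, 2, 2, 1], [1, 1, 2, 3, 2, 1, 0, 0], [1, 1, 2, 3, 2, 1, 1, 0], [1,
    1, 2, 3, 2, 1, 1, 1], [1, 1, 2, 3, 2, 2, 1, 0], [1, 1, 2, 3, 2, 2, 1, 1], [1, 1, 2, 3, 2, 2, 2,
    1], [1, 1, 2, 3, 3, 2, 1, 0], [1, 1, 2, 3, 3, 2, 1, 1], [1, 1, 2, 3, 3, 2, 2, 1], [1, 1, 2, 3,
    3, 3, 2, 1], [1, 2, 2, 3, 2, 1, 0, 0], [1, 2, 2, 3, 2, 1, 1, 0], [1, 2, 2, 3, 2, 1, 1, 1], [1,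
    2, 2, 3, 2, 2, 1, 0], [1, 2, 2, 3, 2, 2, 1, 1], [1, 2, 2, 3, 2, 2, 2, 1], [1, 2, 2, 3, 3, 2, 1,
    0], [1, 2, 2, 3, 3, 2, 1, 1], [1, 2, 2, 3, 3, 2, 2, 1], [1, 2, 2, 3, 3, 3, 2, 1], [1, 2, 2, 4,
    3, 2, 1, 0], [1, 2, 2, 4, 3, 2, 1, 1], [1, 2, 2, 4, 3, 2, 2, 1], [1, 2, 2, 4, 3, 3, 2, 1], [1,
    2, 2, 4, 4, 3, 2, 1], [1, 2, 3, 4, 3, 2, 1, 0], [1, 2, 3, 4, 3, 2, 1, 1], [1, 2, 3, 4, 3, 2, 2,
    1], [1, 2, 3, 4, 3, 3, 2, 1], [1, 2, 3, 4, 4, 3, 2, 1], [1, 2, 3, 5, 4, 3, 2, 1], [1, 3, 3, 5,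
    4, 3, 2, 1], [2, 2, 3, 4, 3, 2, 1, 0], [2, 2, 3, 4, 3, 2, 1, 1], [2, 2, 3, 4, 3, 2, 2, 1], [2,
    2, 3, 4, 3, 3, 2, 1], [2, 2, 3, 4, 4, 3, 2, 1], [2, 2, 3, 5, 4, 3, 2, 1], [2, 2, 4, 5, 4, 3, 2,
    1], [2, 3, 3, 5, 4, 3, 2, 1], [2, 3, 4, 5, 4, 3, 2, 1], [2, 3, 4, 6, 4, 3, 2, 1], [2, 3, 4, 6,
    5, 3, 2, 1], [2, 3, 4, 6, 5, 4, 2, 1], [2, 3, 4, 6, 5, 4, 3, 1], [2, 3, 4, 6, 5, 4, 3, 2]]

/-- weights in root coordinates -/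
def tlE7 : List (List ℕ) := [[33, 32, 31, 29, 30, 31, 32], [33, 32, 31, 29, 30, 31, 34], [33, 32, 31, 29, 30, 33, 34], [33, 32,
    31, 29, 32, 33, 34], [33, 32, 31, 31, 32, 33, 34], [33, 32, 33, 31, 32, 33, 34], [33, 34, 31,
    31, 32, 33, 34], [33, 34, 33, 31, 32, 33, 34], [33, 34, 33, 33, 32, 33, 34], [33, 34, 33, 33,
    34, 33, 34], [33, 34, 33, 33, 34, 0, 34], [33, 34, 33, 33, 34, 0, 1], [0, 32, 33, 31, 32, 33,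
    34], [0, 34, 33, 31, 32, 33, 34], [0, 34, 33, 33, 32, 33, 34], [0, 34, 33, 33, 34, 33, 34], [0,
    34, 33, 33, 34, 0, 34], [0, 34, 33, 33, 34, 0, 1], [0, 34, 0, 33, 32, 33, 34], [0, 34, 0, 33,
    34, 33, 34], [0, 34, 0, 33, 34, 0, 34], [0, 34, 0, 33, 34, 0, 1], [0, 34, 0, 0, 34, 33, 34], [0,
    34, 0, 0, 34, 0, 34], [0, 34, 0, 0, 34, 0, 1], [0, 34, 0, 0, 1, 0, 34], [0, 34, 0, 0, 1, 0, 1],
    [0, 34, 0, 0, 1, 2, 1], [0, 1, 0, 0, 34, 33, 34], [0, 1, 0, 0, 34, 0, 34], [0, 1, 0, 0, 34, 0,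
    1], [0, 1, 0, 0, 1, 0, 34], [0, 1, 0, 0, 1, 0, 1], [0, 1, 0, 0, 1, 2, 1], [0, 1, 0, 2, 1, 0,
    34], [0, 1, 0, 2, 1, 0, 1], [0, 1, 0, 2, 1, 2, 1], [0, 1, 0, 2, 3, 2, 1], [0, 1, 2, 2, 1, 0,
    34], [0, 1, 2, 2, 1, 0, 1], [0, 1, 2, 2, 1, 2, 1], [0, 1, 2, 2, 3, 2, 1], [0, 1, 2, 4, 3, 2, 1],
    [0, 3, 2, 4, 3, 2, 1], [2, 1, 2, 2, 1, 0, 34], [2, 1, 2, 2, 1, 0, 1], [2, 1, 2, 2, 1, 2, 1], [2,
    1, 2, 2, 3, 2, 1], [2, 1, 2, 4, 3, 2, 1], [2, 1, 4, 4, 3, 2, 1], [2, 3, 2, 4, 3, 2, 1], [2, 3,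
    4, 4, 3, 2, 1], [2, 3, 4, 6, 3, 2, 1], [2, 3, 4, 6, 5, 2, 1], [2, 3, 4, 6, 5, 4, 1], [2, 3, 4,
    6, 5, 4, 3]]

/-- weights in root coordinates -/
def tlE6 : List (List ℕ) := [[108, 107, 106, 104, 105, 106], [108, 107, 106, 104, 105, 109], [108, 107, 106, 104, 108, 109],
    [108, 107, 106, 107, 108, 109], [108, 107, 109, 107, 108, 109], [108, 0, 106, 107, 108, 109],
    [108, 0, 109, 107, 108, 109], [108, 0, 109, 0, 108, 109], [108, 0, 109, 0, 1, 109], [108, 0,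
    109, 0, 1, 2], [1, 107, 109, 107, 108, 109], [1, 0, 109, 107, 108, 109], [1, 0, 109, 0, 108,
    109], [1, 0, 109, 0, 1, 109], [1, 0, 109, 0, 1, 2], [1, 0, 2, 0, 108, 109], [1, 0, 2, 0, 1,
    109], [1, 0, 2, 0, 1, 2], [1, 0, 2, 3, 1, 109], [1, 0, 2, 3, 1, 2], [1, 0, 2, 3, 4, 2], [1, 3,
    2, 3, 1, 109], [1, 3, 2, 3, 1, 2], [1, 3, 2, 3, 4, 2], [1, 3, 2, 6, 4, 2], [1, 3, 5, 6, 4, 2],
    [4, 3, 5, 6, 4, 2]]

/-- roots of level one -/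
def lv7 (i : ℕ) : ℕ := [120, 122, 125, 129, 134, 140, 146, 151, 155, 158, 160, 161, 168, 173, 177, 180, 182, 183, 187, 190,
    192, 193, 196, 198, 199, 201, 202, 203, 206, 208, 209, 211, 212, 213, 215, 216, 217, 218, 220,
    221, 222, 223, 224, 225, 227, 228, 229, 230, 231, 232, 233, 234, 235, 236, 237, 238].getD i 0

/-- roots of level one -/
def lv6 (i : ℕ) : ℕ := [121, 124, 128, 133, 139, 145, 150, 154, 157, 159, 167, 172, 176, 179, 181, 186, 189, 191, 195, 197,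
    200, 205, 207, 210, 214, 219, 226].getD i 0

theorem lv7_lt : ∀ i < 56, lv7 i < chevE8.nroots := by decide +kernel

theorem lv6_lt : ∀ i < 27, lv6 i < chevE8.nroots := by decide +kernel

/-- the coefficient of the last fundamental root -/
def lev8 : chevE8.Lat →+ ℤ := StRoot.coForm fun i => [2, 3, 4, 6, 5, 4, 3, 2].getD i 0

/-- the coefficient of the seventh fundamental root -/
def lev7 : chevE8.Lat →+ ℤ := StRoot.coForm fun i => [4, 6, 8, 12, 10, 8, 6, 3].getD i 0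

theorem lev8_wt (r : chevE8.Rt) : lev8 (chevE8.wt r) = -cwE8 r 7 * -1 := by
  simp only [lev8, StRoot.coForm_apply, wtE8_eq]
  revert r
  decide +kernel

theorem lev7_wt (r : chevE8.Rt) : lev7 (chevE8.wt r) = -cwE8 r 6 * -1 := by
  simp only [lev7, StRoot.coForm_apply, wtE8_eq]
  revert r
  decide +kernel

/-- restriction of weights -/
def res (D : ChevalleyDatum) (h : D.rank ≤ chevE8.rank) : chevE8.Lat →+ D.Lat where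
  toFun v i := v (Fin.castLE h i)
  map_zero' := rfl
  map_add' _ _ := rfl

variable (K : Type*) [Field K]

/-- The representation of degree 56 of `E₇`. -/
noncomputable def rep56 : chevE7.WtRep K (Fin 56) :=
  levRep K embE7_trans (res chevE7 (by decide)) (fun i v => by
      rw [show (⟨embE7Map (chevE7.sr i), _⟩ : chevE8.Rt) = chevE8.sr (Fin.castLE (by decide) i) from
        Fin.ext ((by decide +kernel : ∀ i < chevE7.rank,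
          embE7Map (chevE7.simple i) = chevE8.simple i) i i.2), cw_sr, single_dotProduct, one_mul]
      rfl) lev8 0 (fun r => by rw [lev8_wt]; revert r; decide +kernel) (fun _ => rfl)
    (fun i => ⟨lv7 i, lv7_lt i i.2⟩) (fun i j h => by
      have := congrArg Fin.val h
      revert i j
      decide +kernel) (c := 0) (fun i => ⟨by rw [lev8_wt]; revert i; decide +kernel, rfl⟩)
    fun r h _ => by
      rw [lev8_wt] at h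
      simp only [Fin.ext_iff]
      revert r
      decide +kernel

/-- The representation of degree 27 of `E₆`. -/
noncomputable def rep27 : chevE6.WtRep K (Fin 27) :=
  levRep K embE6_trans (res chevE6 (by decide)) (fun i v => by
      rw [show (⟨embE6Map (chevE6.sr i), _⟩ : chevE8.Rt) = chevE8.sr (Fin.castLE (by decide) i) from
        Fin.ext ((by decide +kernel : ∀ i < chevE6.rank,
          embE6Map (chevE6.simple i) = chevE8.simple i) i i.2), cw_sr, single_dotProduct, one_mul]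
      rfl) lev7 lev8 (fun r => by rw [lev7_wt]; revert r; decide +kernel)
    (fun r => by rw [lev8_wt]; revert r; decide +kernel)
    (fun i => ⟨lv6 i, lv6_lt i i.2⟩) (fun i j h => by
      have := congrArg Fin.val h
      revert i j
      decide +kernel) (c := 0) (fun i => by rw [lev7_wt, lev8_wt]; revert i; decide +kernel)
    fun r h h' => by
      rw [lev7_wt] at h
      rw [lev8_wt] at h'
      simp only [Fin.ext_iff]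
      revert r
      decide +kernel

theorem tab56 : chevE7.TabOK (rep56 K).μ 2 35 tlE7 := by
  refine ⟨rfl, fun a k => ?_⟩
  change _ ∣ _ * chevE8.wt (⟨lv7 a, lv7_lt a a.2⟩ : chevE8.Rt) (Fin.castLE (by decide) k) - _
  rw [wtE8_eq]
  revert a k
  decide +kernel

theorem tab27 : chevE6.TabOK (rep27 K).μ 3 110 tlE6 := by
  refine ⟨rfl, fun a k => ?_⟩
  change _ ∣ _ * chevE8.wt (⟨lv6 a, lv6_lt a a.2⟩ : chevE8.Rt) (Fin.castLE (by decide) k) - _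
  rw [wtE8_eq]
  revert a k
  decide +kernel

theorem tabF4 : chevF4.TabOK (chevF4.adjRep K).μ 1 385 tlF4 := by
  refine ⟨rfl, fun a k => ?_⟩
  change _ ∣ _ * chevF4.wtI (finSumFinEquiv.symm a) k - _
  revert a k
  decide +kernel

theorem tabE8 : chevE8.TabOK (chevE8.adjRep K).μ 1 17 tlE8 := by
  refine ⟨rfl, fun a k => ?_⟩
  change _ ∣ _ * chevE8.wtI (finSumFinEquiv.symm a) k - _
  revert a k
  decide +kernel

theorem hiF4 : chevF4.HiOK [2, 4, 3, 2] := ⟨rfl, by decide, (47 : Fin 48), by decide +kernel⟩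

theorem hiE6 : chevE6.HiOK [1, 2, 2, 3, 2, 1] := ⟨rfl, by decide, (71 : Fin 72), by decide +kernel⟩

theorem hiE7 : chevE7.HiOK [2, 2, 3, 4, 3, 2, 1] := ⟨rfl, by decide, (125 : Fin 126), by decide +kernel⟩

theorem hiE8 : chevE8.HiOK [2, 3, 4, 6, 5, 4, 3, 2] :=
  ⟨rfl, by decide, (239 : Fin 240), by decide +kernel⟩

theorem center_E6 (z : chevE6.SteinbergGroup K) (hz : z ∈ Subgroup.center _) : z ^ 3 = 1 := by
  obtain ⟨e⟩ := center_equiv_E6 K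
  obtain ⟨y, hy⟩ := e.surjective ⟨z, hz⟩
  have : (⟨z, hz⟩ : Subgroup.center _) ^ 3 = 1 := by
    rw [← hy, ← map_pow, show y ^ 3 = 1 from Subtype.ext y.2, map_one]
  exact congrArg Subtype.val this

theorem center_E7 (z : chevE7.SteinbergGroup K) (hz : z ∈ Subgroup.center _) : z ^ 2 = 1 := by
  obtain ⟨e⟩ := center_equiv_E7 K
  obtain ⟨y, hy⟩ := e.surjective ⟨z, hz⟩
  have : (⟨z, hz⟩ : Subgroup.center _) ^ 2 = 1 := by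
    rw [← hy, ← map_pow, show y ^ 2 = 1 from Subtype.ext y.2, map_one]
  exact congrArg Subtype.val this

theorem center_E8 (z : chevE8.SteinbergGroup K) (hz : z ∈ Subgroup.center _) : z ^ 1 = 1 := by
  simpa [center_stE8] using hz

theorem center_F4 (z : chevF4.SteinbergGroup K) (hz : z ∈ Subgroup.center _) : z ^ 1 = 1 := by
  simpa [center_stF4] using hz

theorem stTor_injective_F4 : Function.Injective (chevF4.stTor K) :=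
  stTor_injective_of_unimodular K
    (fun j k => ([[2, 3, 4, 2], [3, 6, 8, 4], [2, 4, 6, 3], [1, 2, 3, 2]].getD j []).getD k 0)
    (by decide +kernel)

theorem chkF4_11 : ratChk tlF4 [2, 4, 3, 2] 11 3 [1] (fun _ => false) = true := by decide +kernel

theorem chkF4_35 : ratChk tlF4 [2, 4, 3, 2] 35 17 [5, 7] (fun _ => false) = true := by decide +kernel

theorem chkE8_17 : ratChk tlE8 [2, 3, 4, 6, 5, 4, 3, 2] 17 3 [1] (fun _ => false) = true := by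
  decide +kernel

theorem chkE6_11 : ratChk tlE6 [1, 2, 2, 3, 2, 1] 11 2 [1] (fun _ => false) = true := by decide +kernel

theorem chkE7_5 : ratChk tlE7 [2, 2, 3, 4, 3, 2, 1] 5 2 [1]
    (fun s => decide (sumT (ind 0) tlE7 s 5 1 = 16)) = true := by decide +kernel

theorem chkE7_7 : ratChk tlE7 [2, 2, 3, 4, 3, 2, 1] 7 3 [1]
    (fun s => decide (sumT (ind 0) tlE7 s 7 1 ∈ [2, 8, 20])) = true := by decide +kernel

theorem chkE6_2 : ratChk tlE6 [1, 2, 2, 3, 2, 1] 2 1 [1]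
    (fun s => decide (sumT (ind 0) tlE6 s 2 1 ∈ [11, 15])) = true := by decide +kernel

theorem chkE6_10 : ratChk tlE6 [1, 2, 2, 3, 2, 1] 10 7 [2, 5] (fun s =>
    decide (sumT (ind 0) tlE6 s 10 5 = 11 ∧ sumT (ind 0) tlE6 s 10 1 ≤ 7 ∨
      sumT (ind 5) tlE6 s 10 5 = 12 ∧ sumT (ind 5) tlE6 s 10 1 = 4)) = true := by decide +kernel

end Cfsg.Agent.Chev.Alc
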