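import Mathlib
import Cfsg.Agent.Chev.AltTor

/-!
# Alternating sections of `E₈`
-/

set_option autoImplicit false
set_option maxRecDepth 100000

namespace Cfsg.Agent.Chev.AS

open Cfsg.Lie Cfsg.Lie.ChevalleyDatum Alc Chk Equiv

theorem exists_pow_fix (F : Type*) [Field F] [Finite F] (p : ℕ) [Fact p.Prime] [CharP F p]
    (t : AlgebraicClosure F) : ∃ e ≠ 0, t ^ p ^ e = t := by
  let E := IntermediateField.adjoin F {t}
  have : FiniteDimensional F E :=
    IntermediateField.adjoin.finiteDimensional (Algebra.IsIntegral.isIntegral t)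
  have : Finite E := Module.finite_of_finite F
  have := Fintype.ofFinite E
  obtain ⟨e, -, he⟩ := FiniteField.card E p
  exact ⟨e, e.ne_zero, he ▸ congrArg Subtype.val
    (FiniteField.pow_card (⟨t, IntermediateField.mem_adjoin_simple_self F t⟩ : E))⟩

theorem exists_half {A : Type*} [CommGroup A] (ψ : A →* A) {x : A} (h1 : x ≠ 1) (h2 : x ^ 17 = 1)
    {c : ℕ} (hc : c < 17) (h : ψ (ψ x) = x ^ (c * c)) :
    ∃ y, y ≠ 1 ∧ y ^ 17 = 1 ∧ ∃ b < 17, b * b ≡ c * c [MOD 17] ∧ ψ y = y ^ b := by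
  by_cases h3 : ψ x * x ^ c = 1
  · refine ⟨x, h1, h2, (17 - c) % 17, Nat.mod_lt _ (by norm_num), by interval_cases c <;> rfl, ?_⟩
    rw [← pow_eq_pow_mod _ h2, pow_sub _ hc.le, h2, one_mul, eq_inv_iff_mul_eq_one, h3]
  · exact ⟨_, h3, by rw [mul_pow, ← map_pow, ← pow_mul, mul_comm c, pow_mul, h2]; simp, c, hc, rfl,
      by rw [map_mul, map_pow, h, mul_pow, ← pow_mul, mul_comm]⟩

theorem neg_E8 : ∃ L, ∀ v, chevE8.stRoot.lw L v = -v := by
  let L : List (Fin 8) := (List.replicate 15 [0, 1, 2, 3, 4, 5, 6, 7]).flatten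
  refine ⟨L, fun v => ?_⟩
  have h : ∀ i : chevE8.Nd, chevE8.stRoot.lw L (Pi.single i 1) = -Pi.single i 1 := fun i => by
    have h1 : (Pi.single i 1 : chevE8.Lat) = toLat chevE8.rank
        ((List.range 8).map fun k => if k = i.1 then 1 else 0) := by
      funext k; revert i k; decide +kernel
    rw [h1]
    refine (lw_toLat (D := chevE8) L _).trans ?_
    funext k
    clear h1
    revert i k
    decide +kernel
  conv_lhs => rw [← Finset.univ_sum_single v, map_sum]
  conv_rhs => rw [← Finset.univ_sum_single v, ← Finset.sum_neg_distrib]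
  refine Finset.sum_congr rfl fun i _ => ?_
  rw [← mul_one (v i), ← smul_eq_mul, Pi.single_smul, map_zsmul, h, smul_neg]

/-- The group of characters. -/
def ChG (D : ChevalleyDatum) (K : Type*) [Field K] := Multiplicative D.Lat →* Kˣ

instance commGroupChG (D : ChevalleyDatum) (K : Type*) [Field K] : CommGroup (ChG D K) :=
  inferInstanceAs (CommGroup (Multiplicative D.Lat →* Kˣ))

section

variable {D : ChevalleyDatum} [D.Good] {K : Type*} [Field K]

/-- The torus. -/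
noncomputable def torG : ChG D K →* D.SteinbergGroup K := D.torC K

/-- The action of an element of the Weyl group on the characters. -/
noncomputable def actW (w : Perm D.Rt) : ChG D K →* ChG D K where
  toFun χ := chrComp χ (D.wl w)
  map_one' := rfl
  map_mul' _ _ := rfl

theorem actW_add {w : Perm D.Rt} (hw : w ∈ D.stRoot.weyl) (i j : ℕ) (χ : ChG D K) :
    actW (w ^ (i + j)) χ = actW (w ^ j) (actW (w ^ i) χ) :=
  chr_ext fun v => congrArg (cv χ) (by rw [pow_add]; exact D.wl_mul (pow_mem hw i) (pow_mem hw j) v)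

theorem actW_one (χ : ChG D K) : actW 1 χ = χ := chr_ext fun v => congrArg (cv χ) (D.wl_one v)

theorem actW_mul {w : Perm D.Rt} (hw : w ∈ D.stRoot.weyl) {i b : ℕ} {χ : ChG D K}
    (h : actW (w ^ i) χ = χ ^ b) (k : ℕ) : actW (w ^ (i * k)) χ = χ ^ b ^ k := by
  induction k with
  | zero => simpa using actW_one χ
  | succ k ih => rw [mul_add, mul_one, actW_add hw, ih, map_pow, h, ← pow_mul, pow_succ']

theorem torG_actW (L : List D.Nd) (χ : ChG D K) :
    torG (actW (D.stRoot.wd L) χ) = D.torC K (chrComp χ (D.stRoot.lw L)) := by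
  rw [lw_eq_wl]; rfl

end

theorem orderOf_ne_E8 {w : Perm chevE8.Rt} (hw : w ∈ chevE8.stRoot.weyl) : orderOf w ≠ 16 := fun ho => by
  let K := AlgebraicClosure (ZMod 2)
  obtain ⟨ξ, hξ⟩ := exists_primRoot (ZMod 2) 2 (n := 17) (by norm_num)
  obtain ⟨u, rfl⟩ := hξ.isUnit (by norm_num)
  have hu : IsPrimitiveRoot u 17 := IsPrimitiveRoot.coe_units_iff.1 hξ
  obtain ⟨r, hr⟩ := chevE8.exists_apply_eq_ng (chevE8.stRoot_weyl ▸ pow_mem hw 8)
    (by rw [← pow_add, show 8 + 8 = orderOf w from ho.symm, pow_orderOf_eq_one]) (pow_ne_one_of_lt_orderOf (by norm_num) (by omega))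
  have h16 : ∀ χ : ChG chevE8 K, actW (w ^ 8) (actW (w ^ 8) χ) = χ := fun χ => by
    rw [← actW_add hw, show 8 + 8 = orderOf w from ho.symm, pow_orderOf_eq_one, actW_one]
  let χ : ChG chevE8 K := chrExp u (chevE8.stRoot.cw r)
  have hχ : χ ^ 17 = 1 := chr_ext fun v => by
    change (u ^ chevE8.stRoot.cw r v) ^ 17 = 1
    rw [← zpow_natCast, ← zpow_mul, mul_comm, zpow_mul, zpow_natCast, hu.pow_eq_one, one_zpow]
  have h1 : actW (w ^ 8) χ * χ⁻¹ ≠ 1 := fun e => by
    have h2 := congrArg (cv · (chevE8.wt r)) (mul_inv_eq_one.1 e)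
    change u ^ chevE8.stRoot.cw r (chevE8.wl (w ^ 8) (chevE8.wt r)) =
      u ^ chevE8.stRoot.cw r (chevE8.wt r) at h2
    rw [wl_wt (pow_mem hw 8), hr, ← stRoot_wt, ← stRoot_ng, StRoot.wt_ng, map_neg,
      ← stRoot_wt, StRoot.cw_self, ← mul_inv_eq_one, ← zpow_sub, hu.zpow_eq_one_iff_dvd] at h2
    omega
  have h2 : (actW (w ^ 8) χ * χ⁻¹) ^ 17 = 1 := by rw [mul_pow, ← map_pow, inv_pow, hχ]; simp
  obtain ⟨x, h3, h4, a, ha, ha', e1⟩ := exists_half (actW (w ^ 4)) h1 h2 (c := 4) (by norm_num) (by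
    rw [← actW_add hw, map_mul, map_inv, h16, eq_comm, ← mul_right_cancel_iff (a := actW (w ^ 8) χ * χ⁻¹),
      ← pow_succ, h2]
    simp)
  obtain ⟨c, hc, hc'⟩ := (by decide +kernel : ∀ a < 17, a * a ≡ 4 * 4 [MOD 17] →
    ∃ c < 17, c * c ≡ a [MOD 17]) a ha ha'
  obtain ⟨y, h5, h6, b, hb, hb', e2⟩ := exists_half (actW (w ^ 2)) h3 h4 hc (by
    rw [← actW_add hw, e1, pow_eq_pow_of_modEq hc' h4])
  obtain ⟨d, hd, hd'⟩ := (by decide +kernel : ∀ b < 17, (b * b) * (b * b) ≡ 4 * 4 [MOD 17] →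
    ∃ c < 17, c * c ≡ b [MOD 17]) b hb (((hb'.trans hc').mul (hb'.trans hc')).trans ha')
  obtain ⟨z, h7, h8, g, hg, hg', e3⟩ := exists_half (actW (w ^ 1)) h5 h6 hd (by
    rw [← actW_add hw, e2, pow_eq_pow_of_modEq hd' h6])
  have h9 := ((hg'.trans hd').mul (hg'.trans hd')).trans (hb'.trans hc')
  obtain ⟨k, -, hk⟩ := (by decide +kernel : ∀ g < 17, (g * g * (g * g)) * (g * g * (g * g)) ≡ 4 * 4
    [MOD 17] → ∃ k < 16, g ^ k ≡ 3 [MOD 17]) g hg ((h9.mul h9).trans ha')
  have h10 := actW_mul hw e3 k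
  rw [pow_eq_pow_of_modEq hk h8] at h10
  obtain ⟨L, hL⟩ := chevE8.stRoot.mem_weyl_iff.1 (pow_mem hw (1 * k))
  obtain ⟨s, hs, -⟩ := (chevE8.adjRep K).rat_tor (tabE8 _) hiE8 (by norm_num) dvd_rfl (by norm_num)
    (center_E8 _) hξ chkE8_17 (χ := z) (show torG z ^ 17 = 1 by rw [← map_pow, h8, map_one])
    (stTor_injective_E8 _) (show IsConj _ (torG z ^ 3) by
      rw [← map_pow, ← h10, ← hL, torG_actW]
      exact isConj_iff.2 ⟨_, by rw [inv_inv]; exact chevE8.nw_inv_conj_torC L z⟩) (by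
      simpa using fun e => h7 (chevE8.torC_injective (stTor_injective_E8 _) (e.trans (map_one _).symm)))
  exact absurd hs (by simp)

theorem pow_3333 : ∀ v : (MZ 3 × MZ 3) × MZ 3 × MZ 3, v ^ 3 = 1 := by decide +kernel

/-- an elementary abelian group with two regular orbits of its factors -/
def j3333 := toAlt (reg2 (reg (MZ 3 × MZ 3)) (reg (MZ 3 × MZ 3))) (by decide : Odd 3) pow_3333

/-- a Singer cycle -/
def sing : Perm (MZ 3 × MZ 3) where
  toFun x := (x.2, x.1 * x.2)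
  invFun x := (x.2 / x.1, x.1)
  left_inv x := by simp
  right_inv x := by simp

/-- an automorphism of order sixteen -/
def θ16 (x : (MZ 3 × MZ 3) × MZ 3 × MZ 3) : (MZ 3 × MZ 3) × MZ 3 × MZ 3 := (x.2, sing x.1)

theorem not_E8_18 {F : Type*} [Field F] [Finite F] (p : ℕ) [hp : Fact p.Prime] [CharP F p]
    (h : Sec (alternatingGroup ((MZ 3 × MZ 3) ⊕ (MZ 3 × MZ 3))) (chevE8.group F)) (h3 : p ≠ 3) :
    False := by
  obtain ⟨n, H, f, hf, hk⟩ := exists_cover chevE8 (fun K _ => stTor_injective_E8 K) p h (by simp) 3 5 17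
    (by norm_num) h3 (by rw [card_weyl_E8]; norm_num) (by norm_num) (by simp; decide +kernel)
    (by decide +kernel)
  have := chevE8.finite_stGroup (GaloisField p n)
  obtain ⟨j, hj, h1⟩ := exists_lift hf.surj hk (isPGroup_of_pow pow_3333) j3333
  obtain ⟨y, hy⟩ := h1 θ16 ⟨sumComm _ _ * sumCongr sing 1, by
    rw [Perm.mem_alternatingGroup]; decide +kernel⟩ fun a => Subtype.ext (by
      change (sumComm _ _ * sumCongr sing 1) * (j3333 a).1 * (sumComm _ _ * sumCongr sing 1)⁻¹ = _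
      revert a; decide +kernel)
  let K := AlgebraicClosure (GaloisField p n)
  have hinj := stTor_injective_E8 K
  let ψ := (chevE8.stMap (algebraMap _ K)).comp H.subtype
  have h2 : ∀ k a, y ^ k * j a * (y ^ k)⁻¹ = j (θ16^[k] a) := fun k a => by
    induction k with
    | zero => simp
    | succ k ih => rw [Function.iterate_succ_apply', ← hy, ← ih, pow_succ']; group
  obtain ⟨g, hg⟩ := exists_conj_HH_list p hinj
    ((MonoidHom.ker_eq_bot_iff _).1 (by rw [ker_stProj, center_stE8])) (exists_pow_fix _ p) neg_E8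
    (l := 3) (v := 5) (by norm_num) (coprime_of_ne p Nat.prime_three h3) (by rw [card_weyl_E8]; norm_num)
    (z := ψ (y ^ 8)) (Finset.univ.toList.map fun a => ψ (j a)) (by
      simp only [List.mem_map, Finset.mem_toList, Finset.mem_univ, true_and, forall_exists_index,
        forall_apply_eq_imp_iff, ← map_pow, ← map_inv, ← map_mul, h2, pow_3333, map_one]
      exact fun a => ⟨by rw [(by decide +kernel : ∀ a, θ16^[8] a = a⁻¹)], fun b => by rw [mul_comm]⟩)
  have h4 : ∀ a, ∃ χ : ChG chevE8 K, torG χ = g⁻¹ * ψ (j a) * g := fun a =>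
    chevE8.exists_torC (hg _ (List.mem_map.2 ⟨a, by simp, rfl⟩))
  choose κ hκ using h4
  have hs := chevE8.isStrong_stGen K
  obtain ⟨u, hu, m, hm, v, hv, e⟩ := RootBN.bruhat (R := hs.rootBN) (g := g⁻¹ * ψ y * g)
    (by rw [hs.rootBN_G, XS_stGen_univ]; trivial)
  obtain ⟨L, -, hL⟩ := chevE8.exists_lw_conj hm
  have hw := chevE8.stRoot.wd_mem_weyl L
  have hT : Function.Injective (torG : ChG chevE8 K →* _) := chevE8.torC_injective hinj
  have hκ' : ∀ a k, κ (a ^ k) = κ a ^ k := fun a k => hT (by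
    have := conj_pow (a := g⁻¹) (b := ψ (j a)) (i := k)
    rw [inv_inv] at this
    rw [map_pow, hκ, hκ, this, map_pow, map_pow])
  have h5 : ∀ a, actW (chevE8.stRoot.wd L) (κ (θ16 a)) = κ a := fun a => by
    have h6 : torG (κ a) ∈ hs.rootBN.H := chevE8.torC_mem_HH (κ a)
    have h7 : torG (κ (θ16 a)) ∈ hs.rootBN.H := chevE8.torC_mem_HH (κ (θ16 a))
    have h8 := RootBN.eq_of_UNU (R := hs.rootBN) hu (RootBN.conj_H_U h7 hu)
      (mul_mem hm (hs.rootBN.H_le_N h6)) (mul_mem (hs.rootBN.H_le_N h7) hm)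
      (RootBN.conj_H_U (inv_mem h6) hv) hv (by
        have : torG (κ (θ16 a)) = u * m * v * torG (κ a) * (u * m * v)⁻¹ := by
          rw [← e, hκ, hκ, ← hy, map_mul, map_mul, map_inv]; group
        rw [this]; group)
    refine hT ?_
    refine (torG_actW L _).trans ((hL (κ (θ16 a))).symm.trans ?_)
    rw [mul_assoc, inv_mul_eq_iff_eq_mul]
    exact h8.symm
  have h6 : ∀ k a, actW (chevE8.stRoot.wd L ^ k) (κ (θ16^[k] a)) = κ a := fun k a => by
    induction k with
    | zero => exact actW_one _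
    | succ k ih => rw [add_comm, actW_add hw, pow_one, add_comm, Function.iterate_succ_apply', h5, ih]
  let a₀ : (MZ 3 × MZ 3) × MZ 3 × MZ 3 := ((.ofAdd 1, 1), 1)
  have h7 : actW (chevE8.stRoot.wd L ^ 8) (κ a₀) = κ a₀ ^ 2 := by
    have := h6 8 (a₀ ^ 2)
    rwa [(by decide +kernel : θ16^[8] (a₀ ^ 2) = a₀), hκ'] at this
  have ho := orderOf_pos (chevE8.stRoot.wd L)
  obtain ⟨s, t, ht, h8⟩ := Nat.exists_eq_two_pow_mul_odd ho.ne'
  by_cases h9 : s ≤ 3
  · have h10 := actW_mul hw h7 t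
    obtain ⟨t, rfl⟩ := ht
    rw [orderOf_dvd_iff_pow_eq_one.1 (h8 ▸ mul_dvd_mul_right (pow_dvd_pow 2 h9) _), actW_one,
      pow_eq_pow_of_modEq (show 2 ^ (2 * t + 1) ≡ 2 [MOD 3] by
        rw [pow_succ, pow_mul]
        simpa using ((show 2 ^ 2 ≡ 1 [MOD 3] from rfl).pow t).mul_right 2)
        (by rw [← hκ', pow_3333, ← pow_zero a₀, hκ', pow_zero]), pow_two, left_eq_mul] at h10
    have h11 := hκ a₀
    rw [h10, map_one, eq_comm, mul_assoc, inv_mul_eq_one, right_eq_mul,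
      map_eq_one_iff ψ fun _ _ e => Subtype.ext (chevE8.stMap_injective hinj _ e)] at h11
    have h12 := hj a₀
    rw [h11, map_one] at h12
    exact absurd (congrArg (·.1.support.card) h12) (by decide +kernel)
  · exact orderOf_ne_E8 (pow_mem hw _) (orderOf_pow_orderOf_div ho.ne'
      (h8 ▸ (pow_dvd_pow 2 (show 4 ≤ s by omega)).mul_right t))

theorem alt_E8 {F : Type*} [Field F] [Finite F] (p : ℕ) [hp : Fact p.Prime] [CharP F p] {r : ℕ}
    (h : Sec (alternatingGroup (Fin r)) (chevE8.group F)) : r ≤ 17 + (if p = 3 then 1 else 0) := by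
  split_ifs with h1
  · exact alt_E8_19 p h (by omega)
  · by_contra hr
    exact not_E8_18 p (h.alt _ (by simp; omega)) h1

end Cfsg.Agent.Chev.AS
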