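import Mathlib
import Cfsg.Agent.Chev.E6Five

/-!
# The centraliser of an element of order five in the twisted group of type `E₆`, `q = 2`
-/

set_option autoImplicit false

namespace Cfsg.Agent.Chev.E6F

open Cfsg.Lie Cfsg.Lie.ChevalleyDatum Cfsg.Agent.Ch

theorem center_sl4 : Subgroup.center (Matrix.SpecialLinearGroup (Fin 4) (ZMod 2)) = ⊥ := by
  rw [eq_bot_iff]
  intro z hz
  obtain ⟨w, hw, e⟩ := Matrix.SpecialLinearGroup.mem_center_iff.1 hz
  obtain rfl : w = 1 := (by decide : ∀ w : ZMod 2, w ^ Fintype.card (Fin 4) = 1 → w = 1) w hw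
  exact Subtype.ext (by rw [← e]; simp)

theorem nonempty_cent_equiv {G H : Type*} [Group G] [Group H] {x : G} (hx : orderOf x = 5)
    (ψ : H →* G) (hψ : Function.Injective ψ) (hZ : Subgroup.center H = ⊥) (hc : ∀ a, Commute x (ψ a))
    (h : Subgroup.centralizer {x} ≤ Subgroup.zpowers x ⊔ ψ.range) :
    Nonempty (Subgroup.centralizer {x} ≃* Multiplicative (ZMod 5) × H) := by
  have h5 : x ^ 5 = 1 := hx ▸ pow_orderOf_eq_one x
  let f := (zh h5).noncommCoprod ψ fun _ _ => (hc _).pow_left _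
  have hi : Function.Injective f := (injective_iff_map_eq_one f).2 fun p hp => by
    have h1 : ψ p.2 = (x ^ (Multiplicative.toAdd p.1).val)⁻¹ := eq_inv_of_mul_eq_one_right hp
    have h2 : p.2 = 1 := by
      rw [← Subgroup.mem_bot, ← hZ, Subgroup.mem_center_iff]
      exact fun a => hψ (by rw [map_mul, map_mul, h1]; exact ((hc a).pow_left _).inv_left.eq.symm)
    rw [h2, map_one, eq_comm, inv_eq_one, ← orderOf_dvd_iff_pow_eq_one, hx] at h1
    exact Prod.ext ((ZMod.val_eq_zero _).1 (Nat.eq_zero_of_dvd_of_lt h1 (ZMod.val_lt _))) h2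
  refine ⟨(MulEquiv.subgroupCongr (le_antisymm (h.trans (sup_le ?_ ?_)) ?_)).trans
    (MonoidHom.ofInjective hi).symm⟩
  · exact Subgroup.zpowers_le.2 ⟨(Multiplicative.ofAdd 1, 1), by
      change x ^ 1 * ψ 1 = x; simp⟩
  · rintro _ ⟨a, rfl⟩
    exact ⟨(1, a), by change x ^ 0 * ψ a = _; simp⟩
  · rintro _ ⟨p, rfl⟩
    exact Subgroup.mem_centralizer_singleton_iff.2 (((Commute.refl x).pow_left _).mul_left (hc _).symm)

/-- The exponents of the element of order five. -/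
def c5 : List ℤ := [1, 0, 0, 0, 0, 2]

/-- The subsystem of type `A₃`. -/
def bt (i j : Fin 4) : Fin 72 := ![![0, 46, 47, 71], ![25, 0, 39, 70], ![24, 32, 0, 69], ![0, 1, 2, 0]] i j

/-- The subsystem of type `A₃`. -/
def β (a : RtA 4) : chevE6.Rt := bt a.1.1 a.1.2

theorem c5_ok : ∀ r : Fin 72, dot c5 (chevE6.wtL r) % 5 = 0 →
    twL [0] (chevE6.wtL r) = chevE6.wtL r ∧ ∃ i j, i ≠ j ∧ bt i j = r := by decide +kernel

theorem bt_ok : ∀ i j : Fin 4, i ≠ j → dot c5 (chevE6.wtL (bt i j)) = 0 ∧ ∀ k l : Fin 4, k ≠ l →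
    (i ≠ l → j ≠ k → 0 ≤ chevE6.pairing (bt i j) (bt k l)) ∧
    (i ≠ l → j = k → chevE6.pairing (bt i j) (bt k l) = -1 ∧ ∀ m < 6,
      chevE6.cartan m (bt i l) = chevE6.cartan m (bt k l) + chevE6.cartan m (bt i j)) := by
  decide +kernel

theorem sep_ok : ∀ a b : Fin 72, (∀ i < 6, (chevE6.cartan i a + 2 * chevE6.cartan i b) % 5 =
    (chevE6.cartan i 56 + 2 * chevE6.cartan i 36) % 5) → a = 56 ∧ b = 36 := by decide +kernel

theorem dotH_c5 (r : chevE6.Rt) : dotH c5 (chevE6.wt r) =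
    chevE6.stRoot.A (chevE6.sr (e6n 0)) r + 2 * chevE6.stRoot.A (chevE6.sr (e6n 5)) r := by
  rw [stRoot_A, stRoot_A, pairing_sr_left, pairing_sr_left]
  change ∑ i : Fin 6, toLat 6 c5 i * chevE6.cartan i r = _
  simp [Fin.sum_univ_six, toLat, c5, e6n]

theorem dotH_wt (c : List ℤ) (r : ℕ) : dotH c (chevE6.wt r) = dot c (chevE6.wtL r) := by
  rw [← toLat_wtL]; exact dotH_toLat _ _

variable {K : Type*} [Field K] {ζ : Kˣ} (hζ : IsPrimitiveRoot ζ 5)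

include hζ in
theorem cv_eq_iff {a b : chevE6.Lat} :
    (cv (ce ζ c5) a : K) = cv (ce ζ c5) b ↔ dotH c5 a % 5 = dotH c5 b % 5 := by
  rw [Units.val_inj, ← mul_inv_eq_one, ce, cv_chrExp, cv_chrExp, ← zpow_sub, hζ.zpow_eq_one_iff_dvd]
  omega

include hζ in
theorem cv_eq_one_iff {r : chevE6.Rt} :
    (cv (ce ζ c5) (chevE6.wt r) : K) = 1 ↔ dot c5 (chevE6.wtL r) % 5 = 0 := by
  have := cv_eq_iff hζ (a := chevE6.wt r) (b := 0)
  rwa [cv_zero, map_zero, dotH_wt] at this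

include hζ in
theorem weyl_stab {w : Equiv.Perm chevE6.Rt} (hw : w ∈ chevE6.stRoot.weyl)
    (h : ∀ r, (cv (ce ζ c5) (chevE6.wt (w r)) : K) = cv (ce ζ c5) (chevE6.wt r)) :
    w ∈ Subgroup.closure {v | ∃ r : chevE6.Rt, (cv (ce ζ c5) (chevE6.wt r) : K) = 1 ∧
      v = chevE6.stRoot.refl r} := by
  have hA := chevE6.stRoot.isAut_of_mem_weyl hw
  have e : ∀ a r, chevE6.stRoot.A a (w r) = chevE6.stRoot.A (w⁻¹ a) r := fun a r => by
    rw [← hA.A (w⁻¹ a) r]; simp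
  have e' : ∀ a (i : chevE6.Nd), chevE6.stRoot.A a (chevE6.sr i) = chevE6.cartan i a := fun a i => by
    rw [slE6.symm, stRoot_A, pairing_sr_left]
  obtain ⟨h1, h2⟩ := sep_ok (w⁻¹ (chevE6.sr (e6n 0))) (w⁻¹ (chevE6.sr (e6n 5))) fun i hi => by
    have := (cv_eq_iff hζ).1 (h (chevE6.sr ⟨i, hi⟩))
    rw [dotH_c5, dotH_c5, e, e, e', e', e', e'] at this
    exact this
  refine Subgroup.closure_mono ?_ (StRoot.mem_closure_of_stab (dotH c5) hw fun r => ?_)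
  · rintro _ ⟨r, hr, rfl⟩
    exact ⟨r, (cv_eq_one_iff hζ).2 (by rw [← dotH_wt]; exact congrArg (· % 5) hr), rfl⟩
  · change dotH c5 (chevE6.wt (w r)) = dotH c5 (chevE6.wt r)
    rw [dotH_c5, dotH_c5, e, e, h1, h2]; rfl

theorem cube_of_central {z : chevE6.SteinbergGroup K} (hz : chevE6.stProj K z = 1) : z ^ 3 = 1 := by
  obtain ⟨e⟩ := center_equiv_E6 K
  obtain ⟨a, ha⟩ := e.surjective ⟨z, by rw [← ker_stProj]; exact hz⟩
  have : a ^ 3 = 1 := Subtype.ext a.2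
  have := congrArg (fun a => (e a : chevE6.SteinbergGroup K)) this
  simpa [ha] using this

theorem cv_toLat (χ : Multiplicative chevE6.Lat →* Kˣ) (v : List ℤ) : cv χ (toLat 6 v) =
    ∏ i : Fin 6, cv χ (Pi.single (e6n i) 1) ^ v.getD i 0 := cv_pi χ _

include hζ in
theorem mem_zpowers_of_mem {χ : Multiplicative chevE6.Lat →* Kˣ}
    (h : χ ∈ twT K ((chevE6.stRoot.lw ([0] : List (Fin 6))).comp e6Sym.lat) 2) :
    chevE6.stProj K (chevE6.torC K χ) ∈ Subgroup.zpowers (chevE6.stProj K (chevE6.torC K (ce ζ c5))) := by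
  have k : ∀ (i : Fin 6) (v : List ℤ), twL [0] (ul i) = v →
      ∏ j : Fin 6, cv χ (Pi.single (e6n j) 1) ^ v.getD j 0 = cv χ (Pi.single (e6n i) 1) ^ 2 := by
    rintro i _ rfl
    rw [← cv_toLat, ← tw_toLat, ← h, ← toLat_ul]; rfl
  have k0 := k 0 [0, 0, 0, 0, 0, 1] (by decide +kernel)
  have k1 := k 1 [0, 1, 0, 0, 0, 0] (by decide +kernel)
  have k2 := k 2 [0, 0, 0, 0, 1, 0] (by decide +kernel)
  have k3 := k 3 [0, 0, 0, 1, 0, 0] (by decide +kernel)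
  have k4 := k 4 [0, 0, 1, 0, 0, 0] (by decide +kernel)
  have k5 := k 5 [-1, 0, 1, 0, 0, 0] (by decide +kernel)
  simp [Fin.prod_univ_six] at k0 k1 k2 k3 k4 k5
  set a := cv χ (Pi.single (e6n 0) 1)
  rw [k0, inv_mul_eq_iff_eq_mul, ← pow_mul, ← pow_succ'] at k5
  rw [k5, ← pow_mul] at k2
  rw [k5, k2, ← pow_mul] at k4
  have ha : a ^ 15 = 1 := mul_left_cancel (a := a ^ 5) (by rw [← pow_add, mul_one]; exact k4.symm)
  obtain ⟨n, -, hn⟩ := hζ.eq_pow_of_mem_rootsOfUnity (ξ := a ^ 6) (by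
    rw [mem_rootsOfUnity, ← pow_mul, show 6 * 5 = 15 * 2 from rfl, pow_mul, ha, one_pow])
  refine ⟨n, ?_⟩
  beta_reduce
  rw [zpow_natCast, ← map_pow, ← map_pow, ← mul_inv_eq_one, ← map_inv, ← map_mul, ← map_inv, ← map_mul,
    torC_apply]
  refine Subtype.ext ((chevE6.coe_stProj_stTor _).trans (twE6_ker.2 ?_))
  simp only [cv_mul, cv_inv, cv_pow, cv_ce_single]
  rw [sq, left_eq_mul] at k1 k3
  rw [k0, k1, k2, k3, k5]
  change ((ζ ^ (1 : ℤ)) ^ n * a⁻¹) ^ 3 = 1 ∧ (ζ ^ (0 : ℤ)) ^ n * _ = 1 ∧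
    (ζ ^ (0 : ℤ)) ^ n * _ = ((ζ ^ (1 : ℤ)) ^ n * a⁻¹) ^ 2 ∧ (ζ ^ (0 : ℤ)) ^ n * _ = 1 ∧
    (ζ ^ (0 : ℤ)) ^ n * _ = (ζ ^ (1 : ℤ)) ^ n * a⁻¹ ∧ (ζ ^ (2 : ℤ)) ^ n * _ = ((ζ ^ (1 : ℤ)) ^ n * a⁻¹) ^ 2
  rw [zpow_one, zpow_zero, one_pow, zpow_ofNat, ← pow_mul, mul_comm 2 n, pow_mul, hn,
    show a ^ 6 * a⁻¹ = a ^ 5 by group]
  simp only [one_mul, inv_one, inv_eq_iff_mul_eq_one, ← pow_mul, ← pow_add, ha, true_and]
  rw [pow_mul, hn]
  group

variable [CharP K 2] {φ : K →+* K} (hφ : ∀ t, φ t = t ^ 2)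

theorem exists_sl4 : ∃ ψ : Matrix.SpecialLinearGroup (Fin 4) (ZMod 2) →* chevE6.SteinbergGroup K,
    ∀ a t, ψ (xA (ZMod 2) a t) = chevE6.stGen K (β a) (ZMod.castHom (dvd_refl 2) K t) := by
  have hA := chevE6.isAB_stGen K
  refine slRel_exists_hom (by norm_num) ⟨fun a t u => by rw [map_add]; exact hA.add _ _ _, fun a b t u h1 h2 =>
    slE6.commute hA (by rw [stRoot_A]; exact ((bt_ok _ _ a.2).2 _ _ b.2).1 h1 h2) _ _,
    fun a b h t u e => ?_⟩
  obtain ⟨h1, h2⟩ := ((bt_ok _ _ a.2).2 _ _ b.2).2 h e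
  have h3 : chevE6.stRoot.A (β a) (β b) = -1 := by rw [stRoot_A]; exact h1
  obtain ⟨C, hC, hb⟩ := slE6.exists_br chevE6.std hA h3
  have h4 : chevE6.stRoot.refl (β a) (β b) = β ⟨(a.1.1, b.1.2), h⟩ := chevE6.stRoot.wt_inj (by
    rw [StRoot.wt_refl', h3]
    funext m
    have := h2 m m.2
    simp only [Pi.sub_apply, Pi.smul_apply, smul_eq_mul, neg_mul, one_mul, sub_neg_eq_add]
    exact this.symm)
  have h5 : C = 1 := by
    rcases mul_self_eq_one_iff.1 hC with e | e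
    · exact e
    · rw [e, CharTwo.neg_eq]
  have := hb (ZMod.castHom (dvd_refl 2) K t) (ZMod.castHom (dvd_refl 2) K u)
  simp only [h4, h5, one_mul, ← map_mul] at this
  exact this

theorem tau_stGen {r : chevE6.Rt} (hr : dot c5 (chevE6.wtL r) % 5 = 0) (t : K) :
    tau φ [0] (chevE6.stGen K r t) = chevE6.stGen K r (φ t) := by
  refine (grE6.twBy_stGen φ _ r t).trans ?_
  congr 2
  refine chevE6.stRoot.wt_inj ?_
  refine (StRoot.lw_wt _ _ _).symm.trans ?_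
  rw [stRoot_wt, ← Sym.lat_wt, stRoot_wt, ← toLat_wtL]
  exact (tw_toLat [0] _).trans (congrArg _ (c5_ok r hr).1)

include hζ hφ in
theorem exists_cent : ∃ x : fixG (tau φ [0]), orderOf x = 5 ∧ Nonempty (Subgroup.centralizer {x} ≃*
    Multiplicative (ZMod 5) × Matrix.SpecialLinearGroup (Fin 4) (ZMod 2)) := by
  have : Fact (Nat.Prime 5) := ⟨by norm_num⟩
  have h5 := hζ.pow_eq_one
  set s := chevE6.torC K (ce ζ c5) with hs
  have hs5 : s ^ 5 = 1 := by rw [hs, ← map_pow, ce_pow_five h5, map_one]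
  let x : fixG (tau φ [0]) := ⟨_, s, (tau_torC hφ).2 (ce_mem h5 (by decide +kernel)), rfl⟩
  have hx : orderOf x = 5 := orderOf_eq_prime (Subtype.ext (by
    change chevE6.stProj K s ^ 5 = 1
    rw [← map_pow, hs5, map_one])) fun e => ce_ne_one hζ (c := c5) (by decide +kernel)
      (congrArg Subtype.val e)
  obtain ⟨ψ, hψ⟩ := exists_sl4 (K := K)
  have hβ : ∀ a, dot c5 (chevE6.wtL (β a)) % 5 = 0 := fun a => congrArg (· % 5) (bt_ok _ _ a.2).1
  have hf : ∀ t, φ t = t ↔ ∃ u, ZMod.castHom (dvd_refl 2) K u = t := fun t => by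
    rw [hφ, sq, mul_right_eq_self₀]
    constructor
    · rintro (rfl | rfl)
      exacts [⟨1, map_one _⟩, ⟨0, map_zero _⟩]
    · rintro ⟨u, rfl⟩
      fin_cases u
      exacts [Or.inr (map_zero _), Or.inl (map_one _)]
  have hm := chevE6.mono_torC (ce ζ c5)
  have h1 : ∀ A, tau φ [0] (ψ A) = ψ A ∧ s * ψ A = ψ A * s := fun A => by
    refine XS_induction (x := xA (ZMod 2)) (S := Set.univ)
      (P := fun A => tau φ [0] (ψ A) = ψ A ∧ s * ψ A = ψ A * s) (by simp) (fun a _ t => ?_)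
      (fun a b ha hb => ⟨by rw [map_mul, map_mul, ha.1, hb.1], by
        rw [map_mul, ← mul_assoc, ha.2, mul_assoc, hb.2, mul_assoc]⟩)
      (fun a ha => ⟨by rw [map_inv, map_inv, ha.1], by
        rw [map_inv]; exact (Commute.inv_right ha.2).eq⟩) (by rw [XS_xA_univ]; trivial)
    rw [hψ, tau_stGen (hβ a), (hf _).2 ⟨t, rfl⟩, ← mul_inv_eq_iff_eq_mul, hm.conj,
      (cv_eq_one_iff hζ).2 (hβ a), one_mul]
    exact ⟨rfl, rfl⟩
  let ψ' : _ →* fixG (tau φ [0]) := ((chevE6.stProj K).comp ψ).codRestrict _ fun A => ⟨_, (h1 A).1, rfl⟩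
  refine ⟨x, hx, nonempty_cent_equiv hx ψ' ?_ center_sl4 (fun A => Subtype.ext ?_) ?_⟩
  · rw [← MonoidHom.ker_eq_bot_iff]
    rcases Cl.sl_normal_le_center_or_eq_top (Or.inl (by simp)) ψ'.ker with h | h
    · rwa [center_sl4, le_bot_iff] at h
    · have h2 : xA (ZMod 2) ⟨(0, 1), by decide⟩ 1 ∈ ψ'.ker := h ▸ trivial
      have h3 : chevE6.stProj K (ψ _) = 1 := congrArg Subtype.val h2
      rw [hψ, stProj_stGen, map_one] at h3
      exact absurd ((chevE6.isModel_XG K).x_eq_one h3) one_ne_zero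
  · exact (map_mul _ _ _).symm.trans ((congrArg (chevE6.stProj K) (h1 A).2).trans (map_mul _ _ _))
  rintro ⟨_, y, hy, rfl⟩ hc
  have hc' : chevE6.stProj K y * chevE6.stProj K s = chevE6.stProj K s * chevE6.stProj K y :=
    congrArg Subtype.val (Subgroup.mem_centralizer_singleton_iff.1 hc)
  have h2 : chevE6.stProj K (y * s * y⁻¹ * s⁻¹) = 1 := by simp [hc']
  have h3 : s * y = y * s := by
    have h4 := cube_of_central h2
    have h6 : Commute (y * s * y⁻¹ * s⁻¹) s :=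
      (Subgroup.mem_center_iff.1 (chevE6.ker_stProj K ▸ h2 : _ ∈ Subgroup.center _) s).symm
    have h7 := h6.mul_pow 5
    rw [inv_mul_cancel_right, conj_pow, hs5, mul_one, mul_one, mul_inv_cancel] at h7
    have h8 := pow_gcd_eq_one.2 ⟨h4, h7.symm⟩
    rw [show Nat.gcd 3 5 = 1 from rfl, pow_one, mul_inv_eq_one, mul_inv_eq_iff_eq_mul] at h8
    exact h8.symm
  have := (chevE6.isStrong_stGen K).mem_of_commute_fix (chevE6.torC_mem_HH _) hm
    (fun w hw h => weyl_stab hζ hw h) (tau φ [0]) φ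
    (fun r hr t => tau_stGen ((cv_eq_one_iff hζ).1 hr) t) (fun a ha => grE6.twBy_mem_HH φ _ ha)
    (P := ((Subgroup.zpowers x ⊔ ψ'.range).map (Subgroup.subtype _)).comap (chevE6.stProj K))
    (fun a ha e => ?_) (fun r t hr e => ?_) (by rw [XS_stGen_univ]; trivial) h3 hy
  · obtain ⟨⟨g, hg'⟩, hg, e⟩ := this
    obtain rfl : g = chevE6.stProj K y := e
    exact hg
  · obtain ⟨χ, rfl⟩ := chevE6.exists_torC ha
    obtain ⟨k, hk⟩ := mem_zpowers_of_mem hζ ((tau_torC hφ).1 e)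
    exact ⟨x ^ k, Subgroup.mem_sup_left (Subgroup.zpow_mem_zpowers x k), hk⟩
  · obtain ⟨i, j, hij, rfl⟩ := (c5_ok r ((cv_eq_one_iff hζ).1 hr)).2
    obtain ⟨u, rfl⟩ := (hf t).1 e
    exact ⟨ψ' (xA (ZMod 2) ⟨(i, j), hij⟩ u), Subgroup.mem_sup_right ⟨_, rfl⟩,
      congrArg (chevE6.stProj K) (hψ _ _)⟩

end Cfsg.Agent.Chev.E6F
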