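import Mathlib
import Cfsg.Agent.Chev.SsLoc
import Cfsg.Agent.Chev.E6Five2

/-!
# Local subgroups of the twisted group of type `E₆`, `q = 2`: general criteria
-/

set_option autoImplicit false

namespace Cfsg.Agent.Chev.E6F

open Cfsg.Lie Cfsg.Lie.ChevalleyDatum

universe u

section Chr

variable {K : Type*} [Field K] {ζ : Kˣ} {m : ℕ}

theorem zpow_congr' (hζ : ζ ^ m = 1) {a b : ℤ} (h : a % m = b % m) : ζ ^ a = ζ ^ b := by
  have : ζ ^ (m : ℤ) = 1 := by exact_mod_cast hζ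
  rw [zpow_eq_zpow_emod a this, h, ← zpow_eq_zpow_emod b this]

theorem ce_pow (hζ : ζ ^ m = 1) (c : List ℤ) : ce ζ c ^ m = 1 := chr_ext fun v => by
  rw [cv_pow, cv_one, ce, cv_chrExp, ← zpow_natCast, ← zpow_mul, mul_comm, zpow_mul, zpow_natCast, hζ,
    one_zpow]

theorem ce_comp' (hζ : ζ ^ m = 1) {W : chevE6.Lat →+ chevE6.Lat} {WL : List ℤ → List ℤ}
    (hW : ∀ u, W (toLat 6 u) = toLat 6 (WL u)) {c c' : List ℤ}
    (h : ∀ i < 6, dot c (WL (ul i)) % m = c'.getD i 0 % m) : chrComp (ce ζ c) W = ce ζ c' :=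
  chr_ext_pi fun i => by
    rw [cv_chrComp, cv_ce_single, ← toLat_ul, hW, cv_ce, zpow_congr' hζ (h i i.2)]

theorem ce_mem' (hζ : ζ ^ m = 1) {L : List (Fin 6)} {c : List ℤ}
    (h : ∀ i < 6, dot c (twL L (ul i)) % m = (c.getD i 0 * 2) % m) :
    ce ζ c ∈ twT K ((chevE6.stRoot.lw L).comp e6Sym.lat) 2 := fun v => by
  have : chrComp (ce ζ c) ((chevE6.stRoot.lw L).comp e6Sym.lat) = ce ζ c ^ 2 := chr_ext_pi fun i => by
    rw [cv_chrComp, cv_pow, cv_ce_single, ← toLat_ul, tw_toLat, cv_ce, zpow_congr' hζ (h i i.2),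
      zpow_mul, zpow_ofNat]
  rw [← cv_chrComp, this, cv_pow]

theorem cv_ce_wt (c : List ℤ) (r : ℕ) : cv (ce ζ c) (chevE6.wt r) = ζ ^ dot c (chevE6.wtL r) := by
  rw [← toLat_wtL]; exact cv_ce _ _

/-- The roots killed by a linear form modulo `m`. -/
def kil (c : List ℤ) (m : ℕ) : Set chevE6.Rt := {r | dot c (chevE6.wtL r) % m = 0}

theorem cv_ce_eq_one (hζ : IsPrimitiveRoot ζ m) {c : List ℤ} {r : chevE6.Rt} :
    cv (ce ζ c) (chevE6.wt r) = 1 ↔ r ∈ kil c m := by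
  rw [cv_ce_wt, hζ.zpow_eq_one_iff_dvd, Int.dvd_iff_emod_eq_zero]; rfl

theorem ng_mem_kil {c : List ℤ} {r : chevE6.Rt} (h : r ∈ kil c m) : chevE6.stRoot.ng r ∈ kil c m := by
  change dot c _ % m = 0 at h ⊢
  rw [← dotH_wt, ← Int.dvd_iff_emod_eq_zero] at h ⊢
  rw [stRoot_ng, wt_ng, map_neg]
  exact h.neg_right

end Chr

/-- The permutation of the roots induced by the twisted Frobenius map. -/
noncomputable def om (L : List (Fin 6)) : Equiv.Perm chevE6.Rt := chevE6.stRoot.wd L * e6Sym.ρ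

theorem wt_om (L : List (Fin 6)) (r : chevE6.Rt) :
    chevE6.wt (om L r) = toLat 6 (twL L (chevE6.wtL r)) := by
  refine (chevE6.stRoot.lw_wt L (e6Sym.ρ r)).symm.trans ?_
  rw [stRoot_wt, ← Sym.lat_wt, ← toLat_wtL]
  exact tw_toLat L _

theorem dot_om (c : List ℤ) (L : List (Fin 6)) (r : chevE6.Rt) :
    dot c (chevE6.wtL (om L r)) = dot c (twL L (chevE6.wtL r)) := by
  rw [← dotH_wt, wt_om, dotH_toLat]

/-- A product of reflections on lists. -/
def rfL (rs : List (Fin 72)) (v : List ℤ) : List ℤ :=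
  rs.foldr (fun a v => (List.range 6).map fun k => v.getD k 0 - chevE6.cwL a v * chevE6.cartan k a) v

variable {K : Type u} [Field K] [CharP K 2]

theorem exists_conj_rfL {S : Set chevE6.Rt} (hS : ∀ r ∈ S, chevE6.stRoot.ng r ∈ S) (rs : List (Fin 72))
    (h : ∀ a ∈ rs, e6r a ∈ S) : ∃ n ∈ XS (fun r : chevE6.Rt => chevE6.stGen K r) S,
      ∀ (r : chevE6.Rt) v, chevE6.wt r = toLat 6 v → ∃ r' : chevE6.Rt,
        chevE6.wt r' = toLat 6 (rfL rs v) ∧ ∀ t, n * chevE6.stGen K r t * n⁻¹ = chevE6.stGen K r' t := by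
  induction rs with
  | nil => exact ⟨1, one_mem _, fun r v e => ⟨r, e, by simp⟩⟩
  | cons a rs ih =>
    obtain ⟨n, hn, h1⟩ := ih fun b hb => h b (List.mem_cons_of_mem _ hb)
    have ha := h a List.mem_cons_self
    refine ⟨chevE6.stRoot.nn (fun r : chevE6.Rt => chevE6.stGen K r) (e6r a) 1 * n,
      mul_mem (StRoot.nn_mem_XS ha (hS _ ha) _) hn, fun r v e => ?_⟩
    obtain ⟨r', e', h2⟩ := h1 r v e
    refine ⟨chevE6.stRoot.refl (e6r a) r', ?_, fun t => ?_⟩
    · refine (chevE6.stRoot.wt_refl' _ _).trans ?_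
      rw [stRoot_A, pairing_eq_dot, stRoot_wt, e']
      erw [← chevE6.cwL_eq]
      exact (toLat_map 6 fun k => (rfL rs v).getD k 0 - chevE6.cwL a (rfL rs v) * chevE6.cartan k a).symm
    · have := ((chevE6.isModel_stGen K).toIsSt.mono_nn (e6r a) (one_ne_zero (α := K))).conj r' t
      rw [one_zpow, mul_one, show (chevE6.stRoot.eta (e6r a) r' : K) = 1 from by
        rcases mul_self_eq_one_iff.1 (StRoot.eta_mul_self (R := chevE6.stRoot) (K := K) (e6r a) r') with h | h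
        exacts [h, h.trans (CharTwo.neg_eq 1)], one_mul] at this
      rw [← this, ← h2]; group

variable {φ : K →+* K}

theorem tau_gen (L : List (Fin 6)) (r : chevE6.Rt) (t : K) :
    tau φ L (chevE6.stGen K r t) = chevE6.stGen K (om L r) (φ t) := grE6.twBy_stGen φ L r t

omit [CharP K 2] in
theorem eq_zero_of_three {a b c : chevE6.Rt} (h : [a, b, c].Nodup) (hp : ∀ r ∈ [a, b, c], 36 ≤ r.1)
    {t u v : K} (e : chevE6.XG K a t * chevE6.XG K b u * chevE6.XG K c v = 1) : t = 0 := by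
  classical
  have hM := chevE6.isModel_XG K
  have := hM.uniq_pos h (fun r hr => (chevE6.stRoot_pos r).2
    ((by decide +kernel : ∀ r : Fin 72, 36 ≤ r.1 → chevE6.IsPosRoot r) r (hp r hr)))
    (fun r => if r = a then t else if r = b then u else v) (fun _ => 0) (by
      rw [stProd_zero fun r _ => hM.add r, ← e]
      simp only [List.nodup_cons, List.mem_cons, not_or] at h
      simp [stProd, Ne.symm h.1.1, Ne.symm h.1.2.1, Ne.symm h.2.1.1, mul_assoc]) a (by simp)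
  simpa using this

/-- The points of a subsystem subgroup. -/
noncomputable abbrev sub (τ : chevE6.SteinbergGroup K →* chevE6.SteinbergGroup K) (S : Set chevE6.Rt) :
    Subgroup (fixG τ) := (XS (fun r : chevE6.Rt => chevE6.XG K r) S).subgroupOf (fixG τ)

omit [CharP K 2] in
theorem stProj_mem_XS {S : Set chevE6.Rt} {g : chevE6.SteinbergGroup K}
    (h : g ∈ XS (fun r : chevE6.Rt => chevE6.stGen K r) S) :
    chevE6.stProj K g ∈ XS (fun r : chevE6.Rt => chevE6.XG K r) S := by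
  simpa only [stProj_stGen] using map_mem_XS (chevE6.stProj K) h

omit [CharP K 2] in
theorem commute_sub {τ : chevE6.SteinbergGroup K →* chevE6.SteinbergGroup K} {S S' : Set chevE6.Rt}
    (h : ∀ a ∈ S, ∀ b ∈ S', chevE6.pairing a b = 0) {x y : fixG τ} (hx : x ∈ sub τ S)
    (hy : y ∈ sub τ S') : Commute x y := by
  refine Subtype.ext (Subgroup.mem_centralizer_singleton_iff.1 (XS_le (fun a ha t => ?_) hx))
  refine Subgroup.mem_centralizer_singleton_iff.2 (Eq.symm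
    (Subgroup.mem_centralizer_singleton_iff.1 (XS_le (fun b hb u => ?_) hy)))
  exact Subgroup.mem_centralizer_singleton_iff.2 (slE6.commute (chevE6.isModel_XG K).toIsAB
    (by rw [stRoot_A, h a ha b hb]) t u).symm

variable [IsAlgClosed K]

theorem hasV4_of_add {τ : chevE6.SteinbergGroup K →* chevE6.SteinbergGroup K} {S : Set chevE6.Rt}
    (g : K → chevE6.SteinbergGroup K) (hadd : ∀ c d, g (c + d) = g c * g d) {q : ℕ} (hq : q = 3 ∨ q = 7)
    (hfix : ∀ c, c ^ (q + 1) = c → τ (g c) = g c) (hinj : ∀ c, chevE6.stProj K (g c) = 1 → c = 0)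
    (hS : ∀ c, g c ∈ XS (fun r : chevE6.Rt => chevE6.stGen K r) S) : HasV4 (sub τ S) := by
  obtain ⟨ξ, hξ⟩ := exists_primitiveRoot_units K (N := q) (by
    rw [Ne, CharP.cast_eq_zero_iff _ 2]; omega)
  have h0 : g 0 = 1 := by simpa using hadd 0 0
  have h1 : ∀ c, chevE6.stProj K (g c) * chevE6.stProj K (g c) = 1 := fun c => by
    rw [← map_mul, ← hadd, CharTwo.add_self_eq_zero, h0, map_one]
  refine ⟨⟨_, g 1, hfix 1 (one_pow _), rfl⟩, stProj_mem_XS (hS _), ⟨_, g ξ, hfix ξ (by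
      rw [pow_succ, ← Units.val_pow_eq_pow_val, hξ.pow_eq_one]; simp), rfl⟩, stProj_mem_XS (hS _),
    Subtype.ext (h1 _), Subtype.ext (h1 _), Subtype.ext ?_,
    fun e => one_ne_zero (hinj _ (congrArg Subtype.val e)),
    fun e => ξ.ne_zero (hinj _ (congrArg Subtype.val e)), fun e => ?_⟩
  · exact (map_mul _ _ _).symm.trans ((congrArg _ (by rw [← hadd, ← hadd, add_comm])).trans (map_mul _ _ _))
  · have := hinj (1 + ξ) (by rw [hadd, map_mul]; exact congrArg Subtype.val e)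
    rw [add_eq_zero_iff_eq_neg, CharTwo.neg_eq] at this
    exact hξ.ne_one (by omega) (Units.ext this.symm)

variable (hK : LocFin K 2) (hφ : ∀ t, φ t = t ^ 2)
include hK hφ

theorem exists_lang_kil {L : List (Fin 6)} {c : List ℤ} {m : ℕ}
    (h1 : ∀ r : Fin 72, dot c (chevE6.wtL r) % m = 0 → dot c (twL L (chevE6.wtL r)) % m = 0)
    {rs : List (Fin 72)} (h2 : ∀ a ∈ rs, dot c (chevE6.wtL a) % m = 0) :
    ∃ l ∈ XS (fun r : chevE6.Rt => chevE6.stGen K r) (kil c m), ∀ r r' : Fin 72,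
      rfL rs (twL L (chevE6.wtL r)) = chevE6.wtL r' → ∀ t,
        tau φ L (l * chevE6.stGen K r t * l⁻¹) = l * chevE6.stGen K r' (t ^ 2) * l⁻¹ := by
  obtain ⟨n, hn, h3⟩ := exists_conj_rfL (K := K) (S := kil c m) (fun r => ng_mem_kil) rs h2
  obtain ⟨l, hl, h4⟩ := exists_lang_XS hK (tau_gen (φ := φ) L) hφ (S := kil c m)
    (fun r hr => (congrArg (· % (m : ℤ)) (dot_om c L r)).trans (h1 r hr)) hn
  refine ⟨l, hl, fun r r' e t => ?_⟩
  obtain ⟨s, hs, h5⟩ := h3 _ _ (wt_om L (e6r r))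
  obtain rfl : s = e6r r' := chevE6.wt_inj (hs.trans ((congrArg (toLat 6) e).trans (chevE6.toLat_wtL _)))
  rw [h4]
  exact congrArg (l * · * l⁻¹) ((congrArg (n * · * n⁻¹) (tau_gen L (e6r r) t)).trans
    ((h5 _).trans (congrArg _ (hφ t))))

/-- The conditions producing a four-group from an orbit of length two or three. -/
def V4OK (L : List (Fin 6)) (c : List ℤ) (m : ℕ) (rs : List (Fin 72)) (a b d : Fin 72) : Prop :=
  (∀ r : Fin 72, dot c (chevE6.wtL r) % m = 0 → dot c (twL L (chevE6.wtL r)) % m = 0) ∧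
  (∀ a ∈ rs, dot c (chevE6.wtL a) % m = 0) ∧ [a, b, d].Nodup ∧ (∀ r ∈ [a, b, d], 36 ≤ r.1) ∧
  dot c (chevE6.wtL a) % m = 0 ∧ dot c (chevE6.wtL b) % m = 0 ∧ 0 ≤ chevE6.pairing a b ∧
  rfL rs (twL L (chevE6.wtL a)) = chevE6.wtL b ∧ (rfL rs (twL L (chevE6.wtL b)) = chevE6.wtL a ∨
    (dot c (chevE6.wtL d) % m = 0 ∧ 0 ≤ chevE6.pairing a d ∧ 0 ≤ chevE6.pairing b d ∧
      rfL rs (twL L (chevE6.wtL b)) = chevE6.wtL d ∧ rfL rs (twL L (chevE6.wtL d)) = chevE6.wtL a))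

instance instDecidableV4OK (L : List (Fin 6)) (c : List ℤ) (m : ℕ) (rs : List (Fin 72)) (a b d : Fin 72) :
    Decidable (V4OK L c m rs a b d) := by unfold V4OK; infer_instance

theorem V4OK.hasV4 {L : List (Fin 6)} {c : List ℤ} {m : ℕ} {rs : List (Fin 72)} {a b d : Fin 72}
    (h : V4OK L c m rs a b d) : HasV4 (sub (tau φ L) (kil c m)) := by
  obtain ⟨h1, h2, h3, h4, ha, hb, hab, e1, h5⟩ := h
  obtain ⟨l, hl, h6⟩ := exists_lang_kil hK hφ h1 h2
  have hA := chevE6.isAB_stGen K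
  have hc : ∀ {a b : Fin 72}, 0 ≤ chevE6.pairing a b → ∀ t u,
      Commute (l * chevE6.stGen K a t * l⁻¹) (l * chevE6.stGen K b u * l⁻¹) := fun {a b} h t u =>
    (slE6.commute hA (a := e6r a) (b := e6r b) (by rw [stRoot_A]; exact h) t u).map (MulAut.conj l)
  have hd : ∀ (a : Fin 72) t u, l * chevE6.stGen K a (t + u) * l⁻¹ =
      l * chevE6.stGen K a t * l⁻¹ * (l * chevE6.stGen K a u * l⁻¹) := fun a t u => by
    rw [show chevE6.stGen K a (t + u) = _ * _ from hA.add (e6r a) t u]; simp [e6r, mul_assoc]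
  have hm : ∀ {a : Fin 72}, dot c (chevE6.wtL a) % m = 0 → ∀ t, l * chevE6.stGen K a t * l⁻¹ ∈
      XS (fun r : chevE6.Rt => chevE6.stGen K r) (kil c m) := fun {a} h t =>
    mul_mem (mul_mem hl (x_mem_XS (fun r : chevE6.Rt => chevE6.stGen K r) (r := e6r a) h t)) (inv_mem hl)
  have hi : ∀ t u v, chevE6.stProj K (l * chevE6.stGen K a t * l⁻¹ * (l * chevE6.stGen K b u * l⁻¹) *
      (l * chevE6.stGen K d v * l⁻¹)) = 1 → t = 0 := fun t u v e => by
    refine eq_zero_of_three (a := e6r a) (b := e6r b) (c := e6r d) h3 h4 (u := u) (v := v) ?_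
    rw [← conj_eq_one_iff (a := chevE6.stProj K l), ← e, ← stProj_stGen, ← stProj_stGen, ← stProj_stGen]
    simp [e6r, mul_assoc]
  rcases h5 with e2 | ⟨hd', had, hbd, e2, e3⟩
  · refine hasV4_of_add (fun t => l * chevE6.stGen K a t * l⁻¹ * (l * chevE6.stGen K b (t ^ 2) * l⁻¹))
      (fun t u => ?_) (Or.inl rfl) (fun t ht => ?_) (fun t e => hi t (t ^ 2) 0 ?_)
      fun t => mul_mem (hm ha _) (hm hb _)
    · rw [CharTwo.add_sq, hd, hd, (hc hab _ _).mul_mul_mul_comm]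
    · rw [map_mul, h6 _ _ e1, h6 _ _ e2, ← pow_mul, ht, (hc hab _ _).eq]
    · rw [← e, show chevE6.stGen K d 0 = 1 from (hA.add (e6r d)).zero]; simp
  · refine hasV4_of_add (fun t => l * chevE6.stGen K a t * l⁻¹ * (l * chevE6.stGen K b (t ^ 2) * l⁻¹) *
      (l * chevE6.stGen K d ((t ^ 2) ^ 2) * l⁻¹)) (fun t u => ?_) (Or.inr rfl) (fun t ht => ?_)
      (fun t e => hi _ _ _ e) fun t => mul_mem (mul_mem (hm ha _) (hm hb _)) (hm hd' _)
    · rw [CharTwo.add_sq, CharTwo.add_sq, hd, hd, hd, (hc hab _ _).mul_mul_mul_comm,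
        ((hc had _ _).mul_left (hc hbd _ _)).mul_mul_mul_comm]
    · rw [map_mul, map_mul, h6 _ _ e1, h6 _ _ e2, h6 _ _ e3, show ((t ^ 2) ^ 2) ^ 2 = t from by
        rw [← pow_mul, ← pow_mul, ht], ← ((hc hab _ _).mul_right (hc had _ _)).eq, ← mul_assoc]

/-- The longest word. -/
def wd0 : List (Fin 6) := [0, 1, 2, 0, 3, 1, 2, 0, 3, 2, 4, 3, 1, 2, 0, 3, 2, 4, 3, 1, 5, 4, 3, 1, 2, 0,
  3, 2, 4, 3, 1, 5, 4, 3, 2, 0]

omit hK hφ in
theorem om_wd0 (r : chevE6.Rt) : om wd0 r = chevE6.stRoot.ng r := chevE6.wt_inj (by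
  have h : ∀ i : Fin 6, twL wd0 (ul i) = (List.range 6).map fun k => -(ul i).getD k 0 := by
    decide +kernel
  have : (chevE6.stRoot.lw wd0).comp e6Sym.lat = -AddMonoidHom.id _ := AddMonoidHom.toIntLinearMap_injective
    ((Pi.basisFun ℤ chevE6.Nd).ext fun i => by
      rw [Pi.basisFun_apply, ← toLat_ul]
      exact (tw_toLat wd0 (ul i)).trans ((congrArg (toLat 6) (h i)).trans
        (toLat_map 6 fun k => -(ul i).getD k 0)))
  rw [wt_om, ← tw_toLat, this, stRoot_ng, wt_ng, ← toLat_wtL]; rfl)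

theorem eq_one_of_comm_fixG (L : List (Fin 6)) {d : chevE6.group K}
    (h : ∀ g ∈ fixG (tau φ L), Commute g d) : d = 1 := by
  obtain ⟨l, -, hl⟩ := exists_lang_XS hK (tau_gen (φ := φ) L) hφ (S := Set.univ) (fun _ _ => trivial)
    (n := chevE6.stRoot.nw (fun r : chevE6.Rt => chevE6.stGen K r) wd0 *
      (chevE6.stRoot.nw (fun r : chevE6.Rt => chevE6.stGen K r) L)⁻¹) (by rw [XS_stGen_univ]; trivial)
  obtain ⟨d, rfl⟩ := (MulAut.conj (chevE6.stProj K l)).surjective d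
  have h1 : ∀ g, tau φ wd0 g = g → chevE6.stProj K g * d = d * chevE6.stProj K g := fun g hg => by
    have := h _ ⟨l * g * l⁻¹, (hl g).trans (congrArg (l * · * l⁻¹) (Eq.trans (by
      rw [show tau φ L g = _ from twBy_apply _ _ _, show tau φ wd0 g = _ from twBy_apply _ _ _]
      group) hg)), rfl⟩
    rw [map_mul, map_mul, map_inv] at this
    exact (MulAut.conj (chevE6.stProj K l)).injective (by rw [map_mul, map_mul]; exact this)
  obtain ⟨ξ, hξ⟩ := exists_primitiveRoot_units K (N := 3) (by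
    rw [Ne, CharP.cast_eq_zero_iff _ 2]; omega)
  have hs := chevE6.isStrong_XG K
  have hc : ∀ a ∈ Set.range fun i : Fin 6 => chevE6.stProj K (chevE6.torC K (ce ξ (ul i))), ∃ i : Fin 6,
    chevE6.stProj K (chevE6.torC K (ce ξ (ul i))) = a := fun a ha => ha
  choose! ψ hψ using hc
  have h2 : d ∈ chevE6.stRoot.HH fun r : chevE6.Rt => chevE6.XG K r := by
    refine hs.mem_HH_of_commute (S := Set.range fun i : Fin 6 => chevE6.stProj K (chevE6.torC K (ce ξ (ul i))))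
      (c := fun a s => (cv (ce ξ (ul (ψ a))) (chevE6.wt s) : K)) ?_ (fun a ha => ?_) (fun r r' hr => ?_)
      (by rw [XS_XG_univ]; trivial) ?_
    · rintro _ ⟨i, rfl⟩; exact chevE6.stProj_torC_mem _
    · have := chevE6.mono_stProj_torC (ce ξ (ul (ψ a)))
      rwa [hψ a ha] at this
    · obtain ⟨i, hi⟩ := (by decide +kernel : ∀ r r' : Fin 72, r ≠ r' → ∃ i : Fin 6,
        (chevE6.cartan i r - chevE6.cartan i r') % 3 ≠ 0) r r' hr
      refine ⟨_, ⟨i, rfl⟩, fun e => hi ?_⟩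
      have h4 := chevE6.mono_stProj_torC (ce ξ (ul (ψ (chevE6.stProj K (chevE6.torC K (ce ξ (ul i)))))))
      rw [hψ _ ⟨i, rfl⟩] at h4
      have h5 := (hs.toIsModel.mono_unique h4 (chevE6.mono_stProj_torC _)).2
      have h6 : ∀ r : ℕ, dot (ul i) (chevE6.wtL r) = chevE6.cartan i r := fun r => by
        fin_cases i <;> simp [dot, ul, sumL, wtL, List.range_succ, show chevE6.rank = 6 from rfl]
      beta_reduce at e
      rw [congrFun h5 r, congrFun h5 r', Units.val_inj, cv_ce_wt, cv_ce_wt, h6, h6, ← mul_inv_eq_one,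
        ← zpow_sub, hξ.zpow_eq_one_iff_dvd] at e
      exact Int.emod_eq_zero_of_dvd e
    · rintro _ ⟨i, rfl⟩
      exact h1 _ ((tau_torC hφ).2 (ce_mem' hξ.pow_eq_one ((by decide +kernel : ∀ i : Fin 6, ∀ j < 6,
        dot (ul i) (twL wd0 (ul j)) % (3 : ℕ) = ((ul i).getD j 0 * 2) % (3 : ℕ)) i)))
  obtain ⟨y, hy, rfl⟩ : d ∈ (chevE6.stRoot.HH fun r : chevE6.Rt => chevE6.stGen K r).map
      (chevE6.stProj K) := by
    rw [StRoot.map_HH]; simpa only [stProj_stGen] using h2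
  obtain ⟨χ, rfl⟩ := chevE6.exists_torC hy
  rw [(chevE6.stProj_torC_eq_one_iff χ).2 fun i => ?_, map_one]
  have h3 := h1 (chevE6.stRoot.nn (fun r : chevE6.Rt => chevE6.stGen K r) (chevE6.sr i) 1) (by
    conv_rhs => rw [← (chevE6.isModel_stGen K).toIsSt.nn_ng (chevE6.sr i) one_ne_zero]
    simp [StRoot.nn, tau_gen, om_wd0, StRoot.ng_ng, CharTwo.neg_eq])
  rw [StRoot.map_nn] at h3
  simp only [stProj_stGen] at h3
  obtain ⟨j, hj⟩ := (by decide +kernel : ∀ i : Fin 6, ∃ j : Fin 72,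
    chevE6.pairing (chevE6.simple i) j = -1) i
  have h4 := hs.toIsModel.c_wN_of_commute (chevE6.mono_stProj_torC χ) (StRoot.nn_mem_NN _ one_ne_zero)
    h3.symm (e6r j)
  rw [hs.toIsModel.wN_nn _ one_ne_zero, Units.val_inj, ← stRoot_wt, StRoot.wt_refl', stRoot_A,
    show chevE6.pairing (chevE6.sr i) (e6r j) = -1 from hj, cv_sub, neg_smul, one_smul, cv_neg, inv_inv,
    stRoot_wt, mul_eq_left] at h4
  exact h4

end Cfsg.Agent.Chev.E6F
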