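import Mathlib
import Cfsg.Agent.Chev.E6Loc

/-!
# Local subgroups of the twisted group of type `E₆`, `q = 2`, for the primes `p > 5`
-/

set_option autoImplicit false

namespace Cfsg.Agent.Chev.E6F

open Cfsg.Lie Cfsg.Lie.ChevalleyDatum

universe u

section Abstract

variable {G : Type*} [Group G] [Finite G] {p : ℕ}

theorem not_coatom_of_cyclic (hp : p.Prime) (h : ¬ p ^ 2 ∣ Nat.card G) {x : G} (hx : orderOf x = p)
    (h1 : ¬ IsCoatom (Subgroup.normalizer (Subgroup.zpowers x : Set G))) {P : Subgroup G}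
    (hP : IsPGroup p P) (hP1 : P ≠ ⊥) : ¬ IsCoatom (Subgroup.normalizer (P : Set G)) := fun hc => by
  have hQ : Nat.card (Subgroup.zpowers x) = p ^ 1 := by rw [Nat.card_zpowers, hx, pow_one]
  obtain ⟨g, hg⟩ := exists_conj_le hp hP hQ h
  have h2 := Subgroup.card_dvd_of_le hg
  rw [hQ, pow_one, Nat.dvd_prime hp] at h2
  rcases h2 with h2 | h2
  · exact hP1 ((Subgroup.map_eq_bot_iff_of_injective _ (MulAut.conj g).injective).1
      (Subgroup.card_eq_one.1 h2))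
  · exact h1 (Subgroup.eq_of_le_of_card_ge hg (by rw [hQ, h2, pow_one]) ▸ isCoatom_normalizer_map _ hc)

/-- The powers of an element of order dividing `p`. -/
def zhp [NeZero p] {x : G} (hx : x ^ p = 1) : Multiplicative (ZMod p) →* G :=
  MonoidHom.mk' (fun a => x ^ (Multiplicative.toAdd a).val) fun a b => by
    rw [toAdd_mul, ZMod.val_add, ← pow_eq_pow_mod _ hx, pow_add]

theorem not_coatom_of_pair (hp : p.Prime) (h : ¬ p ^ 3 ∣ Nat.card G) {A B : G} (hA : orderOf A = p)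
    (hB : orderOf B = p) (hc : Commute A B)
    (hj : ∀ a < p, ∀ b < p, a ≠ 0 ∨ b ≠ 0 → IsConj (A ^ a * B ^ b) A ∨ IsConj (A ^ a * B ^ b) B)
    (h1 : ¬ IsCoatom (Subgroup.normalizer (Subgroup.zpowers A : Set G)))
    (h2 : ¬ IsCoatom (Subgroup.normalizer (Subgroup.zpowers B : Set G)))
    (h3 : ¬ IsCoatom (Subgroup.normalizer ((Subgroup.zpowers A ⊔ Subgroup.zpowers B : Subgroup G) : Set G)))
    {P : Subgroup G} (hP : IsPGroup p P) (hP1 : P ≠ ⊥) :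
    ¬ IsCoatom (Subgroup.normalizer (P : Set G)) := fun hco => by
  have : Fact p.Prime := ⟨hp⟩
  have hA' : A ^ p = 1 := hA ▸ pow_orderOf_eq_one A
  have hB' : B ^ p = 1 := hB ▸ pow_orderOf_eq_one B
  let f := (zhp hA').noncommCoprod (zhp hB') fun _ _ => hc.pow_pow _ _
  have hf : ∀ v, f v ≠ 1 ∨ v ≠ 1 → IsConj (f v) A ∨ IsConj (f v) B := fun v hv =>
    hj _ (ZMod.val_lt _) _ (ZMod.val_lt _) (by
      by_contra hn
      simp only [ZMod.val_eq_zero, ne_eq, not_or, not_not] at hn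
      obtain rfl : v = 1 := Prod.ext hn.1 hn.2
      simp at hv)
  have hi : Function.Injective f := (injective_iff_map_eq_one f).2 fun v hv => by
    by_contra hn
    rcases hf v (Or.inr hn) with e | e <;> rw [hv, isConj_one_right] at e
    · exact hp.one_lt.ne (by rw [← hA, e, orderOf_one])
    · exact hp.one_lt.ne (by rw [← hB, e, orderOf_one])
  have hQ : Nat.card f.range = p ^ 2 := by
    rw [← Nat.card_congr (MonoidHom.ofInjective hi).toEquiv]; simp [sq]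
  obtain ⟨g, hg⟩ := exists_conj_le hp hP hQ h
  replace hco := isCoatom_normalizer_map (MulAut.conj g) hco
  replace hP1 : P.map (MulAut.conj g : G →* G) ≠ ⊥ := fun e =>
    hP1 ((Subgroup.map_eq_bot_iff_of_injective _ (MulAut.conj g).injective).1 e)
  generalize P.map (MulAut.conj g : G →* G) = Q at hg hco hP1
  have h4 := Subgroup.card_dvd_of_le hg
  rw [hQ, Nat.dvd_prime_pow hp] at h4
  obtain ⟨k, hk, e⟩ := h4
  rcases hk.eq_or_lt with rfl | hk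
  · suffices h5 : Q = Subgroup.zpowers A ⊔ Subgroup.zpowers B from h3 (h5 ▸ hco)
    rw [Subgroup.eq_of_le_of_card_ge hg (by rw [hQ, e])]
    refine le_antisymm ?_ (sup_le (Subgroup.zpowers_le.2 ⟨(Multiplicative.ofAdd 1, 1), ?_⟩)
      (Subgroup.zpowers_le.2 ⟨(1, Multiplicative.ofAdd 1), ?_⟩))
    · rintro _ ⟨v, rfl⟩
      exact mul_mem (Subgroup.mem_sup_left (Subgroup.npow_mem_zpowers _ _))
        (Subgroup.mem_sup_right (Subgroup.npow_mem_zpowers _ _))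
    · change A ^ (1 : ZMod p).val * B ^ (0 : ZMod p).val = A
      simp [ZMod.val_one]
    · change A ^ (0 : ZMod p).val * B ^ (1 : ZMod p).val = B
      simp [ZMod.val_one]
  obtain ⟨⟨y, hy⟩, hy1⟩ := Subgroup.ne_bot_iff_exists_ne_one.1 hP1
  obtain ⟨v, rfl⟩ := hg hy
  have key : ∀ C : G, orderOf C = p → IsConj (f v) C →
      IsCoatom (Subgroup.normalizer (Subgroup.zpowers C : Set G)) := fun C hC hj => by
    obtain ⟨c, rfl⟩ := isConj_iff.1 hj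
    have h5 : Subgroup.zpowers (f v) = Q := Subgroup.eq_of_le_of_card_ge (Subgroup.zpowers_le.2 hy) (by
      rw [Nat.card_zpowers, ← (MulAut.conj c).orderOf_eq, MulAut.conj_apply, hC, e]
      exact (Nat.pow_le_pow_right hp.pos (show k ≤ 1 by omega)).trans (pow_one p).le)
    have := isCoatom_normalizer_map (MulAut.conj c) (h5 ▸ hco)
    rwa [MonoidHom.map_zpowers] at this
  rcases hf v (Or.inl fun e => hy1 (Subtype.ext e)) with e | e
  exacts [h1 (key A hA e), h2 (key B hB e)]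

end Abstract

variable {K : Type u} [Field K] [CharP K 2] {φ : K →+* K}

omit [CharP K 2] in
theorem commute_of_torC {τ : chevE6.SteinbergGroup K →* chevE6.SteinbergGroup K} {x x' : fixG τ}
    {χ χ' : Multiplicative chevE6.Lat →* Kˣ} (hx : x.1 = chevE6.stProj K (chevE6.torC K χ))
    (hx' : x'.1 = chevE6.stProj K (chevE6.torC K χ')) : Commute x x' := Subtype.ext (by
  change x.1 * x'.1 = x'.1 * x.1
  rw [hx, hx']; exact (((Commute.all χ χ').map (chevE6.torC K)).map (chevE6.stProj K)).eq)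

omit [CharP K 2] in
theorem ce_ne_one' {ζ : Kˣ} {p : ℕ} (hζ : IsPrimitiveRoot ζ p) {c : List ℤ}
    (h : ∃ i : Fin 6, dot c (chevE6.wtL (chevE6.simple i)) % p ≠ 0) :
    chevE6.stProj K (chevE6.torC K (ce ζ c)) ≠ 1 := fun e => by
  obtain ⟨i, h⟩ := h
  have := (chevE6.stProj_torC_eq_one_iff _).1 e (e6n i)
  rw [cv_ce_wt, hζ.zpow_eq_one_iff_dvd, show (chevE6.sr (e6n i) : ℕ) = chevE6.simple i from rfl] at this
  exact h (Int.emod_eq_zero_of_dvd this)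

omit [CharP K 2] in
theorem pow_eq_one_of_ce {τ : chevE6.SteinbergGroup K →* chevE6.SteinbergGroup K} {x : fixG τ}
    {ζ : Kˣ} {p : ℕ} (hζ : ζ ^ p = 1) {c : List ℤ}
    (hx : x.1 = chevE6.stProj K (chevE6.torC K (ce ζ c))) : x ^ p = 1 :=
  Subtype.ext ((SubgroupClass.coe_pow x p).trans (by
    rw [hx, ← map_pow, ← map_pow, ce_pow hζ, map_one, map_one]; rfl))

theorem not_coatom_sing {τ : chevE6.SteinbergGroup K →* chevE6.SteinbergGroup K}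
    [IsSimpleGroup (fixG τ)] {p : ℕ} (hp : p.Prime) (h2 : p ≠ 2)
    {χ χ' : Multiplicative chevE6.Lat →* Kˣ} {S S' : Set chevE6.Rt}
    (hS : ∀ r : chevE6.Rt, cv χ (chevE6.wt r) = 1 ↔ r ∈ S)
    (hS' : ∀ r : chevE6.Rt, cv χ' (chevE6.wt r) = 1 ↔ r ∈ S')
    (hd : ∀ a ∈ S, ∀ b ∈ S', chevE6.pairing a b = 0) (hE : sub τ S ≠ ⊥) (hV : HasV4 (sub τ S'))
    {x : fixG τ} (hx : x.1 = chevE6.stProj K (chevE6.torC K χ)) (hxp : x ^ p = 1) :
    ¬ IsCoatom (Subgroup.normalizer (Subgroup.zpowers x : Set (fixG τ))) := fun hc => by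
  have hN : Subgroup.normalizer (Subgroup.zpowers x : Set (fixG τ)) ≤
      Subgroup.normalizer (sub τ S : Set (fixG τ)) := le_normalizer_of_conj_mem fun y hy e he => by
    have h1 := Subgroup.le_normalizer_map (fixG τ).subtype (Subgroup.mem_map_of_mem _ hy)
    rw [MonoidHom.map_zpowers, Subgroup.subtype_apply, hx] at h1
    have h3 : StRoot.fixR (fun r : chevE6.Rt => chevE6.XG K r)
        (Subgroup.zpowers (chevE6.stProj K (chevE6.torC K χ))) = S := Set.ext fun r => by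
      rw [mem_fixR_iff (U := {χ}) (by rw [Set.image_singleton, Subgroup.zpowers_eq_closure]), ← hS]; simp
    have := (chevE6.isStrong_XG K).conj_mem_XS_fixR (Subgroup.zpowers_le.2 (chevE6.stProj_torC_mem χ))
      (by rw [XS_XG_univ]; trivial) h1 (y := e.1) (h3 ▸ he)
    rwa [h3] at this
  have hA : sub τ S' ≤ Subgroup.normalizer (Subgroup.zpowers x : Set (fixG τ)) := by
    rcases hN.eq_or_lt with e | e
    · rw [e]
      exact le_normalizer_of_conj_mem fun a ha y hy => by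
        rwa [← (commute_sub hd hy ha).eq, mul_inv_cancel_right]
    · have h3 := ((Subgroup.normalizer_eq_top_iff.1 (hc.2 _ e)).eq_bot_or_eq_top).resolve_left hE
      refine le_normalizer_of_conj_mem fun a ha y hy => ?_
      rwa [← (commute_sub hd (h3 ▸ trivial : y ∈ sub τ S) ha).eq, mul_inv_cancel_right]
  obtain ⟨v, hv, v1, v2, v3⟩ := hV.exists_commute (B := ⊥) hp h2 hxp (by simp) fun a ha => ⟨by simp, by
    obtain ⟨i, hi⟩ := conj_mem_of_mem_normalizer (hA ha) (Subgroup.mem_zpowers x)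
    exact ⟨i, 1, one_mem _, by rw [mul_one]; exact hi.symm⟩⟩
  obtain ⟨r, h3, h4⟩ := exists_root_of_commute₂ (g := v.1) (fun e => v1 (Subtype.ext e))
    (congrArg Subtype.val v2) (by rw [← hx]; exact v3.map (fixG τ).subtype)
    (commute_torC_of_mem_XS (fun r hr => (hS' r).2 hr) hv)
  have := hd r ((hS r).1 h3) r ((hS' r).1 h4)
  rw [pairing_self] at this
  exact two_ne_zero this

variable [IsAlgClosed K] (hK : LocFin K 2) (hφ : ∀ t, φ t = t ^ 2)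
include hK hφ

theorem not_coatom_reg {L : List (Fin 6)} {p : ℕ} (hp : p.Prime) (h2 : p ≠ 2) (h3 : Nat.Coprime 9 p)
    {χ χ' δ : Multiplicative chevE6.Lat →* Kˣ} {S : Set chevE6.Rt}
    (hreg : ∀ r : chevE6.Rt, cv χ (chevE6.wt r) = 1 → cv χ' (chevE6.wt r) ≠ 1)
    (hS : ∀ r ∈ S, cv χ' (chevE6.wt r) = 1 ∧ cv δ (chevE6.wt r) = 1) (h9 : δ ^ 9 = 1)
    (hδ : ∀ r : chevE6.Rt, φ (cv δ (chevE6.wt r) : K) = cv δ (chevE6.wt (om L r)))
    (hδ1 : chevE6.stProj K (chevE6.torC K δ) ≠ 1)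
    (hT : ∀ χ, tau φ L (chevE6.torC K χ) = chevE6.torC K χ → chevE6.stProj K (chevE6.torC K χ) ^ p = 1)
    (hV : HasV4 (sub (tau φ L) S)) {x x' : fixG (tau φ L)}
    (hx : x.1 = chevE6.stProj K (chevE6.torC K χ)) (hx' : x'.1 = chevE6.stProj K (chevE6.torC K χ'))
    (hxp : x ^ p = 1) (hxp' : x' ^ p = 1) : ¬ IsCoatom (Subgroup.normalizer
      ((Subgroup.zpowers x ⊔ Subgroup.zpowers x' : Subgroup (fixG (tau φ L))) : Set (fixG (tau φ L)))) := by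
  intro hc
  have hφ' : Function.Surjective φ := fun t => by
    obtain ⟨s, hs⟩ := IsAlgClosed.exists_pow_nat_eq t two_pos
    exact ⟨s, (hφ s).trans hs⟩
  have hN : Subgroup.normalizer ((Subgroup.zpowers x ⊔ Subgroup.zpowers x' : Subgroup (fixG (tau φ L))) :
      Set (fixG (tau φ L))) ≤ (Subgroup.centralizer {chevE6.stProj K (chevE6.torC K δ)}).subgroupOf _ := by
    rintro ⟨_, g, hg, rfl⟩ hy
    have h1 := Subgroup.le_normalizer_map (fixG (tau φ L)).subtype (Subgroup.mem_map_of_mem _ hy)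
    rw [Subgroup.map_sup, MonoidHom.map_zpowers, MonoidHom.map_zpowers, Subgroup.subtype_apply, hx,
      Subgroup.subtype_apply, hx'] at h1
    have := (chevE6.isStrong_XG K).mem_NN_of_norm (sup_le
      (Subgroup.zpowers_le.2 (chevE6.stProj_torC_mem χ)) (Subgroup.zpowers_le.2 (chevE6.stProj_torC_mem χ')))
      (by rw [XS_XG_univ]; trivial) h1 (Set.eq_empty_of_forall_notMem fun r hr => by
        rw [mem_fixR_iff (U := {χ, χ'}) (by
          rw [Set.image_pair, Subgroup.zpowers_eq_closure, Subgroup.zpowers_eq_closure,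
            ← Subgroup.closure_union]; rfl)] at hr
        exact hreg r (hr χ (Or.inl rfl)) (hr χ' (Or.inr rfl)))
    exact Subgroup.mem_centralizer_singleton_iff.2 (commute_torC_of_mem_NN (tau_gen L) hφ' h3 h9 hδ hT hg
      (chevE6.mem_NN_of_stProj this))
  have hA : sub (tau φ L) S ≤ _ := fun a ha => (hN.eq_or_lt.resolve_right fun e =>
    hδ1 (eq_one_of_comm_fixG hK hφ L fun g hg => Subgroup.mem_centralizer_singleton_iff.1
      (Subgroup.mem_subgroupOf.1 ((hc.2 _ e).ge (Subgroup.mem_top ⟨g, hg⟩))))).ge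
    (Subgroup.mem_centralizer_singleton_iff.2 (commute_torC_of_mem_XS (fun r hr => (hS r hr).2) ha))
  have hxx := commute_of_torC hx hx'
  have ha' : ∀ a ∈ sub (tau φ L) S, Commute a x' := fun a ha => Subtype.ext (by
    change a.1 * x'.1 = x'.1 * a.1
    rw [hx']; exact (commute_torC_of_mem_XS (fun r hr => (hS r hr).1) ha).eq)
  obtain ⟨v, hv, v1, v2, v3⟩ := hV.exists_commute (B := Subgroup.zpowers x') hp h2 hxp (by
      rintro _ ⟨i, rfl⟩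
      exact ⟨by rw [← zpow_natCast, ← zpow_mul, mul_comm, zpow_mul, zpow_natCast, hxp', one_zpow],
        hxx.zpow_right i⟩) fun a ha => ⟨by rintro _ ⟨i, rfl⟩; exact (ha' a ha).zpow_right i, by
    have := conj_mem_of_mem_normalizer (hA ha) (Subgroup.mem_sup_left (Subgroup.mem_zpowers x))
    rw [sup_comm] at this
    obtain ⟨_, ⟨i, rfl⟩, β, hβ, e⟩ := exists_mul_of_mem_sup (le_normalizer_of_conj_mem (by
      rintro _ ⟨i, rfl⟩ _ ⟨j, rfl⟩
      rw [(hxx.zpow_zpow i j).eq, mul_inv_cancel_right]; exact ⟨j, rfl⟩)) this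
    exact ⟨i, β, hβ, e⟩⟩
  obtain ⟨r, h3, h4⟩ := exists_root_of_commute₂ (g := v.1) (fun e => v1 (Subtype.ext e))
    (congrArg Subtype.val v2) (by rw [← hx]; exact v3.map (fixG _).subtype)
    (by rw [← hx']; exact (ha' v hv).map (fixG _).subtype)
  exact hreg r h3 h4

/-- The conditions for a regular `p`-subgroup of a torus. -/
def RegOK (L : List (Fin 6)) (p : ℕ) (c c' e s : List ℤ) (m : ℕ) (vs : List (List ℤ)) : Prop :=
  (∀ r : Fin 72, (dot c (chevE6.wtL r) % p = 0 → dot c' (chevE6.wtL r) % p ≠ 0) ∧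
    (dot s (chevE6.wtL r) % m = 0 → dot c' (chevE6.wtL r) % p = 0 ∧ dot e (chevE6.wtL r) % (9 : ℕ) = 0) ∧
    (dot e (chevE6.wtL r) * 2) % (9 : ℕ) = dot e (twL L (chevE6.wtL r)) % (9 : ℕ)) ∧
  (∃ i : Fin 6, dot e (chevE6.wtL (chevE6.simple i)) % (9 : ℕ) ≠ 0) ∧
  ∀ i : Fin 6, twL L (vs.getD i []) = (List.range 6).map fun k =>
    2 * (vs.getD i []).getD k 0 + p * chevE6.cartan k (chevE6.simple i)

instance instDecidableRegOK (L : List (Fin 6)) (p : ℕ) (c c' e s : List ℤ) (m : ℕ) (vs : List (List ℤ)) :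
    Decidable (RegOK L p c c' e s m vs) := by unfold RegOK; infer_instance

theorem RegOK.not_coatom {L : List (Fin 6)} {p : ℕ} {c c' e s : List ℤ} {m : ℕ} {vs : List (List ℤ)}
    (h : RegOK L p c c' e s m vs) (hp : p.Prime) (h2 : p ≠ 2) (h3 : Nat.Coprime 9 p)
    (hV : HasV4 (sub (tau φ L) (kil s m))) {ζ : Kˣ} (hζ : IsPrimitiveRoot ζ p) {x x' : fixG (tau φ L)}
    (hx : x.1 = chevE6.stProj K (chevE6.torC K (ce ζ c)))
    (hx' : x'.1 = chevE6.stProj K (chevE6.torC K (ce ζ c'))) : ¬ IsCoatom (Subgroup.normalizer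
      ((Subgroup.zpowers x ⊔ Subgroup.zpowers x' : Subgroup (fixG (tau φ L))) : Set (fixG (tau φ L)))) := by
  obtain ⟨h4, h5, h6⟩ := h
  obtain ⟨η, hη⟩ := exists_primitiveRoot_units K (N := 9) (by
    rw [Ne, CharP.cast_eq_zero_iff _ 2]; omega)
  refine not_coatom_reg hK hφ hp h2 h3 (δ := ce η e)
    (fun r a b => (h4 r).1 ((cv_ce_eq_one hζ).1 a) ((cv_ce_eq_one hζ).1 b))
    (fun r hr => ⟨(cv_ce_eq_one hζ).2 ((h4 r).2.1 hr).1, (cv_ce_eq_one hη).2 ((h4 r).2.1 hr).2⟩)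
    (ce_pow hη.pow_eq_one e) (fun r => ?_) (ce_ne_one' hη h5) (fun χ hχ => ?_) hV hx hx'
    (pow_eq_one_of_ce hζ.pow_eq_one hx) (pow_eq_one_of_ce hζ.pow_eq_one hx')
  · rw [hφ, cv_ce_wt, cv_ce_wt, dot_om, ← zpow_congr' hη.pow_eq_one (h4 r).2.2, zpow_mul, zpow_ofNat,
      Units.val_pow_eq_pow_val]
  · rw [← map_pow, ← map_pow, stProj_torC_eq_one_iff]
    intro j
    have h7 := (tau_torC hφ).1 hχ (toLat chevE6.rank (vs.getD j []))
    have h8 : (chevE6.stRoot.lw L).comp e6Sym.lat (toLat chevE6.rank (vs.getD j [])) =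
        (2 : ℤ) • toLat chevE6.rank (vs.getD j []) + (p : ℤ) • chevE6.wt (chevE6.sr j) :=
      (tw_toLat _ _).trans ((congrArg (toLat 6) (h6 j)).trans (toLat_map 6 fun k =>
        2 * (vs.getD j []).getD k 0 + p * chevE6.cartan k (chevE6.simple j)))
    rw [h8, cv_add, cv_zsmul, cv_zsmul, zpow_ofNat, mul_eq_left, zpow_natCast] at h7
    exact h7

omit [CharP K 2] [IsAlgClosed K] hK in
theorem exists_el {L : List (Fin 6)} {p : ℕ} (hp : p.Prime) {ζ : Kˣ} (hζ : IsPrimitiveRoot ζ p)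
    {c : List ℤ} (h : (∀ i < 6, dot c (twL L (ul i)) % p = (c.getD i 0 * 2) % p) ∧
      ∃ i : Fin 6, dot c (chevE6.wtL (chevE6.simple i)) % p ≠ 0) :
    ∃ x : fixG (tau φ L), x.1 = chevE6.stProj K (chevE6.torC K (ce ζ c)) ∧ orderOf x = p := by
  have : Fact p.Prime := ⟨hp⟩
  exact ⟨⟨_, _, (tau_torC hφ).2 (ce_mem' hζ.pow_eq_one h.1), rfl⟩, rfl, orderOf_eq_prime
    (pow_eq_one_of_ce hζ.pow_eq_one (c := c) rfl) fun a => ce_ne_one' hζ h.2 (congrArg Subtype.val a)⟩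

theorem not_coatom_cyc {L : List (Fin 6)} {p : ℕ} (hp : p.Prime) (h2 : p ≠ 2) (h3 : Nat.Coprime 9 p)
    {c e : List ℤ} {vs : List (List ℤ)} {rs : List (Fin 72)} {a b d : Fin 72}
    (h : RegOK L p c [] e e 9 vs ∧ V4OK L e 9 rs a b d ∧
      (∀ i < 6, dot c (twL L (ul i)) % p = (c.getD i 0 * 2) % p) ∧
      ∃ i : Fin 6, dot c (chevE6.wtL (chevE6.simple i)) % p ≠ 0)
    [Finite (fixG (tau φ L))] (hc : ¬ p ^ 2 ∣ Nat.card (fixG (tau φ L))) {P : Subgroup (fixG (tau φ L))}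
    (hP : IsPGroup p P) (hP1 : P ≠ ⊥) : ¬ IsCoatom (Subgroup.normalizer (P : Set (fixG (tau φ L)))) := by
  obtain ⟨ζ, hζ⟩ := exists_primitiveRoot_units K (N := p) (by
    rw [Ne, CharP.cast_eq_zero_iff _ 2, Nat.prime_dvd_prime_iff_eq Nat.prime_two hp]; exact h2.symm)
  obtain ⟨x, hx, ho⟩ := exists_el hφ hp hζ h.2.2
  refine not_coatom_of_cyclic hp hc ho ?_ hP hP1
  have := h.1.not_coatom hK hφ hp h2 h3 (h.2.1.hasV4 hK hφ) hζ hx (x' := 1)
    ((chevE6.stProj_torC_eq_one_iff _).2 fun i => (cv_ce_eq_one hζ).2 (by simp [kil, dot, sumL])).symm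
  rwa [Subgroup.zpowers_one_eq_bot, sup_bot_eq] at this

/-- The twisting words. -/
def wdp (p : ℕ) : List (Fin 6) := if p = 7 then [0, 1, 2, 0, 3, 1, 2, 0, 3, 4, 3, 1, 2, 0, 3, 2]
  else if p = 11 then [0, 2, 3] else if p = 13 then [0, 1, 2, 0, 3, 2] else if p = 17 then [1, 2, 3]
  else [0, 1, 2, 3]

theorem case13 [Finite (fixG (tau φ (wdp 13)))] (hc : ¬ 13 ^ 2 ∣ Nat.card (fixG (tau φ (wdp 13))))
    {P : Subgroup (fixG (tau φ (wdp 13)))} (hP : IsPGroup 13 P) (hP1 : P ≠ ⊥) :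
    ¬ IsCoatom (Subgroup.normalizer (P : Set (fixG (tau φ (wdp 13))))) :=
  not_coatom_cyc hK hφ (by norm_num) (by norm_num) (by norm_num) (c := [7, 12, 8, 10, 3, 1])
    (e := [0, 0, 6, 0, 0, 3]) (vs := [[-12, -1, 7, -2, 5, -6], [-2, -11, -1, 4, 3, -1],
      [2, -2, -12, 9, -3, 1], [6, 7, 3, -12, 4, 3], [-3, 3, 5, 6, -15, 5], [2, -2, 1, -4, 10, -12]])
    (rs := [40]) (a := 52) (b := 61) (d := 70) (by decide +kernel) hc hP hP1

theorem case17 [Finite (fixG (tau φ (wdp 17)))] (hc : ¬ 17 ^ 2 ∣ Nat.card (fixG (tau φ (wdp 17))))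
    {P : Subgroup (fixG (tau φ (wdp 17)))} (hP : IsPGroup 17 P) (hP1 : P ≠ ⊥) :
    ¬ IsCoatom (Subgroup.normalizer (P : Set (fixG (tau φ (wdp 17))))) :=
  not_coatom_cyc hK hφ (by norm_num) (by norm_num) (by norm_num) (c := [0, 15, 9, 11, 1, 0])
    (e := [8, 0, 4, 0, 5, 1]) (vs := [[-18, -1, 5, 3, 4, -9], [4, -13, -3, 5, 1, 2],
      [14, -3, -19, 9, -5, 7], [-6, 11, 13, -16, 7, -3], [-1, -1, 5, 3, -13, 8], [-2, -2, -7, 6, 8, -18]])
    (rs := [40]) (a := 42) (b := 51) (d := 50) (by decide +kernel) hc hP hP1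

theorem case19 [Finite (fixG (tau φ (wdp 19)))] (hc : ¬ 19 ^ 2 ∣ Nat.card (fixG (tau φ (wdp 19))))
    {P : Subgroup (fixG (tau φ (wdp 19)))} (hP : IsPGroup 19 P) (hP1 : P ≠ ⊥) :
    ¬ IsCoatom (Subgroup.normalizer (P : Set (fixG (tau φ (wdp 19))))) :=
  not_coatom_cyc hK hφ (by norm_num) (by norm_num) (by norm_num) (c := [10, 13, 12, 1, 5, 1])
    (e := [6, 6, 0, 0, 3, 0]) (vs := [[-18, -1, 5, 3, 4, -9], [-4, -15, -1, 7, 3, -2],
      [4, -4, -18, 12, -3, 2], [6, 13, 11, -20, 5, 3], [1, -1, 5, 3, -15, 10], [2, -2, -9, 6, 8, -18]])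
    (rs := [39]) (a := 52) (b := 67) (d := 66) (by decide +kernel) hc hP hP1

theorem case11 [Finite (fixG (tau φ (wdp 11)))] [IsSimpleGroup (fixG (tau φ (wdp 11)))]
    (hc : ¬ 11 ^ 2 ∣ Nat.card (fixG (tau φ (wdp 11))))
    {P : Subgroup (fixG (tau φ (wdp 11)))} (hP : IsPGroup 11 P) (hP1 : P ≠ ⊥) :
    ¬ IsCoatom (Subgroup.normalizer (P : Set (fixG (tau φ (wdp 11))))) := by
  obtain ⟨ζ, hζ⟩ := exists_primitiveRoot_units K (N := 11) (by
    rw [Ne, CharP.cast_eq_zero_iff _ 2]; omega)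
  obtain ⟨ξ, hξ⟩ := exists_primitiveRoot_units K (N := 3) (by
    rw [Ne, CharP.cast_eq_zero_iff _ 2]; omega)
  obtain ⟨x, hx, ho⟩ := exists_el hφ (L := wdp 11) (by norm_num) hζ (c := [6, 0, 8, 5, 5, 1])
    (by decide +kernel)
  refine not_coatom_of_cyclic (by norm_num) hc ho (not_coatom_sing (p := 11) (by norm_num) (by norm_num)
    (fun r => cv_ce_eq_one hζ) (fun r => cv_ce_eq_one hξ (c := [1, 2, 2, 3, 2, 1]))
    (by decide +kernel : ∀ a : Fin 72, dot [6, 0, 8, 5, 5, 1] (chevE6.wtL a) % (11 : ℕ) = 0 →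
      ∀ b : Fin 72, dot [1, 2, 2, 3, 2, 1] (chevE6.wtL b) % (3 : ℕ) = 0 → chevE6.pairing a b = 0) ?_
    (V4OK.hasV4 hK hφ (rs := [40, 36]) (a := 42) (b := 60) (d := 36) (by decide +kernel)) hx
    (pow_eq_one_of_ce hζ.pow_eq_one hx)) hP hP1
  have h1 : om (wdp 11) (e6r 71) = e6r 71 := chevE6.wt_inj ((wt_om _ _).trans
    ((congrArg (toLat 6) (by decide +kernel)).trans (chevE6.toLat_wtL _)))
  refine Subgroup.ne_bot_iff_exists_ne_one.2 ⟨⟨⟨_, chevE6.stGen K (e6r 71) 1,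
    (tau_gen _ _ _).trans (by rw [h1, map_one]; rfl), rfl⟩, stProj_mem_XS (x_mem_XS
      (fun r : chevE6.Rt => chevE6.stGen K r) (r := e6r 71) (by decide +kernel :
        dot [6, 0, 8, 5, 5, 1] (chevE6.wtL 71) % (11 : ℕ) = 0) 1)⟩, fun e => ?_⟩
  have h2 : chevE6.stProj K (chevE6.stGen K (e6r 71) 1) = 1 := congrArg (·.1.1) e
  rw [stProj_stGen] at h2
  exact one_ne_zero ((chevE6.isModel_XG K).x_eq_one h2)

/-- The characters of order seven. -/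
def c7 (a b : ℕ) : List ℤ := [0, 5 * a + 4 * b, 3 * b, a + b, 2 * b, 0]

/-- The conjugating words. -/
def w7 (a b : ℕ) : List (Fin 6) := ((
  [[[], [], [2, 3, 1, 4, 3, 2, 5, 4, 3, 1, 2, 0, 3, 2, 4, 3, 1, 5, 4, 3, 2, 0], [0, 1, 2, 0, 3, 1,
  2, 3, 4, 3, 2, 0, 5, 4, 3, 1, 2, 3, 4, 5], [0, 2, 3, 1, 4, 3, 1, 2, 0, 3, 2, 4, 3, 1, 5, 4, 3, 1,
  2, 3, 4, 5], [1, 4, 3, 1, 5, 4, 3, 1, 2, 0, 3, 2, 4, 3, 1, 5, 4, 3, 2, 0], [1, 2, 3, 1, 4, 3, 1,
  2, 3, 4]], [[], [1, 3, 2, 4, 3, 1, 2, 3], [3, 1, 2, 4, 3, 2], [2, 4, 3, 1, 2, 3], [4, 3, 1, 2],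
  [0, 2, 0, 3, 1, 2, 3, 4, 3, 1, 2, 0, 3, 2, 4, 3, 5, 4, 3, 1, 2, 3, 4, 5], [2, 3, 4, 3, 5, 4, 3, 1,
  2, 0, 3, 2, 4, 3, 1, 5, 4, 3, 2, 0]], [[1, 3], [1, 3, 4, 3, 1, 2], [3, 1, 2, 4, 3, 1, 2, 3], [4,
  3, 1, 2], [2, 4, 3, 2], [0, 2, 0, 3, 1, 2, 4, 3, 1, 2, 0, 3, 2, 4, 5, 4, 3, 1, 2, 3, 4, 5], [2, 4,
  5, 4, 3, 1, 2, 0, 3, 2, 4, 3, 1, 5, 4, 3, 2, 0]], [[1, 2, 3, 1, 4, 3, 1, 2, 3, 4], [1, 2, 4, 3, 1,
  2, 3, 4, 5, 4, 3, 1, 2, 0, 3, 2, 4, 3, 1, 5, 4, 3, 2, 0], [0, 1, 2, 3, 1, 4, 3, 1, 2, 0, 3, 2, 5,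
  4, 3, 1, 2, 3, 4, 5], [1, 3, 1, 2, 3, 4], [1, 2, 3, 4, 3, 1], [1, 2, 3, 1, 4, 3], [2, 3, 2, 4, 3,
  1]], [[3, 1], [1, 3, 2, 4, 3, 2], [3, 1, 4, 3, 1, 2], [2, 4, 3, 2], [2, 4, 3, 1, 2, 3], [0, 2, 0,
  3, 1, 2, 3, 4, 3, 1, 2, 0, 3, 4, 5, 4, 3, 1, 2, 3, 4, 5], [2, 3, 5, 4, 3, 1, 2, 0, 3, 2, 4, 3, 1,
  5, 4, 3, 2, 0]], [[2, 3, 1, 2, 4, 3, 1, 2, 3, 4], [1, 2, 3, 4, 3, 1, 2, 3, 5, 4, 3, 1, 2, 0, 3, 2,
  4, 3, 1, 5, 4, 3, 2, 0], [0, 1, 2, 0, 3, 1, 4, 3, 1, 2, 0, 3, 5, 4, 3, 1, 2, 3, 4, 5], [1, 3, 1,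
  2, 3, 4, 3, 1], [1, 2, 3, 1, 4, 3], [1, 2, 3, 4], [2, 3, 1, 2, 4, 3]], [[1, 2, 3, 1, 2, 3, 4, 3,
  1, 2, 3, 4], [1, 2, 4, 3, 1, 2, 5, 4, 3, 1, 2, 0, 3, 2, 4, 3, 1, 5, 4, 3, 2, 0], [0, 1, 2, 3, 1,
  4, 3, 1, 2, 0, 5, 4, 3, 1, 2, 3, 4, 5], [1, 2, 3, 1, 2, 3, 4, 3], [1, 2, 3, 4], [1, 2, 3, 4, 3,
  1], [2, 3, 2, 4]]] :
    List (List (List (Fin 6)))).getD a []).getD b []

omit hK hφ in
theorem w7_ok : ∀ a < 7, ∀ b < 7, ∀ i < 6,
    chevE6.lwL ((wdp 7 ++ (w7 a b).map fun i => ![5, 1, 4, 3, 2, 0] i).map Fin.val) (ul i) =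
      chevE6.lwL ((w7 a b ++ wdp 7).map Fin.val) (ul i) := by
  decide +kernel

omit hK hφ in
theorem w7_ok' : ∀ a < 7, ∀ b < 7, a ≠ 0 ∨ b ≠ 0 →
    (∀ i < 6, dot (c7 1 0) (chevE6.lwL ((w7 a b).map Fin.val) (ul i)) % (7 : ℕ) =
      (c7 a b).getD i 0 % (7 : ℕ)) ∨
    ∀ i < 6, dot (c7 0 1) (chevE6.lwL ((w7 a b).map Fin.val) (ul i)) % (7 : ℕ) =
      (c7 a b).getD i 0 % (7 : ℕ) := by
  decide +kernel

theorem case7 [Finite (fixG (tau φ (wdp 7)))] [IsSimpleGroup (fixG (tau φ (wdp 7)))]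
    (hc : ¬ 7 ^ 3 ∣ Nat.card (fixG (tau φ (wdp 7))))
    {P : Subgroup (fixG (tau φ (wdp 7)))} (hP : IsPGroup 7 P) (hP1 : P ≠ ⊥) :
    ¬ IsCoatom (Subgroup.normalizer (P : Set (fixG (tau φ (wdp 7))))) := by
  obtain ⟨ζ, hζ⟩ := exists_primitiveRoot_units K (N := 7) (by
    rw [Ne, CharP.cast_eq_zero_iff _ 2]; omega)
  obtain ⟨A, hA, oA⟩ := exists_el hφ (L := wdp 7) (by norm_num) hζ (c := c7 1 0) (by decide +kernel)
  obtain ⟨B, hB, oB⟩ := exists_el hφ (L := wdp 7) (by norm_num) hζ (c := c7 0 1) (by decide +kernel)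
  have vA : HasV4 (sub (tau φ (wdp 7)) (kil (c7 1 0) 7)) :=
    V4OK.hasV4 hK hφ (rs := [55, 36]) (a := 56) (b := 67) (d := 36) (by decide +kernel)
  have vB : HasV4 (sub (tau φ (wdp 7)) (kil (c7 0 1) 7)) :=
    V4OK.hasV4 hK hφ (rs := [46]) (a := 46) (b := 47) (d := 36) (by decide +kernel)
  have hd : ∀ a : Fin 72, dot (c7 1 0) (chevE6.wtL a) % (7 : ℕ) = 0 → ∀ b : Fin 72,
      dot (c7 0 1) (chevE6.wtL b) % (7 : ℕ) = 0 → chevE6.pairing a b = 0 ∧ chevE6.pairing b a = 0 := by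
    decide +kernel
  refine not_coatom_of_pair (by norm_num) hc oA oB (commute_of_torC hA hB) (fun a ha b hb hab => ?_)
    (not_coatom_sing (p := 7) (by norm_num) (by norm_num) (fun r => cv_ce_eq_one hζ)
      (fun r => cv_ce_eq_one hζ) (fun a ha b hb => (hd a ha b hb).1) vA.ne_bot vB hA
      (pow_eq_one_of_ce hζ.pow_eq_one hA))
    (not_coatom_sing (p := 7) (by norm_num) (by norm_num) (fun r => cv_ce_eq_one hζ)
      (fun r => cv_ce_eq_one hζ) (fun a ha b hb => (hd b hb a ha).2) vB.ne_bot vA hB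
      (pow_eq_one_of_ce hζ.pow_eq_one hB))
    (RegOK.not_coatom hK hφ (e := [6, 6, 0, 3, 0, 6]) (vs := [[-6, 0, 2, 0, 1, -2], [0, -5, 1, 1, 1, 0],
      [3, -1, -5, 3, -1, 1], [0, 4, 2, -5, 2, 0], [-1, -1, 1, 3, -5, 2], [3, 0, -1, 0, 3, -6]])
      (by decide +kernel) (by norm_num) (by norm_num) (by norm_num) vB hζ hA hB) hP hP1
  have h0 := w7_ok a ha b hb
  have h1 : tau φ (wdp 7) _ = _ := grE6.twBy_nw φ (L := wdp 7) (V := w7 a b) (wd_eq_of_lw fun i => by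
    rw [← toLat_ul]
    refine (chevE6.lw_toLat _ _).trans (Eq.trans (congrArg _ ?_) (chevE6.lw_toLat _ _).symm)
    refine Eq.trans ?_ (h0 i i.2)
    congr 4
    exact funext fun i : Fin 6 => by fin_cases i <;> rfl)
  have h3 : ce ζ (c7 a b) = ce ζ (c7 1 0) ^ a * ce ζ (c7 0 1) ^ b := chr_ext_pi fun i => by
    rw [cv_mul, cv_pow, cv_pow, cv_ce_single, cv_ce_single, cv_ce_single, ← zpow_natCast,
      ← zpow_natCast, ← zpow_mul, ← zpow_mul, ← zpow_add]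
    congr 1
    revert i
    change ∀ i : Fin 6, _
    intro i
    fin_cases i <;> simp [c7]
  have key : ∀ (C : fixG (tau φ (wdp 7))) (c : List ℤ), C.1 = chevE6.stProj K (chevE6.torC K (ce ζ c)) →
      (∀ i < 6, dot c (chevE6.lwL ((w7 a b).map Fin.val) (ul i)) % (7 : ℕ) = (c7 a b).getD i 0 % (7 : ℕ)) →
      IsConj (A ^ a * B ^ b) C := fun C c hC h => by
    refine IsConj.symm (isConj_iff.2 ⟨(⟨_, _, h1, rfl⟩ : fixG (tau φ (wdp 7)))⁻¹, Subtype.ext ?_⟩)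
    have h2 := chevE6.nw_inv_conj_torC (w7 a b) (ce ζ c)
    rw [ce_comp' hζ.pow_eq_one (chevE6.lw_toLat _) h] at h2
    have := congrArg (chevE6.stProj K) h2
    simp only [h3, map_mul, map_inv, map_pow (chevE6.torC K), map_pow (chevE6.stProj K), ← hA, ← hB,
      ← hC] at this
    rw [inv_inv]
    exact this
  exact (w7_ok' a ha b hb hab).imp (key A _ hA) (key B _ hB)

end Cfsg.Agent.Chev.E6F
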