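import Mathlib
import Cfsg.Agent.Chev.AltTab

/-!
# Eigenvalues of semisimple elements of `E₈(3)`; two kernel searches
-/

set_option autoImplicit false
set_option maxRecDepth 100000

namespace Cfsg.Agent.Chev.Kac

open Cfsg.Lie Cfsg.Lie.ChevalleyDatum Chk Alc Polynomial

theorem allS_of {ms : List ℕ} {n : ℕ} {P : List ℕ → Bool}
    (h : ∀ s, s.length = ms.length → dotL ms s ≤ n → P s = true) : allS ms n P = true := by
  induction ms generalizing n P with
  | nil => exact h [] rfl (Nat.zero_le _)
  | cons m ms ih =>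
    change allLt (n / m + 1) (fun a => force (n - m * a) fun n' => allS ms n' fun s => P (a :: s)) = true
    refine allLt_iff.2 fun a ha => ?_
    rw [force_eq]
    refine ih fun s hs hn => h _ (by simpa using hs) ?_
    have := (Nat.mul_le_mul_left m (Nat.le_of_lt_succ ha)).trans (Nat.mul_div_le n m)
    change m * a + dotL ms s ≤ n
    omega

theorem map_mod_eq {K : Type*} [CommRing K] [IsDomain K] {ξ : K} {n : ℕ} (hn : 0 < n)
    (hξ : IsPrimitiveRoot ξ n) {A B : Multiset ℕ} (h : A.map (ξ ^ ·) = B.map (ξ ^ ·)) :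
    A.map (· % n) = B.map (· % n) := by
  classical
  let ψ : K → ℕ := fun z => if h : ∃ j < n, ξ ^ j = z then h.choose else 0
  have hψ : ∀ j, ψ (ξ ^ j) = j % n := fun j => by
    have h1 : ξ ^ (j % n) = ξ ^ j := by rw [hξ.eq_orderOf, pow_mod_orderOf]
    have h2 : ∃ i < n, ξ ^ i = ξ ^ j := ⟨_, Nat.mod_lt _ hn, h1⟩
    simp only [ψ, dif_pos h2]
    exact hξ.pow_inj h2.choose_spec.1 (Nat.mod_lt _ hn) (h2.choose_spec.2.trans h1.symm)
  simpa only [Multiset.map_map, Function.comp_def, hψ] using congrArg (Multiset.map ψ) h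

theorem count_pack {b : ℕ} {A : Multiset ℕ} (h : A.card < b) (v : ℕ) :
    (A.map (b ^ ·)).sum / b ^ v % b = A.count v := by
  have h1 : ∀ a ∈ A, a < A.sum + v + 1 := fun a ha => by
    have := Multiset.single_le_sum (fun _ _ => Nat.zero_le _) a ha
    omega
  let f : Fin (A.sum + v + 1) → Fin b := fun i => ⟨A.count i.1, (A.count_le_card _).trans_lt h⟩
  have h2 : (A.map (b ^ ·)).sum = finFunctionFinEquiv f := by
    rw [finFunctionFinEquiv_apply, Finset.sum_multiset_map_count,
      Fin.sum_univ_eq_sum_range fun i => A.count i * b ^ i]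
    exact Finset.sum_subset (fun a ha => Finset.mem_range.2 (h1 a (Multiset.mem_toFinset.1 ha)))
      fun a _ ha => by simpa using .inl (by simpa using ha)
  rw [h2]
  exact congrArg Fin.val (congrFun (finFunctionFinEquiv.symm_apply_apply f) ⟨v, by omega⟩)

theorem pack_inj {b : ℕ} {A B : Multiset ℕ} (hA : A.card < b) (hB : B.card < b)
    (h : (A.map (b ^ ·)).sum = (B.map (b ^ ·)).sum) : A = B :=
  Multiset.ext.2 fun v => by rw [← count_pack hA, h, count_pack hB]

/-- histogram weights -/
def pw (v : ℕ) : ℕ := Nat.pow 257 v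

/-- evaluation of a list -/
noncomputable def forceL (l : List ℕ) : (List ℕ → Bool) → Bool :=
  List.rec (fun k => k []) (fun a _ ih k => force a fun b => ih fun t => k (b :: t)) l

theorem forceL_eq (l : List ℕ) (k : List ℕ → Bool) : forceL l k = k l := by
  induction l generalizing k with
  | nil => rfl
  | cons a l ih => exact (force_eq a fun b => forceL l fun t => k (b :: t)).trans (ih _)

/-- evaluation of a table -/
noncomputable def forceT (T : List (List ℕ)) : (List (List ℕ) → Bool) → Bool :=
  List.rec (fun k => k []) (fun a _ ih k => forceL a fun b => ih fun t => k (b :: t)) T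

theorem forceT_eq (T : List (List ℕ)) (k : List (List ℕ) → Bool) : forceT T k = k T := by
  induction T generalizing k with
  | nil => rfl
  | cons a l ih => exact (forceL_eq a fun b => forceT l fun t => k (b :: t)).trans (ih _)

/-- removal of the values of the rows of `T` from a histogram -/
noncomputable def remT (n : ℕ) (s : List ℕ) (k : ℕ → Bool) (T : List (List ℕ)) : ℕ → Bool :=
  List.rec k (fun c _ ih h => force (pw (Nat.mod (dotL c s) n)) fun v =>
    cond (Nat.beq (Nat.mod (Nat.div h v) 257) 0) true (force (Nat.sub h v) ih)) T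

theorem remT_cons (n : ℕ) (s : List ℕ) (k : ℕ → Bool) (c : List ℕ) (T : List (List ℕ)) (h : ℕ) :
    remT n s k (c :: T) h = cond (Nat.beq (h / 257 ^ (dotL c s % n) % 257) 0) true
      (remT n s k T (h - 257 ^ (dotL c s % n))) := by
  rw [← force_eq _ (remT n s k T)]
  exact force_eq (pw (dotL c s % n)) fun v =>
    cond (Nat.beq (Nat.mod (Nat.div h v) 257) 0) true (force (Nat.sub h v) (remT n s k T))

theorem remT_spec {n : ℕ} {s : List ℕ} {k : ℕ → Bool} {T : List (List ℕ)} {R : Multiset ℕ}
    (hc : T.length + R.card < 257)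
    (h : remT n s k T (((T.map fun c => dotL c s % n : List ℕ) + R : Multiset ℕ).map (257 ^ ·)).sum = true) :
    k (R.map (257 ^ ·)).sum = true := by
  induction T with
  | nil => rwa [List.map_nil, Multiset.coe_nil, zero_add] at h
  | cons c T ih =>
    refine ih (by simp at hc; omega) ?_
    rwa [remT_cons, count_pack (by simpa using hc), List.map_cons, ← Multiset.cons_coe,
      Multiset.cons_add, Multiset.map_cons, Multiset.sum_cons, Bool.eq_false_iff.2 fun e =>
        absurd (Nat.eq_of_beq_eq_true e) (by simp), Nat.add_sub_cancel_left] at h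

/-- search of an alcove for a given histogram -/
noncomputable def alcS (n : ℕ) (ms : List ℕ) :
    List (List ℕ) → ℕ → ℕ → (List ℕ → ℕ → ℕ → Bool) → Bool :=
  List.rec (fun T r h P => remT n [] (P [] r) T h) (fun m _ ih T r h P =>
    forceT (T.filter fun c => !Nat.beq (c.headD 0) 0) fun T₁ =>
      ih ((T.filter fun c => Nat.beq (c.headD 0) 0).map List.tail) r h fun s r' h' =>
        allLt (Nat.succ (Nat.div r' m)) fun a => force (Nat.sub r' (Nat.mul m a)) fun r'' =>
          remT n (a :: s) (P (a :: s) r'') T₁ h') ms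

theorem alcS_spec {n : ℕ} {ms : List ℕ} (hm : ∀ m ∈ ms, 0 < m) {T : List (List ℕ)} {r : ℕ}
    {P : List ℕ → ℕ → ℕ → Bool} {s : List ℕ} (hs : s.length = ms.length) (hr : dotL ms s ≤ r)
    {R : Multiset ℕ} (hc : T.length + R.card < 257)
    (h : alcS n ms T r (((T.map fun c => dotL c s % n : List ℕ) + R : Multiset ℕ).map (257 ^ ·)).sum P = true) :
    P s (r - dotL ms s) (R.map (257 ^ ·)).sum = true := by
  induction ms generalizing T P s R with
  | nil =>
    obtain rfl := List.length_eq_zero_iff.1 hs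
    exact remT_spec hc h
  | cons m ms ih =>
    obtain _ | ⟨a, s⟩ := s
    · simp at hs
    change m * a + dotL ms s ≤ r at hr
    change forceT _ _ = true at h
    have h1 := List.filter_append_perm (fun c => Nat.beq (c.headD 0) 0) T
    have h2 := h1.length_eq
    rw [List.length_append] at h2
    rw [forceT_eq, ← Multiset.coe_eq_coe.2 (h1.map _), List.map_append, ← Multiset.coe_add, add_assoc,
      List.map_congr_left (g := (fun c => dotL c s % n) ∘ List.tail), ← List.map_map] at h
    · have h3 := allLt_iff.1 (ih (fun m h => hm m (by simp [h])) (by simpa using hs) (by omega)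
        (by simp only [List.length_map, Multiset.card_add, Multiset.coe_card]; omega) h) a
        (Nat.lt_succ_of_le ((Nat.le_div_iff_mul_le (hm m (by simp))).2 (by rw [mul_comm]; omega)))
      rw [force_eq] at h3
      have h4 := remT_spec (by omega) h3
      rwa [show Nat.sub (r - dotL ms s) (Nat.mul m a) = r - dotL (m :: ms) (a :: s) from by
        change r - dotL ms s - m * a = r - (m * a + dotL ms s); omega] at h4
    · rintro (_ | ⟨b, c⟩) hc
      · rfl
      · obtain rfl : b = 0 := Nat.eq_of_beq_eq_true (List.mem_filter.1 hc).2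
        exact congrArg (· % n) (show 0 * a + dotL c s = dotL c s by simp)

/-- search of all multiplicities -/
noncomputable def mulS (P : ℕ → ℕ → Bool) (T : List (List ℕ)) : ℕ → ℕ → Bool :=
  List.rec P (fun c _ ih r t => allLt (Nat.succ (Nat.div r (nth c 0))) fun a =>
    force (Nat.sub r (Nat.mul (nth c 0) a)) fun r' =>
      force (Nat.add t (Nat.mul a (nth c 1))) (ih r')) T

theorem mulS_spec {α : Type} {P : ℕ → ℕ → Bool} {l : List α} {d V : α → ℕ} (c : α → ℕ)
    (hd : ∀ x ∈ l, 0 < d x) {r t e : ℕ} (h : mulS P (l.map fun x => [d x, V x]) r t = true)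
    (he : (l.map fun x => c x * d x).sum + e = r) :
    P e (t + (l.map fun x => c x * V x).sum) = true := by
  induction l generalizing r t with
  | nil => obtain rfl : e = r := by simpa using he
           exact h
  | cons x l ih =>
    rw [List.map_cons, List.sum_cons] at he ⊢
    change allLt (r / d x + 1) (fun a => force (r - d x * a) fun r' =>
      force (t + a * V x) (mulS P (l.map fun x => [d x, V x]) r')) = true at h
    have h1 := allLt_iff.1 h (c x) (Nat.lt_succ_of_le ((Nat.le_div_iff_mul_le (hd x (by simp))).2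
      (show c x * d x ≤ r by omega)))
    rw [force_eq, force_eq] at h1
    rw [← add_assoc]
    exact ih (fun y h => hd y (by simp [h])) h1 (show _ = r - d x * c x by rw [mul_comm (d x)]; omega)

/-- the weights of the adjoint module -/
def tlK : List (List ℕ) := tlE8.map fun c => c.map fun v => if v ≤ 6 then v else v + 1803

theorem tabK (K : Type*) [Field K] : chevE8.TabOK (chevE8.adjRep K).μ 1 1820 tlK := by
  refine ⟨rfl, fun a k => ?_⟩
  change _ ∣ _ * chevE8.wtI (finSumFinEquiv.symm a) k - _
  revert a k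
  decide +kernel

/-- the algebraic closure -/
abbrev K3 : Type := AlgebraicClosure (ZMod 3)

/-- the adjoint representation of `E₈(3)` -/
noncomputable def ad3 : chevE8.SteinbergGroup (ZMod 3) →* 
    Matrix (Fin (chevE8.rank + chevE8.nroots)) (Fin (chevE8.rank + chevE8.nroots)) K3 :=
  (chevE8.adjRep K3).ρ.comp (chevE8.stMap (algebraMap _ K3))

theorem ad3_frob (x : chevE8.SteinbergGroup (ZMod 3)) :
    (ad3 x).charpoly.roots.map (· ^ 3) = (ad3 x).charpoly.roots := by
  have h1 : ad3 x = ((chevE8.adjRep _).ρ x).map (algebraMap _ K3) := by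
    change Matrix.reindexAlgEquiv K3 K3 finSumFinEquiv
      ((chevE8.stProj K3 (chevE8.stMap _ x) : GL chevE8.Idx K3) : Matrix chevE8.Idx chevE8.Idx K3) = _
    rw [stProj_stMap]
    rfl
  have h2 := (IsAlgClosed.splits (ad3 x).charpoly).roots_map (frobenius K3 3)
  rw [h1, Matrix.charpoly_map, Polynomial.map_map, RingHom.ext_zmod (RingHom.comp _ _) (algebraMap _ K3)] at h2
  rw [h1, Matrix.charpoly_map]
  exact h2.symm

theorem exists_kac {n : ℕ} (hm : n ∣ 1820) {ξ : K3} (hξ : IsPrimitiveRoot ξ n)
    {x : chevE8.SteinbergGroup (ZMod 3)} (hx : x ^ n = 1) {A : Multiset ℕ}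
    (hA : (ad3 x).charpoly.roots = A.map (ξ ^ ·)) :
    ∃ s, s.length = 8 ∧ dotL [2, 3, 4, 6, 5, 4, 3, 2] s ≤ n ∧
      A.map (· % n) = (tlK.map fun c => dotL c s % n : List ℕ) ∧
      sumT pw tlK s n 1 = sumT pw tlK s n 3 ∧ ∀ k, (∀ t ∈ s, n ∣ k * t) → x ^ k = 1 := by
  have hn : 0 < n := Nat.pos_of_dvd_of_pos hm (by norm_num)
  have hinj := stTor_injective_E8 K3
  obtain ⟨-, -, χ, -, hc⟩ := chevE8.exists_isConj_torC (ZMod 3) hinj 3 x
    ((show Nat.Coprime 1820 3 by norm_num).coprime_dvd_left ((orderOf_dvd_of_pow_eq_one hx).trans hm))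
  have h3 : ∀ k, IsConj (chevE8.stMap (algebraMap _ K3) (x ^ k)) (chevE8.torC _ χ ^ k) := fun k => by
    rw [map_pow]; exact hc.pow k
  obtain ⟨s, h4, h5, h6⟩ := (chevE8.adjRep K3).exists_alc (tabK _) hiE8 hn hm (by simp) hξ (χ := χ)
    (chevE8.torC_injective hinj (((chevE8.torC K3).map_pow χ n).trans
      (by simpa [hx] using (h3 n).symm)))
    (P := fun s => decide (s.length = 8 ∧ dotL [2, 3, 4, 6, 5, 4, 3, 2] s ≤ n))
    (allS_of fun s h h' => decide_eq_true ⟨h, h'⟩)
  have h7 : (ad3 x).charpoly.roots = _ := ((chevE8.adjRep K3).ev_conj hc).trans (by simpa using h5 1)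
  refine ⟨s, (of_decide_eq_true h4).1, (of_decide_eq_true h4).2, ?_, sumT_congr hn hξ _ ?_, fun k hk =>
    chevE8.stMap_injective hinj (algebraMap _ K3) ?_⟩
  · simpa [Function.comp_def] using map_mod_eq hn hξ (A := A) (B := (tlK.map fun c => dotL c s : List ℕ))
      (by rw [← hA, h7]; simp [Function.comp_def])
  · have := ad3_frob x
    rw [h7] at this
    simpa [← pow_mul, mul_comm, Function.comp_def] using this.symm
  · simpa [show chevE8.torC K3 χ ^ k = 1 by simpa using center_E8 _ _ (h6 k hk)] using h3 k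

/-- the check for elements conjugate to their cubes -/
noncomputable def kacChk (n : ℕ) (ls L : List ℕ) : Bool :=
  forceT tlK fun tl => allS [2, 3, 4, 6, 5, 4, 3, 2] n fun s => force (sumT pw tl s n 1) fun h =>
    !Nat.beq h (sumT pw tl s n 3) ||
      !allL ls (fun k => !allL s fun t => Nat.beq (Nat.mod (Nat.mul k t) n) 0) || decide (h ∈ L)

theorem mem_of_kac {n : ℕ} (hm : n ∣ 1820) {ξ : K3} (hξ : IsPrimitiveRoot ξ n)
    {x : chevE8.SteinbergGroup (ZMod 3)} (hx : x ^ n = 1) {A : Multiset ℕ}
    (hA : (ad3 x).charpoly.roots = A.map (ξ ^ ·)) {ls L : List ℕ} (hl : ∀ k ∈ ls, x ^ k ≠ 1)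
    (h : kacChk n ls L = true) : (A.map fun w => 257 ^ (w % n)).sum ∈ L := by
  obtain ⟨s, h1, h2, h3, h4, h5⟩ := exists_kac hm hξ hx hA
  rw [kacChk, forceT_eq] at h
  have h6 := allS_spec (by decide) h h1 h2
  simp only [force_eq, Bool.or_eq_true, Bool.not_eq_true', h4, Nat.beq_refl, reduceCtorEq, false_or,
    decide_eq_true_eq] at h6
  rcases h6 with h6 | h6
  · refine absurd (allL_iff.2 fun k hk => ?_) (ne_true_of_eq_false h6)
    rw [Bool.not_eq_true', Bool.eq_false_iff]
    exact fun h => hl k hk (h5 k fun t ht =>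
      Nat.dvd_of_mod_eq_zero (Nat.eq_of_beq_eq_true (allL_iff.1 h t ht)))
  · have := congrArg (fun B => (B.map (257 ^ ·)).sum) h3
    rw [← h4, sumT_eq] at h6
    simp only [Multiset.map_map, Function.comp_def, Multiset.map_coe, Multiset.sum_coe, List.map_map] at this
    simpa only [this, one_mul, pw, Nat.pow_eq] using h6

theorem ne_of_kac {n : ℕ} (hm : n ∣ 1820) {ξ : K3} (hξ : IsPrimitiveRoot ξ n)
    {x : chevE8.SteinbergGroup (ZMod 3)} (hx : x ^ n = 1) {A : Multiset ℕ}
    (hA : (ad3 x).charpoly.roots = A.map (ξ ^ ·))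
    (h : alcS n [2, 3, 4, 6, 5, 4, 3, 2] tlK n (A.map fun w => 257 ^ (w % n)).sum
      (fun _ _ _ => false) = true) : False := by
  obtain ⟨s, h1, h2, h3, -⟩ := exists_kac hm hξ hx hA
  refine absurd (alcS_spec (P := fun _ _ _ => false) (T := tlK) (R := 0) (n := n) (by decide) h1 h2
    (by decide +kernel) ?_) (by simp)
  rwa [add_zero, ← h3, Multiset.map_map]

end Cfsg.Agent.Chev.Kac
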