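import Mathlib
import Cfsg.Agent.Chev.CRWeight

/-!
# Eigenvalues on modules of `SL₂(q)` in the defining characteristic
-/

set_option autoImplicit false

namespace Cfsg.Agent.Chev.S2M

open Polynomial Matrix MatrixGroups Module

universe u

section General

variable {K : Type*} [Field K]

theorem charpoly_mul [Infinite K] {V : Type*} [AddCommGroup V] [Module K V] [FiniteDimensional K V]
    (f : V →ₗ[K] V) (W : Submodule K V) (h : W ≤ W.comap f) :
    f.charpoly = (f.restrict h).charpoly * (W.mapQ W f h).charpoly := by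
  refine Polynomial.funext fun t => ?_
  have h1 : W ≤ W.comap (algebraMap K (End K V) t - f) := fun x hx =>
    sub_mem (W.smul_mem t hx) (h hx)
  rw [eval_mul, LinearMap.eval_charpoly, LinearMap.eval_charpoly, LinearMap.eval_charpoly,
    LinearMap.det_eq_det_mul_det W _ h1]
  congr 2
  ext x
  simp

theorem charpoly_induction [Infinite K] {G : Type*} [Group G] (P : (G → K[X]) → Prop) (h1 : P 1)
    (hm : ∀ a b, P a → P b → P (a * b))
    (hs : ∀ (W : Type u) [AddCommGroup W] [Module K W] [FiniteDimensional K W] [Nontrivial W]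
      (σ : Representation K G W), (∀ N : Submodule K W, (∀ g, N ≤ N.comap (σ g)) → N = ⊥ ∨ N = ⊤) →
        P fun g => (σ g).charpoly)
    (V : Type u) [AddCommGroup V] [Module K V] [FiniteDimensional K V] (ρ : Representation K G V) :
    P fun g => (ρ g).charpoly := by
  induction hn : finrank K V using Nat.strong_induction_on generalizing V with
  | _ n ih =>
    rcases subsingleton_or_nontrivial V with hV | hV
    · convert h1 using 2 with g
      rw [Pi.one_apply, ← (ρ g).charpoly_monic.natDegree_eq_zero, LinearMap.charpoly_natDegree]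
      exact finrank_zero_of_subsingleton
    by_cases h : ∀ N : Submodule K V, (∀ g, N ≤ N.comap (ρ g)) → N = ⊥ ∨ N = ⊤
    · exact hs V ρ h
    push Not at h
    obtain ⟨N, h2, h3, h4⟩ := h
    have h5 := N.finrank_quotient_add_finrank
    have h6 := Submodule.finrank_lt h4
    have h7 : finrank K N ≠ 0 := by rwa [Ne, Submodule.finrank_eq_zero]
    convert hm _ _ (ih _ (by omega) N (ρ.subrepresentation N h2) rfl)
      (ih _ (by omega) (V ⧸ N) (ρ.quotient N h2) rfl) using 2 with g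
    exact charpoly_mul _ N (h2 g)

theorem charpoly_of_basis {V ι : Type*} [AddCommGroup V] [Module K V] [FiniteDimensional K V]
    [Fintype ι] (f : V →ₗ[K] V) (b : Basis ι K V) (d : ι → K) (h : ∀ i, f (b i) = d i • b i) :
    f.charpoly = ∏ i, (X - C (d i)) := by
  classical
  rw [← LinearMap.charpoly_toMatrix f b, ← charpoly_diagonal]
  congr 1
  ext i j
  rw [LinearMap.toMatrix_apply, h, map_smul, b.repr_self, diagonal_apply, Finsupp.smul_apply,
    Finsupp.single_apply]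
  split_ifs with h1 h2 h2 <;> simp_all

end General

variable {F K : Type*} [Field F] [Fintype F] [Field K] (ι : F →+* K)

theorem coef_eq_zero {l : ℕ} (hl : l < Fintype.card F) (c : ℕ → K)
    (h : ∀ s : F, ∑ i ∈ Finset.range (l + 1), c i * ι s ^ i = 0) {j : ℕ} (hj : j ≤ l) : c j = 0 := by
  have h1 := eq_zero_of_natDegree_lt_card_of_eval_eq_zero
    (∑ i ∈ Finset.range (l + 1), monomial i (c i)) ι.injective (fun s => by
      simpa [eval_finsetSum] using h s)
    (lt_of_le_of_lt (natDegree_sum_le_of_forall_le _ _ fun i hi =>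
      (natDegree_monomial_le _).trans (Finset.mem_range_succ_iff.1 hi)) hl)
  simpa [coeff_monomial, Nat.lt_succ_iff, hj] using congrArg (coeff · j) h1

theorem mem_of_interp {Y : Type*} (N : Submodule K (Y → K)) (u v : Y → K) {l : ℕ}
    (hl : l < Fintype.card F) (h : ∀ s : F, (ι s • v + u) ^ l ∈ N) {j : ℕ} (hj : (l.choose j : K) ≠ 0) :
    v ^ j * u ^ (l - j) ∈ N := by
  by_contra hc
  obtain ⟨ψ, h1, h2⟩ := N.exists_dual_map_eq_bot_of_notMem hc inferInstance
  refine h1 ((mul_eq_zero.1 (coef_eq_zero ι hl (fun i => l.choose i * ψ (v ^ i * u ^ (l - i)))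
    (fun s => ?_) (j := j) (not_lt.1 fun h => hj (by simp [Nat.choose_eq_zero_of_lt h])))).resolve_left hj)
  rw [← (Submodule.mem_bot K).1 (h2 ▸ Submodule.mem_map_of_mem (h s)), add_pow, map_sum]
  refine Finset.sum_congr rfl fun i _ => ?_
  rw [show (ι s • v) ^ i * u ^ (l - i) * (l.choose i : Y → K) =
    (ι s ^ i * l.choose i) • (v ^ i * u ^ (l - i)) by ext; simp; ring, map_smul, smul_eq_mul]
  ring

/-- linear forms -/
def lf (c : Fin 2 → K) (h : SL(2, F)) : K := ι (h 1 0) * c 0 + ι (h 1 1) * c 1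

omit [Fintype F] in
theorem lf_mul (c : Fin 2 → K) (h g : SL(2, F)) : lf ι c (h * g) = lf ι (g.1.map ι *ᵥ c) h := by
  simp [lf, mul_apply, mulVec, dotProduct]
  ring

omit [Fintype F] in
theorem lf_comb (a b : K) (c d : Fin 2 → K) : lf ι (a • c + b • d) = a • lf ι c + b • lf ι d := by
  ext h
  simp [lf]
  ring

/-- the module with highest weight `l` -/
def LL (l : ℕ) : Submodule K (SL(2, F) → K) := Submodule.span K (Set.range fun c => lf ι c ^ l)

variable (K) in
/-- its weights -/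
noncomputable def JJ (l : ℕ) : Finset ℕ :=
  open Classical in (Finset.range (l + 1)).filter fun j => (l.choose j : K) ≠ 0

theorem mem_JJ {l j : ℕ} : j ∈ JJ K l ↔ j ≤ l ∧ (l.choose j : K) ≠ 0 := by
  simp [JJ]

omit [Fintype F] in
theorem LL_le {l : ℕ} {c d : Fin 2 → K} (h : c 0 * d 1 ≠ c 1 * d 0) {N : Submodule K (SL(2, F) → K)}
    (hN : ∀ j ∈ JJ K l, lf ι d ^ j * lf ι c ^ (l - j) ∈ N) : LL ι l ≤ N := by
  refine Submodule.span_le.2 ?_
  rintro _ ⟨e, rfl⟩
  have h1 := sub_ne_zero.2 h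
  have h2 : e = ((c 0 * e 1 - c 1 * e 0) / (c 0 * d 1 - c 1 * d 0)) • d +
      ((e 0 * d 1 - e 1 * d 0) / (c 0 * d 1 - c 1 * d 0)) • c := by
    ext i
    fin_cases i <;> simp <;> field_simp <;> ring
  rw [h2]
  beta_reduce
  rw [lf_comb, add_pow]
  refine N.sum_mem fun j hj => ?_
  rw [_root_.smul_pow, _root_.smul_pow, smul_mul_smul, mul_comm, ← nsmul_eq_mul, ← Nat.cast_smul_eq_nsmul K]
  by_cases h3 : (l.choose j : K) = 0
  · simp [h3]
  · exact N.smul_mem _ (N.smul_mem _ (hN j (mem_JJ.2 ⟨Finset.mem_range_succ_iff.1 hj, h3⟩)))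

theorem mem_LL {l : ℕ} (hl : l < Fintype.card F) (c d : Fin 2 → K) {j : ℕ} (hj : j ∈ JJ K l) :
    lf ι d ^ j * lf ι c ^ (l - j) ∈ LL ι l :=
  mem_of_interp ι _ _ _ hl (fun s => Submodule.subset_span (Set.mem_range.2 ⟨ι s • d + (1 : K) • c, by
    rw [lf_comb, one_smul]⟩)) (mem_JJ.1 hj).2

/-- a cell representative -/
def nn (t : F) : SL(2, F) := ⟨!![0, -1; 1, t], by simp [det_fin_two]⟩

omit [Fintype F] in
theorem coe_nn (t : F) : (nn t).1 = !![0, -1; 1, t] := rfl

omit [Fintype F] in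
theorem lf_10 (h : SL(2, F)) : lf ι ![1, 0] h = ι (h.1 1 0) := by simp [lf]

omit [Fintype F] in
theorem lf_01 (h : SL(2, F)) : lf ι ![0, 1] h = ι (h.1 1 1) := by simp [lf]

theorem span_eq {l : ℕ} (hl : l < Fintype.card F) {c d : Fin 2 → K} (h : c 0 * d 1 ≠ c 1 * d 0) :
    Submodule.span K (Set.range fun j : JJ K l => lf ι d ^ j.1 * lf ι c ^ (l - j)) = LL ι l :=
  le_antisymm (Submodule.span_le.2 (by rintro _ ⟨j, rfl⟩; exact mem_LL ι hl c d j.2))
    (LL_le ι h fun j hj => Submodule.subset_span ⟨⟨j, hj⟩, rfl⟩)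

theorem finrank_LL {l : ℕ} (hl : l < Fintype.card F) : finrank K (LL ι l) = Fintype.card (JJ K l) := by
  classical
  rw [← span_eq ι hl (c := ![1, 0]) (d := ![0, 1]) (by simp)]
  refine finrank_span_eq_card (Fintype.linearIndependent_iff.2 fun g hg j => ?_)
  have h1 := coef_eq_zero ι hl (fun i => if h : i ∈ JJ K l then g ⟨i, h⟩ else 0) (fun s => by
    rw [← Finset.sum_subset (s₁ := JJ K l) (fun i hi => Finset.mem_range_succ_iff.2 (mem_JJ.1 hi).1)
      fun i _ hi => by simp [hi], ← Finset.sum_coe_sort]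
    have := congrFun hg (nn s)
    rw [Finset.sum_apply] at this
    simpa [lf_10, lf_01, coe_nn] using this) (j := j) (mem_JJ.1 j.2).1
  simpa using h1

/-- `η` is an eigenvalue of the semisimple element `g` -/
def Eig (g : SL(2, F)) (η : K) : Prop := η ≠ 0 ∧ ∃ c d : Fin 2 → K, c 0 * d 1 ≠ c 1 * d 0 ∧
  g.1.map ι *ᵥ c = η • c ∧ g.1.map ι *ᵥ d = η⁻¹ • d

theorem charpoly_of_range {W : Type*} [AddCommGroup W] [Module K W] [FiniteDimensional K W]
    (σ : Representation K SL(2, F) W) (Φ : W →ₗ[K] (SL(2, F) → K)) (h1 : Function.Injective Φ)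
    (h2 : ∀ g w h, Φ (σ g w) h = Φ w (h * g)) {l : ℕ} (hl : l < Fintype.card F)
    (h3 : LinearMap.range Φ = LL ι l) {g : SL(2, F)} {η : K} (h : Eig ι g η) :
    (σ g).charpoly = ∏ j ∈ JJ K l, (X - C (η⁻¹ ^ j * η ^ (l - j))) := by
  obtain ⟨-, c, d, h4, h5, h6⟩ := h
  have h7 : ∀ j : JJ K l, ∃ w, Φ w = lf ι d ^ j.1 * lf ι c ^ (l - j) := fun j =>
    (h3 ▸ mem_LL ι hl c d j.2 : _ ∈ LinearMap.range Φ)
  choose b hb using h7
  have h8 : ⊤ ≤ Submodule.span K (Set.range b) := by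
    rw [← Submodule.map_le_map_iff_of_injective h1, Submodule.map_top, h3, Submodule.map_span,
      ← Set.range_comp, ← span_eq ι hl h4]
    exact le_of_eq (congrArg _ (congrArg _ (_root_.funext fun j => (hb j).symm)))
  rw [← Finset.prod_coe_sort]
  refine charpoly_of_basis _ (basisOfTopLeSpanOfCardEqFinrank b h8 (by
    rw [← finrank_LL ι hl, ← h3, LinearMap.finrank_range_of_inj h1])) _ fun j => h1 (_root_.funext fun h => ?_)
  have e1 := congrFun (lf_comb ι η 0 c c) h
  have e2 := congrFun (lf_comb ι η⁻¹ 0 d d) h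
  simp only [zero_smul, add_zero, Pi.smul_apply, smul_eq_mul] at e1 e2
  simp only [coe_basisOfTopLeSpanOfCardEqFinrank, h2, map_smul, hb, Pi.mul_apply, Pi.pow_apply, lf_mul,
    h5, h6, e1, e2, Pi.smul_apply, smul_eq_mul]
  ring

/-- upper triangular matrices -/
def bb (a : Fˣ) (x : F) : SL(2, F) := ⟨!![(a⁻¹ : Fˣ), x; 0, a], by simp [det_fin_two]⟩

omit [Fintype F] in
theorem coe_bb (a : Fˣ) (x : F) : (bb a x).1 = !![((a⁻¹ : Fˣ) : F), x; 0, a] := rfl

omit [Fintype F] in
theorem bb_mul (a b : Fˣ) (x y : F) : bb a x * bb b y = bb (a * b) ((a⁻¹ : Fˣ) * y + x * b) :=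
  Subtype.ext (by simp [coe_bb, mul_comm])

omit [Fintype F] in
theorem bb_one : bb 1 (0 : F) = 1 := Subtype.ext (by simp [coe_bb, one_fin_two])

omit [Fintype F] in
theorem bruhat (h : SL(2, F)) : (∃ a x, h = bb a x) ∨ ∃ a x y, h = bb a x * nn y := by
  have h1 := h.det_coe
  rw [det_fin_two] at h1
  by_cases h2 : h.1 1 0 = 0
  · have h3 : h.1 1 1 ≠ 0 := fun e => by simp [e, h2] at h1
    refine .inl ⟨.mk0 _ h3, h.1 0 1, Subtype.ext (Matrix.ext fun i j => ?_)⟩
    rw [h2, mul_zero, sub_zero] at h1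
    fin_cases i <;> fin_cases j <;> simp [coe_bb, h2, eq_inv_of_mul_eq_one_left h1]
  · refine .inr ⟨.mk0 _ h2, h.1 0 0, h.1 1 1 / h.1 1 0, Subtype.ext (Matrix.ext fun i j => ?_)⟩
    fin_cases i <;> fin_cases j <;> simp [coe_bb, coe_nn] <;> field_simp
    linear_combination -h1

variable [IsAlgClosed K] (p : ℕ) [hp : Fact p.Prime] [CharP F p]

omit [IsAlgClosed K] in
theorem exists_fix [CharP K p] {W : Type*} [AddCommGroup W] [Module K W] [Nontrivial W]
    (σ : Representation K SL(2, F) W) : ∃ w ≠ 0, ∀ x, σ (bb 1 x) w = w := by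
  obtain ⟨w, -, h1, h2⟩ := Perm.exists_fixed_ne_zero_of_isPGroup (p := p) (P := Multiplicative F)
    (fun x => ⟨1, by
      rw [pow_one, ← ofAdd_toAdd x, ← ofAdd_nsmul, nsmul_eq_mul, CharP.cast_eq_zero, zero_mul]; rfl⟩)
    (σ.comp (MonoidHom.mk' (fun x => bb 1 x.toAdd) fun x y => by simp [bb_mul, add_comm])) ⊤
    top_ne_bot fun _ _ _ => trivial
  exact ⟨w, h1, fun x => h2 (.ofAdd x)⟩

theorem exists_form [CharP K p] {W : Type*} [AddCommGroup W] [Module K W] [FiniteDimensional K W]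
    [Nontrivial W] (σ : Representation K SL(2, F) W) : ∃ (φ : Dual K W) (l : ℕ), φ ≠ 0 ∧ 0 < l ∧
      l < Fintype.card F ∧ ∀ a x w, φ (σ (bb a x) w) = ι a ^ l * φ w := by
  have : Nontrivial (Dual K W) := (nontrivial_dual_iff K).2 inferInstance
  let N : Submodule K (Dual K W) :=
    { carrier := {φ | ∀ x w, φ (σ (bb 1 x) w) = φ w}
      add_mem' := fun ha hb x w => by simp [ha x w, hb x w]
      zero_mem' := fun _ _ => rfl
      smul_mem' := fun c φ h x w => by simp [h x w] }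
  obtain ⟨ψ, h1, h2⟩ := exists_fix p σ.dual
  let τ : Representation K Fˣ (Dual K W) :=
    σ.dual.comp (MonoidHom.mk' (fun a => bb a 0) fun a b => by simp [bb_mul])
  have h3 : ∀ a φ w, τ a⁻¹ φ w = φ (σ (bb a 0) w) := fun a φ w => by
    change φ (σ (bb a⁻¹ 0)⁻¹ w) = _
    rw [inv_eq_of_mul_eq_one_right (b := bb a 0) (by simp [bb_mul, bb_one])]
  obtain ⟨φ, h4, h5, h6⟩ := exists_common_eigenvector τ mul_comm N
    ((Submodule.ne_bot_iff _).2 ⟨ψ, fun x w => by
      conv_rhs => rw [← h2 (-x)]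
      change _ = ψ (σ (bb 1 (-x))⁻¹ w)
      rw [inv_eq_of_mul_eq_one_right (b := bb 1 x) (by simp [bb_mul, bb_one])], h1⟩)
    fun a φ h x w => by
      rw [← inv_inv a, h3, h3, ← End.mul_apply, ← map_mul, ← h ((a : F) ^ 2 * x) (σ (bb a⁻¹ 0) w),
        ← End.mul_apply, ← map_mul]
      simp [bb_mul, sq, mul_right_comm _ x]
  obtain ⟨χ, h7⟩ := exists_hom_of_eigenvector τ h5 h6
  obtain ⟨z, hz⟩ := IsCyclic.exists_monoid_generator (α := Fˣ)
  have h8 : orderOf z = Fintype.card F - 1 := by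
    rw [orderOf_eq_card_of_forall_mem_powers hz, Nat.card_units, Nat.card_eq_fintype_card]
  have h9 := Fintype.one_lt_card (α := F)
  have h10 : IsPrimitiveRoot (ι z) (Fintype.card F - 1) :=
    (IsPrimitiveRoot.coe_units_iff.2 (h8 ▸ IsPrimitiveRoot.orderOf z)).map_of_injective ι.injective
  have : NeZero (Fintype.card F - 1) := ⟨by omega⟩
  obtain ⟨i, hi, h11⟩ := h10.eq_pow_of_pow_eq_one (ξ := (χ z⁻¹ : K) / ι z) (by
    rw [div_pow, h10.pow_eq_one, ← Units.val_pow_eq_pow_val, ← map_pow, inv_pow, ← h8, pow_orderOf_eq_one]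
    simp)
  refine ⟨φ, i + 1, h5, by omega, by omega, fun a x w => ?_⟩
  rw [show bb a x = bb 1 (x / a) * bb a 0 by simp [bb_mul], map_mul, End.mul_apply, h4, ← h3, h7]
  obtain ⟨k, rfl⟩ := hz a
  have h12 : (χ z⁻¹ : K) = ι z ^ (i + 1) := by
    rw [pow_succ, h11, div_mul_cancel₀ _ ((map_ne_zero ι).2 z.ne_zero)]
  beta_reduce
  rw [← inv_pow, map_pow, Units.val_pow_eq_pow_val, h12, Units.val_pow_eq_pow_val, map_pow, ← pow_mul,
    ← pow_mul, mul_comm k]
  rfl

theorem exists_range [CharP K p] {W : Type*} [AddCommGroup W] [Module K W] [FiniteDimensional K W]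
    [Nontrivial W] (σ : Representation K SL(2, F) W)
    (hs : ∀ N : Submodule K W, (∀ g, N ≤ N.comap (σ g)) → N = ⊥ ∨ N = ⊤) :
    ∃ l < Fintype.card F, ∀ g η, Eig ι g η →
      (σ g).charpoly = ∏ j ∈ JJ K l, (X - C (η⁻¹ ^ j * η ^ (l - j))) := by
  classical
  obtain ⟨φ, l, h1, h2, h3, h4⟩ := exists_form ι p σ
  let Φ : W →ₗ[K] (SL(2, F) → K) := LinearMap.pi fun h => φ ∘ₗ σ h
  have h5 : ∀ g w h, Φ (σ g w) h = Φ w (h * g) := fun g w h => by simp [Φ]
  have h6 : Function.Injective Φ := LinearMap.ker_eq_bot.1 ((hs (LinearMap.ker Φ) fun g w hw =>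
    show Φ (σ g w) = 0 from _root_.funext fun h => (h5 g w h).trans
      (congrFun (LinearMap.mem_ker.1 hw) _)).resolve_right fun e => h1 (LinearMap.ext fun w => by
      have h6 : Φ w = 0 := LinearMap.mem_ker.1 (e ▸ Submodule.mem_top)
      simpa [Φ] using congrFun h6 1))
  have h7 : ∀ w a x h, Φ w (bb a x * h) = ι a ^ l * Φ w h := fun w a x h => by simp [Φ, h4]
  suffices ∃ k < Fintype.card F, ∃ w, Φ w = lf ι ![1, 0] ^ k by
    obtain ⟨k, hk, w, hw⟩ := this
    have h8 : LL ι k ≤ LinearMap.range Φ := LL_le ι (c := ![1, 0]) (d := ![0, 1]) (by simp) fun j hj =>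
      mem_of_interp ι (LinearMap.range Φ) (lf ι ![1, 0]) (lf ι ![0, 1]) hk
        (fun s => ⟨σ (nn 0 * bb (-1) s * nn 0) w, _root_.funext fun h => by
          rw [h5, hw]
          simp [lf_10, lf_01, coe_nn, coe_bb, mul_apply, add_comm, mul_comm]⟩) (mem_JJ.1 hj).2
    refine ⟨k, hk, fun g η => charpoly_of_range ι σ Φ h6 h5 hk (le_antisymm ?_ h8)⟩
    rw [LinearMap.range_le_iff_comap]
    refine (hs _ fun g v hv => ?_).resolve_left fun e => ?_
    · have := Submodule.mem_map_of_mem (f := LinearMap.funLeft K K (· * g)) (Submodule.mem_comap.1 hv)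
      rw [LL, Submodule.map_span] at this
      rw [Submodule.mem_comap, Submodule.mem_comap, _root_.funext (h5 g v)]
      refine Submodule.span_mono ?_ this
      rintro _ ⟨_, ⟨c, rfl⟩, rfl⟩
      exact ⟨g.1.map ι *ᵥ c, _root_.funext fun h => by simp [lf_mul]⟩
    · have h9 : w ∈ (LL ι k).comap Φ := by
        rw [Submodule.mem_comap, hw]
        exact Submodule.subset_span (Set.mem_range_self _)
      rw [e, Submodule.mem_bot] at h9
      simpa [h9, lf_10, coe_nn] using congrFun hw (nn 0)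
  have key : ∀ w k, k < Fintype.card F → ∀ A : K, A ≠ 0 → Φ w = A • lf ι ![1, 0] ^ k →
      ∃ k < Fintype.card F, ∃ w, Φ w = lf ι ![1, 0] ^ k := fun w k hk A hA e =>
    ⟨k, hk, A⁻¹ • w, by rw [map_smul, e, inv_smul_smul₀ hA]⟩
  obtain ⟨w, hw, h8⟩ := exists_fix p σ
  have h9 : ∀ h x, Φ w (h * bb 1 x) = Φ w h := fun h x => by rw [← h5, h8]
  have h10 : ∀ a x, Φ w (bb a x) = ι a ^ l * Φ w 1 := fun a x => by rw [← h7, mul_one]
  have h11 : ∀ y t : F, nn y * bb 1 t = nn (y + t) := fun y t => Subtype.ext (by simp [coe_nn, coe_bb, add_comm])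
  have h12 : ∀ a x y, Φ w (bb a x * nn y) = ι a ^ l * Φ w (nn 0) := fun a x y => by
    rw [h7, ← zero_add y, ← h11, h9]
  by_cases hA : ∑ t, Φ w (nn t * nn 0) = 0
  swap
  · refine key (∑ t, σ (bb 1 t * nn 0) w) l h3 _ hA (_root_.funext fun h => ?_)
    simp only [map_sum, Finset.sum_apply, h5]
    rcases bruhat h with ⟨a, x, rfl⟩ | ⟨a, x, y, rfl⟩
    · simp only [h7]
      have : (Fintype.card F : K) = 0 := by rw [← map_natCast ι, FiniteField.cast_card_eq_zero, map_zero]
      simp [lf_10, coe_bb, h2.ne', this]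
    · simp only [mul_assoc, h7, ← mul_assoc (nn y), h11, ← Finset.mul_sum]
      rw [show ∑ t, Φ w (nn (y + t) * nn 0) = _ from
        Equiv.sum_comp (Equiv.addLeft y) fun t => Φ w (nn t * nn 0)]
      simp [lf_10, coe_bb, coe_nn, mul_comm]
  have h13 : ∀ t : F, Φ w (nn t * nn 0) = ι t ^ l * Φ w (nn 0) +
      if t = 0 then (-1) ^ l * Φ w 1 else 0 := fun t => by
    split_ifs with ht
    · rw [ht, show nn 0 * nn 0 = bb (-1) (0 : F) from Subtype.ext (by simp [coe_nn, coe_bb]), h10]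
      simp [h2.ne']
    · rw [show nn t * nn 0 = bb (.mk0 t ht) (-1) * nn (-t⁻¹) from Subtype.ext (by simp [coe_nn, coe_bb, ht]), h12]
      simp
  simp only [h13, Finset.sum_add_distrib, ← Finset.sum_mul, ← map_pow, ← map_sum,
    Finset.sum_ite_eq', Finset.mem_univ, if_true] at hA
  have h14 : Φ w ≠ 0 := fun e => hw (h6 (e.trans (map_zero Φ).symm))
  by_cases hl : l < Fintype.card F - 1
  · rw [FiniteField.sum_pow_lt_card_sub_one F l hl] at hA
    have h15 : Φ w 1 = 0 := by simpa using hA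
    have h16 : Φ w = Φ w (nn 0) • lf ι ![1, 0] ^ l := _root_.funext fun h => by
      rcases bruhat h with ⟨a, x, rfl⟩ | ⟨a, x, y, rfl⟩
      · rw [h10]; simp [h15, lf_10, coe_bb, h2.ne']
      · rw [h12]; simp [lf_10, coe_bb, coe_nn, mul_comm]
    exact key w l h3 _ (fun e => h14 (by rw [h16, e, zero_smul])) h16
  · obtain rfl : l = Fintype.card F - 1 := by omega
    have h15 : ∀ a : Fˣ, ι a ^ (Fintype.card F - 1) = 1 := fun a => by
      rw [← map_pow, FiniteField.pow_card_sub_one_eq_one _ a.ne_zero, map_one]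
    have h17 : ∑ t : F, t ^ (Fintype.card F - 1) = -1 := by
      have := FiniteField.sum_pow_units F (Fintype.card F - 1)
      rw [if_pos dvd_rfl] at this
      rw [← this, ← Finset.sum_subset (Finset.subset_univ (Finset.univ.map ⟨Units.val, Units.val_injective⟩))
        fun t _ ht => ?_, Finset.sum_map]
      · rfl
      · rw [show t = 0 from by_contra fun e => ht (Finset.mem_map.2 ⟨.mk0 t e, Finset.mem_univ _, rfl⟩), zero_pow h2.ne']
    have h16 : Φ w = Φ w 1 • lf ι ![1, 0] ^ 0 := _root_.funext fun h => by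
      rcases bruhat h with ⟨a, x, rfl⟩ | ⟨a, x, y, rfl⟩
      · rw [h10, h15]; simp
      · have := h15 (-1)
        rw [h12, h15]
        simp only [Units.val_neg, Units.val_one, map_neg, map_one] at this
        rw [h17, this] at hA
        simpa [neg_add_eq_zero] using hA
    exact key w 0 (by omega) _ (fun e => h14 (by rw [h16, e, zero_smul])) h16

theorem exists_mult [CharP K p] {V : Type*} [AddCommGroup V] [Module K V] [FiniteDimensional K V]
    (ρ : Representation K SL(2, F) V) : ∃ Λ : Multiset ℕ, (∀ l ∈ Λ, l < Fintype.card F) ∧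
      ∀ g η, Eig ι g η → (ρ g).charpoly =
        (Λ.map fun l => ∏ j ∈ JJ K l, (X - C (η⁻¹ ^ j * η ^ (l - j)))).prod := by
  refine charpoly_induction (fun f => ∃ Λ : Multiset ℕ, (∀ l ∈ Λ, l < Fintype.card F) ∧
    ∀ g η, Eig ι g η → f g = (Λ.map fun l => ∏ j ∈ JJ K l, (X - C (η⁻¹ ^ j * η ^ (l - j)))).prod)
    ⟨0, by simp, by simp⟩ ?_ (fun W _ _ _ _ σ hs => ?_) V ρ
  · rintro a b ⟨Λ, h1, h2⟩ ⟨Λ', h3, h4⟩
    exact ⟨Λ + Λ', fun l hl => (Multiset.mem_add.1 hl).elim (h1 l) (h3 l), fun g η h => by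
      rw [Multiset.map_add, Multiset.prod_add, ← h2 g η h, ← h4 g η h, Pi.mul_apply]⟩
  · obtain ⟨l, h1, h2⟩ := exists_range ι p σ hs
    exact ⟨{l}, by simpa using h1, by simpa using h2⟩

end Cfsg.Agent.Chev.S2M
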