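import Mathlib
import Cfsg.Agent.Chev.E8Kac
import Cfsg.Agent.Chev.Sl2Mod

/-!
# Weight multisets of modules of `SL₂(3^r)`
-/

set_option autoImplicit false
set_option maxRecDepth 100000

namespace Cfsg.Agent.Chev.Kac

open Chk S2M

/-- the `j` with `l.choose j` prime to three -/
def js : ℕ → ℕ → List ℕ
  | 0, _ => [0]
  | r + 1, l => (js r (l / 3)).flatMap fun j => (List.range (l % 3 + 1)).map (3 * j + ·)

theorem mem_js {r l j : ℕ} (h : l < 3 ^ r) : j ∈ js r l ↔ ¬ 3 ∣ l.choose j := by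
  induction r generalizing l j with
  | zero =>
    obtain rfl : l = 0 := by simpa using h
    cases j <;> simp [js]
  | succ r ih =>
    have : Fact (Nat.Prime 3) := ⟨Nat.prime_three⟩
    have h1 : ∀ a < 3, ∀ b < 3, 3 ∣ a.choose b ↔ a < b := by decide
    rw [(Choose.choose_modEq_choose_mod_mul_choose_div_nat (p := 3)).dvd_iff dvd_rfl,
      Nat.prime_three.dvd_mul, h1 _ (by omega) _ (by omega), not_or, ← ih (by omega)]
    simp only [js, List.mem_flatMap, List.mem_map, List.mem_range]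
    refine ⟨?_, fun h => ⟨_, h.2, j % 3, by omega, by omega⟩⟩
    rintro ⟨a, h2, b, h3, rfl⟩
    exact ⟨by omega, by rwa [show (3 * a + b) / 3 = a by omega]⟩

theorem nodup_js (r l : ℕ) : (js r l).Nodup := by
  induction r generalizing l with
  | zero => simp [js]
  | succ r ih =>
    refine List.nodup_flatMap.2 ⟨fun j _ => List.nodup_range.map fun a b h => by simpa using h,
      (ih _).imp fun {a b} h x h1 h2 => h ?_⟩
    simp only [List.mem_map, List.mem_range] at h1 h2
    omega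

theorem JJ_eq {r l : ℕ} (h : l < 3 ^ r) : (JJ K3 l).val = js r l :=
  (Multiset.Nodup.ext (JJ K3 l).nodup (Multiset.coe_nodup.2 (nodup_js r l))).2 fun j => by
    rw [Finset.mem_val, mem_JJ, Multiset.mem_coe, mem_js h, Ne, CharP.cast_eq_zero_iff K3 3]
    exact and_iff_right_of_imp fun h => not_lt.1 fun e => h (by simp [Nat.choose_eq_zero_of_lt e])

/-- the halved weights, shifted by `M` -/
noncomputable def wt (M l : ℕ) : Multiset ℕ := (JJ K3 l).val.map (M + l / 2 - ·)

theorem mem_wt {M l w : ℕ} (h : w ∈ wt M l) : w ≤ M + l / 2 ∧ M + l / 2 ≤ w + l := by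
  obtain ⟨j, h1, rfl⟩ := Multiset.mem_map.1 h
  have := (mem_JJ.1 h1).1
  omega

theorem top_mem_wt (M l : ℕ) : M + l / 2 ∈ wt M l :=
  Multiset.mem_map.2 ⟨0, mem_JJ.2 (by simp), rfl⟩

theorem wt_symm {M l : ℕ} (h : l % 2 = 0) (hM : l / 2 ≤ M) : (wt M l).map (2 * M - ·) = wt M l := by
  rw [wt, Multiset.map_map]
  have h1 : ∀ j ∈ JJ K3 l, l - j ∈ JJ K3 l := fun j hj =>
    mem_JJ.2 ⟨by omega, by rw [Nat.choose_symm (mem_JJ.1 hj).1]; exact (mem_JJ.1 hj).2⟩
  refine Multiset.map_eq_map_of_bij_of_nodup _ _ (JJ K3 l).nodup (JJ K3 l).nodup (fun j _ => l - j) h1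
    (fun a ha b hb e => ?_) (fun j hj => ⟨l - j, h1 j hj, ?_⟩) fun j hj => ?_
  · have := (mem_JJ.1 ha).1
    have := (mem_JJ.1 hb).1
    omega
  all_goals
    have := (mem_JJ.1 hj).1
    try rw [Function.comp_apply]
    omega

theorem bind_wt_inj {M : ℕ} {A B : Multiset ℕ} (hA : ∀ l ∈ A, l % 2 = 0) (hB : ∀ l ∈ B, l % 2 = 0)
    (h : A.bind (wt M) = B.bind (wt M)) : A = B := by
  induction hn : (A + B).card using Nat.strong_induction_on generalizing A B with
  | _ n ih =>
    by_cases h0 : A + B = 0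
    · rw [(add_eq_zero.1 h0).1, (add_eq_zero.1 h0).2]
    obtain ⟨l, h1, h2⟩ := (A + B).exists_max_image id h0
    have h3 : ∀ {A B : Multiset ℕ}, (∀ l ∈ A, l % 2 = 0) → (∀ l ∈ B, l % 2 = 0) →
        A.bind (wt M) = B.bind (wt M) → (∀ k ∈ B, k ≤ l) → l ∈ A → l ∈ B := fun hA hB h h2 h1 => by
      obtain ⟨k, h3, h4⟩ := Multiset.mem_bind.1 (h ▸ Multiset.mem_bind.2 ⟨l, h1, top_mem_wt M l⟩)
      have := mem_wt h4
      have := h2 k h3
      have := hA l h1
      have := hB k h3
      rwa [show l = k by omega]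
    have h4 : l ∈ A ∧ l ∈ B := (Multiset.mem_add.1 h1).elim
      (fun e => ⟨e, h3 hA hB h (fun k hk => h2 k (by simp [hk])) e⟩)
      fun e => ⟨h3 hB hA h.symm (fun k hk => h2 k (by simp [hk])) e, e⟩
    obtain ⟨A, rfl⟩ := Multiset.exists_cons_of_mem h4.1
    obtain ⟨B, rfl⟩ := Multiset.exists_cons_of_mem h4.2
    rw [ih (A + B).card (by simp at hn ⊢; omega) (fun k hk => hA k (by simp [hk])) (fun k hk => hB k (by simp [hk]))
      (by simpa using h) rfl]

theorem count_map_eq {A : Multiset ℕ} {f : ℕ → ℕ} {b : ℕ} (S : Finset ℕ) (h1 : ∀ w ∈ S, b = f w)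
    (h2 : ∀ w ∈ A, b = f w → w ∈ S) : (A.map f).count b = ∑ w ∈ S, A.count w := by
  rw [Multiset.count_map, ← Multiset.sum_count_eq_card (s := S) fun a ha =>
    h2 a (Multiset.mem_filter.1 ha).1 (Multiset.mem_filter.1 ha).2]
  exact Finset.sum_congr rfl fun w hw => Multiset.count_filter_of_pos (h1 w hw)

theorem eq_of_mod {n M : ℕ} (hn : n = 121 ∧ M = 14762 ∨ n = 364 ∧ M = 132860) {A B : Multiset ℕ}
    (hA : ∀ w ∈ A, w ≤ M + n ∧ M ≤ w + n) (hB : ∀ w ∈ B, w ≤ M + n ∧ M ≤ w + n)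
    (sA : A.map (2 * M - ·) = A) (sB : B.map (2 * M - ·) = B) (h1 : A.map (· % n) = B.map (· % n))
    (h2 : A.map (· % (n + 1)) = B.map (· % (n + 1))) : A = B := by
  have key : ∀ {A : Multiset ℕ}, (∀ w ∈ A, w ≤ M + n ∧ M ≤ w + n) → A.map (2 * M - ·) = A →
      (∀ k ≤ n, A.count (M - k) = A.count (M + k)) ∧ (A.map (· % (n + 1))).count 0 = A.count M ∧
      (A.map (· % n)).count 0 = A.count (M + n) + (A.count (M + n) + A.count M) ∧
      (∀ k < n, k ≠ 0 → (A.map (· % n)).count k = A.count (M + k) + A.count (M + (n - k))) ∧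
      ∀ k < n, (A.map (· % (n + 1))).count (k + 1) = A.count (M + (k + 1)) + A.count (M + (n - k)) :=
    fun {A} hA sA => by
      have h3 : ∀ k ≤ n, A.count (M - k) = A.count (M + k) := fun k hk => by
        conv_lhs => rw [← sA]
        rw [count_map_eq {M + k} (by simp; omega) fun w hw e => by have := hA w hw; simp; omega]
        simp
      refine ⟨h3, ?_, ?_, fun k hk hk' => ?_, fun k hk => ?_⟩
      · rw [count_map_eq {M} ?_ fun w hw e => ?_, Finset.sum_singleton]
        all_goals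
          try have := hA w hw
          simp only [Finset.mem_singleton, forall_eq]
          rcases hn with ⟨rfl, rfl⟩ | ⟨rfl, rfl⟩ <;> omega
      · rw [count_map_eq {M + n, M - n, M} ?_ fun w hw e => ?_, Finset.sum_insert (by simp; omega),
          Finset.sum_pair (by omega), h3 n le_rfl]
        all_goals
          try have := hA w hw
          simp only [Finset.mem_insert, Finset.mem_singleton, forall_eq_or_imp, forall_eq]
          rcases hn with ⟨rfl, rfl⟩ | ⟨rfl, rfl⟩ <;> omega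
      · rw [count_map_eq {M + k, M - (n - k)} ?_ fun w hw e => ?_, Finset.sum_pair (by omega),
          h3 _ (by omega)]
        all_goals
          try have := hA w hw
          simp only [Finset.mem_insert, Finset.mem_singleton, forall_eq_or_imp, forall_eq]
          rcases hn with ⟨rfl, rfl⟩ | ⟨rfl, rfl⟩ <;> omega
      · rw [count_map_eq {M + (k + 1), M - (n - k)} ?_ fun w hw e => ?_, Finset.sum_pair (by omega),
          h3 _ (by omega)]
        all_goals
          try have := hA w hw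
          simp only [Finset.mem_insert, Finset.mem_singleton, forall_eq_or_imp, forall_eq]
          rcases hn with ⟨rfl, rfl⟩ | ⟨rfl, rfl⟩ <;> omega
  obtain ⟨a1, a2, a3, a4, a5⟩ := key hA sA
  obtain ⟨b1, b2, b3, b4, b5⟩ := key hB sB
  rw [h1] at a3 a4
  rw [h2] at a2 a5
  have h3 : ∀ k ≤ n, A.count (M + k) = B.count (M + k) := fun k hk => by
    induction k with
    | zero => exact a2.symm.trans b2
    | succ k ih =>
      have := ih (by omega)
      have := a5 k (by omega)
      have := b5 k (by omega)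
      rcases eq_or_ne k 0 with rfl | h
      · simp only [tsub_zero] at *
        omega
      · have := a4 k (by omega) h
        have := b4 k (by omega) h
        omega
  refine Multiset.ext.2 fun w => ?_
  by_cases hw : w ≤ M + n ∧ M ≤ w + n
  · rcases le_total w M with h | h
    · rw [show w = M - (M - w) by omega, a1 _ (by omega), b1 _ (by omega), h3 _ (by omega)]
    · rw [show w = M + (w - M) by omega, h3 _ (by omega)]
  · rw [Multiset.count_eq_zero.2 fun h => hw (hA w h), Multiset.count_eq_zero.2 fun h => hw (hB w h)]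

/-- the Frobenius twist -/
def rot (t l : ℕ) : ℕ := 3 * (l % t) + l / t

/-- an orbit of the Frobenius twist -/
def orb (t : ℕ) (x : ℕ × ℕ) : List ℕ := (List.range x.2).map ((rot t)^[·] x.1)

/-- sum over an orbit -/
def osum (r t M : ℕ) (f : ℕ → ℕ) (x : ℕ × ℕ) : ℕ :=
  ((orb t x).map fun l => ((js r l).map fun j => f (M + l / 2 - j)).sum).sum

/-- the check for the twist -/
def TwOK (r t n M : ℕ) : Prop := ∀ l < 3 * t, l % 2 = 0 → rot t l < 3 * t ∧ rot t l % 2 = 0 ∧
  ∀ m ∈ [n, n + 1], ((js r (rot t l)).map fun j => 1031 ^ ((M + rot t l / 2 - j) % m)).sum =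
    ((js r l).map fun j => 1031 ^ (3 * (M + l / 2 - j) % m)).sum

/-- the check for the orbits -/
def OrbOK (r t M : ℕ) (L : List (ℕ × ℕ)) : Prop := (0 :: L.flatMap (orb t)).Nodup ∧
  (∀ l < 3 * t, l % 2 = 0 → l ∈ 0 :: L.flatMap (orb t)) ∧
  ∀ x ∈ L, x.1 < 3 * t ∧ x.1 % 2 = 0 ∧ 0 < osum r t M (fun _ => 1) x

/-- orbits for `q = 243` -/
def rp5 : List (ℕ × ℕ) := [(134, 5), (152, 5), (80, 5), (242, 1), (122, 5), (44, 5), (50, 5), (52, 5),
  (68, 5), (70, 5), (76, 5), (26, 5), (62, 5), (40, 5), (14, 5), (16, 5), (22, 5), (32, 5), (34, 5),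
  (38, 5), (8, 5), (20, 5), (4, 5), (10, 5), (2, 5)]

/-- orbits for `q = 729` -/
def rp6 : List (ℕ × ℕ) := [(404, 6), (458, 6), (242, 6), (476, 3), (368, 6), (374, 6), (728, 1),
  (134, 6), (152, 6), (158, 6), (160, 6), (206, 6), (212, 6), (214, 6), (230, 6), (232, 6), (238, 6),
  (80, 6), (188, 6), (392, 3), (122, 6), (124, 6), (130, 6), (148, 6), (202, 6), (224, 3), (44, 6),
  (50, 6), (52, 6), (68, 6), (70, 6), (76, 6), (98, 6), (104, 6), (106, 6), (116, 6), (128, 6), (142, 6),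
  (146, 6), (184, 6), (26, 6), (62, 6), (74, 6), (140, 3), (196, 3), (40, 6), (94, 6), (14, 6), (16, 6),
  (22, 6), (32, 6), (34, 6), (38, 6), (46, 6), (58, 6), (64, 6), (92, 6), (364, 1), (8, 6), (20, 6),
  (182, 2), (112, 3), (56, 3), (4, 6), (10, 6), (2, 6), (28, 3)]

/-- the search over all twist-invariant weight multisets -/
noncomputable def srch (r t M : ℕ) (L : List (ℕ × ℕ)) (f : ℕ → ℕ) (Q : ℕ → Bool) : Bool :=
  force (f M) fun z => forceT (L.map fun x => [osum r t M (fun _ => 1) x, osum r t M f x]) fun T =>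
    mulS (fun e s => force (Nat.add s (Nat.mul e z)) Q) T 248 0

theorem sum_orb {r t M : ℕ} {L : List (ℕ × ℕ)} (hr : 3 * t = 3 ^ r) (h1 : ∀ l < 3 * t, rot t l < 3 * t)
    (h2 : ∀ a < 3 * t, ∀ b < 3 * t, rot t a = rot t b → a = b) (hL : OrbOK r t M L) {A : Multiset ℕ}
    (hA : ∀ l ∈ A, l < 3 * t ∧ l % 2 = 0) (h3 : A.map (rot t) = A) (f : ℕ → ℕ) :
    ((A.bind (wt M)).map f).sum = (L.map fun x => A.count x.1 * osum r t M f x).sum + A.count 0 * f M := by
  have h4 : ∀ k, ∀ l < 3 * t, (rot t)^[k] l < 3 * t ∧ A.count ((rot t)^[k] l) = A.count l := fun k l hl => by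
    induction k with
    | zero => exact ⟨hl, rfl⟩
    | succ k ih =>
      rw [Function.iterate_succ_apply', ← ih.2]
      refine ⟨h1 _ ih.1, ?_⟩
      conv_lhs => rw [← h3]
      simpa using count_map_eq {(rot t)^[k] l} (by simp) fun w hw e => by
        simp [h2 _ ih.1 _ (hA w hw).1 e]
  rw [Multiset.map_bind, Multiset.sum_bind, Finset.sum_multiset_map_count,
    Finset.sum_subset (s₂ := (0 :: L.flatMap (orb t)).toFinset) (fun l hl => List.mem_toFinset.2
      (hL.2.1 l (hA l (Multiset.mem_toFinset.1 hl)).1 (hA l (Multiset.mem_toFinset.1 hl)).2))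
      fun l _ hl => by simpa using .inl (by simpa using hl), List.sum_toFinset _ hL.1, List.map_cons,
    List.sum_cons, add_comm, List.map_flatMap, List.flatMap_def, List.sum_flatten, List.map_map]
  congr 1
  · refine congrArg _ (List.map_congr_left fun x hx => ?_)
    simp only [Function.comp_apply, osum, orb, List.map_map]
    rw [← List.sum_map_mul_left]
    refine congrArg _ (List.map_congr_left fun k _ => ?_)
    have := h4 k _ (hL.2.2 x hx).1
    simp only [this.2, wt, JJ_eq (hr ▸ this.1), Function.comp_def, Multiset.map_coe, Multiset.sum_coe,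
      List.map_map, smul_eq_mul]
  · simp [wt, JJ_eq (r := 0) (l := 0) one_pos, js]

theorem srch_spec {r t M : ℕ} {L : List (ℕ × ℕ)} (hr : 3 * t = 3 ^ r) (h1 : ∀ l < 3 * t, rot t l < 3 * t)
    (h2 : ∀ a < 3 * t, ∀ b < 3 * t, rot t a = rot t b → a = b) (hL : OrbOK r t M L) {A : Multiset ℕ}
    (hA : ∀ l ∈ A, l < 3 * t ∧ l % 2 = 0) (h3 : A.map (rot t) = A) (h4 : (A.bind (wt M)).card = 248)
    {f : ℕ → ℕ} {Q : ℕ → Bool} (h : srch r t M L f Q = true) : Q ((A.bind (wt M)).map f).sum = true := by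
  rw [srch, force_eq, forceT_eq] at h
  have := mulS_spec (fun x => A.count x.1) (fun x hx => (hL.2.2 x hx).2.2) h (e := A.count 0) (by
    simpa [h4] using (sum_orb hr h1 h2 hL hA h3 fun _ => 1).symm)
  rwa [force_eq, zero_add, Nat.add_eq, Nat.mul_eq, ← sum_orb hr h1 h2 hL hA h3] at this

theorem map_rot {r t n M : ℕ} (hn : n = 121 ∧ M = 14762 ∨ n = 364 ∧ M = 132860) (hr : 3 * t = 3 ^ r)
    (ht : 3 * t = 2 * n + 1) (h : TwOK r t n M) {A : Multiset ℕ} (hA : ∀ l ∈ A, l < 3 * t ∧ l % 2 = 0)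
    (h1 : ∀ m ∈ [n, n + 1], (A.bind (wt M)).map (· % m) = (A.bind (wt M)).map (3 * · % m)) :
    A.map (rot t) = A := by
  have hB : ∀ l ∈ A.map (rot t), l < 3 * t ∧ l % 2 = 0 := fun l hl => by
    obtain ⟨k, hk, rfl⟩ := Multiset.mem_map.1 hl
    exact ⟨(h k (hA k hk).1 (hA k hk).2).1, (h k (hA k hk).1 (hA k hk).2).2.1⟩
  have h2 : ∀ {A : Multiset ℕ}, (∀ l ∈ A, l < 3 * t ∧ l % 2 = 0) →
      (∀ w ∈ A.bind (wt M), w ≤ M + n ∧ M ≤ w + n) ∧ (A.bind (wt M)).map (2 * M - ·) = A.bind (wt M) :=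
    fun hA => ⟨fun w hw => by
      obtain ⟨l, h3, h4⟩ := Multiset.mem_bind.1 hw
      have := mem_wt h4
      have := hA l h3
      omega, by
      rw [Multiset.map_bind]
      exact Multiset.bind_congr fun l hl => wt_symm (hA l hl).2 (by have := hA l hl; omega)⟩
  have h3 : ∀ l < 3 * t, (wt M l).card < 1031 := fun l hl => by
    have := Finset.card_le_card (show JJ K3 l ⊆ Finset.range (l + 1) from fun j hj =>
      Finset.mem_range_succ_iff.2 (mem_JJ.1 hj).1)
    simp [wt] at this ⊢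
    omega
  have h4 : ∀ m ∈ [n, n + 1], ((A.map (rot t)).bind (wt M)).map (· % m) = (A.bind (wt M)).map (· % m) :=
    fun m hm => by
      rw [h1 m hm, Multiset.bind_map, Multiset.map_bind, Multiset.map_bind]
      refine Multiset.bind_congr fun l hl => ?_
      obtain ⟨h5, -, h6⟩ := h l (hA l hl).1 (hA l hl).2
      refine pack_inj (b := 1031) (by simpa using h3 _ h5) (by simpa using h3 _ (hA l hl).1) ?_
      simpa [wt, JJ_eq (hr ▸ h5), JJ_eq (hr ▸ (hA l hl).1), Function.comp_def] using h6 m hm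
  exact bind_wt_inj (fun l hl => (hB l hl).2) (fun l hl => (hA l hl).2)
    (eq_of_mod hn (h2 hB).1 (h2 hA).1 (h2 hB).2 (h2 hA).2 (h4 _ (by simp)) (h4 _ (by simp)))

end Cfsg.Agent.Chev.Kac
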