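import Mathlib
import Cfsg.Agent.Chev.E8L2A
import Cfsg.Agent.Chev.TwCheck

/-!
# `E₈(3)` has no subgroup `L₂(3⁵)` or `L₂(3⁶)`
-/

set_option autoImplicit false
set_option maxRecDepth 100000

namespace Cfsg.Agent.Chev.Kac

open Chk S2M Matrix MatrixGroups Polynomial Cfsg.Lie Cfsg.Lie.ChevalleyDatum

section

variable {F K : Type*} [Field F] [Field K] {ι : F →+* K} {g : SL(2, F)} {η : K}

theorem eig_pow (h : Eig ι g η) (k : ℕ) : Eig ι (g ^ k) (η ^ k) := by
  obtain ⟨h0, c, d, h1, h2, h3⟩ := h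
  have : ∀ {v : Fin 2 → K} {a : K}, g.1.map ι *ᵥ v = a • v → (g ^ k).1.map ι *ᵥ v = a ^ k • v :=
    fun h => by
      induction k with
      | zero => simp
      | succ k ih => rw [pow_succ, show (g ^ k * g).1 = (g ^ k).1 * g.1 from rfl, Matrix.map_mul,
          ← mulVec_mulVec, h, mulVec_smul, ih, smul_smul, pow_succ']
  exact ⟨pow_ne_zero _ h0, c, d, h1, this h2, inv_pow η k ▸ this h3⟩

theorem eig_center (h : Eig ι g η) : g ∈ Subgroup.center _ ↔ η ^ 2 = 1 := by
  obtain ⟨h0, c, d, h1, h2, h3⟩ := h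
  have h4 := sub_ne_zero.2 h1
  rw [Matrix.SpecialLinearGroup.mem_center_iff]
  have a0 := congrFun h2 0
  have a1 := congrFun h2 1
  have b0 := congrFun h3 0
  have b1 := congrFun h3 1
  simp only [mulVec, dotProduct, Fin.sum_univ_two, map_apply, Pi.smul_apply, smul_eq_mul] at a0 a1 b0 b1
  constructor
  · rintro ⟨r, h5, h6⟩
    rw [← h6] at a0 a1
    simp only [scalar_apply, diagonal_apply_eq, ne_eq, zero_ne_one, one_ne_zero, not_false_eq_true,
      diagonal_apply_ne, map_zero] at a0 a1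
    rw [show η = ι r from mul_right_cancel₀ h4 (by linear_combination -d 1 * a0 + d 0 * a1), ← map_pow,
      show r ^ 2 = 1 from h5, map_one]
  · intro h5
    rw [inv_eq_of_mul_eq_one_right (sq η ▸ h5)] at b0 b1
    have e0 : ι (g.1 0 0) = η := mul_right_cancel₀ h4 (by linear_combination d 1 * a0 - c 1 * b0)
    have e1 : ι (g.1 1 1) = η := mul_right_cancel₀ h4 (by linear_combination c 0 * b1 - d 0 * a1)
    have e2 : ι (g.1 0 1) = 0 := mul_right_cancel₀ h4 (by linear_combination c 0 * b0 - d 0 * a0)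
    have e3 : ι (g.1 1 0) = 0 := mul_right_cancel₀ h4 (by linear_combination d 1 * a1 - c 1 * b1)
    refine ⟨g.1 0 0, ι.injective (by rw [map_pow, e0, map_one]; exact h5), Matrix.ext fun i j => ?_⟩
    fin_cases i <;> fin_cases j <;> simp_all [ι.injective (e1.trans e0.symm)]

theorem exists_eig [Fintype F] (h0 : η ≠ 0) (h1 : η ^ 2 ≠ 1) (p : ℕ) [Fact p.Prime] [CharP F p] [CharP K p]
    (h2 : η ^ Fintype.card F = η ∨ η ^ Fintype.card F = η⁻¹) : ∃ g, Eig ι g η := by
  obtain ⟨a, ha⟩ := (mem_range_iff_pow_card F ι (η + η⁻¹)).1 (by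
    obtain ⟨e, -, he⟩ := FiniteField.card F p
    rw [he, add_pow_char_pow, ← he, inv_pow]
    rcases h2 with h | h <;> simp [h, add_comm])
  refine ⟨nn a, h0, ![1, -η], ![1, -η⁻¹], fun e => h1 ?_, ?_, ?_⟩
  · rw [sq]
    nth_rewrite 1 [show η = η⁻¹ by simpa using e.symm]
    exact inv_mul_cancel₀ h0
  all_goals
    ext i
    fin_cases i <;> simp [coe_nn, mulVec, dotProduct, ha, add_mul, h0]

end

theorem exists_W {F : Type*} [Field F] [Fintype F] {r t n M : ℕ} {L : List (ℕ × ℕ)}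
    (hn : n = 121 ∧ M = 14762 ∨ n = 364 ∧ M = 132860) (hr : 3 * t = 3 ^ r) (ht : 3 * t = 2 * n + 1)
    (hq : Fintype.card F = 3 ^ r) (h1 : TwOK r t n M) (h2 : ∀ l < 3 * t, rot t l < 3 * t)
    (h3 : ∀ a < 3 * t, ∀ b < 3 * t, rot t a = rot t b → a = b) (h4 : OrbOK r t M L)
    {H : Subgroup (chevE8.group (ZMod 3))} (e : H ≃* ProjectiveSpecialLinearGroup (Fin 2) F) :
    ∃ W : Multiset ℕ, (∀ m, 1 < m → m ∣ n ∨ m ∣ n + 1 → ∃ (ξ : K3) (x : _), IsPrimitiveRoot ξ m ∧
      (∀ k, x ^ k = 1 ↔ m ∣ k) ∧ (ad3 x).charpoly.roots = W.map (ξ ^ ·)) ∧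
      ∀ f Q, srch r t M L f Q = true → Q (W.map f).sum = true := by
  have : Fact (Nat.Prime 3) := ⟨Nat.prime_three⟩
  have := charP_of_card_eq_prime_pow hq
  let _ := ZMod.algebra F 3
  let ι : F →+* K3 := (IsAlgClosed.lift : F →ₐ[ZMod 3] K3)
  let e' := MulEquiv.ofBijective (chevE8.stProj (ZMod 3))
    ⟨(MonoidHom.ker_eq_bot_iff _).1 (by rw [ker_stProj, center_stE8]), chevE8.stProj_surjective _⟩
  let φ : SL(2, F) →* chevE8.SteinbergGroup (ZMod 3) :=
    (e'.symm.toMonoidHom.comp (H.subtype.comp e.symm.toMonoidHom)).comp (QuotientGroup.mk' _)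
  have hφ : ∀ g, φ g = 1 ↔ g ∈ Subgroup.center _ := fun g => by simp [φ]
  obtain ⟨A, h5, h6⟩ := exists_mult ι 3 (toLinAlgEquiv'.toMonoidHom.comp (ad3.comp φ))
  have h7 : ∀ g η, Eig ι g η → (ad3 (φ g)).charpoly.roots =
      A.bind fun l => (JJ K3 l).val.map fun j => η⁻¹ ^ j * η ^ (l - j) := fun g η h => by
    rw [← charpoly_toLin', ← roots_multiset_prod_X_sub_C (A.bind _), Multiset.map_bind, Multiset.prod_bind]
    simp only [Multiset.map_map]
    exact congrArg roots (h6 g η h)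
  have h8 : ∀ (ε : F) (h : ε ^ 2 = 1), Eig ι ⟨scalar _ ε, by simp [h]⟩ (ι ε) := fun ε h => by
    have h8 : (ι ε)⁻¹ = ι ε := inv_eq_of_mul_eq_one_right (by rw [← map_mul, ← sq, h, map_one])
    refine ⟨fun e => by simp [(map_eq_zero ι).1 e] at h, ![1, 0], ![0, 1], by simp, ?_, h8.symm ▸ ?_⟩
    all_goals
      ext i
      fin_cases i <;> simp [mulVec, dotProduct]
  have h9 : ∀ l ∈ A, l < 3 * t ∧ l % 2 = 0 := fun l hl => ⟨by rw [hr, ← hq]; exact h5 l hl, by
    have a1 := h7 _ _ (h8 1 (by simp))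
    have a2 := h7 _ _ (h8 (-1) (by simp))
    rw [(hφ _).2 ((eig_center (h8 _ (by simp))).2 (by simp))] at a1 a2
    obtain ⟨k, -, a3⟩ := Multiset.mem_bind.1 (Multiset.mem_of_le (a2.symm.trans a1).le <|
      Multiset.mem_bind.2 ⟨l, hl, Multiset.mem_map_of_mem _ (show 0 ∈ JJ K3 l from mem_JJ.2 (by simp))⟩)
    obtain ⟨j, -, a4⟩ := Multiset.mem_map.1 a3
    have : Fact (2 < 3) := ⟨by norm_num⟩
    exact Nat.even_iff.1 ((neg_one_pow_eq_one_iff_even (R := K3) (CharP.neg_one_ne_one _ 3)).1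
      (by simpa using a4.symm))⟩
  have h10 : ∀ g η, Eig ι g η → (η ^ 2) ^ M = 1 →
      (ad3 (φ g)).charpoly.roots = (A.bind (wt M)).map ((η ^ 2) ^ ·) := fun g η h hM => by
    rw [h7 g η h, Multiset.map_bind]
    refine Multiset.bind_congr fun l hl => ?_
    rw [wt, Multiset.map_map]
    refine Multiset.map_congr rfl fun j hj => mul_left_cancel₀ (pow_ne_zero (2 * j) h.1) ?_
    have := (mem_JJ.1 hj).1
    have := h9 l hl
    rw [Function.comp_apply, ← pow_mul, ← pow_add, show 2 * j + 2 * (M + l / 2 - j) = 2 * M + l by omega,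
      pow_add, pow_mul _ 2 M, hM, one_mul, two_mul, pow_add, mul_assoc, inv_pow,
      mul_inv_cancel_left₀ (pow_ne_zero _ h.1), ← pow_add, Nat.add_sub_cancel' ‹_›]
  have h11 : ∀ m, 1 < m → m ∣ n ∨ m ∣ n + 1 → ∃ (ξ : K3) (x : _), IsPrimitiveRoot ξ m ∧
      (∀ k, x ^ k = 1 ↔ m ∣ k) ∧ (ad3 x).charpoly.roots = (A.bind (wt M)).map (ξ ^ ·) := fun m hm hd => by
    obtain ⟨η, hη⟩ := exists_primRoot (ZMod 3) 3 (n := 2 * m)
      ((Nat.prime_three.coprime_iff_not_dvd.2 fun h => by
        rcases hd with hd | hd <;> have := h.trans (mul_dvd_mul_left 2 hd) <;> omega).symm)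
    have hξ := hη.pow (by omega) rfl
    have h0 := hη.ne_zero (by omega)
    obtain ⟨g, hg⟩ := exists_eig (ι := ι) h0 (hξ.ne_one hm) 3 (hd.imp (fun hd => by
      rw [hq, ← hr, ht, pow_succ, pow_mul, (hξ.pow_eq_one_iff_dvd n).2 hd, one_mul]) fun hd => by
        rw [hq, ← hr, ht]
        refine eq_inv_of_mul_eq_one_left ?_
        rw [← pow_succ, ← (hξ.pow_eq_one_iff_dvd _).2 hd, ← pow_mul]
        rfl)
    refine ⟨_, φ g, hξ, fun k => ?_, h10 g η hg ((hξ.pow_eq_one_iff_dvd _).2 ?_)⟩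
    · rw [← map_pow, hφ, eig_center (eig_pow hg k), ← pow_mul, mul_comm, pow_mul, hξ.pow_eq_one_iff_dvd]
    · rw [show M = n * (n + 1) by rcases hn with ⟨rfl, rfl⟩ | ⟨rfl, rfl⟩ <;> rfl]
      exact hd.elim (·.mul_right _) (·.mul_left _)
  refine ⟨_, h11, fun f Q => srch_spec hr h2 h3 h4 h9 (map_rot hn hr ht h1 h9 fun m hm => ?_) ?_⟩
  · have h12 : 1 < m ∧ (m ∣ n ∨ m ∣ n + 1) := by
      simp only [List.mem_cons, List.not_mem_nil, or_false] at hm
      rcases hm with rfl | rfl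
      exacts [⟨by omega, .inl dvd_rfl⟩, ⟨by omega, .inr dvd_rfl⟩]
    obtain ⟨ξ, x, a1, -, a2⟩ := h11 m h12.1 h12.2
    have a3 := ad3_frob x
    rw [a2, Multiset.map_map] at a3
    simpa using map_mod_eq (by omega) a1 (A := A.bind (wt M)) (B := (A.bind (wt M)).map (3 * ·))
      (by rw [← a3]; simp [← pow_mul, mul_comm])
  · obtain ⟨ξ, x, -, -, a2⟩ := h11 n (by omega) (.inl dvd_rfl)
    have a3 := congrArg Multiset.card a2
    rw [← (IsAlgClosed.splits _).natDegree_eq_card_roots, charpoly_natDegree_eq_dim, Fintype.card_fin,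
      Multiset.card_map] at a3
    exact a3.symm

theorem tw5 : TwOK 5 81 121 14762 := by unfold TwOK; decide +kernel

theorem tw6 : TwOK 6 243 364 132860 := by unfold TwOK; decide +kernel

theorem or5 : OrbOK 5 81 14762 rp5 := by unfold OrbOK; decide +kernel

theorem or6 : OrbOK 6 243 132860 rp6 := by unfold OrbOK; decide +kernel

/-- histograms of elements of order 5 -/
def L5 : List ℕ := [218975565048, 214596053752, 197078008568]

/-- histograms of elements of order 13 -/
def L13 : List ℕ := [2241973252575175918636968330488, 91746324014089417776038298872,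
  1500248299235956287694075690232, 1583595426971287192565968784120, 1996131467508562460473361651192,
  921018003228019210042896635384]

/-- histograms of elements of order 14 -/
def L14 : List ℕ := [342972461478238588304760175668984, 342391292940271322356395875072248,
  385480788826788278215851257580280, 385480788826787093397298753231608, 257374638243173127352766215598328]

/-- a histogram that does not occur -/
def H52 : ℕ := 6464425909197243401693884341708216724128611543933691204611730725758053967156071915976288570620281829931172777845874765486328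

theorem kac2 : kacChk 2 [1] [28920, 33016] = true := by decide +kernel

theorem kac5 : kacChk 5 [1] L5 = true := by decide +kernel

theorem kac13 : kacChk 13 [1] L13 = true := by decide +kernel

theorem kac14 : kacChk 14 [2, 7] L14 = true := by decide +kernel

theorem kac52 : alcS 52 [2, 3, 4, 6, 5, 4, 3, 2] tlK 52 H52 (fun _ _ _ => false) = true := by
  decide +kernel

/-- membership -/
noncomputable def memN (L : List ℕ) (a : ℕ) : Bool :=
  List.rec false (fun b _ ih => cond (Nat.beq a b) true ih) L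

theorem memN_of {L : List ℕ} {a : ℕ} (h : a ∈ L) : memN L a = true := by
  induction h with
  | head => exact congrArg (cond · true _) (Nat.beq_refl a)
  | tail b _ ih => exact (congrArg (cond _ true) ih).trans (Bool.cond_self _ _)

/-- the final test -/
noncomputable def Q6 (t : ℕ) : Bool := force (Nat.mod t (pw 5)) fun a => cond (memN L5 a)
  (force (Nat.mod (Nat.div t (pw 5)) (pw 13)) fun a => cond (memN L13 a)
    (cond (memN L14 (Nat.mod (Nat.div t (pw 18)) (pw 14))) (Nat.beq (Nat.div t (pw 32)) H52) true) true) true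

theorem Q6_spec {a b c d : ℕ} (ha : a ∈ L5) (hb : b ∈ L13) (hc : c ∈ L14)
    (h : Q6 (a + 257 ^ 5 * (b + 257 ^ 13 * (c + 257 ^ 14 * d))) = true) : d = H52 := by
  have h1 := (by decide +kernel : ∀ a ∈ L5, a < 257 ^ 5) a ha
  have h2 := (by decide +kernel : ∀ a ∈ L13, a < 257 ^ 13) b hb
  have h3 := (by decide +kernel : ∀ a ∈ L14, a < 257 ^ 14) c hc
  generalize ht : a + 257 ^ 5 * (b + 257 ^ 13 * (c + 257 ^ 14 * d)) = t at h
  have e1 : Nat.mod t (pw 5) = a := show t % 257 ^ 5 = a by omega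
  have e2 : Nat.mod (Nat.div t (pw 5)) (pw 13) = b := show t / 257 ^ 5 % 257 ^ 13 = b by omega
  have e3 : Nat.mod (Nat.div t (pw 18)) (pw 14) = c := show t / 257 ^ 18 % 257 ^ 14 = c by omega
  have e4 : Nat.div t (pw 32) = d := show t / 257 ^ 32 = d by omega
  rw [Q6, force_eq, force_eq, e1, e2, e3, e4, memN_of ha, memN_of hb, memN_of hc] at h
  exact Nat.eq_of_beq_eq_true h

theorem srch5 : srch 5 81 14762 rp5 (fun w => 257 ^ (w % 2))
    (fun t => !memN [28920, 33016] t) = true := by decide +kernel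

theorem srch6 : srch 6 243 132860 rp6 (fun w => 257 ^ (w % 5) + 257 ^ 5 * (257 ^ (w % 13) +
    257 ^ 13 * (257 ^ (w % 14) + 257 ^ 14 * 257 ^ (w % 52)))) Q6 = true := by decide +kernel

variable {F : Type*} [Field F] [Fintype F] (H : Subgroup (chevE8.group (ZMod 3)))

theorem no_L2_243 (h : Fintype.card F = 243) : IsEmpty (H ≃* ProjectiveSpecialLinearGroup (Fin 2) F) :=
  ⟨fun e => by
    obtain ⟨W, h1, h2⟩ := exists_W (.inl ⟨rfl, rfl⟩) rfl rfl h tw5 (fun l hl => by unfold rot; omega)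
      (fun a ha b hb e => by unfold rot at e; omega) or5 e
    obtain ⟨ξ, x, a1, a2, a3⟩ := h1 2 (by norm_num) (by norm_num)
    have := h2 _ _ srch5
    rw [memN_of (mem_of_kac (by norm_num) a1 ((a2 _).2 dvd_rfl) a3 (by simp [a2]) kac2)] at this
    exact absurd this (by simp)⟩

theorem no_L2_729 (h : Fintype.card F = 729) : IsEmpty (H ≃* ProjectiveSpecialLinearGroup (Fin 2) F) :=
  ⟨fun e => by
    obtain ⟨W, h1, h2⟩ := exists_W (.inr ⟨rfl, rfl⟩) rfl rfl h tw6 (fun l hl => by unfold rot; omega)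
      (fun a ha b hb e => by unfold rot at e; omega) or6 e
    have h3 : ∀ n, 1 < n → n ∣ 364 ∨ n ∣ 364 + 1 → n ∣ 1820 → ∀ ls L, kacChk n ls L = true →
        (∀ k ∈ ls, ¬ n ∣ k) → (W.map fun w => 257 ^ (w % n)).sum ∈ L := fun n a b c ls L d e => by
      obtain ⟨ξ, x, a1, a2, a3⟩ := h1 n a b
      exact mem_of_kac c a1 ((a2 _).2 dvd_rfl) a3 (fun k hk h => e k hk ((a2 k).1 h)) d
    have h4 := h2 _ _ srch6
    simp only [Multiset.sum_map_add, Multiset.sum_map_mul_left] at h4
    obtain ⟨ξ, x, a1, a2, a3⟩ := h1 52 (by norm_num) (by norm_num)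
    refine ne_of_kac (by norm_num) a1 ((a2 _).2 dvd_rfl) a3 ?_
    rw [Q6_spec (h3 5 (by norm_num) (by norm_num) (by norm_num) _ _ kac5 (by simp))
      (h3 13 (by norm_num) (by norm_num) (by norm_num) _ _ kac13 (by simp))
      (h3 14 (by norm_num) (by norm_num) (by norm_num) _ _ kac14 (by simp)) h4]
    exact kac52⟩

end Cfsg.Agent.Chev.Kac
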