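import Mathlib
import Cfsg.Agent.Chev.RootBNInst
import Cfsg.Agent.Chev.RootBNOver

/-!
# Supports of matrix entries of elements of a Chevalley group

The weight differences at which an element of the adjoint group has nonzero entries; behaviour under
products and under conjugation by the simple reflections.
-/

set_option autoImplicit false

namespace Cfsg.Agent.Chev.EntSupp

open Cfsg.Lie Cfsg.Lie.ChevalleyDatum Cfsg.Agent.Chev
open scoped Matrix

variable (D : ChevalleyDatum) (F : Type*) [Field F]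

/-- Elements all of whose nonzero entries sit at weight differences in `T`. -/
def Ent (T : AddSubmonoid D.Lat) : Submonoid (GL D.Idx F) where
  carrier := {g | ∀ a b, (g : Matrix D.Idx D.Idx F) a b ≠ 0 → D.wtI a - D.wtI b ∈ T}
  one_mem' := fun a b h => by
    have : a = b := by
      by_contra hab
      exact h (by simp [Matrix.one_apply_ne hab])
    simp [this]
  mul_mem' := fun {g h} hg hh a b hab => by
    rw [Units.val_mul, Matrix.mul_apply] at hab
    obtain ⟨c, -, hc⟩ := Finset.exists_ne_zero_of_sum_ne_zero hab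
    have := T.add_mem (hg a c (left_ne_zero_of_mul hc)) (hh c b (right_ne_zero_of_mul hc))
    simpa using this

theorem mem_Ent {T : AddSubmonoid D.Lat} {g : GL D.Idx F} :
    g ∈ Ent D F T ↔ ∀ a b, (g : Matrix D.Idx D.Idx F) a b ≠ 0 → D.wtI a - D.wtI b ∈ T := Iff.rfl

/-- The support of `g - 1`. -/
def Supp (g : GL D.Idx F) : Set D.Lat :=
  {γ | ∃ a b, ((g : Matrix D.Idx D.Idx F) - 1) a b ≠ 0 ∧ γ = D.wtI a - D.wtI b}

theorem mem_of_mem_Supp {T : AddSubmonoid D.Lat} {g : GL D.Idx F} (hg : g ∈ Ent D F T) {γ : D.Lat}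
    (h : γ ∈ Supp D F g) : γ ∈ T := by
  obtain ⟨a, b, hab, rfl⟩ := h
  by_cases e : a = b
  · simp [e]
  · refine hg a b fun h => hab ?_
    rw [Matrix.sub_apply, h, Matrix.one_apply_ne e, sub_zero]

theorem mem_Ent_of_Supp {T : AddSubmonoid D.Lat} {g : GL D.Idx F}
    (h : ∀ γ ∈ Supp D F g, γ ∈ T) : g ∈ Ent D F T := fun a b hab => by
  by_cases e : a = b
  · simp [e]
  · refine h _ ⟨a, b, ?_, rfl⟩
    rwa [Matrix.sub_apply, Matrix.one_apply_ne e, sub_zero]

variable [hG : D.Good]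

theorem mem_Ent_of_XS {T : AddSubmonoid D.Lat} {S : Set D.Rt} (hS : ∀ r ∈ S, D.wt r ∈ T)
    {g : GL D.Idx F} (hg : g ∈ D.XS F S) : g ∈ Ent D F T := fun a b hab =>
  (AddSubmonoid.closure_le.2 (by rintro _ ⟨r, hr, rfl⟩; exact hS r hr)) (D.XS_entry F hg hab)

/-- The simple reflection on the weight lattice. -/
def rho (j : D.Nd) (γ : D.Lat) : D.Lat := γ - γ j • D.wt (D.sr j)

theorem rho_sub (j : D.Nd) (γ δ : D.Lat) : rho D j (γ - δ) = rho D j γ - rho D j δ := by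
  simp only [rho, Pi.sub_apply, sub_smul]; abel

theorem rho_rho (j : D.Nd) (γ : D.Lat) : rho D j (rho D j γ) = γ := by
  have h : D.wt (D.sr j) j = 2 := D.cartan_simple_self j
  simp only [rho, Pi.sub_apply, Pi.smul_apply, h, smul_eq_mul]
  module

theorem rho_zero (j : D.Nd) : rho D j 0 = 0 := by simp [rho]

theorem rho_ne_zero (j : D.Nd) {γ : D.Lat} (h : γ ≠ 0) : rho D j γ ≠ 0 := fun e =>
  h (by rw [← rho_rho D j γ, e, rho_zero])

theorem wt_sref_eq (j : D.Nd) (s : D.Rt) : D.wt (D.sref j s) = rho D j (D.wt s) := D.wt_sref j s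

theorem nE_entry (j : D.Nd) {t : F} (ht : t ≠ 0) {a b : D.Idx}
    (h : (D.nE F (D.sr j) t : Matrix D.Idx D.Idx F) a b ≠ 0) : D.wtI a = rho D j (D.wtI b) := by
  have hn := D.nE_mem_monomial F (D.sr j) ht
  rcases b with i | s
  · rcases a with i' | s'
    · exact (rho_zero D j).symm
    · exact absurd (D.monomial_entry_inl F ⟨_, hn⟩ s' i) h
  · obtain ⟨c, hc⟩ := D.monomial_entry_wOf F hn s
    rw [hc] at h
    split_ifs at h with e
    · rw [e, D.wOf_nE F _ ht, refl_sr]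
      exact wt_sref_eq D j s
    · exact absurd rfl h

theorem rho_mem_Supp (j : D.Nd) {y : GL D.Idx F} {γ : D.Lat}
    (h : γ ∈ Supp D F (D.nE F (D.sr j) 1 * y * (D.nE F (D.sr j) 1)⁻¹)) : rho D j γ ∈ Supp D F y := by
  obtain ⟨a, b, hab, rfl⟩ := h
  have e : ((D.nE F (D.sr j) 1 * y * (D.nE F (D.sr j) 1)⁻¹ : GL D.Idx F) : Matrix D.Idx D.Idx F) - 1 =
      (D.nE F (D.sr j) 1 : Matrix D.Idx D.Idx F) * ((y : Matrix D.Idx D.Idx F) - 1) *
        (D.nE F (D.sr j) (-1) : Matrix D.Idx D.Idx F) := by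
    rw [nE_neg, mul_sub, sub_mul, mul_one, Units.mul_inv]
    rfl
  rw [e, Matrix.mul_apply] at hab
  obtain ⟨d, -, hd⟩ := Finset.exists_ne_zero_of_sum_ne_zero hab
  have h1 := left_ne_zero_of_mul hd
  rw [Matrix.mul_apply] at h1
  obtain ⟨c, -, hc⟩ := Finset.exists_ne_zero_of_sum_ne_zero h1
  refine ⟨c, d, right_ne_zero_of_mul hc, ?_⟩
  rw [rho_sub, nE_entry D F j one_ne_zero (left_ne_zero_of_mul hc),
    nE_entry D F j (neg_ne_zero.2 one_ne_zero) (right_ne_zero_of_mul hd), rho_rho]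

/-- A set of group elements stable under conjugation by the simple reflections in `S` has an
antidominant element in its support, on any level of an `S`-invariant functional. -/
theorem exists_antidom (f : D.Lat →+ ℤ) {S : Set D.Nd} (hf : ∀ j ∈ S, f (D.wt (D.sr j)) = 0)
    {Y : Set (GL D.Idx F)}
    (hY : ∀ j ∈ S, ∀ y ∈ Y, (D.nE F (D.sr j) 1)⁻¹ * y * D.nE F (D.sr j) 1 ∈ Y)
    {y : GL D.Idx F} (hy : y ∈ Y) {γ : D.Lat} (hγ : γ ∈ Supp D F y) (h0 : γ ≠ 0) :
    ∃ z ∈ Y, ∃ δ ∈ Supp D F z, δ ≠ 0 ∧ f δ = f γ ∧ ∀ j ∈ S, δ j ≤ 0 := by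
  let T : Set D.Lat := {δ | (∃ z ∈ Y, δ ∈ Supp D F z) ∧ δ ≠ 0 ∧ f δ = f γ}
  have hT : T.Finite := (Set.finite_range fun p : D.Idx × D.Idx => D.wtI p.1 - D.wtI p.2).subset (by
    rintro δ ⟨⟨z, -, a, b, -, rfl⟩, -⟩
    exact ⟨(a, b), rfl⟩)
  obtain ⟨δ, ⟨⟨z, hz, hδ⟩, h1, h2⟩, hmin⟩ :=
    Set.exists_min_image T D.ht hT ⟨γ, ⟨y, hy, hγ⟩, h0, rfl⟩
  refine ⟨z, hz, δ, hδ, h1, h2, fun j hj => ?_⟩
  have h3 : rho D j δ ∈ T := by
    refine ⟨⟨_, hY j hj z hz, rho_mem_Supp D F j (by simpa [mul_assoc] using hδ)⟩,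
      rho_ne_zero D j h1, ?_⟩
    rw [rho, map_sub, map_zsmul, hf j hj, smul_zero, sub_zero, h2]
  have h4 := hmin _ h3
  have h5 := (D.isPos_iff_ht _).1 (D.sr_pos j)
  rw [rho, map_sub, map_zsmul, smul_eq_mul] at h4
  by_contra h6
  have := mul_pos (not_le.1 h6) h5
  omega

/-- The lexicographic cone of `f` and the height. -/
def lexCone (f : D.Lat →+ ℤ) : AddSubmonoid D.Lat where
  carrier := {γ | 0 < f γ ∨ (f γ = 0 ∧ 0 ≤ D.ht γ)}
  zero_mem' := by simp
  add_mem' := fun {a b} ha hb => by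
    simp only [Set.mem_ofPred_eq, map_add] at *
    omega

theorem mem_lexCone {f : D.Lat →+ ℤ} {γ : D.Lat} :
    γ ∈ lexCone D f ↔ 0 < f γ ∨ (f γ = 0 ∧ 0 ≤ D.ht γ) := Iff.rfl

/-- An element of the group which is triangular for the lexicographic order lies in `B`. -/
theorem mem_borel_of_lexCone {f : D.Lat →+ ℤ} (hf : ∀ r : D.Rt, D.IsPosRoot r → 0 ≤ f (D.wt r))
    {g : GL D.Idx F} (hg : g ∈ D.group F) (h : g ∈ Ent D F (lexCone D f)) :
    g ∈ D.borelSubgroup F := by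
  obtain ⟨u, hu, n, hn, u', hu', rfl⟩ := RootBN.bruhat (R := D.rootBN F) hg
  have hU : ∀ u ∈ D.posUnipotent F, u ∈ Ent D F (lexCone D f) := fun u hu => by
    rw [posUnipotent_eq_XS] at hu
    refine mem_Ent_of_XS D F (fun r hr => ?_) hu
    have h1 := hf r hr
    have h2 := (D.isPos_iff_ht r).1 hr
    rw [mem_lexCone]; omega
  have h1 : n ∈ Ent D F (lexCone D f) := by
    have := mul_mem (mul_mem (hU _ (inv_mem hu)) h) (hU _ (inv_mem hu'))
    simpa [mul_assoc] using this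
  have h2 : ∀ s : D.Rt, D.wt (D.wOf F n s) - D.wt s ∈ lexCone D f := fun s => by
    obtain ⟨c, hc⟩ := D.monomial_entry_wOf F hn s
    exact h1 (Sum.inr (D.wOf F n s)) (Sum.inr s) (by rw [hc, if_pos rfl]; exact c.ne_zero)
  have h3 : n ∈ D.diagonalSubgroup F := by
    refine RootBN.mem_H_of_w_eq_one (R := D.rootBN F) hn (Equiv.ext fun s => ?_)
    have h4 := h2 s
    have h5 := h2 (D.ng s)
    rw [weyl_ng (D.wOf_mem_weyl F n), wt_ng, wt_ng] at h5
    simp only [mem_lexCone, map_sub, map_neg] at h4 h5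
    exact D.ht_strictMono.injective (show D.ht (D.wt (D.wOf F n s)) = D.ht (D.wt s) by omega)
  exact mul_mem (mul_mem (RootBN.U_le_B (R := D.rootBN F) hu) (RootBN.H_le_B (R := D.rootBN F) h3))
    (RootBN.U_le_B (R := D.rootBN F) hu')

theorem ne_zero_of_mem_Supp {g : GL D.Idx F} (hg : g ∈ D.posUnipotent F) {γ : D.Lat}
    (h : γ ∈ Supp D F g) : γ ≠ 0 := by
  obtain ⟨a, b, hab, rfl⟩ := h
  intro e
  rw [sub_eq_zero] at e
  apply hab
  rw [Matrix.sub_apply, D.posUnipotent_entry F hg (by rw [e]), Matrix.one_apply, sub_self]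

theorem exists_factor (r : D.Rt) (hr : D.IsPosRoot r) {g : GL D.Idx F}
    (hg : g ∈ D.XS F {s | D.IsPosRoot s ∧ r ≤ s}) :
    ∃ t, ∃ g' ∈ D.XS F {s | D.IsPosRoot s ∧ r < s}, g = D.X F r t * g' := by
  refine D.XS_monoid_induction F
    (P := fun g => ∃ t, ∃ g' ∈ D.XS F {s | D.IsPosRoot s ∧ r < s}, g = D.X F r t * g')
    ⟨0, 1, one_mem _, by simp⟩ (fun s hs t => ?_) ?_ hg
  · rcases hs.2.eq_or_lt with rfl | h
    · exact ⟨t, 1, one_mem _, by simp⟩
    · exact ⟨0, _, D.X_mem_XS F (by exact ⟨hs.1, h⟩) t, by simp⟩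
  · rintro _ _ ⟨t, a, ha, rfl⟩ ⟨t', b, hb, rfl⟩
    refine ⟨t + t', D.X F r (-t') * a * (D.X F r (-t'))⁻¹ * b, mul_mem ?_ hb, ?_⟩
    · refine D.X_conj_mem_XS F (subset_refl _) (fun h => (D.isPos_ng r).1 h.1 hr)
        (fun s hs u i j hi hj e => ?_) _ ha
      refine ⟨D.isPos_of_lin hr hs.1 hi e, ?_⟩
      have h1 := (D.isPos_iff_ht r).1 hr
      have h2 := (D.isPos_iff_ht s).1 hs.1
      rw [← ht_lt_iff, e, map_add, map_zsmul, map_zsmul, smul_eq_mul, smul_eq_mul]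
      have h3 : (1 : ℤ) ≤ i := by exact_mod_cast hi
      have h4 : (1 : ℤ) ≤ j := by exact_mod_cast hj
      nlinarith
    · simp [X_add, X_neg, mul_assoc]

theorem root_mem_Supp (r : D.Rt) (hr : D.IsPosRoot r) {t : F} (ht : t ≠ 0) {g : GL D.Idx F}
    (hg : g ∈ D.XS F {s | D.IsPosRoot s ∧ r < s}) : D.wt r ∈ Supp D F (D.X F r t * g) := by
  obtain ⟨j, hj⟩ := D.exists_cw_cast_ne_zero F r
  refine ⟨Sum.inl j, Sum.inr (D.ng r), ?_, by simp [wtI, wt_ng]⟩
  have hr' := (D.isPos_iff_ht r).1 hr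
  let T : AddSubmonoid D.Lat :=
    { carrier := {v | v = 0 ∨ D.ht (D.wt r) < D.ht v}
      zero_mem' := Or.inl rfl
      add_mem' := fun {a b} ha hb => by
        rcases ha with rfl | ha
        · simpa using hb
        rcases hb with rfl | hb
        · simpa using Or.inr ha
        · right; rw [map_add]; omega }
  have h1 : g ∈ Ent D F T := mem_Ent_of_XS D F (fun s hs => Or.inr (D.ht_lt_iff.2 hs.2)) hg
  have h2 : g ∈ D.posUnipotent F := by
    rw [posUnipotent_eq_XS]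
    exact Subgroup.closure_mono (by rintro _ ⟨s, hs, t, rfl⟩; exact ⟨s, hs.1, t, rfl⟩) hg
  have h3 : D.X F r t ∈ D.posUnipotent F := by
    rw [posUnipotent_eq_XS]; exact D.X_mem_XS F hr t
  rw [Matrix.sub_apply, Matrix.one_apply_ne (by simp), sub_zero, Units.val_mul, Matrix.mul_apply,
    Finset.sum_eq_single (Sum.inr (D.ng r))]
  · rw [D.posUnipotent_entry F h2 le_rfl, if_pos rfl, mul_one]
    have := D.X_mulVec_eN_ng_inl F r t j
    rw [mulVec_eN] at this
    exact this.trans_ne (mul_ne_zero ht hj)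
  · intro b _ hb
    by_contra h
    rcases h1 b _ (right_ne_zero_of_mul h) with h4 | h4
    · rw [sub_eq_zero] at h4
      apply right_ne_zero_of_mul h
      rw [D.posUnipotent_entry F h2 (by rw [h4]), if_neg hb]
    · apply left_ne_zero_of_mul h
      have h5 : D.wtI (Sum.inr (D.ng r)) = - D.wt r := D.wt_ng r
      have h6 : D.wtI (Sum.inl j) = 0 := rfl
      rw [h5, map_sub, map_neg] at h4
      rw [D.posUnipotent_entry F h3 (by rw [h6, map_zero]; omega), if_neg]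
      rintro rfl
      rw [h6, map_zero] at h4
      omega
  · simp

/-- A nontrivial element of `U` has a root in its support. -/
theorem exists_root_mem_Supp {g : GL D.Idx F} (hg : g ∈ D.posUnipotent F) (h1 : g ≠ 1) :
    ∃ r : D.Rt, D.wt r ∈ Supp D F g := by
  have key : ∀ k m : ℕ, D.nroots ≤ m + k → ∀ g ∈ D.XS F {s | D.IsPosRoot s ∧ m ≤ (s : ℕ)}, g ≠ 1 →
      ∃ r : D.Rt, D.wt r ∈ Supp D F g := by
    intro k
    induction k with
    | zero =>
      intro m hm g hg h1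
      refine absurd ?_ h1
      refine D.XS_monoid_induction F (P := fun g => g = 1) rfl (fun r hr _ => ?_)
        (by rintro _ _ rfl rfl; simp) hg
      have := r.2
      have := hr.2
      omega
    | succ k ih =>
      intro m hm g hg h1
      by_cases h : ∃ r : D.Rt, D.IsPosRoot r ∧ (r : ℕ) = m
      · obtain ⟨r, hr, rfl⟩ := h
        obtain ⟨t, g', hg', rfl⟩ := exists_factor D F r hr hg
        by_cases ht : t = 0
        · rw [ht, X_zero, one_mul] at h1 ⊢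
          exact ih (r + 1) (by omega) g' hg' h1
        · exact ⟨r, root_mem_Supp D F r hr ht hg'⟩
      · refine ih (m + 1) (by omega) g ?_ h1
        refine Subgroup.closure_mono ?_ hg
        rintro _ ⟨s, hs, t, rfl⟩
        refine ⟨s, ⟨hs.1, ?_⟩, t, rfl⟩
        have := hs.2
        have : (s : ℕ) ≠ m := fun e => h ⟨s, hs.1, e⟩
        omega
  rw [posUnipotent_eq_XS] at hg
  exact key D.nroots 0 (by omega) g (by simpa using hg) h1

/-- The root subgroups of level at least `k ≥ 1` generate a subgroup normalised by `P_S`. -/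
theorem conj_mem_level {f : D.Lat →+ ℤ} (hf : ∀ r : D.Rt, D.IsPosRoot r → 0 ≤ f (D.wt r))
    {S : Set D.Nd} (hS : ∀ j ∈ S, f (D.wt (D.sr j)) = 0) {k : ℤ} (hk : 0 < k) {m : GL D.Idx F}
    (hm : m ∈ (D.rootBN F).P S) :
    ∀ y ∈ D.XS F {r | k ≤ f (D.wt r)}, m * y * m⁻¹ ∈ D.XS F {r | k ≤ f (D.wt r)} := by
  obtain ⟨u, hu, n, hn, u', hu', rfl⟩ := RootBN.bruhat_P hm
  have hmul : ∀ a b : GL D.Idx F,
      (∀ y ∈ D.XS F {r | k ≤ f (D.wt r)}, a * y * a⁻¹ ∈ D.XS F {r | k ≤ f (D.wt r)}) →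
      (∀ y ∈ D.XS F {r | k ≤ f (D.wt r)}, b * y * b⁻¹ ∈ D.XS F {r | k ≤ f (D.wt r)}) →
      ∀ y ∈ D.XS F {r | k ≤ f (D.wt r)}, a * b * y * (a * b)⁻¹ ∈ D.XS F {r | k ≤ f (D.wt r)} :=
    fun a b ha hb y hy => by simpa [mul_assoc] using ha _ (hb y hy)
  have hU : ∀ u ∈ D.posUnipotent F,
      ∀ y ∈ D.XS F {r | k ≤ f (D.wt r)}, u * y * u⁻¹ ∈ D.XS F {r | k ≤ f (D.wt r)} := fun u hu => by
    rw [posUnipotent_eq_XS] at hu
    refine D.XS_monoid_induction F (P := fun u => ∀ y ∈ D.XS F {r | k ≤ f (D.wt r)},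
      u * y * u⁻¹ ∈ D.XS F {r | k ≤ f (D.wt r)}) (by simp) (fun r hr t y hy => ?_) hmul hu
    have h1 := hf r hr
    refine D.X_conj_mem_XS F (subset_refl _) (fun h => ?_) (fun s hs u i j hi hj e => ?_) t hy
    · rw [Set.mem_ofPred_eq, wt_ng, map_neg] at h; omega
    · rw [Set.mem_ofPred_eq] at hs ⊢
      rw [e, map_add, map_zsmul, map_zsmul, smul_eq_mul, smul_eq_mul]
      have h3 : (1 : ℤ) ≤ i := by exact_mod_cast hi
      have h4 : (1 : ℤ) ≤ j := by exact_mod_cast hj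
      nlinarith
  refine hmul _ _ (hmul _ _ (hU u hu) ?_) (hU u' hu')
  refine RootBN.NS_induction (p := fun n => ∀ y ∈ D.XS F {r | k ≤ f (D.wt r)},
      n * y * n⁻¹ ∈ D.XS F {r | k ≤ f (D.wt r)}) (fun h hh y hy => D.conj_mem_XS_of_diagonal F hh hy)
    (fun j hj y hy => ?_) (fun a _ b _ => hmul a b) hn
  rw [← rootBN_XS] at hy ⊢
  refine RootBN.conj_XS ((D.rootBN F).s_mem j) (fun r hr => ?_) hy
  rw [rootBN_w, rootBN_s, D.wOf_nE F _ one_ne_zero, refl_sr, Set.mem_ofPred_eq, wt_sref, map_sub,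
    map_zsmul, hS j hj, smul_zero, sub_zero]
  exact hr

/-- The half space of `f`. -/
def halfSp (f : D.Lat →+ ℤ) : AddSubmonoid D.Lat where
  carrier := {γ | 0 ≤ f γ}
  zero_mem' := by simp
  add_mem' := fun {a b} ha hb => by
    simp only [Set.mem_ofPred_eq, map_add] at *
    omega

omit hG in
theorem mem_halfSp {f : D.Lat →+ ℤ} {γ : D.Lat} : γ ∈ halfSp D f ↔ 0 ≤ f γ := Iff.rfl

theorem mem_Ent_of_mem_P {f : D.Lat →+ ℤ} (hf : ∀ r : D.Rt, D.IsPosRoot r → 0 ≤ f (D.wt r))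
    {S : Set D.Nd} (hS : ∀ j ∈ S, f (D.wt (D.sr j)) = 0) {m : GL D.Idx F}
    (hm : m ∈ (D.rootBN F).P S) : m ∈ Ent D F (halfSp D f) := by
  obtain ⟨u, hu, n, hn, u', hu', rfl⟩ := RootBN.bruhat_P hm
  have hU : ∀ u ∈ D.posUnipotent F, u ∈ Ent D F (halfSp D f) := fun u hu => by
    rw [posUnipotent_eq_XS] at hu
    exact mem_Ent_of_XS D F hf hu
  refine mul_mem (mul_mem (hU u hu) ?_) (hU u' hu')
  refine RootBN.NS_induction (p := fun n => n ∈ Ent D F (halfSp D f)) (fun h hh => ?_)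
    (fun j hj a b hab => ?_) (fun a _ b _ => mul_mem) hn
  · obtain ⟨χ, -, rfl⟩ := D.exists_char_of_mem_diagonal F hh
    intro a b hab
    have : a = b := by
      by_contra e
      exact hab (by rw [coe_charG, charDiag, Matrix.diagonal_apply_ne _ e])
    simp [this]
  · rw [nE_entry D F j one_ne_zero hab, mem_halfSp, rho, map_sub, map_sub, map_zsmul, hS j hj]
    simp

end Cfsg.Agent.Chev.EntSupp
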