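import Mathlib
import Cfsg.Agent.GT.PStable
import Cfsg.Agent.GT.TransferSylow

/-!
# Groups in which the `r`-subgroups normalising a non-trivial `p`-subgroup are cyclic

The property passes to sections and fails for `p = 2`, `r = 3` in the alternating groups of degree at
least `7`.
-/

set_option autoImplicit false

namespace Cfsg.Agent.Chev

/-- every `r`-subgroup normalising a non-trivial `p`-subgroup is cyclic -/
def NormCyc (p r : ℕ) (G : Type*) [Group G] : Prop :=
  ∀ V R : Subgroup G, IsPGroup p V → V ≠ ⊥ → IsPGroup r R → R ≤ Subgroup.normalizer (V : Set G) →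
    IsCyclic R

variable {p r : ℕ} {G H : Type*} [Group G] [Group H]

theorem NormCyc.of_injective (h : NormCyc p r G) (f : H →* G) (hf : Function.Injective f) :
    NormCyc p r H := by
  intro V R hV hne hR hRV
  have h1 := h (V.map f) (R.map f) (hV.map f) (by rwa [Ne, Subgroup.map_eq_bot_iff_of_injective _ hf])
    (hR.map f) ((Subgroup.map_mono hRV).trans (Subgroup.le_normalizer_map f))
  exact isCyclic_of_surjective _ (R.equivMapOfInjective f hf).symm.surjective

theorem NormCyc.of_surjective [Fact p.Prime] [Fact r.Prime] [Finite G] (h : NormCyc p r G)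
    (f : G →* H) (hf : Function.Surjective f) : NormCyc p r H := by
  intro V R hV hne hR hRV
  obtain ⟨P, hP, hPV⟩ := GT.exists_isPGroup_map_eq f hV (by
    rw [MonoidHom.range_eq_top.2 hf]; exact le_top)
  have hPM : P ≤ V.comap f := by rw [← hPV]; exact Subgroup.le_comap_map f P
  obtain ⟨S, hS⟩ := (hP.comap_subtype (K := V.comap f)).exists_le_sylow
  have hT : IsPGroup p ((S : Subgroup (V.comap f)).map (V.comap f).subtype) := S.2.map _
  have hTM := Subgroup.map_subtype_le (S : Subgroup (V.comap f))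
  have hPT : P ≤ (S : Subgroup (V.comap f)).map (V.comap f).subtype := fun x hx =>
    ⟨⟨x, hPM hx⟩, hS hx, rfl⟩
  have hi : ¬ p ∣ ((S : Subgroup (V.comap f)).map (V.comap f).subtype).relIndex (V.comap f) := by
    rw [Subgroup.relIndex, Subgroup.subgroupOf,
      Subgroup.comap_map_eq_self_of_injective (V.comap f).subtype_injective]
    exact S.not_dvd_index
  generalize (S : Subgroup (V.comap f)).map (V.comap f).subtype = T at hT hTM hPT hi
  have h1 : R ≤ (Subgroup.normalizer (T : Set G)).map f := by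
    intro x hx
    obtain ⟨y, rfl⟩ := hf x
    have hy : y ∈ Subgroup.normalizer (V.comap f : Set G) :=
      Subgroup.le_normalizer_comap f (hRV hx)
    obtain ⟨m, hm, k, hk, rfl⟩ := GT.Tr.frattini_sylowIn hT hTM hi hy
    obtain ⟨t, ht, e⟩ : f m ∈ P.map f := hPV ▸ hm
    exact ⟨t * k, mul_mem (Subgroup.le_normalizer (hPT ht)) hk, by rw [map_mul, map_mul, e]⟩
  obtain ⟨R', hR', e⟩ := GT.exists_isPGroup_map_eq (f.comp (Subgroup.normalizer (T : Set G)).subtype)
    hR (by rwa [MonoidHom.range_comp, Subgroup.range_subtype])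
  have h2 := h T (R'.map (Subgroup.subtype _)) hT (by
    rintro rfl
    rw [le_bot_iff.1 hPT, Subgroup.map_bot] at hPV
    exact hne hPV.symm) (hR'.map _) (Subgroup.map_subtype_le _)
  rw [← e, ← Subgroup.map_map]
  exact isCyclic_of_surjective _ (f.subgroupMap_surjective _)

theorem not_normCyc [Finite G] {a b c d : G} (ha : a ^ 2 = 1) (hb : b ^ 2 = 1) (hab : Commute a b)
    (ha1 : a ≠ 1) (hca : c * a * c⁻¹ = b) (hcb : c * b * c⁻¹ = a * b) (hda : d * a * d⁻¹ = a)
    (hdb : d * b * d⁻¹ = b) (hc : c ^ 3 = 1) (hd : d ^ 3 = 1) (hcd : Commute c d) (h1 : c ≠ 1)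
    (h2 : d ≠ 1) (h3 : c ≠ d) (h4 : c⁻¹ ≠ d) : ¬ NormCyc 2 3 G := by
  classical
  have := Fintype.ofFinite G
  have pz : ∀ (q : ℕ) (x : G), x ^ q = 1 → IsPGroup q (Subgroup.zpowers x) := by
    rintro q x hx ⟨_, k, rfl⟩
    exact ⟨1, Subtype.ext (by
      change (x ^ k) ^ q ^ 1 = 1
      rw [pow_one, ← zpow_natCast, ← zpow_mul, mul_comm, zpow_mul, zpow_natCast, hx, one_zpow])⟩
  have nz : ∀ x y : G, Commute x y → Subgroup.zpowers x ≤
      Subgroup.normalizer (Subgroup.zpowers y : Set G) := fun x y h =>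
    Subgroup.zpowers_le.2 (Subgroup.centralizer_le_normalizer _ (by
      rintro _ ⟨k, rfl⟩; exact (h.zpow_right k).eq.symm))
  have m1 : a ∈ Subgroup.zpowers a ⊔ Subgroup.zpowers b :=
    Subgroup.mem_sup_left (Subgroup.mem_zpowers a)
  have m2 : b ∈ Subgroup.zpowers a ⊔ Subgroup.zpowers b :=
    Subgroup.mem_sup_right (Subgroup.mem_zpowers b)
  have nV : ∀ x : G, x * a * x⁻¹ ∈ Subgroup.zpowers a ⊔ Subgroup.zpowers b →
      x * b * x⁻¹ ∈ Subgroup.zpowers a ⊔ Subgroup.zpowers b → Subgroup.zpowers x ≤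
      Subgroup.normalizer ((Subgroup.zpowers a ⊔ Subgroup.zpowers b : Subgroup G) : Set G) := by
    intro x h1 h2
    refine Subgroup.zpowers_le.2 (Subgroup.mem_normalizer_fintype fun y hy => ?_)
    have : Subgroup.zpowers a ⊔ Subgroup.zpowers b ≤
        (Subgroup.zpowers a ⊔ Subgroup.zpowers b).comap (MulAut.conj x).toMonoidHom :=
      sup_le (Subgroup.zpowers_le.2 h1) (Subgroup.zpowers_le.2 h2)
    exact this hy
  intro h
  have h5 := h (Subgroup.zpowers a ⊔ Subgroup.zpowers b) (Subgroup.zpowers c ⊔ Subgroup.zpowers d)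
    ((pz 2 a ha).to_sup_of_normal_right' (pz 2 b hb) (nz a b hab))
    (fun e => ha1 (by rwa [e, Subgroup.mem_bot] at m1))
    ((pz 3 c hc).to_sup_of_normal_right' (pz 3 d hd) (nz c d hcd))
    (sup_le (nV c (hca ▸ m2) (hcb ▸ mul_mem m1 m2)) (nV d (hda.symm ▸ m1) (hdb.symm ▸ m2)))
  set c' : ↥(Subgroup.zpowers c ⊔ Subgroup.zpowers d) :=
    ⟨c, Subgroup.mem_sup_left (Subgroup.mem_zpowers c)⟩
  set d' : ↥(Subgroup.zpowers c ⊔ Subgroup.zpowers d) :=
    ⟨d, Subgroup.mem_sup_right (Subgroup.mem_zpowers d)⟩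
  have h6 := IsCyclic.card_pow_eq_one_le (α := ↥(Subgroup.zpowers c ⊔ Subgroup.zpowers d))
    (n := 3) (by norm_num)
  have e1 : c' ^ 3 = 1 := Subtype.ext hc
  have e2 : d' ^ 3 = 1 := Subtype.ext hd
  have h7 : ({1, c', c'⁻¹, d'} : Finset _) ⊆ Finset.univ.filter fun x => x ^ 3 = 1 := by
    intro x hx
    simp only [Finset.mem_insert, Finset.mem_singleton] at hx
    rcases hx with rfl | rfl | rfl | rfl <;> simp [e1, e2]
  have h8 : c ≠ c⁻¹ := fun e => h1 (by
    rw [pow_succ, pow_two, eq_inv_iff_mul_eq_one.1 e, one_mul] at hc; exact hc)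
  have h9 := (Finset.card_le_card h7).trans h6
  rw [Finset.card_eq_four.2 ⟨1, c', c'⁻¹, d', fun e => h1 (congrArg Subtype.val e).symm,
    fun e => h1 (inv_eq_one.1 (congrArg Subtype.val e).symm),
    fun e => h2 (congrArg Subtype.val e).symm, fun e => h8 (congrArg Subtype.val e),
    fun e => h3 (congrArg Subtype.val e), fun e => h4 (congrArg Subtype.val e), rfl⟩] at h9
  omega

open Equiv in
theorem swap_mul_swap_mem (a b c d : Fin 7) (h1 : a ≠ b) (h2 : c ≠ d) :
    swap a b * swap c d ∈ alternatingGroup (Fin 7) := by simp [Perm.mem_alternatingGroup, h1, h2]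

open Equiv in
theorem not_normCyc_alt {n : ℕ} (hn : 7 ≤ n) : ¬ NormCyc 2 3 (alternatingGroup (Fin n)) := by
  intro h
  let e : alternatingGroup (Fin 7) →* alternatingGroup (Fin n) :=
    ((Perm.viaEmbeddingHom (Fin.castLEEmb hn)).comp (Subgroup.subtype _)).codRestrict _ fun g => by
      rw [Perm.mem_alternatingGroup]
      exact (@Perm.sign_extendDomain _ _ _ _ _ _ _ _ (fun _ => Classical.propDecidable _) _).trans g.2
  have he : Function.Injective e := fun x y hxy =>
    Subtype.ext (Perm.viaEmbeddingHom_injective (Fin.castLEEmb hn) (congrArg Subtype.val hxy))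
  refine not_normCyc (a := ⟨_, swap_mul_swap_mem 0 1 2 3 (by decide) (by decide)⟩)
    (b := ⟨_, swap_mul_swap_mem 0 2 1 3 (by decide) (by decide)⟩)
    (c := ⟨_, swap_mul_swap_mem 0 1 0 2 (by decide) (by decide)⟩)
    (d := ⟨_, swap_mul_swap_mem 4 5 4 6 (by decide) (by decide)⟩)
    ?_ ?_ ?_ ?_ ?_ ?_ ?_ ?_ ?_ ?_ ?_ ?_ ?_ ?_ ?_ (h.of_injective e he)
  all_goals first | decide +kernel | exact Subtype.ext (by decide +kernel)

/-- a subgroup of index prime to `r` with cyclic Sylow `r`-subgroups -/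
theorem isCyclic_of_injective [Fact r.Prime] [Finite G] (f : H →* G) (hf : Function.Injective f)
    (hi : ¬ r ∣ f.range.index) (hc : ∀ S : Sylow r H, IsCyclic S) {R : Subgroup G}
    (hR : IsPGroup r R) : IsCyclic R := by
  have : Finite H := Finite.of_injective f hf
  obtain ⟨S⟩ : Nonempty (Sylow r H) := inferInstance
  obtain ⟨P, hP⟩ := hR.exists_le_sylow
  have h1 : ¬ r ∣ ((S : Subgroup H).map f).index := by
    rw [Subgroup.index_map_of_injective _ hf, (Fact.out : r.Prime).dvd_mul, not_or]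
    exact ⟨S.not_dvd_index, hi⟩
  have h2 : IsCyclic ((S.2.map f).toSylow h1) :=
    isCyclic_of_surjective _ (f.subgroupMap_surjective (S : Subgroup H))
  have h3 : IsCyclic P := isCyclic_of_surjective _ (Sylow.equiv ((S.2.map f).toSylow h1) P).surjective
  exact Subgroup.isCyclic_of_le hP

end Cfsg.Agent.Chev
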