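import Mathlib
import Cfsg.Agent.Chev.F4TwSyl
import Cfsg.Agent.Chev.TwLie
import Cfsg.Agent.Chev.InvolG2
import Cfsg.Agent.Chev.NormCyc
import Cfsg.Agent.Cl.CharGL2Card
import Cfsg.Agent.S0262

/-!
# The large Ree groups: the Levi factor `SL₂(q)`, and `3`-subgroups of `2`-local subgroups
-/

set_option autoImplicit false
set_option linter.unusedSectionVars false

open Cfsg Cfsg.Lie Cfsg.Agent.Chev Cfsg.Agent.GT Cfsg.Lie.ChevalleyDatum
open scoped MatrixGroups

namespace Cfsg.Agent.Chev.F4T.Tw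

variable {K : Type*} [Field K] [CharP K 2] (T : Tw K)

theorem exists_sl2 : ∃ ψ : SL(2, K) →* Γ K, Function.Injective ψ ∧ (∀ t, ψ (slUp t) = T.y0 t) ∧
    ∀ t, ψ (slLo t) = tt K 0 * T.y0 t * (tt K 0)⁻¹ := by
  obtain ⟨φ, h1, h2⟩ := chevF4.exists_sl2Hom K (rt 33)
  obtain ⟨φ', h3, h4⟩ := chevF4.exists_sl2Hom K (rt 24)
  have h1' : ∀ t, φ (slUp t) = 𝐱 33 t := h1
  have h2' : ∀ t, φ (slLo t) = 𝐱 14 t := h2
  have h3' : ∀ t, φ' (slUp t) = 𝐱 24 t := h3
  have h4' : ∀ t, φ' (slLo t) = 𝐱 23 t := h4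
  have key : ∀ (f : SL(2, K) →* Γ K) (x : Γ K), (∀ t, Commute (f (slUp t)) x) →
      (∀ t, Commute (f (slLo t)) x) → ∀ g, Commute (f g) x := fun f x a b g => by
    have := eq_top_of_slUp_slLo_mem ((Subgroup.centralizer {x}).comap f)
      (fun t => Subgroup.mem_centralizer_singleton_iff.2 (a t))
      (fun t => Subgroup.mem_centralizer_singleton_iff.2 (b t))
    exact Subgroup.mem_centralizer_singleton_iff.1 (show g ∈ (Subgroup.centralizer {x}).comap f from
      this ▸ Subgroup.mem_top g)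
  have hc : ∀ a b, Commute (φ a) (φ' b) := fun a b => by
    refine key φ _ (fun s => (key φ' _ (fun t => ?_) (fun t => ?_) b).symm)
      (fun s => (key φ' _ (fun t => ?_) (fun t => ?_) b).symm) a
    · rw [h1', h3']; exact cm (by decide +kernel) _ _
    · rw [h1', h4']; exact cm (by decide +kernel) _ _
    · rw [h2', h3']; exact cm (by decide +kernel) _ _
    · rw [h2', h4']; exact cm (by decide +kernel) _ _
  let ψ : SL(2, K) →* Γ K :=
    { toFun g := φ (Matrix.SpecialLinearGroup.map T.θ g) * φ' g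
      map_one' := by simp
      map_mul' a b := by
        simp only [map_mul, mul_assoc]
        rw [← mul_assoc (φ' a), ← (hc _ a).eq, mul_assoc] }
  have e1 : ∀ t, ψ (slUp t) = T.y0 t := fun t => by
    change φ (Matrix.SpecialLinearGroup.map T.θ _) * φ' _ = _
    rw [map_slUp, h1', h3']; rfl
  have e2 : ∀ t, ψ (slLo t) = tt K 0 * T.y0 t * (tt K 0)⁻¹ := fun t => by
    change φ (Matrix.SpecialLinearGroup.map T.θ _) * φ' _ = _
    rw [map_slLo, h2', h4', T.tt_conj_y0]
  refine ⟨ψ, (injective_iff_map_eq_one ψ).2 fun g hg => ?_, e1, e2⟩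
  have h5 : ψ (slUp 1) * ψ (slLo 1) ≠ ψ (slLo 1) * ψ (slUp 1) := fun h => by
    have h6 := T.y0_rank_one 1
    rw [inv_one, Units.val_one, T.hh_one, one_mul, ← e2, ← e1, h, mul_assoc, e1, T.y0_mul_self,
      mul_one, e2, mul_inv_eq_iff_eq_mul, mul_right_inj] at h6
    exact one_ne_zero (T.y0_eq_one.1 (RootBN.eq_one_of_mem_U_N (T.y0_mem_U 1) (h6 ▸ tt_mem_N 0)))
  rcases sl2_center_cases (Tim.sl2_ker_le_center ψ h5 hg) with rfl | rfl
  · rfl
  · ext i j
    simp [CharTwo.neg_eq]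

include T in
theorem card_mod_three [Finite K] : Nat.card K % 3 = 2 := by
  classical
  have := Fintype.ofFinite K
  obtain ⟨n, -, hn⟩ := FiniteField.card K 2
  rw [Nat.card_eq_fintype_card]
  have h1 : ¬ 3 ∣ Fintype.card K := fun h => by
    rw [hn] at h
    exact absurd (Nat.prime_three.dvd_of_dvd_pow h) (by norm_num)
  have h2 : ¬ 3 ∣ Fintype.card K - 1 := fun h => by
    have : Fact (Nat.Prime 3) := ⟨Nat.prime_three⟩
    rw [← Fintype.card_units] at h
    obtain ⟨w, hw⟩ := exists_prime_orderOf_dvd_card 3 h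
    have h3 : w ^ 3 = 1 := hw ▸ pow_orderOf_eq_one w
    have h4 : w ≠ 1 := by rintro rfl; simp at hw
    have h5 : (T.θu w) ^ 3 = 1 := by rw [← map_pow, h3, map_one]
    have h6 : ∀ x : Kˣ, x ^ 3 = 1 → x = 1 ∨ x = w ∨ x = w ^ 2 := fun x hx => by
      have a1 : (x : K) ^ 3 = 1 := by rw [← Units.val_pow_eq_pow_val, hx, Units.val_one]
      have a2 : (w : K) ^ 3 = 1 := by rw [← Units.val_pow_eq_pow_val, h3, Units.val_one]
      have a3 : (w : K) - 1 ≠ 0 := sub_ne_zero.2 fun e => h4 (Units.ext e)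
      have a4 : (w : K) ^ 2 + w + 1 = 0 :=
        mul_left_cancel₀ a3 (by linear_combination a2)
      have a5 : ((x : K) - 1) * ((x - w) * (x - w ^ 2)) = 0 := by
        linear_combination a1 + (-(x : K) ^ 2 + x) * a4 + ((x : K) - 1) * a2
      rcases mul_eq_zero.1 a5 with h | h
      · exact Or.inl (Units.ext (sub_eq_zero.1 h))
      · rcases mul_eq_zero.1 h with h | h
        · exact Or.inr (Or.inl (Units.ext (sub_eq_zero.1 h)))
        · exact Or.inr (Or.inr (Units.ext (by simpa using sub_eq_zero.1 h)))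
    have h7 := T.hθu w
    rcases h6 _ h5 with h | h | h
    · rw [h, map_one, one_pow] at h7; exact h4 h7.symm
    · rw [h, h, pow_two, mul_eq_left] at h7; exact h4 h7
    · rw [h, map_pow, h, ← pow_mul, ← pow_mul, show 2 * (2 * 2) = 3 * 2 + 1 + 1 from rfl, pow_succ,
        pow_succ, pow_mul, h3, one_pow, one_mul, mul_eq_left] at h7
      exact h4 h7
  have := Fintype.card_pos (α := K)
  omega

theorem isCyclic_of_le_P [Finite K] (j : Fin 2) {Y : Subgroup (Γ K)} (hY : IsPGroup 3 Y)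
    (h : Y ≤ (R K).P (S j) ⊓ T.Fix) : IsCyclic Y := by
  have : Fact (Nat.Prime 3) := ⟨Nat.prime_three⟩
  have hc : Nat.card ((R K).P (S j) ⊓ T.Fix : Subgroup (Γ K)) =
      Nat.card ((R K).B ⊓ T.Fix : Subgroup (Γ K)) *
        (1 + Nat.card ((R K).US (S j) ⊓ T.Fix : Subgroup (Γ K))) := T.sub.card_P_inf j
  have hq := T.card_mod_three
  rw [T.card_B, Nat.card_units] at hc
  have hq1 : ¬ 3 ∣ Nat.card K := by omega
  have hq2 : ¬ 3 ∣ Nat.card K - 1 := by omega
  have : Finite ((R K).P (S j) ⊓ T.Fix : Subgroup (Γ K)) :=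
    Finite.of_injective _ (Subgroup.inclusion_injective inf_le_right)
  suffices IsCyclic (Y.subgroupOf ((R K).P (S j) ⊓ T.Fix)) from
    isCyclic_of_surjective _ (Subgroup.subgroupOfEquivOfLe h).surjective
  have hY' : IsPGroup 3 (Y.subgroupOf ((R K).P (S j) ⊓ T.Fix)) := hY.comap_subtype
  fin_cases j
  · obtain ⟨ψ, h1, h2, h3⟩ := T.exists_sl2
    have hU : ∀ t, T.y0 t ∈ (R K).P (S 0) ⊓ T.Fix := fun t =>
      ⟨RootBN.U_le_P _ (T.y0_mem_U t), T.y0_mem t⟩
    have ht : tt K 0 ∈ (R K).P (S 0) ⊓ T.Fix :=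
      ⟨RootBN.NS_le_P _ (T.sub.t_mem_NS 0), T.tt_mem 0⟩
    have h4 : ∀ g, ψ g ∈ (R K).P (S 0) ⊓ T.Fix := fun g => by
      have := eq_top_of_slUp_slLo_mem (((R K).P (S 0) ⊓ T.Fix).comap ψ)
        (fun t => by rw [Subgroup.mem_comap, h2]; exact hU t)
        (fun t => by rw [Subgroup.mem_comap, h3]; exact mul_mem (mul_mem ht (hU t)) (inv_mem ht))
      exact (show g ∈ ((R K).P (S 0) ⊓ T.Fix).comap ψ from this ▸ Subgroup.mem_top g)
    have := Fintype.ofFinite K
    have h5 : Function.Injective (ψ.codRestrict _ h4) := fun a b e => h1 (congrArg Subtype.val e)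
    refine isCyclic_of_injective (ψ.codRestrict _ h4) h5 (fun hd => ?_)
      (fun P => S0262.result 2 3 (by norm_num) (by norm_num) P) hY'
    have h6 := (ψ.codRestrict _ h4).range.card_mul_index
    erw [hc, T.card_US0] at h6
    rw [← Nat.card_congr (MonoidHom.ofInjective h5).toEquiv, Cl.GL2.card_SL2,
      ← Nat.card_eq_fintype_card] at h6
    have h7 : (ψ.codRestrict _ h4).range.index * (Nat.card K * (Nat.card K - 1)) =
        Nat.card K ^ 12 * (Nat.card K - 1) ^ 2 :=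
      Nat.eq_of_mul_eq_mul_right (Nat.succ_pos (Nat.card K)) (by
        rw [Nat.succ_eq_add_one, add_comm (Nat.card K), ← h6]; ring)
    rcases (Nat.Prime.dvd_mul Nat.prime_three).1 (h7 ▸ hd.mul_right _) with h | h
    · exact hq1 (Nat.prime_three.dvd_of_dvd_pow h)
    · exact hq2 (Nat.prime_three.dvd_of_dvd_pow h)
  · erw [T.card_US1] at hc
    have h1 : ¬ 3 ∣ Nat.card ((R K).P (S 1) ⊓ T.Fix : Subgroup (Γ K)) := fun hd => by
      erw [hc] at hd
      rcases (Nat.Prime.dvd_mul Nat.prime_three).1 hd with h | h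
      · rcases (Nat.Prime.dvd_mul Nat.prime_three).1 h with h | h
        · exact hq1 (Nat.prime_three.dvd_of_dvd_pow h)
        · exact hq2 (Nat.prime_three.dvd_of_dvd_pow h)
      · have : (1 + Nat.card K ^ 2) % 3 = 2 := by simp [Nat.add_mod, Nat.pow_mod, hq]
        omega
    rcases hY'.card_eq_or_dvd with h2 | h2
    · have := (Nat.card_eq_one_iff_unique.1 h2).1
      exact isCyclic_of_subsingleton
    · exact absurd (h2.trans (Subgroup.card_subgroup_dvd_card _)) h1

theorem normCyc [Finite K] {a : Kˣ} (ha : a ≠ 1) : NormCyc 2 3 T.Fix := by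
  intro V Y hV hne hY hYV
  obtain ⟨g, hg, A, hA, -, h⟩ := (T.lie ha).bt (V.map T.Fix.subtype) (hV.map _)
    (Subgroup.map_subtype_le _)
    (by rwa [Ne, Subgroup.map_eq_bot_iff_of_injective _ T.Fix.subtype_injective])
  obtain ⟨j, hj⟩ : ∃ j : Fin 2, A ⊆ {j} := by
    obtain ⟨i, hi⟩ := (Set.ne_univ_iff_exists_notMem A).1 hA
    refine ⟨i.rev, fun k hk => ?_⟩
    have : k ≠ i := fun e => hi (e ▸ hk)
    rw [Set.mem_singleton_iff]
    clear hk hi
    revert i k; decide
  have h1 : (T.sub.rel cover).P {j} ≤ (R K).P (S j) ⊓ T.Fix := by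
    refine sup_le (sup_le ?_ ?_) ((Subgroup.closure_le _).2 ?_)
    · exact inf_le_inf_right _ (RootBN.U_le_P _)
    · exact inf_le_inf_right _ (RootBN.H_le_B.trans (RootBN.B_le_P _))
    · rintro _ ⟨_, rfl, rfl⟩
      exact ⟨RootBN.NS_le_P _ (T.sub.t_mem_NS _), T.tt_mem _⟩
  let f : T.Fix →* Γ K := (MulAut.conj g⁻¹).toMonoidHom.comp T.Fix.subtype
  have hf : Function.Injective f := (MulAut.conj g⁻¹).injective.comp T.Fix.subtype_injective
  have h2 := T.isCyclic_of_le_P j (hY.map f) (by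
    rintro _ ⟨y, hy, rfl⟩
    have := h1 (RootBN.P_mono hj (h y y.2
      (Subgroup.le_normalizer_map T.Fix.subtype ⟨y, hYV hy, rfl⟩)))
    simpa [f] using this)
  exact isCyclic_of_surjective _ (Y.equivMapOfInjective f hf).symm.surjective

end Cfsg.Agent.Chev.F4T.Tw
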