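import Mathlib
import Cfsg.Agent.Chev.F4TwInv
import Cfsg.Agent.Chev.SzGroup

/-!
# The large Ree groups: the Levi factor `Sz(q)`
-/

set_option autoImplicit false

namespace Cfsg.Agent.Chev.F4T

open Cfsg.Lie Cfsg.Lie.ChevalleyDatum Isog

variable {K : Type*} [Field K]

/-- The basis of a four-dimensional subspace invariant under the Levi factor of type `B₂`. -/
def blkI : Fin 4 → chevF4.Idx := ![Sum.inr (rt 37), Sum.inr (rt 35), Sum.inr (rt 34), Sum.inr (rt 33)]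

theorem blkI_inj : ∀ i j, blkI i = blkI j ↔ i = j := by decide

variable (K) in
/-- The inclusion of the subspace. -/
def blkJ : Matrix chevF4.Idx (Fin 4) K := Matrix.of fun i j => if i = blkI j then 1 else 0

/-- `g` acts on the subspace by `M`. -/
def Blk (g : Γ K) (M : Matrix (Fin 4) (Fin 4) K) : Prop :=
  (g : Matrix chevF4.Idx chevF4.Idx K) * blkJ K = blkJ K * M

theorem blkJ_mul (M : Matrix (Fin 4) (Fin 4) K) (k j : Fin 4) : (blkJ K * M) (blkI k) j = M k j := by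
  simp [blkJ, Matrix.mul_apply, blkI_inj]

theorem Blk.unique {g : Γ K} {M M' : Matrix (Fin 4) (Fin 4) K} (h : Blk g M) (h' : Blk g M') : M = M' := by
  ext k j
  rw [← blkJ_mul M, ← h, h', blkJ_mul]

theorem Blk.mul {g g' : Γ K} {M M' : Matrix (Fin 4) (Fin 4) K} (h : Blk g M) (h' : Blk g' M') :
    Blk (g * g') (M * M') := by
  rw [Blk, Units.val_mul, Matrix.mul_assoc, h', ← Matrix.mul_assoc, h, Matrix.mul_assoc]

theorem Blk.inv {g : Γ K} {M M' : Matrix (Fin 4) (Fin 4) K} (h : Blk g M) (h' : M * M' = 1) :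
    Blk g⁻¹ M' := by
  have := congrArg (fun A => ((g⁻¹ : Γ K) : Matrix chevF4.Idx chevF4.Idx K) * A * M') h
  rw [← Matrix.mul_assoc, Units.inv_mul, Matrix.one_mul, Matrix.mul_assoc, Matrix.mul_assoc, h',
    Matrix.mul_one] at this
  exact this.symm

theorem Blk.congr {g : Γ K} {M M' : Matrix (Fin 4) (Fin 4) K} (h : Blk g M) (e : M = M') : Blk g M' :=
  e ▸ h

theorem blk_one : Blk (1 : Γ K) 1 := by rw [Blk, Units.val_one, Matrix.one_mul, Matrix.mul_one]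

theorem blk_of {g : Γ K} {M : Matrix (Fin 4) (Fin 4) K}
    (h1 : ∀ k j, (g : Matrix chevF4.Idx chevF4.Idx K) (blkI k) (blkI j) = M k j)
    (h2 : ∀ i j, (∀ k, i ≠ blkI k) → (g : Matrix chevF4.Idx chevF4.Idx K) i (blkI j) = 0) : Blk g M := by
  ext i j
  have : ((g : Matrix chevF4.Idx chevF4.Idx K) * blkJ K) i j =
      (g : Matrix chevF4.Idx chevF4.Idx K) i (blkI j) := by simp [blkJ, Matrix.mul_apply]
  rw [this]
  by_cases h : ∀ k, i ≠ blkI k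
  · simp [h2 i j h, blkJ, Matrix.mul_apply, h]
  · push Not at h
    obtain ⟨k, rfl⟩ := h
    rw [blkJ_mul, h1]

theorem blk_tor (a b c d : Kˣ) : Blk (tor a b c d)
    (Matrix.diagonal ![(b * d⁻¹ : Kˣ), (a * b⁻¹ * c * d⁻¹ : Kˣ), (a * b * c⁻¹ : Kˣ), (a ^ 2 * b⁻¹ : Kˣ)]) := by
  have h : (tor a b c d : Matrix chevF4.Idx chevF4.Idx K) = chevF4.charDiag K
      fun s => ∏ i : chevF4.Nd, [a, b, c, d].getD i 1 ^ chevF4.cartan i s := rfl
  refine blk_of (fun k j => ?_) fun i j hi => ?_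
  · rw [h, charDiag]
    by_cases e : k = j
    · subst e
      rw [Matrix.diagonal_apply_eq, Matrix.diagonal_apply_eq]
      have c1 : ∀ k : Fin 4, ∀ i : Fin 4, chevF4.cartan i (![37, 35, 34, 33] k) =
        ![![0, 1, 0, -1], ![1, -1, 1, -1], ![1, 1, -1, 0], ![2, -1, 0, 0]] k i := by decide +kernel
      have c2 : Sum.elim (fun _ => (1 : K)) (fun r : chevF4.Rt => ((∏ i : chevF4.Nd,
          [a, b, c, d].getD i 1 ^ chevF4.cartan i r : Kˣ) : K)) (blkI k) =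
          (∏ i : Fin 4, [a, b, c, d].getD i 1 ^ chevF4.cartan i (![37, 35, 34, 33] k) : Kˣ) := by
        fin_cases k <;> rfl
      refine c2.trans ?_
      simp only [c1, Fin.prod_univ_four]
      fin_cases k <;> simp [zpow_ofNat]
    · rw [Matrix.diagonal_apply_ne _ e, Matrix.diagonal_apply_ne _ (mt (blkI_inj _ _).1 e)]
  · rw [h, charDiag, Matrix.diagonal_apply_ne _ (hi j)]

/-- The positions of the entries of the root elements. -/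
def blkP : ℕ → List (Fin 4 × Fin 4)
  | 27 => [(0, 1), (2, 3)]
  | 25 => [(1, 2)]
  | 28 => [(0, 2), (1, 3)]
  | 30 => [(0, 3)]
  | 20 => [(1, 0), (3, 2)]
  | _ => [(2, 1)]

theorem blkP_spec : ∀ r ∈ [27, 25, 28, 30, 20, 22], ∀ h : r < chevF4.nroots, ∀ j,
    (∀ k, red 2 1 (ent chevF4 ⟨r, h⟩ (blkI k) (blkI j)) =
      if k = j then [(0, 1)] else if (k, j) ∈ blkP r then [(1, 1)] else []) ∧
    ∀ i, (∀ k, i ≠ blkI k) → red 2 1 (ent chevF4 ⟨r, h⟩ i (blkI j)) = [] := by decide +kernel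

variable [CharP K 2]

theorem blk_X {r : ℕ} (hr : r ∈ [27, 25, 28, 30, 20, 22]) (t : K) :
    Blk (𝐱 r t) (Matrix.of fun k j => if k = j then 1 else if (k, j) ∈ blkP r then t else 0) := by
  have h : r < chevF4.nroots := by
    change r < 48
    simp only [List.mem_cons, List.not_mem_nil, or_false] at hr
    omega
  have e : ∀ i j, (𝐱 r t : Matrix chevF4.Idx chevF4.Idx K) i j =
      Isog.evalL t (red 2 1 (ent chevF4 ⟨r, h⟩ i j)) :=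
    fun i j => by rw [coe_X, x, dif_pos h, xMat_eq_evalL, evalL_red, pow_one]
  refine blk_of (fun k j => ?_) fun i j hi => ?_
  · rw [e, (blkP_spec r hr h j).1, Matrix.of_apply]
    split_ifs <;> simp [Isog.evalL]
  · rw [e, (blkP_spec r hr h j).2 i hi, Isog.evalL_nil]

theorem blk_X' (t : K) : Blk (𝐱 27 t) !![1, t, 0, 0; 0, 1, 0, 0; 0, 0, 1, t; 0, 0, 0, 1] ∧
    Blk (𝐱 25 t) !![1, 0, 0, 0; 0, 1, t, 0; 0, 0, 1, 0; 0, 0, 0, 1] ∧
    Blk (𝐱 28 t) !![1, 0, t, 0; 0, 1, 0, t; 0, 0, 1, 0; 0, 0, 0, 1] ∧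
    Blk (𝐱 30 t) !![1, 0, 0, t; 0, 1, 0, 0; 0, 0, 1, 0; 0, 0, 0, 1] ∧
    Blk (𝐱 20 t) !![1, 0, 0, 0; t, 1, 0, 0; 0, 0, 1, 0; 0, 0, t, 1] ∧
    Blk (𝐱 22 t) !![1, 0, 0, 0; 0, 1, 0, 0; 0, t, 1, 0; 0, 0, 0, 1] := by
  refine ⟨?_, ?_, ?_, ?_, ?_, ?_⟩ <;> refine (blk_X (by simp) t).congr ?_ <;> ext i j <;>
    fin_cases i <;> fin_cases j <;> simp [blkP]

theorem blk_q4 (a b c d : K) :
    Blk (q4 a b c d) !![1, a, a * b + c, a * c + d; 0, 1, b, c; 0, 0, 1, a; 0, 0, 0, 1] :=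
  ((((blk_X' a).1.mul (blk_X' b).2.1).mul (blk_X' c).2.2.1).mul (blk_X' d).2.2.2.1).congr
    (by simp [add_comm])

theorem blk_tt : Blk (tt K 1) (suzukiForm K) := by
  obtain ⟨a, b, -, -, c, d⟩ := blk_X' (1 : K)
  have h1 : Blk (chevF4.nE K 27 1) !![0, 1, 0, 0; 1, 0, 0, 0; 0, 0, 0, 1; 0, 0, 1, 0] := by
    rw [nE_one_eq]
    exact ((a.mul c).mul a).congr (by
      ext i j; fin_cases i <;> fin_cases j <;> simp [CharTwo.add_self_eq_zero])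
  have h2 : Blk (chevF4.nE K 25 1) !![1, 0, 0, 0; 0, 0, 1, 0; 0, 1, 0, 0; 0, 0, 0, 1] := by
    rw [nE_one_eq]
    exact ((b.mul d).mul b).congr (by
      ext i j; fin_cases i <;> fin_cases j <;> simp [CharTwo.add_self_eq_zero])
  have h3 : tt K 1 = chevF4.nE K 27 1 * (chevF4.nE K 25 1 * (chevF4.nE K 27 1 * (chevF4.nE K 25 1 * 1))) := rfl
  rw [h3, mul_one]
  exact (h1.mul (h2.mul (h1.mul h2))).congr (by simp [suzukiForm])

namespace Tw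

variable (T : Tw K)

/-- The Levi factor of Suzuki type. -/
def L1 : Subgroup (Γ K) :=
  Subgroup.closure {g | (∃ t u, g = T.y1 t u) ∨ (∃ b, g = T.hh 1 b) ∨ g = tt K 1}

omit [CharP K 2] in
theorem y1_mem_L1 (t u : K) : T.y1 t u ∈ T.L1 := Subgroup.subset_closure (Or.inl ⟨t, u, rfl⟩)

omit [CharP K 2] in
theorem hh_mem_L1 (b : Kˣ) : T.hh 1 b ∈ T.L1 := Subgroup.subset_closure (Or.inr (Or.inl ⟨b, rfl⟩))

omit [CharP K 2] in
theorem tt_mem_L1 : tt K 1 ∈ T.L1 := Subgroup.subset_closure (Or.inr (Or.inr rfl))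

omit [CharP K 2] in
theorem hh_conj_47 (a b : Kˣ) (t : K) : T.hh a b * 𝐱 47 t * (T.hh a b)⁻¹ = 𝐱 47 (a * t) := by
  have c1 : chevF4.cartan 0 47 = 0 ∧ chevF4.cartan 1 47 = 0 ∧ chevF4.cartan 2 47 = 0 ∧
    chevF4.cartan 3 47 = 1 := by decide +kernel
  simp [hh, tor_conj_X _ _ _ _ (by norm_num : 47 < 48), c1]

theorem eq_one_of_hh_mem_L1 {a b : Kˣ} (h : T.hh a b ∈ T.L1) : a = 1 := by
  have h1 : T.L1 ≤ Subgroup.centralizer {𝐱 47 (1 : K)} := (Subgroup.closure_le _).2 (by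
    rintro _ (⟨t, u, rfl⟩ | ⟨b, rfl⟩ | rfl)
    · have : ∀ r ∈ [27, 25, 28, 30], ∀ t : K, 𝐱 r t ∈ Subgroup.centralizer {𝐱 47 (1 : K)} := fun r hr t =>
        Subgroup.mem_centralizer_singleton_iff.2 (cm (by revert r; decide +kernel) _ _)
      exact mul_mem (mul_mem (mul_mem (this _ (by simp) _) (this _ (by simp) _)) (this _ (by simp) _))
        (this _ (by simp) _)
    · exact Subgroup.mem_centralizer_singleton_iff.2
        (mul_inv_eq_iff_eq_mul.1 (by rw [hh_conj_47, Units.val_one, one_mul]))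
    · exact Subgroup.mem_centralizer_singleton_iff.2
        (mul_inv_eq_iff_eq_mul.1 (nWordS_conj_X2' (lw 1) (r := 47) (by decide) 1)))
  have h2 := mul_inv_eq_iff_eq_mul.2 (Subgroup.mem_centralizer_singleton_iff.1 (h1 h))
  rw [hh_conj_47, mul_one] at h2
  exact Units.ext (chevF4.X_injective K (rt 47) h2)

omit [CharP K 2] in
theorem hh_inv (a b : Kˣ) : (T.hh a b)⁻¹ = T.hh a⁻¹ b⁻¹ :=
  inv_eq_of_mul_eq_one_right (by rw [hh_mul, mul_inv_cancel, mul_inv_cancel, hh_one])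

omit [CharP K 2] in
theorem hh_mul_y1 (a b : Kˣ) (t u : K) : ∃ t' u', T.hh a b * T.y1 t u = T.y1 t' u' * T.hh a b :=
  ⟨_, _, mul_inv_eq_iff_eq_mul.1 (T.hh_conj_y1 a b t u)⟩

omit [CharP K 2] in
theorem y1_mul_hh (a b : Kˣ) (t u : K) : ∃ t' u', T.y1 t u * T.hh a b = T.hh a b * T.y1 t' u' := by
  obtain ⟨t', u', h⟩ := T.hh_mul_y1 a⁻¹ b⁻¹ t u
  refine ⟨t', u', ?_⟩
  rw [← hh_inv, inv_mul_eq_iff_eq_mul, ← mul_assoc, eq_mul_inv_iff_mul_eq] at h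
  exact h

omit [CharP K 2] in
theorem tt_mul_hh (b : Kˣ) : tt K 1 * T.hh 1 b = T.hh 1 b⁻¹ * tt K 1 := by
  simpa [mul_inv_eq_iff_eq_mul] using (T.tt_conj_hh 1 b).2

theorem L1_nf {g : Γ K} (hg : g ∈ T.L1) : ∃ t u b, g = T.y1 t u * T.hh 1 b ∨
    ∃ t' u', g = T.y1 t u * T.hh 1 b * tt K 1 * T.y1 t' u' := by
  have key : ∀ x ∈ {g | (∃ t u, g = T.y1 t u) ∨ (∃ b, g = T.hh 1 b) ∨ g = tt K 1}, ∀ g,
      (∃ t u b, g = T.y1 t u * T.hh 1 b ∨ ∃ t' u', g = T.y1 t u * T.hh 1 b * tt K 1 * T.y1 t' u') →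
      ∃ t u b, x * g = T.y1 t u * T.hh 1 b ∨
        ∃ t' u', x * g = T.y1 t u * T.hh 1 b * tt K 1 * T.y1 t' u' := by
    rintro _ (⟨c, d, rfl⟩ | ⟨c, rfl⟩ | rfl) g ⟨t, u, b, h⟩
    · refine ⟨c + t, d + u + T.θ c * t, b, h.imp (fun h => ?_) fun ⟨t', u', h⟩ => ⟨t', u', ?_⟩⟩
      · rw [h, ← mul_assoc, y1_mul]
      · rw [h, ← mul_assoc, ← mul_assoc, ← mul_assoc, y1_mul]
    · obtain ⟨t₁, u₁, e⟩ := T.hh_mul_y1 1 c t u
      refine ⟨t₁, u₁, c * b, h.imp (fun h => ?_) fun ⟨t', u', h⟩ => ⟨t', u', ?_⟩⟩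
      · rw [h, ← mul_assoc, e, mul_assoc, hh_mul, one_mul]
      · rw [h, ← mul_assoc, ← mul_assoc, ← mul_assoc, e, mul_assoc (T.y1 _ _), hh_mul, one_mul]
    · rcases h with rfl | ⟨t', u', rfl⟩
      · obtain ⟨t₁, u₁, e⟩ := T.y1_mul_hh 1 b t u
        exact ⟨0, 0, b⁻¹, Or.inr ⟨t₁, u₁, by rw [e, ← mul_assoc, tt_mul_hh, y1_zero, one_mul]⟩⟩
      by_cases h1 : T.y1 t u = 1
      · obtain ⟨t₁, u₁, e⟩ := T.hh_mul_y1 1 b⁻¹ t' u'
        exact ⟨t₁, u₁, b⁻¹, Or.inl (by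
          rw [h1, one_mul, ← mul_assoc, ← mul_assoc, tt_mul_hh, mul_assoc (T.hh _ _), tt_mul_self, mul_one, e])⟩
      obtain ⟨x, hx, hxK, h, hH, hK, y, hy, hyK, e⟩ :=
        T.sub.rank_one (j := 1) (T.y1_mem_US t u) (T.y1_mem t u) h1
      obtain ⟨c, d, rfl⟩ := T.exists_hh hH hK
      obtain ⟨t₁, u₁, rfl⟩ := T.exists_y1 hx hxK
      obtain ⟨t₂, u₂, rfl⟩ := T.exists_y1 hy hyK
      change tt K 1 * _ * (tt K 1)⁻¹ = _ * tt K 1 * _ at e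
      obtain rfl : c = 1 := T.eq_one_of_hh_mem_L1 (b := d) (by
        rw [show T.hh c d = (T.y1 t₁ u₁)⁻¹ * (tt K 1 * T.y1 t u * (tt K 1)⁻¹) * (T.y1 t₂ u₂)⁻¹ *
          (tt K 1)⁻¹ by rw [e]; group]
        exact mul_mem (mul_mem (mul_mem (inv_mem (T.y1_mem_L1 _ _)) (mul_mem (mul_mem T.tt_mem_L1
          (T.y1_mem_L1 _ _)) (inv_mem T.tt_mem_L1))) (inv_mem (T.y1_mem_L1 _ _))) (inv_mem T.tt_mem_L1))
      obtain ⟨t₃, u₃, e'⟩ := T.y1_mul_hh 1 b⁻¹ t₂ u₂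
      refine ⟨t₁, u₁, d * b, Or.inr ⟨_, _, Eq.trans ?_ (congrArg _ (T.y1_mul t₃ u₃ t' u'))⟩⟩
      calc tt K 1 * (T.y1 t u * T.hh 1 b * tt K 1 * T.y1 t' u')
          = tt K 1 * T.y1 t u * (tt K 1)⁻¹ * (tt K 1 * T.hh 1 b * tt K 1) * T.y1 t' u' := by group
        _ = T.y1 t₁ u₁ * T.hh 1 d * (tt K 1 * (T.y1 t₂ u₂ * T.hh 1 b⁻¹)) * T.y1 t' u' := by
          rw [e, tt_mul_hh, mul_assoc (T.hh 1 b⁻¹), tt_mul_self, mul_one]; group
        _ = _ := by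
          rw [e', ← mul_assoc (tt K 1), tt_mul_hh, inv_inv, ← one_mul (1 : Kˣ), ← hh_mul, one_mul]; group
  induction hg using Subgroup.closure_induction_left with
  | one => exact ⟨0, 0, 1, Or.inl (by rw [y1_zero, hh_one, one_mul])⟩
  | mul_left x hx y _ ih => exact key x hx y ih
  | inv_mul_cancel x hx y _ ih =>
    refine key _ ?_ y ih
    rcases hx with ⟨t, u, rfl⟩ | ⟨b, rfl⟩ | rfl
    · exact Or.inl ⟨_, _, T.y1_inv ..⟩
    · exact Or.inr (Or.inl ⟨_, by rw [hh_inv, inv_one]⟩)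
    · exact Or.inr (Or.inr (tt_inv 1))

end Tw

namespace Tw

open Sz

variable {K : Type*} [Field K] {m : ℕ} [SzF K m] (T : Tw K) (hθ : ∀ x, T.θ x = thInv K x)
include hθ

theorem blk_y1 (t u : K) : Blk (T.y1 t u) (mat (ue (T.θ t) (T.θ t * t + u) : Cfsg.Sz K m)) := by
  refine (blk_q4 (T.θ t) t (T.θ t * t + u) (T.θ u ^ 2)).congr ?_
  have h2 : (2 : K) = 0 := CharTwo.two_eq_zero
  simp only [mat_ue, uMat, nrm, hθ, th_thInv, map_add, map_mul, thInv_sq]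
  ext i j
  fin_cases i <;> fin_cases j <;> simp
  · ring
  · linear_combination (-(t * th K t)) * h2

theorem blk_hh (k : Kˣ) : Blk (T.hh 1 (T.θu k ^ 2 * k)) (mat (he k : Cfsg.Sz K m)) := by
  refine (blk_tor (T.θu 1) (T.θu (T.θu k ^ 2 * k)) (T.θu k ^ 2 * k) 1).congr ?_
  have h0 := k.ne_zero
  have h1 := thInv_units_ne_zero k
  rw [mat_he, Sz.hMat, map_mul, map_pow, hθu]
  congr 1
  ext i
  fin_cases i <;> simp [hθ] <;> field_simp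

omit hθ in
theorem exists_eq_θu (b : Kˣ) : ∃ k, b = T.θu k ^ 2 * k := by
  refine ⟨T.θu b ^ 2 * b⁻¹, ?_⟩
  rw [map_mul, map_pow, hθu, map_inv, mul_pow, inv_pow, mul_assoc, inv_mul_cancel_left, sq,
    mul_inv_cancel_right]

theorem eq_one_of_blk {g : Γ K} (hg : g ∈ T.L1) (h : Blk g 1) : g = 1 := by
  obtain ⟨t, u, b, rfl | ⟨t', u', rfl⟩⟩ := T.L1_nf hg
  · obtain ⟨k, rfl⟩ := T.exists_eq_θu b
    have h1 : (ue _ _ * he k : Cfsg.Sz K m) = 1 :=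
      mat_injective (((T.blk_y1 hθ t u).mul (T.blk_hh hθ k)).unique h)
    rw [show (1 : Cfsg.Sz K m) = ue 0 0 * he 1 by simp, ue_mul_he_inj, map_eq_zero] at h1
    obtain ⟨rfl, h2, rfl⟩ := h1
    rw [mul_zero, zero_add] at h2
    simp [h2, y1_zero, hh_one]
  · obtain ⟨k, rfl⟩ := T.exists_eq_θu b
    have h1 : (ue _ _ * he k * we * ue _ _ : Cfsg.Sz K m) = 1 := mat_injective
      (((((T.blk_y1 hθ t u).mul (T.blk_hh hθ k)).mul blk_tt).mul (T.blk_y1 hθ t' u')).unique h)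
    simpa [mul_smul] using congrArg (· • (inf : Ov K m)) h1

theorem exists_blk (s : Cfsg.Sz K m) : ∃ g ∈ T.L1, Blk g (mat s) := by
  let M : Subgroup (Cfsg.Sz K m) :=
    { carrier := {s | ∃ g ∈ T.L1, Blk g (mat s)}
      one_mem' := ⟨1, one_mem _, blk_one⟩
      mul_mem' := fun ⟨g, hg, h⟩ ⟨g', hg', h'⟩ => ⟨_, mul_mem hg hg', h.mul h'⟩
      inv_mem' := fun ⟨g, hg, h⟩ => ⟨_, inv_mem hg, h.inv (by rw [← mat_mul, mul_inv_cancel, mat_one])⟩ }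
  have : M = ⊤ := eq_top_of_gens (fun a b => ⟨_, T.y1_mem_L1 (th K a) (a * th K a + b), by
    simpa [hθ, ← add_assoc, CharTwo.add_self_eq_zero] using T.blk_y1 hθ (th K a) (a * th K a + b)⟩)
    (fun k => ⟨_, T.hh_mem_L1 _, T.blk_hh hθ k⟩) ⟨_, T.tt_mem_L1, blk_tt⟩
  exact (show s ∈ M from this ▸ Subgroup.mem_top s)

/-- The Suzuki group as a Levi factor. -/
theorem exists_sz : ∃ ψ : Cfsg.Sz K m →* Γ K, Function.Injective ψ ∧ ψ.range = T.L1 ∧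
    (∀ t u, ψ (ue (T.θ t) (T.θ t * t + u)) = T.y1 t u) ∧ ψ we = tt K 1 ∧
    ∀ k, ψ (he k) = T.hh 1 (T.θu k ^ 2 * k) := by
  choose f h1 h2 using T.exists_blk hθ
  have key : ∀ s, ∀ g ∈ T.L1, Blk g (mat s) → f s = g := fun s g hg h =>
    mul_inv_eq_one.1 (T.eq_one_of_blk hθ (mul_mem (h1 s) (inv_mem hg)) (by
      simpa [← mat_mul, mat_one] using (h2 s).mul
        (h.inv (M' := mat s⁻¹) (by rw [← mat_mul, mul_inv_cancel, mat_one]))))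
  let ψ : Cfsg.Sz K m →* Γ K :=
    MonoidHom.mk' f fun a b => key _ _ (mul_mem (h1 a) (h1 b)) ((h2 a).mul (h2 b))
  have e1 : ∀ t u, ψ (ue (T.θ t) (T.θ t * t + u)) = T.y1 t u := fun t u =>
    key _ _ (T.y1_mem_L1 _ _) (T.blk_y1 hθ t u)
  have e2 : ψ we = tt K 1 := key _ _ T.tt_mem_L1 blk_tt
  have e3 : ∀ k, ψ (he k) = T.hh 1 (T.θu k ^ 2 * k) := fun k => key _ _ (T.hh_mem_L1 _) (T.blk_hh hθ k)
  refine ⟨ψ, fun a b h => mat_injective ((h2 a).unique ((show f a = f b from h) ▸ h2 b)),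
    le_antisymm (fun _ ⟨s, h⟩ => h ▸ h1 s) ((Subgroup.closure_le _).2 ?_), e1, e2, e3⟩
  rintro _ (⟨t, u, rfl⟩ | ⟨b, rfl⟩ | rfl)
  · exact ⟨_, e1 t u⟩
  · obtain ⟨k, rfl⟩ := T.exists_eq_θu b
    exact ⟨_, e3 k⟩
  · exact ⟨_, e2⟩

end Tw

end Cfsg.Agent.Chev.F4T
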