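import Mathlib
import Cfsg.Agent.Chev.MultRootLift
import Cfsg.Agent.Ch.MultBN

/-!
# Pulling back central extensions along embeddings
-/

set_option autoImplicit false

open scoped commutatorElement

namespace Cfsg.Agent.Chev

open Cfsg.Agent.Ch Function

variable {E G Q : Type*} [Group E] [Group G] [Group Q] {π : E →* G}

theorem commute_of_map_mem_commutator (hc : π.ker ≤ Subgroup.center E) {M C : Subgroup G}
    (hs : ∀ g ∈ M, ∃ e, π e = g) (hC : C ≤ M) {a b : E} (ha : ∀ c ∈ C, Commute (π a) c)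
    (hb : π b ∈ ⁅C, C⁆) : Commute a b := by
  obtain ⟨b', hb', e⟩ := RootBN.exists_mem_commutator_comap hs hC hC hb
  have h1 : ⁅C.comap π, C.comap π⁆ ≤ Subgroup.centralizer {a} := Subgroup.commutator_le.2 fun x hx y hy => by
    have key : ∀ x, π x ∈ C → x⁻¹ * (a * x * a⁻¹) ∈ Subgroup.center E := fun x hx =>
      hc (by simp [(ha _ hx).eq])
    have k1 := Subgroup.mem_center_iff.1 (key x hx)
    have k2 := Subgroup.mem_center_iff.1 (key y hy)
    refine Subgroup.mem_centralizer_singleton_iff.2 (mul_inv_eq_iff_eq_mul.1 ?_).symm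
    generalize hu : x⁻¹ * (a * x * a⁻¹) = u at k1
    generalize hv : y⁻¹ * (a * y * a⁻¹) = v at k2
    calc a * ⁅x, y⁆ * a⁻¹ = x * (u * (y * v)) * u⁻¹ * x⁻¹ * (y * v)⁻¹ := by
          rw [← hu, ← hv, commutatorElement_def]; group
      _ = x * y * (v * x⁻¹) * (y * v)⁻¹ := by rw [← k1]; group
      _ = _ := by rw [← k2, commutatorElement_def]; group
  have h2 : b'⁻¹ * b ∈ Subgroup.center E := hc (by simp [e])
  have h3 : Commute a b' := (Subgroup.mem_centralizer_singleton_iff.1 (h1 hb')).symm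
  simpa using h3.mul_right (Subgroup.mem_center_iff.1 h2 a)

theorem IsCE.exists_pull (hp : IsCE π) (ψ : Q →* G) (hψ : Injective ψ) :
    ∃ σ : ψ.range.comap π →* Q, IsCE σ ∧ ∀ e, ψ (σ e) = π e := by
  have h : ∀ e, ψ (((MonoidHom.ofInjective hψ).symm.toMonoidHom.comp (resExt π ψ.range)) e) = π e :=
    fun e => MonoidHom.apply_ofInjective_symm hψ _
  refine ⟨_, ⟨(MonoidHom.ofInjective hψ).symm.surjective.comp (resExt_surjective hp.surj _),
    fun e he => ker_resExt_le_center hp.cen _ (mem_ker_resExt.2 ?_)⟩, h⟩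
  rw [MonoidHom.mem_ker, ← h, show _ = (1 : Q) from he, map_one]

theorem comap_map_pull {ψ : Q →* G} (hψ : Injective ψ) {σ : ψ.range.comap π →* Q}
    (h : ∀ e, ψ (σ e) = π e) (U : Subgroup Q) :
    (U.map ψ).comap π = (U.comap σ).map (ψ.range.comap π).subtype := by
  ext e
  constructor
  · rintro ⟨u, hu, he⟩
    refine ⟨⟨e, u, he⟩, ?_, rfl⟩
    rw [SetLike.mem_coe, Subgroup.mem_comap, hψ ((h ⟨e, u, he⟩).trans he.symm)]
    exact hu
  · rintro ⟨e, he, rfl⟩
    exact ⟨_, he, h e⟩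

/-- A lifted rank one group meets the kernel trivially if the multiplier of the rank one group allows it. -/
theorem _root_.Cfsg.Agent.Ch.SplitSys.eq_one_of_mem_Lt {J : Type*} {S : SplitSys G J} {p r : ℕ} [Finite E]
    [Finite Q] [Fact p.Prime] (hp : IsCE π) (hr : r.Prime) (hk : Nat.card π.ker = r) (hrp : r.Coprime p)
    (hU : IsPGroup p S.U) (ψ : Q →* G) (hψ : Injective ψ) {j : J} (hL : ψ.range = S.L j)
    (hQ : ¬ r ∣ Nat.card (Mult Q)) {e : E} (he : e ∈ S.Lt p π j) (h1 : π e = 1) : e = 1 := by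
  obtain ⟨σ, hσ, h⟩ := hp.exists_pull ψ hψ
  have hle : S.Lt p π j ≤ ψ.range.comap π := fun x hx => by
    rw [Subgroup.mem_comap, hL]
    exact SplitSys.map_mem_L hx
  let ξ := σ.comp (Subgroup.inclusion hle)
  have hξ : ∀ x, ψ (ξ x) = π x := fun x => h _
  have h2 := (hasSchurMultiplier_mult Q).card_inf_dvd ξ (fun q => by
    obtain ⟨x, hx, e⟩ := SplitSys.exists_mem_Lt hp.surj hp.cen (hk ▸ hrp) hU (hL ▸ ⟨q, rfl⟩ : ψ q ∈ S.L j)
    exact ⟨⟨x, hx⟩, hψ ((hξ _).trans e)⟩) (fun x hx => Subgroup.mem_center_iff.2 fun y => Subtype.ext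
      (Subgroup.mem_center_iff.1 (hp.cen (by
        rw [MonoidHom.mem_ker, ← hξ, show ξ x = 1 from hx, map_one])) y))
  have h3 : e ^ r = 1 := hk ▸ congrArg Subtype.val (pow_card_eq_one' (x := (⟨e, h1⟩ : π.ker)))
  have h4 : ∀ x (hx : x ∈ S.Lt p π j), IsPEl p (Abelianization.of (⟨x, hx⟩ : S.Lt p π j)) := fun x hx => by
    induction hx using Subgroup.closure_induction with
    | mem x hx =>
      obtain ⟨k, hk⟩ := hx.1
      exact ⟨k, by rw [← map_pow]; exact (congrArg _ (Subtype.ext hk)).trans (map_one _)⟩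
    | one => exact ⟨0, by rw [pow_zero, pow_one]; exact map_one _⟩
    | mul x y hx hy a b => simpa only [← map_mul] using! a.mul_of_commute b (Commute.all _ _)
    | inv x hx a => simpa only [← map_inv] using! a.inv
  have h5 : (⟨e, he⟩ : S.Lt p π j) ∈ ξ.ker ⊓ commutator _ := by
    refine ⟨hψ ((hξ _).trans (h1.trans (map_one ψ).symm)), ?_⟩
    obtain ⟨k, hk⟩ := h4 e he
    have h6 : Abelianization.of (⟨e, he⟩ : S.Lt p π j) ^ r = 1 := by
      rw [← map_pow]
      exact (congrArg _ (Subtype.ext h3)).trans (map_one _)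
    have h7 := pow_gcd_eq_one.2 ⟨h6, hk⟩
    rw [(hrp.pow_right k).gcd_eq_one, pow_one] at h7
    rwa [← Abelianization.ker_of]
  have h6 : e ^ Nat.card (Mult Q) = 1 := by
    obtain ⟨n, hn⟩ := h2
    have := congrArg (fun x => ((x.1 : S.Lt p π j) : E)) (pow_card_eq_one' (x := (⟨_, h5⟩ : ↥(ξ.ker ⊓ _))))
    rw [hn, pow_mul]
    exact (congrArg (· ^ n) this).trans (one_pow n)
  have h7 := pow_gcd_eq_one.2 ⟨h3, h6⟩
  rwa [(hr.coprime_iff_not_dvd.2 hQ).gcd_eq_one, pow_one] at h7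

end Cfsg.Agent.Chev
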