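import Mathlib
import Cfsg.Agent.Chev.F4TwSz
import Cfsg.Agent.Chev.F4TwAlt
import Cfsg.Agent.Chev.F4TwTits3
import Cfsg.Agent.Chev.MultPull
import Cfsg.Agent.Chev.SzMult
import Cfsg.Agent.Chev.SzLocal
import Cfsg.Agent.Ch.MultSub
import Cfsg.Agent.Ch.MultSL2

/-!
# The Schur multiplier of the large Ree groups
-/

set_option autoImplicit false

open scoped commutatorElement

namespace Cfsg.Agent.Chev.F4T

open Cfsg.Lie Cfsg.Lie.ChevalleyDatum Isog Cfsg.Agent.Ch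

variable {K : Type*} [Field K]

theorem mem_XS_of_tor_fix {a b c d : Kˣ} {l : List ℕ}
    (h : ∀ r < 48, 24 ≤ r → r ∉ l → a ^ chevF4.cartan 0 r * b ^ chevF4.cartan 1 r *
      c ^ chevF4.cartan 2 r * d ^ chevF4.cartan 3 r ≠ 1) {u : Γ K} (hu : u ∈ (R K).U)
    (e : tor a b c d * u * (tor a b c d)⁻¹ = u) : u ∈ chevF4.XS K (chevF4.lset l) := by
  let L : List chevF4.Rt := (List.finRange 48).filter fun r => 24 ≤ r.val
  have hL : ∀ r : chevF4.Rt, r ∈ L ↔ chevF4.IsPosRoot r := fun r => by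
    rw [pos_iff]
    exact List.mem_filter.trans ((and_iff_right (List.mem_finRange r)).trans decide_eq_true_iff)
  obtain ⟨t, ht⟩ := exists_prod_of_mem_U chevF4 K (l := L) (by decide) hL
    (g := ⟨u, RootBN.U_le_G (R := R K) hu⟩) hu
  have h1 : u = (L.map fun r : chevF4.Rt => 𝐱 r (t r)).prod := by
    have := congrArg (chevF4.group K).subtype ht
    rwa [map_list_prod, List.map_map] at this
  have h2 := congrArg (MulAut.conj (tor a b c d)) h1
  rw [map_list_prod, List.map_map, MulAut.conj_apply, e, h1] at h2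
  have h3 := chevF4.prod_X_injective K (l := L) (by decide) (fun r hr => (hL r).1 hr)
    (h2.trans (congrArg List.prod (List.map_congr_left fun r _ => tor_conj_X a b c d r.2 (t r))))
  rw [h1]
  refine list_prod_mem fun x hx => ?_
  obtain ⟨r, hr, rfl⟩ := List.mem_map.1 hx
  by_cases h4 : (r : ℕ) ∈ l
  · exact X_mem_lset h4 _
  · have h5 : t r = 0 := by
      by_contra h5
      exact h r r.2 ((pos_iff r).1 ((hL r).1 hr)) h4 (Units.ext ((mul_eq_right₀ h5).1 (h3 r hr).symm))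
    rw [h5, X_zero]
    exact one_mem _

variable [CharP K 2]

theorem commute_of_lset {l l' : List ℕ} (h : ∀ r ∈ l, ∀ s ∈ l', chevF4.Cm2 r s []) {x y : Γ K}
    (hx : x ∈ chevF4.XS K (chevF4.lset l)) (hy : y ∈ chevF4.XS K (chevF4.lset l')) : Commute x y := by
  refine ChevalleyDatum.XS_induction (P := fun x => Commute x y) (Commute.one_left y)
    (fun r hr t g _ ih => Commute.mul_left ?_ ih) hx
  exact ChevalleyDatum.XS_induction (P := fun y => Commute (𝐱 r t) y) (Commute.one_right _)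
    (fun s hs u g _ ih => Commute.mul_right (cm (h _ hr _ hs) _ _) ih) hy

omit [CharP K 2] in
theorem nn_conj_mem_lset {c : List (Fin 2)} {j : Fin 2} {l : List ℕ}
    (h : ∀ r ∈ posS j, chevF4.actN (c.flatMap lw) r ∈ l) {x : Γ K} (hx : x ∈ (R K).US (S j)) :
    nn K c * x * (nn K c)⁻¹ ∈ chevF4.XS K (chevF4.lset l) := by
  rw [← rootBN_XS]
  refine RootBN.conj_XS (nn_mem_N c) (fun r hr => ?_) hx
  rw [mem_lset, nn_eq, rootBN_w, wOf_nWordS_val]
  exact h _ ((supp_iff j r).1 hr)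

namespace Tw

variable (T : Tw K)

theorem eq_one_of_θ_zpow {a : Kˣ} {i j : ℤ} (hd : i ^ 2 - 2 * j ^ 2 ∣ 8) (h : T.θu a ^ i * a ^ j = 1) :
    a = 1 := by
  have h1 : a ^ i * (T.θu a ^ j) ^ 2 = 1 := by
    have := congrArg (fun x => T.θu x ^ 2) h
    simp only [map_mul, map_zpow, mul_pow, map_one, one_pow] at this
    rwa [← zpow_natCast (_ ^ i), ← zpow_mul, mul_comm i, zpow_mul, zpow_natCast, hθu] at this
  have h2 : a ^ (i ^ 2 - 2 * j ^ 2) = 1 := by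
    have e : a ^ (i ^ 2 - 2 * j ^ 2) = (a ^ i * (T.θu a ^ j) ^ 2) ^ i * (T.θu a ^ i * a ^ j) ^ (-2 * j) := by
      simp only [mul_zpow, ← zpow_natCast, ← zpow_mul]
      rw [mul_comm (T.θu a ^ (i * _)), mul_mul_mul_comm, ← zpow_add, ← zpow_add,
        show j * ((2 : ℕ) : ℤ) * i + i * (-2 * j) = 0 by push_cast; ring, zpow_zero, mul_one]
      congr 1
      push_cast
      ring
    rw [e, h, h1, one_zpow, one_zpow, one_mul]
  obtain ⟨n, hn⟩ := hd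
  have h3 : a ^ (8 : ℤ) = 1 := by rw [hn, zpow_mul, h2, one_zpow]
  refine unit_eq_one_of_sq (unit_eq_one_of_sq (unit_eq_one_of_sq ?_))
  rw [← h3, zpow_ofNat]
  simp only [pow_succ, pow_zero, one_mul, mul_assoc]

/-- Torus elements centralising a rank one piece. -/
def hc (c : Kˣ) : Fin 2 → Γ K := ![T.hh c (c ^ 2), T.hh (c ^ 2 * (T.θu c)⁻¹ ^ 2) c]

omit [CharP K 2] in
theorem hc_mem_H (c : Kˣ) (j : Fin 2) : T.hc c j ∈ (R K).H := by
  fin_cases j <;> exact T.hh_mem_H _ _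

theorem hc_mem (c : Kˣ) (j : Fin 2) : T.hc c j ∈ T.Fix := by
  fin_cases j <;> exact T.hh_mem _ _

theorem hc_conj (c : Kˣ) (j : Fin 2) {x : Γ K} (hx : x ∈ (R K).US (S j)) (hF : x ∈ T.Fix) :
    T.hc c j * x * (T.hc c j)⁻¹ = x := by
  fin_cases j
  · obtain ⟨t, rfl⟩ := T.exists_y0 hx hF
    exact (T.hh_conj_y0 ..).trans (by simp)
  · obtain ⟨t, u, rfl⟩ := T.exists_y1 hx hF
    have : T.bval (c ^ 2 * (T.θu c)⁻¹ ^ 2) c = 1 := by
      rw [bval, mul_right_comm, mul_inv_cancel]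
    exact (T.hh_conj_y1 ..).trans (by rw [this]; simp)

theorem mem_US_of_hc_fix {c : Kˣ} (hc : c ≠ 1) (j : Fin 2) {u : Γ K} (hu : u ∈ (R K).U)
    (e : T.hc c j * u * (T.hc c j)⁻¹ = u) : u ∈ (R K).US (S j) := by
  rw [US_eq]
  fin_cases j
  · refine mem_XS_of_tor_fix (fun r hr h1 h2 h => hc (T.eq_one_of_θ_zpow
      (i := chevF4.cartan 0 r + 2 * chevF4.cartan 1 r) (j := 2 * chevF4.cartan 2 r + chevF4.cartan 3 r)
      (by clear h; revert r; decide +kernel) ?_)) hu e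
    rw [← h]
    simp only [map_pow, zpow_add, zpow_mul, zpow_ofNat, mul_assoc]
  · refine mem_XS_of_tor_fix (fun r hr h1 h2 h => hc (T.eq_one_of_θ_zpow
      (i := 2 * chevF4.cartan 0 r + chevF4.cartan 1 r + -2 * chevF4.cartan 3 r)
      (j := -1 * chevF4.cartan 0 r + chevF4.cartan 2 r + 2 * chevF4.cartan 3 r)
      (by clear h; revert r; decide +kernel) ?_)) hu e
    rw [← h]
    simp only [map_pow, map_mul, map_inv, inv_pow, hθu, zpow_add, zpow_mul, zpow_ofNat, zpow_neg, mul_zpow,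
      pow_one]
    ac_rfl

/-- The relative root data. -/
noncomputable def relBN : RootBN (Γ K) T.sub.Rt (Fin 2) := T.sub.rel cover

theorem mem_relBN_simple {j : Fin 2} {x : Γ K} :
    x ∈ T.relBN.X (T.relBN.simple j) ↔ x ∈ (R K).US (S j) ∧ x ∈ T.Fix :=
  SetLike.ext_iff.1 (T.sub.rel_X_simple cover j) x

theorem simple_ne : T.relBN.simple 0 ≠ T.relBN.simple 1 := fun h => by
  have := congrArg T.relBN.supp h
  rw [RootBN.supp_simple, RootBN.supp_simple] at this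
  exact zero_ne_one (Set.singleton_injective this)

variable [Finite K]

theorem rel_le_commutator {c : Kˣ} (hc : c ≠ 1) (j : Fin 2) (A : T.sub.Rt) (hA : T.relBN.pos A)
    (hne : A ≠ T.relBN.simple j) : T.relBN.X A ≤ ⁅T.relBN.H ⊓
      Subgroup.centralizer (T.relBN.X (T.relBN.simple j) : Set (Γ K)),
      T.relBN.X A⁆ := by
  have hH : T.hc c j ∈ T.relBN.H := ⟨T.hc_mem_H c j, T.hc_mem c j⟩
  refine le_commutator_of_fpf (h := T.hc c j) ⟨hH, fun x hx => ?_⟩ (fun x hx => ?_) fun x hx e => ?_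
  · replace hx := T.mem_relBN_simple.1 hx
    exact (mul_inv_eq_iff_eq_mul.1 (T.hc_conj c j hx.1 hx.2)).symm
  · have := RootBN.conj_X _ (RootBN.H_le_N _ hH) hx
    rwa [RootBN.w_H_apply hH] at this
  · by_contra h1
    refine hne (RootBN.eq_of_mem_X_X hx (T.mem_relBN_simple.2 ?_) h1)
    exact ⟨T.mem_US_of_hc_fix hc j (RootBN.X_le_U hA hx).1 e, hx.2⟩

theorem simple_le_commutator {c : Kˣ} (hc : c ≠ 1) (j : Fin 2) :
    T.relBN.X (T.relBN.simple j) ≤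
      ⁅T.relBN.X (T.relBN.simple j), T.relBN.H⁆ := by
  rw [Subgroup.commutator_comm]
  fin_cases j
  · exact (T.rel_le_commutator hc 1 _ (RootBN.pos_simple _ _) T.simple_ne).trans
      (Subgroup.commutator_mono inf_le_left le_rfl)
  · exact (T.rel_le_commutator hc 0 _ (RootBN.pos_simple _ _) T.simple_ne.symm).trans
      (Subgroup.commutator_mono inf_le_left le_rfl)

/-- The central involution of the Suzuki piece is a product of commutators in the centraliser of any element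
of the piece. -/
theorem zz_mem_commutator {c : Kˣ} (hc : c ≠ 1) (t u : K) : zz K ∈
    ⁅T.Fix ⊓ Subgroup.centralizer {T.y1 t u}, T.Fix ⊓ Subgroup.centralizer {T.y1 t u}⁆ := by
  have h0 : gen K 0 ∈ (R K).US (S 0) := q2_mem _ _
  have h1 : gen K 1 ∈ (R K).US (S 1) := q4_mem _ _ _ _
  have hy := T.y1_mem_US t u
  have key : ∀ (l : List (Fin 2)) (j : Fin 2) (i : ℕ), gen K i ∈ (R K).US (S j) →
      (∀ r ∈ (posS j).map (chevF4.actN (l.flatMap lw)), ∀ s ∈ posS 1, chevF4.Cm2 r s []) →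
      hw K (cjw l i) ∈ T.Fix ⊓ Subgroup.centralizer {T.y1 t u} := fun l j i hi h =>
    ⟨T.hw_mem _, Subgroup.mem_centralizer_singleton_iff.2 (commute_of_lset h
      (hw_cjw (K := K) l i ▸ nn_conj_mem_lset (fun r hr => List.mem_map_of_mem hr) hi) (US_eq (K := K) 1 ▸ hy))⟩
  have e : hw K (cjw [0] 0 ++ cjw [0, 1, 0] 1) =
      hw K ([1] ++ [1] ++ cjw [1] 0 ++ cjw [0, 1, 0] 1 ++ cjw [0] 0) := hw_eq (by decide +kernel)
  simp only [hw_append] at e
  have e' : zz K = ⁅hw K (cjw [0] 0), hw K (cjw [0, 1, 0] 1)⁆ * (hw K (cjw [1] 0))⁻¹ := by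
    rw [commutatorElement_def, e, zz, hw_cons, hw_nil, mul_one, gen_one]
    group
  rw [e']
  refine mul_mem (Subgroup.commutator_mem_commutator (key _ 0 _ h0 (by decide +kernel))
    (key _ 1 _ h1 (by decide +kernel))) (inv_mem ?_)
  have h2 := le_commutator_of_fpf (X := (R K).Up (tt K 1) ⊓ (T.Fix ⊓ Subgroup.centralizer {T.y1 t u}))
    (C := T.Fix ⊓ Subgroup.centralizer {T.y1 t u}) (h := T.hc c 1)
    ⟨T.hc_mem c 1, Subgroup.mem_centralizer_singleton_iff.2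
      (mul_inv_eq_iff_eq_mul.1 (T.hc_conj c 1 hy (T.y1_mem t u)))⟩ (fun x hx => ?_) fun x hx e =>
      RootBN.eq_one_of_mem_Um_Up (tt_mem_N 1) (T.sub.Um_t 1 ▸
        T.mem_US_of_hc_fix hc 1 (RootBN.Up_le_U _ hx.1) e) hx.1
  · refine Subgroup.commutator_mono le_rfl inf_le_right (h2 ⟨?_, key _ 0 _ h0 (by decide +kernel)⟩)
    rw [hw_cjw]
    refine (RootBN.mem_Up_iff (tt_mem_N 1)).2 ⟨nn_conj_mem_U (by decide +kernel) h0, ?_⟩
    have := nn_conj_mem_U (c := [1, 1]) (by decide +kernel) h0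
    rw [nn_cons] at this
    simpa only [mul_assoc, mul_inv_rev] using this
  · have h3 : T.hc c 1 ∈ T.Fix ⊓ Subgroup.centralizer {T.y1 t u} :=
      ⟨T.hc_mem c 1, Subgroup.mem_centralizer_singleton_iff.2
        (mul_inv_eq_iff_eq_mul.1 (T.hc_conj c 1 hy (T.y1_mem t u)))⟩
    exact ⟨RootBN.conj_H_XS (T.hc_mem_H c 1) hx.1, Subgroup.mul_mem _ (mul_mem h3 hx.2) (inv_mem h3)⟩

omit [Finite K] in
theorem eq_one_of_hh_mem_range {ψ : Matrix.SpecialLinearGroup (Fin 2) K →* Γ K}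
    (h1 : ∀ t, ψ (GT.slUp t) = T.y0 t) (h2 : ∀ t, ψ (GT.slLo t) = tt K 0 * T.y0 t * (tt K 0)⁻¹) {a b : Kˣ}
    (h : T.hh a b ∈ ψ.range) : b = 1 := by
  have h3 : ∀ r ∈ [33, 24, 14, 23], ∀ t : K, 𝐱 r t ∈ Subgroup.centralizer {𝐱 45 (1 : K)} := fun r hr t =>
    Subgroup.mem_centralizer_singleton_iff.2 (cm (by revert r; decide +kernel) _ _)
  have h4 := GT.eq_top_of_slUp_slLo_mem ((Subgroup.centralizer {𝐱 45 (1 : K)}).comap ψ)
    (fun t => by
      rw [Subgroup.mem_comap, h1]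
      exact mul_mem (h3 _ (by simp) _) (h3 _ (by simp) _))
    (fun t => by
      rw [Subgroup.mem_comap, h2, tt_conj_y0]
      exact mul_mem (h3 _ (by simp) _) (h3 _ (by simp) _))
  obtain ⟨g, hg⟩ := h
  have h5 : ψ g ∈ Subgroup.centralizer {𝐱 45 (1 : K)} := (show g ∈ _ from h4 ▸ Subgroup.mem_top g)
  have h6 := mul_inv_eq_iff_eq_mul.2 (Subgroup.mem_centralizer_singleton_iff.1 h5)
  have c1 : chevF4.cartan 0 45 = 0 ∧ chevF4.cartan 1 45 = 2 ∧ chevF4.cartan 2 45 = -1 ∧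
    chevF4.cartan 3 45 = 0 := by decide +kernel
  rw [hg, hh, tor_conj_X _ _ _ _ (by norm_num), mul_one] at h6
  refine T.eq_one_of_θ_zpow (i := 2) (j := -1) (by norm_num) ?_
  have h7 := chevF4.X_injective K (rt 45) h6
  rw [Units.val_eq_one] at h7
  simpa [c1] using h7

variable {E : Type*} [Group E] {σ : E →* T.Fix} (hp : IsCE σ)
include hp

omit [Finite K] in
theorem ker_comp_le : (T.Fix.subtype.comp σ).ker ≤ Subgroup.center E := fun _ he =>
  hp.cen (Subtype.ext he)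

omit [Finite K] in
theorem exists_comp_eq : ∀ g ∈ T.Fix, ∃ e, T.Fix.subtype.comp σ e = g := fun g hg =>
  (hp.surj ⟨g, hg⟩).imp fun _ h => congrArg Subtype.val h

theorem liftX_zero (hK : 4 < Nat.card K) :
    ∀ e ∈ T.relBN.liftX (T.Fix.subtype.comp σ) (T.relBN.simple 0), T.Fix.subtype.comp σ e = 1 → e = 1 := by
  obtain ⟨v, h0, h1, h2⟩ := exists_ne_root_six hK
  have hadd : ∀ t t', (⟨T.y0 (t + t'), T.y0_mem _⟩ : T.Fix) = ⟨T.y0 t, T.y0_mem _⟩ * ⟨T.y0 t', T.y0_mem _⟩ :=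
    fun t t' => Subtype.ext (T.y0_mul t t').symm
  have hk : ∀ v : K, ∀ hv : v ≠ 0, ∀ t, (⟨T.hh 1 (Units.mk0 v hv)⁻¹, T.hh_mem ..⟩ : T.Fix) *
      ⟨T.y0 t, T.y0_mem _⟩ * (⟨T.hh 1 (Units.mk0 v hv)⁻¹, T.hh_mem ..⟩ : T.Fix)⁻¹ =
      ⟨T.y0 (v * t), T.y0_mem _⟩ := fun v hv t => Subtype.ext ((T.hh_conj_y0 ..).trans (by simp))
  obtain ⟨y, y1, y2, y3⟩ := hp.exists_lift_of_sep hadd
    (hp.lc_self_of_scalars hadd (fun v hv => ⟨_, hk v hv⟩) h0 h1 h2) h1 (hk v h0)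
  obtain ⟨C, hC, hm⟩ := isLift_range (π := T.Fix.subtype.comp σ) (x := T.y0) y2
    (fun t => congrArg Subtype.val (y1 t)) (fun t => T.y0_eq_one.1) (N := T.relBN.X (T.relBN.simple 0))
    fun g => T.mem_relBN_simple.trans ⟨fun h => T.exists_y0 h.1 h.2, by
      rintro ⟨t, rfl⟩; exact ⟨T.y0_mem_US t, T.y0_mem t⟩⟩
  refine fun e he => hC.eq_one e (RootBN.liftX_le_of_isLift (T.ker_comp_le hp) hC (fun e he c hc => ?_) he)
  obtain ⟨a, b, h⟩ := T.exists_hh he.1 he.2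
  obtain ⟨t, ht⟩ := T.exists_y0 (T.mem_relBN_simple.1 (hC.map_mem c hc)).1 (σ c).2
  have h' : σ e = ⟨T.hh a b, T.hh_mem ..⟩ := Subtype.ext h
  rw [hC.eq_of_map_eq hc (hm t) (ht.trans (congrArg Subtype.val (y1 t)).symm),
    y3 e (a ^ 2 * b⁻¹ : Kˣ) (Subtype.ext (by
      change (σ e : Γ K) * T.hh _ _ = T.hh _ _ * σ e
      rw [h', hh_mul, hh_mul, mul_comm a, mul_comm b])) fun t => h' ▸ Subtype.ext (T.hh_conj_y0 ..)]
  exact hm _

end Tw

namespace Tw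

open Sz

variable {K : Type*} [Field K] {m : ℕ} [SzF K m] (T : Tw K) (hθ : ∀ x, T.θ x = thInv K x)
include hθ

theorem exists_sz' : ∃ ψ : Cfsg.Sz K m →* T.Fix, Function.Injective ψ ∧ (∀ s, (ψ s : Γ K) ∈ T.L1) ∧
    (∀ a b, (ψ (ue a b) : Γ K) = T.y1 (th K a) (a * th K a + b)) ∧ (ψ we : Γ K) = tt K 1 ∧
    (∀ k, (ψ (he k) : Γ K) = T.hh 1 (T.θu k ^ 2 * k)) ∧
    ∀ g, g ∈ (sylU K m).map ψ ↔ (g : Γ K) ∈ (R K).US (S 1) := by
  obtain ⟨ψ, h1, h2, h3, h4, h5⟩ := T.exists_sz hθ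
  have h6 : T.L1 ≤ T.Fix := (Subgroup.closure_le _).2 (by
    rintro _ (⟨t, u, rfl⟩ | ⟨b, rfl⟩ | rfl)
    exacts [T.y1_mem _ _, T.hh_mem _ _, T.tt_mem 1])
  have h7 : ∀ a b, ψ (ue a b) = T.y1 (th K a) (a * th K a + b) := fun a b => by
    simpa [hθ, ← add_assoc, CharTwo.add_self_eq_zero] using h3 (th K a) (a * th K a + b)
  have h8 : ∀ s, ψ s ∈ T.L1 := fun s => h2 ▸ ⟨s, rfl⟩
  refine ⟨ψ.codRestrict _ fun s => h6 (h8 s), fun a b e => h1 (congrArg Subtype.val e),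
    h8, h7, h4, h5, fun g => ⟨?_, fun hg => ?_⟩⟩
  · rintro ⟨_, ⟨a, b, rfl⟩, rfl⟩
    change ψ _ ∈ _
    rw [h7]
    exact T.y1_mem_US _ _
  · obtain ⟨t, u, h⟩ := T.exists_y1 hg g.2
    exact ⟨_, ue_mem_sylU _ _, Subtype.ext ((h3 t u).trans h.symm)⟩

theorem liftX_one {E : Type*} [Group E] {σ : E →* T.Fix} (hp : IsCE σ) :
    ∀ e ∈ T.relBN.liftX (T.Fix.subtype.comp σ) (T.relBN.simple 1), T.Fix.subtype.comp σ e = 1 → e = 1 := by
  obtain ⟨ψ, h1, -, h3, -, h5, h6⟩ := T.exists_sz' hθ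
  obtain ⟨k, hk0, hk1⟩ := exists_ne_zero_one K
  have hk : Units.mk0 k hk0 ≠ 1 := fun h => hk1 (congrArg Units.val h)
  obtain ⟨τ, hτ, h⟩ := hp.exists_pull ψ h1
  let C : CExt K m (ψ.range.comap σ) := ⟨τ, hτ.sec, hτ.map_sec, hτ.cen⟩
  have b1 : ∀ a, C.β a 1 = 1 := fun a => by
    refine commutatorElement_eq_one_iff_commute.2 (Subtype.ext ?_)
    have e1 : T.Fix.subtype.comp σ (hτ.sec (ue a 0)) = T.y1 (th K a) (a * th K a + 0) := by
      rw [← h3, ← hτ.map_sec (ue a 0), h, hτ.map_sec]; rfl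
    have e2 : T.Fix.subtype.comp σ (hτ.sec (ue 0 1)) = zz K := by
      rw [← T.y1_zero_one, ← show T.y1 (th K 0) (0 * th K 0 + 1) = T.y1 0 1 by simp, ← h3,
        ← hτ.map_sec (ue 0 1), h, hτ.map_sec]; rfl
    exact (commute_of_map_mem_commutator (T.ker_comp_le hp) (T.exists_comp_eq hp) inf_le_left
      (fun c hc => by rw [e1]; exact (Subgroup.mem_centralizer_singleton_iff.1 hc.2).symm)
      (e2 ▸ T.zz_mem_commutator hk _ _)).eq
  have b2 : ∀ a b, C.β a b = 1 := fun a b => by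
    obtain ⟨x, rfl⟩ := mul_th_surjective b
    by_cases hx : x = 0
    · simpa [hx] using C.β_add_right a 0 0
    · simpa [hx, b1] using C.β_inv x (x⁻¹ * a) 1 hx
  have hN : ∀ g : T.Fix, (g : Γ K) ∈ (R K).H → g ∈ Subgroup.normalizer ((sylU K m).map ψ : Set T.Fix) :=
    fun g hg x => by
      rw [SetLike.mem_coe, SetLike.mem_coe, h6, h6]
      exact ⟨RootBN.conj_H_XS hg, fun hx => by
        simpa [mul_assoc] using! RootBN.conj_H_XS (inv_mem hg) hx⟩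
  obtain ⟨D, hD, hs⟩ := exists_lift_of_fpf hp (Q := (sylU K m).map ψ) (fun e he h2 => by
      rw [comap_map_pull h1 h, ← Subgroup.map_commutator] at he
      obtain ⟨e, he, rfl⟩ := he
      exact congrArg Subtype.val (C.eq_one_of_β b2 he (h1 ((h e).trans (h2.trans (map_one ψ).symm)))))
    (τ := ψ (he (Units.mk0 k hk0))) (hN _ (h5 _ ▸ T.hh_mem_H _ _)) (by
      rw [← Subgroup.map_commutator, commutator_sylU]
      rintro _ ⟨_, ⟨a, b, rfl⟩, rfl⟩ hx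
      rw [← map_inv, ← map_inv, ← map_mul, ← map_mul, ← map_mul, Subgroup.mem_map_iff_mem h1, he_conj_ue,
        ue_inv, ue_mul, ue_mem_cenZ, Units.val_mk0] at hx
      refine Subgroup.mem_map_of_mem _ (ue_mem_cenZ.2 (mul_left_cancel₀ (sub_ne_zero.2 hk1) ?_))
      linear_combination hx - a * CharTwo.two_eq_zero (R := K))
  have hD' : IsLift (T.Fix.subtype.comp σ) (T.relBN.X (T.relBN.simple 1)) D :=
    ⟨fun e he => T.mem_relBN_simple.2 ⟨(h6 _).1 (hD.map_mem e he), (σ e).2⟩, fun g hg =>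
      (hD.exists_mem ⟨g, hg.2⟩ ((h6 _).2 (T.mem_relBN_simple.1 hg).1)).imp fun _ h =>
        ⟨h.1, congrArg Subtype.val h.2⟩, fun e he h => hD.eq_one e he (Subtype.ext h)⟩
  refine fun e he => hD'.eq_one e (RootBN.liftX_le_of_isLift (T.ker_comp_le hp) hD' (fun e he c hc => ?_) he)
  refine hp.conj_mem_of_stab (hs ⟨hN _ he.1, Subgroup.mem_centralizer_singleton_iff.2 (Subtype.ext ?_)⟩) hc
  obtain ⟨a, b, h⟩ := T.exists_hh he.1 he.2
  change (σ e : Γ K) * _ = _ * (σ e : Γ K)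
  rw [h5, show (σ e : Γ K) = _ from h, hh_mul, hh_mul, mul_comm a, mul_comm b]

theorem not_two_dvd_card_mult : ¬ 2 ∣ Nat.card (Mult T.Fix) := by
  obtain ⟨P, hP⟩ : ∃ P : Sylow 2 T.Fix, (P : Subgroup T.Fix) = ((R K).U ⊓ T.Fix).subgroupOf T.Fix :=
    Cl.CT.sub_exists_sylow T.sub T.isPGroup_U T.eq_one_of_mem_H_sq
  obtain ⟨k, hk0, hk1⟩ := exists_ne_zero_one K
  have hk : Units.mk0 k hk0 ≠ 1 := fun h => hk1 (congrArg Units.val h)
  refine not_dvd_card_mult_of_lift Nat.prime_two P P.not_dvd_index fun E _ _ σ hp _ => ?_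
  have h := RootBN.isLift_U (R := T.relBN) (T.exists_comp_eq hp) (T.ker_comp_le hp)
    (Fin.forall_fin_two.2 ⟨T.liftX_zero hp (lt_of_lt_of_le (by norm_num) (eight_le_card K)),
      T.liftX_one hθ hp⟩) (T.simple_le_commutator hk) (T.rel_le_commutator hk)
  rw [hP]
  exact ⟨_, h.map_mem, fun g hg => (h.exists_mem g hg).imp fun _ h => ⟨h.1, Subtype.ext h.2⟩,
    fun e he h' => h.eq_one e he (congrArg Subtype.val h')⟩

omit hθ in
/-- The rank one subgroups of the fixed group. -/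
noncomputable def LF (j : Fin 2) : Subgroup T.Fix :=
  Subgroup.closure {g | T.Fix.subtype g ∈ (R K).US (S j) ∨
    T.Fix.subtype ((⟨tt K j, T.tt_mem j⟩ : T.Fix)⁻¹ * g * ⟨tt K j, T.tt_mem j⟩) ∈ (R K).US (S j)}

omit hθ in
theorem exists_range_LF_zero : ∃ φ : Matrix.SpecialLinearGroup (Fin 2) K →* T.Fix, Function.Injective φ ∧
    φ.range = T.LF 0 ∧ (⟨tt K 0, T.tt_mem 0⟩ : T.Fix) ∈ T.LF 0 ∧
    ∀ g a b, (φ g : Γ K) = T.hh a b → b = 1 := by
  obtain ⟨φ, b1, b2, b3⟩ := T.exists_sl2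
  have b4 : ∀ g, φ g ∈ T.Fix := fun g => (show g ∈ T.Fix.comap φ from GT.eq_top_of_slUp_slLo_mem
    (T.Fix.comap φ) (fun t => by rw [Subgroup.mem_comap, b2]; exact T.y0_mem t) (fun t => by
      rw [Subgroup.mem_comap, b3]
      exact mul_mem (mul_mem (T.tt_mem 0) (T.y0_mem t)) (inv_mem (T.tt_mem 0))) ▸ Subgroup.mem_top g)
  have c0 : (φ.codRestrict _ b4).range = T.LF 0 := by
    refine le_antisymm ?_ ((Subgroup.closure_le _).2 ?_)
    · rintro _ ⟨g, rfl⟩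
      have := GT.eq_top_of_slUp_slLo_mem ((T.LF 0).comap (φ.codRestrict _ b4))
        (fun t => Subgroup.subset_closure (Or.inl (by simpa [b2] using T.y0_mem_US t)))
        (fun t => Subgroup.subset_closure (Or.inr (by simpa [b3, mul_assoc] using T.y0_mem_US t)))
      exact (show g ∈ (T.LF 0).comap (φ.codRestrict _ b4) from this ▸ Subgroup.mem_top g)
    · rintro g (hg | hg)
      · obtain ⟨t, h⟩ := T.exists_y0 hg g.2
        exact ⟨GT.slUp t, Subtype.ext ((b2 t).trans h.symm)⟩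
      · obtain ⟨t, h⟩ := T.exists_y0 hg (T.Fix.mul_mem (T.Fix.mul_mem (T.Fix.inv_mem (T.tt_mem 0)) g.2)
          (T.tt_mem 0))
        exact ⟨GT.slLo t, Subtype.ext ((b3 t).trans (by simp [← h, mul_assoc]))⟩
  refine ⟨φ.codRestrict _ b4, fun x y e => b1 (congrArg Subtype.val e), c0, c0.le
    ⟨GT.slUp 1 * GT.slLo 1 * GT.slUp 1, Subtype.ext ?_⟩, fun g a b h =>
      T.eq_one_of_hh_mem_range b2 b3 ⟨g, h⟩⟩
  simpa [b2, b3, hh_one] using T.y0_rank_one 1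

theorem exists_range_LF_one : ∃ ψ : Cfsg.Sz K m →* T.Fix, Function.Injective ψ ∧
    ψ.range = T.LF 1 ∧ (⟨tt K 1, T.tt_mem 1⟩ : T.Fix) ∈ T.LF 1 ∧
    ∀ g a b, (ψ g : Γ K) = T.hh a b → a = 1 := by
  obtain ⟨ψ, a1, a2, a3, a4, -, a6⟩ := T.exists_sz' hθ
  have e : ψ we = ⟨tt K 1, T.tt_mem 1⟩ := Subtype.ext a4
  have c1 : ψ.range = T.LF 1 := by
    refine le_antisymm ?_ ((Subgroup.closure_le _).2 ?_)
    · rintro _ ⟨g, rfl⟩
      suffices h : (T.LF 1).comap ψ = ⊤ from (show g ∈ (T.LF 1).comap ψ from h ▸ Subgroup.mem_top g)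
      refine eq_top_of_sylAt_le (P := inf) (fun x hx => ?_) (fun h => ?_)
      · rw [sylAt_inf] at hx
        exact Subgroup.subset_closure (Or.inl ((a6 _).1 (Subgroup.mem_map_of_mem _ hx)))
      · have := h (x := we * ue 0 1 * we⁻¹) (Subgroup.subset_closure (Or.inr (by
          rw [← e, ← map_inv, ← map_mul, ← map_mul,
            show we⁻¹ * (we * ue 0 1 * we⁻¹) * we = (ue 0 1 : Cfsg.Sz K m) by group]
          exact (a6 _).1 (Subgroup.mem_map_of_mem _ (ue_mem_sylU 0 1)))))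
        simp [mul_smul, we_smul_pt] at this
    · rintro g (hg | hg)
      · obtain ⟨x, -, h⟩ := (a6 _).2 hg
        exact ⟨x, h⟩
      · obtain ⟨x, -, h⟩ := (a6 ((⟨tt K 1, T.tt_mem 1⟩ : T.Fix)⁻¹ * g * (⟨tt K 1, T.tt_mem 1⟩ : T.Fix))).2 hg
        exact ⟨we * x * we⁻¹, by rw [map_mul, map_mul, map_inv, h, e]; group⟩
  exact ⟨ψ, a1, c1, c1.le ⟨we, e⟩, fun g a b h => T.eq_one_of_hh_mem_L1 (h ▸ a2 g)⟩

theorem exists_splitSys : ∃ Sy : SplitSys T.Fix (Fin 2), Sy.U = (R K).U.comap T.Fix.subtype ∧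
    Sy.H = (R K).H.comap T.Fix.subtype ∧ ∀ j, Sy.L j = T.LF j := by
  obtain ⟨-, -, -, c0, -⟩ := T.exists_range_LF_zero
  obtain ⟨-, -, -, c1, -⟩ := T.exists_range_LF_one hθ
  let s : Fin 2 → T.Fix := fun j => ⟨tt K j, T.tt_mem j⟩
  refine ⟨SplitSys.ofSub T.sub T.Fix.subtype T.Fix.subtype_injective
    (fun g => ⟨fun h => ⟨⟨g, h⟩, rfl⟩, fun ⟨x, h⟩ => h ▸ x.2⟩) s (fun _ => rfl)
    (Fin.forall_fin_two.2 ⟨c0, c1⟩) ?_, rfl, rfl, fun _ => rfl⟩
  have ht : ∀ j, tt K j ∈ (((R K).U.comap T.Fix.subtype ⊔ Subgroup.closure (Set.range s)).map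
      T.Fix.subtype) := fun j => ⟨s j, Subgroup.mem_sup_right (Subgroup.subset_closure ⟨j, rfl⟩), rfl⟩
  have hU : ∀ u ∈ (R K).U, u ∈ T.Fix → u ∈ (((R K).U.comap T.Fix.subtype ⊔
      Subgroup.closure (Set.range s)).map T.Fix.subtype) := fun u hu hF =>
    ⟨⟨u, hF⟩, Subgroup.mem_sup_left hu, rfl⟩
  have h0 := fun t => hU _ (T.y0_mem_U t) (T.y0_mem t)
  have h1 := fun t u => hU _ (T.y1_mem_U t u) (T.y1_mem t u)
  refine eq_top_iff.2 fun g _ => (Subgroup.mem_map_iff_mem T.Fix.subtype_injective).1 (T.Fix_le h0 h1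
    (fun t => mul_mem (mul_mem (ht 0) (h0 t)) (inv_mem (ht 0)))
    (mul_mem (mul_mem (ht 1) (h1 0 1)) (inv_mem (ht 1))) g.2)

theorem multiplier_one : HasCyclicSchurMultiplier T.Fix 1 := by
  refine hasCyclicSchurMultiplier_one_of_prime fun r hr E _ _ σ hσ hk => ?_
  by_cases h2 : r = 2
  · exact T.not_two_dvd_card_mult hθ (h2 ▸ (prime_dvd_card_mult_iff hr).2 ⟨E, _, ‹_›, σ, hσ, hk⟩)
  obtain ⟨φ, b1, c0, -, b2⟩ := T.exists_range_LF_zero
  obtain ⟨ψ, a1, c1, -, a2⟩ := T.exists_range_LF_one hθ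
  obtain ⟨Sy, sU, sH, sL⟩ := T.exists_splitSys hθ
  rw [← sL] at c0 c1
  have hU : IsPGroup 2 Sy.U := by
    rw [sU]
    intro x
    obtain ⟨k, h⟩ := T.isPGroup_U ⟨x.1.1, x.2, x.1.2⟩
    have h' : (x.1.1 : Γ K) ^ 2 ^ k = 1 := congrArg Subtype.val h
    exact ⟨k, Subtype.ext (Subtype.ext h')⟩
  have hr2 : r.Coprime 2 := (Nat.coprime_primes hr Nat.prime_two).2 h2
  have : σ.ker = ⊥ := eq_bot_iff.2 fun z hz => by
    obtain ⟨t, ht, e⟩ := Sy.exists_prod_of_mem_ker hσ (hk ▸ hr2) hU [0, 1] (by decide) (by decide) hz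
    simp only [List.map_cons, List.map_nil, List.prod_cons, List.prod_nil, mul_one] at e
    have ht' : ∀ j, (σ (t j) : Γ K) ∈ (R K).H := fun j => by
      have := (ht j).2
      rwa [sH] at this
    obtain ⟨a, b, e0⟩ := T.exists_hh (ht' 0) (σ (t 0)).2
    obtain ⟨c, d, e1⟩ := T.exists_hh (ht' 1) (σ (t 1)).2
    obtain rfl : b = 1 := by
      obtain ⟨g, hg⟩ := c0.ge (SplitSys.map_mem_L (ht 0).1)
      exact b2 g _ _ ((congrArg Subtype.val hg).trans e0)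
    obtain rfl : c = 1 := by
      obtain ⟨g, hg⟩ := c1.ge (SplitSys.map_mem_L (ht 1).1)
      exact a2 g _ _ ((congrArg Subtype.val hg).trans e1)
    have e2 : T.hh (a * 1) (1 * d) = T.hh 1 1 := by
      rw [← hh_mul, hh_one, ← e0, ← e1, ← Subgroup.coe_mul, ← map_mul, ← e, show σ z = 1 from hz,
        Subgroup.coe_one]
    obtain ⟨e3, e4⟩ := T.hh_inj e2
    rw [mul_one] at e3
    rw [one_mul] at e4
    rw [e3, hh_one] at e0
    rw [e4, hh_one] at e1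
    rw [e, SplitSys.eq_one_of_mem_Lt ⟨hσ.1, hσ.2.1⟩ hr hk hr2 hU φ b1 c0
        (not_dvd_card_mult_sl2_of_ne_char 2 hr h2) (ht 0).1
        (Subtype.ext e0), SplitSys.eq_one_of_mem_Lt ⟨hσ.1, hσ.2.1⟩ hr hk hr2 hU ψ a1 c1
        (Sz.not_dvd_card_mult hr h2) (ht 1).1 (Subtype.ext e1), one_mul]
    exact one_mem _
  rw [this, Subgroup.card_bot] at hk
  exact hr.one_lt.ne hk

end Tw

end Cfsg.Agent.Chev.F4T
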