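import Mathlib
import Cfsg.Agent.S5743
import Cfsg.Prelude.Def_KGroupFacts

/-!
# Absolutely irreducible subgroups of ²E₆(2) and their images under the diagonal automorphism
-/

set_option autoImplicit false

namespace Cfsg.Agent.Chev.Fi

open Cfsg.Lie Cfsg.Lie.ChevalleyDatum

variable {K : Type*} [Field K]

theorem exists_three [Fintype K] (hK : Fintype.card K = 4) {A : Type*} [Group A] (hA : Nat.card (Out A) = 2)
    (ψ : A →* twistedE6 K 2) (hψ : Function.Injective ψ) (hs : ∀ y : Matrix chevE6.Idx chevE6.Idx K,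
      (∀ a, Commute y (ψ a : GL chevE6.Idx K)) → ∃ c : K, y = c • (1 : Matrix _ _ K)) :
    ∃ H : Fin 3 → Subgroup (twistedE6 K 2), (∀ i, Nonempty (H i ≃* A)) ∧
      ∀ i j, i ≠ j → ∀ g : twistedE6 K 2, (H i).map (MulAut.conj g).toMonoidHom ≠ H j := by
  obtain ⟨f, hf⟩ := tw_exists_frob (K := K) (q := 2) (n := 2) Nat.prime_two.isPrimePow (by norm_num) hK
  revert ψ
  rw [← twE6_G1 (q := 2) hK hf]
  intro ψ hψ hs
  have h3 : ∀ u : Kˣ, u ^ 3 = 1 := fun u => by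
    classical
    have := pow_card_eq_one (x := u)
    rwa [Fintype.card_units, hK] at this
  obtain ⟨ω, hω0, hω⟩ := tw_exists_sq_ne_one (K := K) hK.ge
  lift ω to Kˣ using hω0.isUnit
  have hω2 : f (ω ^ 2 : Kˣ) = ω := by
    rw [hf, ← Units.val_pow_eq_pow_val, ← pow_mul, show 2 * 2 = 3 + 1 from rfl, pow_succ, h3, one_mul]
  let c : (twE6 f).C := ⟨show Fin 6 → Kˣ from ![ω, 1, 1, 1, 1, ω ^ 2], (twE6_mem_C f).2
    ⟨(Units.val_pow_eq_pow_val ω 2).trans (hf _).symm, (map_one f).symm, (map_one f).symm, (map_one f).symm,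
      (map_one f).symm, hω2.symm⟩⟩
  have hc : S5743.inv3 c.1 = ω ^ 2 := by
    change ω * 1 ^ 2 * 1 * (ω ^ 2) ^ 2 = _
    rw [one_pow, mul_one, mul_one, ← pow_mul, ← pow_succ', show 2 * 2 + 1 = 3 + 2 from rfl, pow_add, h3, one_mul]
  refine ⟨fun i => ((Twist.dfAut (c ^ i.1) 1).toMonoidHom.comp ψ).range, fun i =>
    ⟨(MonoidHom.ofInjective ((Twist.dfAut (c ^ i.1) 1).injective.comp hψ)).symm⟩, fun i j hij g e => ?_⟩
  let x : MulAut (twE6 f).G1 := (Twist.dfAut (c ^ j.1) 1)⁻¹ * MulAut.conj g * Twist.dfAut (c ^ i.1) 1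
  have hx : ψ.range.map x.toMonoidHom = ψ.range := by
    have := congrArg (Subgroup.map (Twist.dfAut (c ^ j.1) 1)⁻¹.toMonoidHom) e
    beta_reduce at this
    rw [MonoidHom.range_comp, MonoidHom.range_comp, Subgroup.map_map, Subgroup.map_map, Subgroup.map_map] at this
    refine this.trans ?_
    convert Subgroup.map_id _
    ext y
    simp
  let α : MulAut A := ((MonoidHom.ofInjective hψ).trans ((x.subgroupMap _).trans
    (MulEquiv.subgroupCongr hx))).trans (MonoidHom.ofInjective hψ).symm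
  have hα : ∀ a, ψ (α a) = x (ψ a) := fun a => MonoidHom.apply_ofInjective_symm hψ _
  obtain ⟨a, ha⟩ : α ^ 2 ∈ Inn A := by
    rw [← QuotientGroup.eq_one_iff, QuotientGroup.mk_pow, ← hA, pow_card_eq_one']
  set D := chevE6.diagGL K with hD
  have hN : ∀ e, D e ∈ Subgroup.normalizer (chevE6.group K : Set (GL chevE6.Idx K)) := fun e =>
    chevE6.charG_mem_normalizer K (chevE6.isRootCharacter_chr e)
  have hx' : ∀ z, (x z : GL chevE6.Idx K) = ((D (c ^ j.1).1)⁻¹ * g * D (c ^ i.1).1) * z *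
      ((D (c ^ j.1).1)⁻¹ * g * D (c ^ i.1).1)⁻¹ := fun z => by
    have h1 : D (c ^ j.1).1 * x z * (D (c ^ j.1).1)⁻¹ = g * (D (c ^ i.1).1 * z * (D (c ^ i.1).1)⁻¹) *
        (g : GL chevE6.Idx K)⁻¹ :=
      congrArg Subtype.val ((Twist.dfAut (c ^ j.1) 1).apply_symm_apply
        (MulAut.conj g (Twist.dfAut (c ^ i.1) 1 z)))
    rw [← inv_mul_cancel_left (D (c ^ j.1).1) (x z), ← inv_mul_cancel_right (D (c ^ j.1).1 * x z) (D (c ^ j.1).1), h1]
    group
  obtain ⟨e', he'⟩ : ∃ e', e' = (c ^ j.1).1⁻¹ * (c ^ i.1).1 := ⟨_, rfl⟩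
  obtain ⟨g', hg', hX⟩ : ∃ g' ∈ chevE6.group K, (D (c ^ j.1).1)⁻¹ * g * D (c ^ i.1).1 = g' * D e' :=
    ⟨_, (Subgroup.mem_normalizer_iff.1 (inv_mem (hN (c ^ j.1).1)) _).1 (Twist.G1_le_group _ g.2), by
      rw [he', map_mul, map_inv]; group⟩
  rw [hX] at hx'
  obtain ⟨l, hl⟩ := hs (((ψ a : GL chevE6.Idx K)⁻¹ * (g' * (D e' * g' * (D e')⁻¹)) * D (e' * e') : GL _ K)) fun b => by
    rw [Commute.units_val_iff]
    have h1 := congrArg (fun β : MulAut A => (ψ (β b) : GL chevE6.Idx K)) ha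
    simp only [sq, MulAut.mul_apply, MulAut.conj_apply, map_mul, map_inv, hα, hx', Subgroup.coe_mul,
      Subgroup.coe_inv] at h1
    rw [map_mul, Commute, SemiconjBy]
    generalize D e' = d at h1 ⊢
    calc _ = (ψ a : GL chevE6.Idx K)⁻¹ * (g' * d * (g' * d * ψ b * (g' * d)⁻¹) * (g' * d)⁻¹) * (g' * d * (g' * d)) := by
          group
      _ = _ := by rw [← h1]; group
  obtain ⟨c', hc'⟩ := exists_torus_of_commute (mul_mem (inv_mem (Twist.G1_le_group _ (ψ a).2)) (mul_mem hg'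
      ((Subgroup.mem_normalizer_iff.1 (hN e') _).1 hg'))) (chevE6.isRootCharacter_chr (e' * e')) fun k =>
    ⟨_, ⟨1, one_mem _, rfl⟩, Units.ext (by
      change _ * _ = _ * _
      erw [hl]
      simp)⟩
  have h5 : (fun j => ∏ i, c' i ^ chevE6.cartan i (chevE6.sr j)) * (e' * e') = 1 := funext fun j => by
    have := hc' j
    rwa [chr_sr] at this
  have h6 := congrArg S5743.inv3 h5
  rw [map_mul, S5743.inv3_torus, h3, one_mul, map_one, map_mul] at h6
  have h4 : S5743.inv3 e' = 1 := by rw [← h3 (S5743.inv3 e'), pow_succ, sq, h6, one_mul]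
  rw [he', map_mul, map_inv, inv_mul_eq_one, Subgroup.coe_pow, Subgroup.coe_pow, map_pow, map_pow, hc] at h4
  have h7 : orderOf (ω ^ 2) = 3 := by
    have : Fact (Nat.Prime 3) := ⟨Nat.prime_three⟩
    exact orderOf_eq_prime (h3 _) fun h => hω (congrArg Units.val h)
  rw [pow_eq_pow_iff_modEq, h7] at h4
  exact hij (Fin.ext (Nat.ModEq.eq_of_lt_of_lt h4 j.2 i.2).symm)

end Cfsg.Agent.Chev.Fi
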