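import Mathlib
import Cfsg.Agent.Chev.G2Rep

/-!
# Invariant forms of `G₂(K)` on the 7-dimensional module; triangular form of elements
-/

set_option autoImplicit false
set_option linter.unnecessarySeqFocus false

namespace Cfsg.Agent.Chev.G2

open Cfsg.Lie Cfsg.Lie.ChevalleyDatum
open scoped Matrix

section ring

variable {K : Type*} [CommRing K]

/-- The invariant quadratic form. -/
def qf (v : Fin 7 → K) : K := v 0 * v 6 - v 1 * v 5 + v 2 * v 4 - v 3 ^ 2

/-- The polar form of `qf`. -/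
def bf (x y : Fin 7 → K) : K :=
  x 0 * y 6 + x 6 * y 0 - x 1 * y 5 - x 5 * y 1 + x 2 * y 4 + x 4 * y 2 - 2 * x 3 * y 3

/-- A `3 × 3` minor. -/
def mn (i j k : Fin 7) (x y z : Fin 7 → K) : K :=
  x i * (y j * z k - y k * z j) - x j * (y i * z k - y k * z i) + x k * (y i * z j - y j * z i)

/-- The invariant alternating trilinear form. -/
def tf (x y z : Fin 7 → K) : K :=
  mn 0 4 5 x y z + mn 1 2 6 x y z - mn 0 3 6 x y z - mn 1 3 5 x y z + mn 2 3 4 x y z

theorem qf_add (x y : Fin 7 → K) : qf (x + y) = qf x + qf y + bf x y := by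
  simp only [qf, bf, Pi.add_apply]; ring

theorem qf_smul (c : K) (x : Fin 7 → K) : qf (c • x) = c ^ 2 * qf x := by
  simp only [qf, Pi.smul_apply, smul_eq_mul]; ring

theorem bf_self (x : Fin 7 → K) : bf x x = 2 * qf x := by simp only [qf, bf]; ring

theorem bf_comm (x y : Fin 7 → K) : bf x y = bf y x := by simp only [bf]; ring

theorem bf_smul_left (c : K) (x y : Fin 7 → K) : bf (c • x) y = c * bf x y := by
  simp only [bf, Pi.smul_apply, smul_eq_mul]; ring

theorem bf_smul_right (c : K) (x y : Fin 7 → K) : bf x (c • y) = c * bf x y := by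
  simp only [bf, Pi.smul_apply, smul_eq_mul]; ring

theorem bf_add_right (x y z : Fin 7 → K) : bf x (y + z) = bf x y + bf x z := by
  simp only [bf, Pi.add_apply]; ring

variable (K) in
/-- The polar form as a bilinear form. -/
def bfL : LinearMap.BilinForm K (Fin 7 → K) :=
  LinearMap.mk₂ K bf (fun x y z => by rw [bf_comm, bf_add_right, bf_comm z, bf_comm z])
    bf_smul_left bf_add_right (fun c x y => bf_smul_right c x y)

theorem bfL_apply (x y : Fin 7 → K) : bfL K x y = bf x y := rfl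

variable (t : K) (v : Fin 7 → K)

theorem Y0 : Y 0 t *ᵥ v = ![v 0, v 1, v 2, v 3, v 4, v 5 - t * v 0, v 6 - t * v 1] := by
  funext i; rw [Y_mulVec]; fin_cases i <;> simp [sp] <;> ring
theorem Y1 : Y 1 t *ᵥ v = ![v 0, v 1, v 2, v 3, v 4 + t * v 0, v 5, v 6 - t * v 2] := by
  funext i; rw [Y_mulVec]; fin_cases i <;> simp [sp] <;> ring
theorem Y2 : Y 2 t *ᵥ v = ![v 0, v 1, v 2, v 3 - t * v 0, v 4 + t * v 1, v 5 + t * v 2,
    v 6 - 2 * t * v 3 + t ^ 2 * v 0] := by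
  funext i; rw [Y_mulVec]; fin_cases i <;> simp [sp] <;> ring
theorem Y3 : Y 3 t *ᵥ v = ![v 0, v 1, v 2 - t * v 0, v 3 + t * v 1, v 4,
    v 5 - 2 * t * v 3 - t ^ 2 * v 1, v 6 + t * v 4] := by
  funext i; rw [Y_mulVec]; fin_cases i <;> simp [sp] <;> ring
theorem Y4 : Y 4 t *ᵥ v = ![v 0, v 1 + t * v 0, v 2, v 3 + t * v 2,
    v 4 + 2 * t * v 3 + t ^ 2 * v 2, v 5, v 6 + t * v 5] := by
  funext i; rw [Y_mulVec]; fin_cases i <;> simp [sp] <;> ring
theorem Y5 : Y 5 t *ᵥ v = ![v 0, v 1, v 2 + t * v 1, v 3, v 4, v 5 + t * v 4, v 6] := by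
  funext i; rw [Y_mulVec]; fin_cases i <;> simp [sp]
theorem Y6 : Y 6 t *ᵥ v = ![v 0, v 1 + t * v 2, v 2, v 3, v 4 + t * v 5, v 5, v 6] := by
  funext i; rw [Y_mulVec]; fin_cases i <;> simp [sp]
theorem Y7 : Y 7 t *ᵥ v = ![v 0 + t * v 1, v 1, v 2 + 2 * t * v 3 + t ^ 2 * v 4, v 3 + t * v 4,
    v 4, v 5 + t * v 6, v 6] := by
  funext i; rw [Y_mulVec]; fin_cases i <;> simp [sp] <;> ring
theorem Y8 : Y 8 t *ᵥ v = ![v 0 - t * v 2, v 1 + 2 * t * v 3 - t ^ 2 * v 5, v 2, v 3 - t * v 5,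
    v 4 + t * v 6, v 5, v 6] := by
  funext i; rw [Y_mulVec]; fin_cases i <;> simp [sp] <;> ring
theorem Y9 : Y 9 t *ᵥ v = ![v 0 - 2 * t * v 3 + t ^ 2 * v 6, v 1 + t * v 4, v 2 + t * v 5,
    v 3 - t * v 6, v 4, v 5, v 6] := by
  funext i; rw [Y_mulVec]; fin_cases i <;> simp [sp] <;> ring
theorem Y10 : Y 10 t *ᵥ v = ![v 0 + t * v 4, v 1, v 2 - t * v 6, v 3, v 4, v 5, v 6] := by
  funext i; rw [Y_mulVec]; fin_cases i <;> simp [sp] <;> ring
theorem Y11 : Y 11 t *ᵥ v = ![v 0 - t * v 5, v 1 - t * v 6, v 2, v 3, v 4, v 5, v 6] := by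
  funext i; rw [Y_mulVec]; fin_cases i <;> simp [sp] <;> ring

theorem qf_Y {r : ℕ} (hr : r < 12) : qf (Y r t *ᵥ v) = qf v := by
  interval_cases r <;>
    simp only [Y0, Y1, Y2, Y3, Y4, Y5, Y6, Y7, Y8, Y9, Y10, Y11, qf, Matrix.cons_val] <;> ring

theorem tf_Y {r : ℕ} (hr : r < 12) (w z : Fin 7 → K) :
    tf (Y r t *ᵥ v) (Y r t *ᵥ w) (Y r t *ᵥ z) = tf v w z := by
  interval_cases r <;>
    simp only [Y0, Y1, Y2, Y3, Y4, Y5, Y6, Y7, Y8, Y9, Y10, Y11, tf, mn, Matrix.cons_val] <;> ring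

theorem det_Y {r : ℕ} (hr : r < 12) : (Y r t).det = 1 := by
  rcases lt_or_ge r 6 with h | h
  · rw [Matrix.det_of_isLowerTriangular]
    · interval_cases r <;> simp [Y, sp, Fin.prod_univ_seven]
    · intro i j hij
      interval_cases r <;> fin_cases i <;> fin_cases j <;> first | exact absurd hij (by decide) | simp [Y, sp]
  · rw [Matrix.det_of_isUpperTriangular]
    · interval_cases r <;> simp [Y, sp, Fin.prod_univ_seven]
    · intro i j hij
      interval_cases r <;> fin_cases i <;> fin_cases j <;> first | exact absurd hij (by decide) | simp [Y, sp]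

end ring

section field

variable {K : Type*} [Field K]

theorem qf_rho (g : chevG2.group K) (v : Fin 7 → K) : qf (rho K g *ᵥ v) = qf v := by
  induction g using g2_induction with
  | h1 => simp
  | hx r hr t g ih => rw [map_mul, rho_XG hr, ← Matrix.mulVec_mulVec, qf_Y _ _ hr, ih]

theorem bf_rho (g : chevG2.group K) (v w : Fin 7 → K) :
    bf (rho K g *ᵥ v) (rho K g *ᵥ w) = bf v w := by
  have := qf_rho g (v + w)
  rw [Matrix.mulVec_add, qf_add, qf_add, qf_rho, qf_rho] at this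
  exact add_left_cancel this

theorem tf_rho (g : chevG2.group K) (v w z : Fin 7 → K) :
    tf (rho K g *ᵥ v) (rho K g *ᵥ w) (rho K g *ᵥ z) = tf v w z := by
  induction g using g2_induction with
  | h1 => simp
  | hx r hr t g ih =>
    rw [map_mul, rho_XG hr, ← Matrix.mulVec_mulVec, ← Matrix.mulVec_mulVec, ← Matrix.mulVec_mulVec,
      tf_Y _ _ hr, ih]

theorem det_rho (g : chevG2.group K) : (rho K g).det = 1 := by
  induction g using g2_induction with
  | h1 => simp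
  | hx r hr t g ih => rw [map_mul, rho_XG hr, Matrix.det_mul, det_Y _ hr, ih, mul_one]

theorem rho_mul_mulVec (g h : chevG2.group K) (v : Fin 7 → K) :
    rho K (g * h) *ᵥ v = rho K g *ᵥ rho K h *ᵥ v := by rw [map_mul, Matrix.mulVec_mulVec]

theorem rho_inv_mulVec (g : chevG2.group K) (v : Fin 7 → K) : rho K g⁻¹ *ᵥ rho K g *ᵥ v = v := by
  rw [← rho_mul_mulVec, inv_mul_cancel, map_one, Matrix.one_mulVec]

theorem rho_mulVec_inv (g : chevG2.group K) (v : Fin 7 → K) : rho K g *ᵥ rho K g⁻¹ *ᵥ v = v := by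
  rw [← rho_mul_mulVec, mul_inv_cancel, map_one, Matrix.one_mulVec]

theorem bfL_nondeg (h2 : (2 : K) ≠ 0) (u : Fin 7 → K) (h : ∀ v, bfL K u v = 0) : u = 0 := by
  have h' := fun i => h (Pi.single i 1)
  have k0 := h' 0; have k1 := h' 1; have k2 := h' 2; have k3 := h' 3
  have k4 := h' 4; have k5 := h' 5; have k6 := h' 6
  simp [bfL_apply, bf, h2] at k0 k1 k2 k3 k4 k5 k6
  funext i; fin_cases i <;> simp [*]

theorem exists_clear {v : Fin 7 → K} (hq : qf v = 0) (h0 : v 0 ≠ 0) :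
    ∃ g : chevG2.group K, rho K g *ᵥ v = Pi.single 0 (v 0) := by
  set t4 := - v 1 / v 0
  set w4 := Y 4 t4 *ᵥ v with e4
  set w3 := Y 3 (w4 2 / v 0) *ᵥ w4 with e3
  set w2 := Y 2 (w3 3 / v 0) *ᵥ w3 with e2
  set w1 := Y 1 (- w2 4 / v 0) *ᵥ w2 with e1
  set w0 := Y 0 (w1 5 / v 0) *ᵥ w1 with e0
  have q0 : qf w0 = 0 := by
    rw [e0, qf_Y _ _ (by norm_num), e1, qf_Y _ _ (by norm_num), e2, qf_Y _ _ (by norm_num), e3,
      qf_Y _ _ (by norm_num), e4, qf_Y _ _ (by norm_num), hq]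
  refine ⟨chevG2.XG K 0 (w1 5 / v 0) * (chevG2.XG K 1 (- w2 4 / v 0) * (chevG2.XG K 2 (w3 3 / v 0) *
    (chevG2.XG K 3 (w4 2 / v 0) * chevG2.XG K 4 t4))), ?_⟩
  simp only [rho_mul_mulVec, rho_XG, Nat.ofNat_pos, Nat.one_lt_ofNat, Nat.reduceLT]
  rw [← e4, ← e3, ← e2, ← e1, ← e0]
  have a4 : w4 0 = v 0 ∧ w4 1 = 0 := by
    rw [e4, Y4]; simp only [Matrix.cons_val, t4, true_and]; field_simp; ring
  have a3 : w3 0 = v 0 ∧ w3 1 = 0 ∧ w3 2 = 0 := by
    rw [e3, Y3]; simp only [Matrix.cons_val, a4.1, a4.2, true_and]; field_simp; ring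
  have a2 : w2 0 = v 0 ∧ w2 1 = 0 ∧ w2 2 = 0 ∧ w2 3 = 0 := by
    rw [e2, Y2]; simp only [Matrix.cons_val, a3.1, a3.2.1, a3.2.2, true_and]; field_simp; ring
  have a1 : w1 0 = v 0 ∧ w1 1 = 0 ∧ w1 2 = 0 ∧ w1 3 = 0 ∧ w1 4 = 0 := by
    rw [e1, Y1]; simp only [Matrix.cons_val, a2.1, a2.2.1, a2.2.2.1, a2.2.2.2, true_and]
    field_simp; ring
  have a0 : w0 0 = v 0 ∧ w0 1 = 0 ∧ w0 2 = 0 ∧ w0 3 = 0 ∧ w0 4 = 0 ∧ w0 5 = 0 := by
    rw [e0, Y0]; simp only [Matrix.cons_val, a1.1, a1.2.1, a1.2.2.1, a1.2.2.2.1, a1.2.2.2.2, true_and]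
    field_simp; ring
  obtain ⟨b0, b1, b2, b3, b4, b5⟩ := a0
  simp only [qf, b0, b1, b2, b3, zero_mul, sub_zero, add_zero, ne_eq, OfNat.ofNat_ne_zero,
    not_false_eq_true, zero_pow, mul_eq_zero, h0, false_or] at q0
  funext i; fin_cases i <;> simp [b0, b1, b2, b3, b4, b5, q0]

/-- The group is transitive on singular points. -/
theorem exists_to_e0 {v : Fin 7 → K} (hq : qf v = 0) (h0 : v ≠ 0) :
    ∃ (g : chevG2.group K) (c : K), c ≠ 0 ∧ rho K g *ᵥ v = Pi.single 0 c := by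
  suffices h : ∃ g : chevG2.group K, (rho K g *ᵥ v) 0 ≠ 0 by
    obtain ⟨g, hg⟩ := h
    obtain ⟨g', hg'⟩ := exists_clear ((qf_rho g v).trans hq) hg
    exact ⟨g' * g, _, hg, by rw [rho_mul_mulVec, hg']⟩
  by_contra! h
  have a0 := h 1
  have a1 := h (chevG2.XG K 7 1)
  have a2 := h (chevG2.XG K 8 1)
  have a4 := h (chevG2.XG K 10 1)
  have a5 := h (chevG2.XG K 11 1)
  have a6 := h (chevG2.XG K 9 1)
  rw [map_one, Matrix.one_mulVec] at a0
  rw [rho_XG (by norm_num)] at a1 a2 a4 a5 a6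
  simp only [Y7, Y8, Y9, Y10, Y11, Matrix.cons_val, a0, one_mul, zero_add, zero_sub, neg_eq_zero,
    mul_one, one_pow] at a1 a2 a4 a5 a6
  have a3 : v 3 = 0 := by simpa [qf, *] using hq
  simp only [a3, mul_zero, neg_zero, zero_add] at a6
  apply h0
  funext i; fin_cases i <;> simp [*]

theorem col_eq (M : Matrix (Fin 7) (Fin 7) K) (i j : Fin 7) : (M *ᵥ Pi.single j 1) i = M i j := by
  rw [Matrix.mulVec_single_one]; rfl

/-- A stabiliser of the first basis line stabilises the span of the first three basis vectors. -/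
theorem stab_W {g : chevG2.group K} {c : K} (h : rho K g *ᵥ Pi.single 0 1 = Pi.single 0 c)
    {w : Fin 7 → K} (h3 : w 3 = 0) (h4 : w 4 = 0) (h5 : w 5 = 0) (h6 : w 6 = 0) :
    (rho K g *ᵥ w) 3 = 0 ∧ (rho K g *ᵥ w) 4 = 0 ∧ (rho K g *ᵥ w) 5 = 0 ∧ (rho K g *ᵥ w) 6 = 0 := by
  have hc : c ≠ 0 := by
    have := bf_rho g (Pi.single 0 1) (Pi.single 6 1)
    rintro rfl
    rw [h] at this
    simp [bf] at this
  have key := fun i : Fin 7 => tf_rho g (Pi.single 0 1) w (rho K g⁻¹ *ᵥ Pi.single i 1)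
  simp only [rho_mulVec_inv, h] at key
  have k3 := key 3; have k4 := key 4; have k5 := key 5; have k6 := key 6
  simp [tf, mn, h3, h4, h5, h6, hc] at k3 k4 k5 k6
  exact ⟨k6, k5, k4, k3⟩

/-- The matrix of an element of the Borel subgroup. -/
theorem tri_of_flag {g : chevG2.group K} (h0 : ∀ i : Fin 7, 0 < i → rho K g i 0 = 0)
    (h21 : rho K g 2 1 = 0) : (rho K g).BlockTriangular id ∧ ∃ a b : K, a ≠ 0 ∧ b ≠ 0 ∧
      ∀ i, rho K g i i = ![a * b, a, b, 1, b⁻¹, a⁻¹, (a * b)⁻¹] i := by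
  have h : rho K g *ᵥ Pi.single 0 1 = Pi.single 0 (rho K g 0 0) := by
    funext i
    rw [col_eq]
    rcases eq_or_ne i 0 with rfl | hi
    · simp
    · rw [h0 i (Fin.pos_iff_ne_zero.2 hi), Pi.single_eq_of_ne hi]
  obtain ⟨a31, a41, a51, a61⟩ := stab_W h (w := Pi.single 1 1) (by simp) (by simp) (by simp) (by simp)
  obtain ⟨a32, a42, a52, a62⟩ := stab_W h (w := Pi.single 2 1) (by simp) (by simp) (by simp) (by simp)
  have hb := fun i j => bf_rho g (Pi.single i 1) (Pi.single j 1)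
  have ht := fun i j k => tf_rho g (Pi.single i 1) (Pi.single j 1) (Pi.single k 1)
  simp only [bf, tf, mn, col_eq] at hb ht a31 a41 a51 a61 a32 a42 a52 a62
  set M := rho K g
  have a10 := h0 1 (by decide); have a20 := h0 2 (by decide); have a30 := h0 3 (by decide)
  have a40 := h0 4 (by decide); have a50 := h0 5 (by decide); have a60 := h0 6 (by decide)
  have b06 : M 0 0 * M 6 6 = 1 := by simpa [*] using hb 0 6
  have d0 : M 0 0 ≠ 0 := left_ne_zero_of_mul_eq_one b06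
  have a63 : M 6 3 = 0 := by simpa [*] using hb 0 3
  have a64 : M 6 4 = 0 := by simpa [*] using hb 0 4
  have a65 : M 6 5 = 0 := by simpa [*] using hb 0 5
  have b15 : M 1 1 * M 5 5 = 1 := by simpa [*] using hb 1 5
  have d1 : M 1 1 ≠ 0 := left_ne_zero_of_mul_eq_one b15
  have a53 : M 5 3 = 0 := by simpa [*] using hb 1 3
  have a54 : M 5 4 = 0 := by simpa [*] using hb 1 4
  have b24 : M 2 2 * M 4 4 = 1 := by simpa [*] using hb 2 4
  have d2 : M 2 2 ≠ 0 := left_ne_zero_of_mul_eq_one b24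
  have a43 : M 4 3 = 0 := by simpa [*] using hb 2 3
  have b33 : M 0 0 * (M 3 3 * M 6 6) = 1 := by simpa [*] using ht 0 3 6
  have b45 : M 0 0 * (M 4 4 * M 5 5) = 1 := by simpa [*] using ht 0 4 5
  have c3 : M 3 3 = 1 := by linear_combination b33 - M 3 3 * b06
  have c0 : M 0 0 = M 1 1 * M 2 2 := by
    linear_combination (M 1 1 * M 2 2) * b45 - M 0 0 * M 1 1 * M 5 5 * b24 - M 0 0 * b15
  refine ⟨fun i j hij => ?_, M 1 1, M 2 2, d1, d2, fun i => ?_⟩
  · fin_cases i <;> fin_cases j <;> first | exact absurd hij (by decide) | assumption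
  · fin_cases i
    exacts [c0, rfl, rfl, c3, eq_inv_of_mul_eq_one_right b24, eq_inv_of_mul_eq_one_right b15,
      eq_inv_of_mul_eq_one_right (c0 ▸ b06)]

theorem rho_e3 [CharP K 2] (g : chevG2.group K) : rho K g *ᵥ Pi.single 3 1 = Pi.single 3 1 := by
  have h2 : (2 : K) = 0 := CharTwo.two_eq_zero
  induction g using g2_induction with
  | h1 => rw [map_one, Matrix.one_mulVec]
  | hx r hr t g ih =>
    rw [rho_mul_mulVec, ih, rho_XG hr]
    funext i
    interval_cases r <;> simp only [Y0, Y1, Y2, Y3, Y4, Y5, Y6, Y7, Y8, Y9, Y10, Y11] <;>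
      fin_cases i <;> simp [h2]

variable (K) in
/-- The 6-dimensional representation in characteristic 2. -/
noncomputable def rho6 [CharP K 2] : chevG2.group K →* Matrix (Fin 6) (Fin 6) K where
  toFun g := (rho K g).submatrix (Fin.succAbove 3) (Fin.succAbove 3)
  map_one' := by rw [map_one, Matrix.submatrix_one _ Fin.succAbove_right_injective]
  map_mul' g h := by
    ext i j
    rw [map_mul, Matrix.submatrix_apply, Matrix.mul_apply, Matrix.mul_apply,
      Fin.sum_univ_succAbove _ 3, ← col_eq (rho K g) _ 3, rho_e3,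
      Pi.single_eq_of_ne (Fin.succAbove_ne _ _), zero_mul, zero_add]
    rfl

theorem rho6_apply [CharP K 2] (g : chevG2.group K) (i j : Fin 6) :
    rho6 K g i j = rho K g (Fin.succAbove 3 i) (Fin.succAbove 3 j) := rfl

theorem rho6_mulVec [CharP K 2] (g : chevG2.group K) (v : Fin 7 → K) (i : Fin 6) :
    (rho6 K g *ᵥ fun j => v (Fin.succAbove 3 j)) i = (rho K g *ᵥ v) (Fin.succAbove 3 i) := by
  rw [Matrix.mulVec, Matrix.mulVec, dotProduct, dotProduct, Fin.sum_univ_succAbove _ (3 : Fin 7),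
    ← col_eq (rho K g) _ 3, rho_e3, Pi.single_eq_of_ne (Fin.succAbove_ne _ _), zero_mul, zero_add]
  rfl

theorem eq_of_qf_eq [CharP K 2] {v w : Fin 7 → K} (hq : qf v = qf w)
    (h : ∀ i, v (Fin.succAbove 3 i) = w (Fin.succAbove 3 i)) : v = w := by
  have h0 : v 0 = w 0 := h 0
  have h1 : v 1 = w 1 := h 1
  have h2 : v 2 = w 2 := h 2
  have h4 : v 4 = w 4 := h 3
  have h5 : v 5 = w 5 := h 4
  have h6 : v 6 = w 6 := h 5
  have h3 : v 3 = w 3 := by
    simp only [qf, h0, h1, h2, h4, h5, h6, sub_right_inj] at hq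
    exact CharTwo.sq_injective hq
  funext i; fin_cases i <;> assumption

theorem rho6_injective [CharP K 2] : Function.Injective (rho6 K) := by
  rw [injective_iff_map_eq_one]
  intro g hg
  apply rho_injective
  rw [map_one, Matrix.ext_iff_mulVec]
  intro v
  rw [Matrix.one_mulVec]
  exact eq_of_qf_eq (qf_rho g v) fun i => by rw [← rho6_mulVec, hg, Matrix.one_mulVec]

theorem orderOf_rho6 [CharP K 2] (g : chevG2.group K) : orderOf (rho6 K g) = orderOf g :=
  orderOf_injective _ rho6_injective g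

theorem rho6_fieldHom [CharP K 2] {L : Type*} [Field L] [CharP L 2] (f : K →+* L)
    (g : chevG2.group K) : rho6 L (fieldHom chevG2 f g) = (rho6 K g).map f := by
  ext i j
  rw [rho6_apply, rho_fieldHom]; rfl

variable [IsAlgClosed K]

theorem exists_eig_mem {n : ℕ} (M : Matrix (Fin n) (Fin n) K) (U : Submodule K (Fin n → K))
    (hU : U ≠ ⊥) (h : ∀ v ∈ U, M *ᵥ v ∈ U) : ∃ v ∈ U, v ≠ 0 ∧ ∃ c : K, M *ᵥ v = c • v := by
  have : Nontrivial U := Submodule.nontrivial_iff_ne_bot.2 hU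
  obtain ⟨c, hc⟩ := Module.End.exists_eigenvalue ((Matrix.toLin' M).restrict (p := U) (q := U) h)
  obtain ⟨v, hv⟩ := hc.exists_hasEigenvector
  exact ⟨v, v.2, fun e => hv.2 (Subtype.ext e), c, congrArg Subtype.val hv.apply_eq_smul⟩

theorem exists_eig_perp (g : chevG2.group K) {a b : Fin 7 → K} {c d : K} (hc : c ≠ 0) (hd : d ≠ 0)
    (ha : rho K g *ᵥ a = c • a) (hb : rho K g *ᵥ b = d • b) :
    ∃ v, bf a v = 0 ∧ bf b v = 0 ∧ v ≠ 0 ∧ ∃ e : K, rho K g *ᵥ v = e • v := by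
  obtain ⟨v, hv, h0, he⟩ := exists_eig_mem (rho K g) (LinearMap.ker ((bfL K a).prod (bfL K b)))
    (LinearMap.ker_ne_bot_of_finrank_lt (by simp)) fun v hv => by
      simp only [LinearMap.mem_ker, LinearMap.prod_apply, Function.prod_apply, bfL_apply, Prod.mk_eq_zero] at hv ⊢
      have h1 := bf_rho g a v
      have h2 := bf_rho g b v
      rw [ha, bf_smul_left, hv.1] at h1
      rw [hb, bf_smul_left, hv.2] at h2
      exact ⟨(mul_eq_zero.1 h1).resolve_left hc, (mul_eq_zero.1 h2).resolve_left hd⟩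
  simp only [LinearMap.mem_ker, LinearMap.prod_apply, Function.prod_apply, bfL_apply, Prod.mk_eq_zero] at hv
  exact ⟨v, hv.1, hv.2, h0, he⟩

/-- Every element fixes a singular point. -/
theorem exists_singular_eig (g : chevG2.group K) :
    ∃ v, v ≠ 0 ∧ qf v = 0 ∧ ∃ c : K, rho K g *ᵥ v = c • v := by
  by_cases h2 : (2 : K) = 0
  · have : CharP K 2 := CharTwo.of_one_ne_zero_of_two_eq_zero one_ne_zero h2
    obtain ⟨w, -, h0, c, hc⟩ := exists_eig_mem (rho6 K g) ⊤ top_ne_bot fun _ _ => trivial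
    obtain ⟨s, hs⟩ := IsAlgClosed.exists_pow_nat_eq (w 0 * w 5 - w 1 * w 4 + w 2 * w 3) two_pos
    let v : Fin 7 → K := ![w 0, w 1, w 2, s, w 3, w 4, w 5]
    have hv : (fun j => v (Fin.succAbove 3 j)) = w := by funext j; fin_cases j <;> rfl
    have hq : qf v = 0 := by simp [qf, v, hs]
    refine ⟨v, fun e => h0 (by rw [← hv, e]; rfl), hq, c, eq_of_qf_eq ?_ fun i => ?_⟩
    · rw [qf_rho, qf_smul, hq, mul_zero]
    · rw [← rho6_mulVec, hv, hc, ← hv]; rfl
  by_contra! H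
  have hsq : ∀ v (c : K), v ≠ 0 → rho K g *ᵥ v = c • v → qf v ≠ 0 ∧ (c = 1 ∨ c = -1) := by
    intro v c h0 hv
    have hq : qf v ≠ 0 := fun hq => H v h0 hq c hv
    have := qf_rho g v
    rw [hv, qf_smul] at this
    exact ⟨hq, sq_eq_one_iff.1 (mul_right_cancel₀ hq (this.trans (one_mul _).symm))⟩
  have two : ∀ v w (c : K), v ≠ 0 → w ≠ 0 → bf v w = 0 → rho K g *ᵥ v = c • v → rho K g *ᵥ w = c • w →
      False := by
    intro v w c hv0 hw0 hvw hv hw
    obtain ⟨s, hs⟩ := IsAlgClosed.exists_pow_nat_eq (- qf v / qf w) two_pos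
    have hw1 := (hsq w c hw0 hw).1
    refine H (v + s • w) (fun e => ?_) ?_ c ?_
    · have : bf v (v + s • w) = 0 := by rw [e]; simp [bf]
      rw [bf_add_right, bf_smul_right, hvw, mul_zero, add_zero, bf_self] at this
      exact mul_ne_zero h2 (hsq v c hv0 hv).1 this
    · rw [qf_add, qf_smul, bf_smul_right, hvw, hs]; field_simp; ring
    · rw [Matrix.mulVec_add, Matrix.mulVec_smul, hv, hw, smul_add, smul_comm]
  have ne : ∀ c : K, c = 1 ∨ c = -1 → c ≠ 0 := by rintro c (rfl | rfl) <;> simp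
  obtain ⟨v1, -, -, z1, c1, e1⟩ := exists_eig_perp g (a := 0) (b := 0) one_ne_zero one_ne_zero
    (by simp) (by simp)
  have s1 := (hsq _ _ z1 e1).2
  obtain ⟨v2, p12, -, z2, c2, e2⟩ := exists_eig_perp g (ne _ s1) (ne _ s1) e1 e1
  have s2 := (hsq _ _ z2 e2).2
  obtain ⟨v3, p13, p23, z3, c3, e3⟩ := exists_eig_perp g (ne _ s1) (ne _ s2) e1 e2
  have s3 := (hsq _ _ z3 e3).2
  rcases s1 with rfl | rfl <;> rcases s2 with rfl | rfl <;> rcases s3 with rfl | rfl <;>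
    first
    | exact two _ _ _ z1 z2 p12 e1 e2
    | exact two _ _ _ z1 z3 p13 e1 e3
    | exact two _ _ _ z2 z3 p23 e2 e3

/-- **Every element of `G₂(K)`, `K` algebraically closed, is conjugate to a triangular one.** -/
theorem exists_conj_tri (g : chevG2.group K) : ∃ h : chevG2.group K,
    (rho K (h * g * h⁻¹)).BlockTriangular id ∧ ∃ a b : K, a ≠ 0 ∧ b ≠ 0 ∧
      ∀ i, rho K (h * g * h⁻¹) i i = ![a * b, a, b, 1, b⁻¹, a⁻¹, (a * b)⁻¹] i := by
  obtain ⟨v, hv0, hq, c, hc⟩ := exists_singular_eig g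
  obtain ⟨h, d, hd, hh⟩ := exists_to_e0 hq hv0
  have e0 : ∀ d : K, (Pi.single 0 d : Fin 7 → K) = d • Pi.single 0 1 := fun d => by
    rw [← Pi.single_smul', smul_eq_mul, mul_one]
  have k1 : rho K (h * g * h⁻¹) *ᵥ Pi.single 0 1 = Pi.single 0 c := by
    have : rho K (h * g * h⁻¹) *ᵥ Pi.single 0 d = c • Pi.single 0 d := by
      rw [← hh, rho_mul_mulVec, rho_mul_mulVec, rho_inv_mulVec, hc, Matrix.mulVec_smul]
    rw [e0 d, Matrix.mulVec_smul, smul_comm] at this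
    rw [e0 c]
    exact smul_right_injective _ hd this
  generalize hg1 : h * g * h⁻¹ = g1 at k1
  -- an eigenvector modulo the first basis vector
  obtain ⟨w, -, hw0, μ, hw⟩ := exists_eig_mem
    !![rho K g1 1 1, rho K g1 1 2; rho K g1 2 1, rho K g1 2 2] ⊤ top_ne_bot fun _ _ => trivial
  let u : Fin 7 → K := ![0, w 0, w 1, 0, 0, 0, 0]
  have hu : rho K g1 *ᵥ u = μ • u + (rho K g1 *ᵥ u) 0 • Pi.single 0 1 := by
    obtain ⟨a3, a4, a5, a6⟩ := stab_W k1 (w := u) rfl rfl rfl rfl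
    have b0 := congrFun hw 0
    have b1 := congrFun hw 1
    simp [Matrix.mulVec, dotProduct] at b0 b1
    funext i
    fin_cases i
    · simp [u]
    · simp [u, Matrix.mulVec, dotProduct, Fin.sum_univ_seven, b0]
    · simp [u, Matrix.mulVec, dotProduct, Fin.sum_univ_seven, b1]
    all_goals simp [a3, a4, a5, a6]; simp [u]
  obtain ⟨k, e, he, hk0, hk⟩ : ∃ (k : chevG2.group K) (e : K), e ≠ 0 ∧
      rho K k *ᵥ Pi.single 0 1 = Pi.single 0 1 ∧ rho K k *ᵥ u = e • Pi.single 1 1 := by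
    by_cases h0 : w 0 = 0
    · have h1 : w 1 ≠ 0 := fun h1 => hw0 (by funext i; fin_cases i <;> assumption)
      refine ⟨chevG2.XG K 5 (-1) * chevG2.XG K 6 1, w 1, h1, ?_, ?_⟩ <;>
        rw [rho_mul_mulVec, rho_XG (by norm_num), rho_XG (by norm_num), Y6, Y5] <;>
        funext i <;> fin_cases i <;> simp [u, h0]
    · refine ⟨chevG2.XG K 5 (- w 1 / w 0), w 0, h0, ?_, ?_⟩ <;>
        rw [rho_XG (by norm_num), Y5] <;> funext i <;> fin_cases i <;> simp [u, h0]
  have hk0' : rho K k⁻¹ *ᵥ Pi.single 0 1 = Pi.single 0 1 := by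
    conv_lhs => rw [← hk0]
    rw [rho_inv_mulVec]
  refine ⟨k * h, ?_⟩
  rw [show k * h * g * (k * h)⁻¹ = k * g1 * k⁻¹ by rw [← hg1]; group]
  refine tri_of_flag (fun i hi => ?_) ?_
  · rw [← col_eq (rho K _), rho_mul_mulVec, rho_mul_mulVec, hk0', k1, e0, Matrix.mulVec_smul, hk0,
      Pi.smul_apply, Pi.single_eq_of_ne hi.ne', smul_zero]
  · have : rho K (k * g1 * k⁻¹) *ᵥ (e • Pi.single 1 1) =
        μ • e • Pi.single 1 1 + (rho K g1 *ᵥ u) 0 • Pi.single 0 1 := by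
      rw [← hk, rho_mul_mulVec, rho_mul_mulVec, rho_inv_mulVec]
      conv_lhs => rw [hu]
      rw [Matrix.mulVec_add, Matrix.mulVec_smul, Matrix.mulVec_smul, hk0]
    have h2 := congrFun this 2
    rw [Matrix.mulVec_smul, Pi.smul_apply, col_eq] at h2
    simpa [he] using h2

end field

end Cfsg.Agent.Chev.G2
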