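import Mathlib
import Cfsg.Agent.Chev.G2Form
import Cfsg.Agent.Cl.SpecOrth

/-!
# Eigenvalues of elements of `G₂(q)`
-/

set_option autoImplicit false

namespace Cfsg.Agent.Chev.G2

open Cfsg.Lie Cfsg.Lie.ChevalleyDatum Cfsg.Agent.Cl Polynomial
open scoped Matrix

section comb

variable {K : Type*} [Field K]

/-- An element and its inverse. -/
def pr (x : K) : Multiset K := {x, x⁻¹}

/-- Three elements and their inverses. -/
def s6 (a b c : K) : Multiset K := pr a + pr b + pr c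

theorem mem_pr {x y : K} : y ∈ pr x ↔ y = x ∨ y = x⁻¹ := by simp [pr]

theorem self_mem_pr (x : K) : x ∈ pr x := mem_pr.2 (Or.inl rfl)

theorem pr_inv (x : K) : pr x⁻¹ = pr x := by rw [pr, pr, inv_inv, Multiset.pair_comm]

theorem pr_eq_of_mem {x y : K} (h : y ∈ pr x) : pr y = pr x := by
  rcases mem_pr.1 h with rfl | rfl
  exacts [rfl, pr_inv x]

theorem map_pr (x : K) (q : ℕ) : (pr x).map (fun μ => μ ^ q) = pr (x ^ q) := by simp [pr]

theorem map_s6 (a b c : K) (q : ℕ) :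
    (s6 a b c).map (fun μ => μ ^ q) = s6 (a ^ q) (b ^ q) (c ^ q) := by
  simp only [s6, Multiset.map_add, map_pr]

theorem s6_swap (a b c : K) : s6 a b c = s6 b a c := by rw [s6, s6, add_comm (pr a)]

theorem s6_rot (a b c : K) : s6 a b c = s6 b c a := by rw [s6, s6, add_rotate]

theorem mem_s6 {a b c μ : K} : μ ∈ s6 a b c ↔ μ ∈ pr a ∨ μ ∈ pr b ∨ μ ∈ pr c := by
  simp only [s6, Multiset.mem_add, or_assoc]

theorem forall_s6 {a b c : K} {p : K → Prop} (h : ∀ x, p x → p x⁻¹) (ha : p a) (hb : p b) (hc : p c) :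
    ∀ μ ∈ s6 a b c, p μ := by
  intro μ hμ
  simp only [mem_s6, mem_pr] at hμ
  rcases hμ with (rfl | rfl) | (rfl | rfl) | (rfl | rfl)
  exacts [ha, h _ ha, hb, h _ hb, hc, h _ hc]

theorem pair_two {a b x y : K} (h : pr x + pr y = pr a + pr b) :
    (x ∈ pr a ∧ y ∈ pr b) ∨ (x ∈ pr b ∧ y ∈ pr a) := by
  have : x ∈ pr a + pr b := h ▸ Multiset.mem_add.2 (Or.inl (self_mem_pr x))
  rcases Multiset.mem_add.1 this with h1 | h1
  · rw [pr_eq_of_mem h1, add_right_inj] at h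
    exact Or.inl ⟨h1, h ▸ self_mem_pr y⟩
  · rw [pr_eq_of_mem h1, add_comm, add_left_inj] at h
    exact Or.inr ⟨h1, h ▸ self_mem_pr y⟩

theorem pair_one {a b c x y z : K} (h : s6 x y z = s6 a b c) (h1 : x ∈ pr a) :
    (y ∈ pr b ∧ z ∈ pr c) ∨ (y ∈ pr c ∧ z ∈ pr b) := by
  rw [s6, s6, pr_eq_of_mem h1, add_assoc, add_assoc, add_right_inj] at h
  exact pair_two h

theorem flip_sign {a b c x y z : K} (h : a * b * c = 1) (h' : x * y * z = 1) (hx : x ∈ pr a)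
    (hy : y ∈ pr b) (hz : z ∈ pr c) : (x = a ∧ y = b ∧ z = c) ∨ (x = a⁻¹ ∧ y = b⁻¹ ∧ z = c⁻¹) := by
  have hc : c ≠ 0 := right_ne_zero_of_mul_eq_one h
  have ha : a ≠ 0 := left_ne_zero_of_mul (left_ne_zero_of_mul_eq_one h)
  have hb : b ≠ 0 := right_ne_zero_of_mul (left_ne_zero_of_mul_eq_one h)
  have hi : a⁻¹ * b⁻¹ * c⁻¹ = 1 := by rw [← mul_inv, ← mul_inv, h, inv_one]
  rcases mem_pr.1 hx with rfl | rfl <;> rcases mem_pr.1 hy with rfl | rfl <;>
    rcases mem_pr.1 hz with rfl | rfl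
  · simp
  · exact Or.inl ⟨rfl, rfl, mul_left_cancel₀ (mul_ne_zero ha hb) (h'.trans h.symm)⟩
  · exact Or.inl ⟨rfl, mul_left_cancel₀ ha (mul_right_cancel₀ hc (h'.trans h.symm)), rfl⟩
  · exact Or.inr ⟨mul_right_cancel₀ (inv_ne_zero hb)
      (mul_right_cancel₀ (inv_ne_zero hc) (h'.trans hi.symm)), rfl, rfl⟩
  · exact Or.inl ⟨mul_right_cancel₀ hb (mul_right_cancel₀ hc (h'.trans h.symm)), rfl, rfl⟩
  · exact Or.inr ⟨rfl, mul_left_cancel₀ (inv_ne_zero ha)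
      (mul_right_cancel₀ (inv_ne_zero hc) (h'.trans hi.symm)), rfl⟩
  · exact Or.inr ⟨rfl, rfl, mul_left_cancel₀ (mul_ne_zero (inv_ne_zero ha) (inv_ne_zero hb))
      (h'.trans hi.symm)⟩
  · simp

/-- The possible actions of the Frobenius map on the eigenvalues. -/
theorem frob_perm {a b c x y z : K} (h : a * b * c = 1) (h' : x * y * z = 1)
    (hs : s6 x y z = s6 a b c) :
    ((x = a ∧ y = b ∧ z = c) ∨ (x = a⁻¹ ∧ y = b⁻¹ ∧ z = c⁻¹)) ∨
    ((x = a ∧ y = c ∧ z = b) ∨ (x = a⁻¹ ∧ y = c⁻¹ ∧ z = b⁻¹)) ∨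
    ((x = b ∧ y = c ∧ z = a) ∨ (x = b⁻¹ ∧ y = c⁻¹ ∧ z = a⁻¹)) ∨
    ((x = b ∧ y = a ∧ z = c) ∨ (x = b⁻¹ ∧ y = a⁻¹ ∧ z = c⁻¹)) ∨
    ((x = c ∧ y = a ∧ z = b) ∨ (x = c⁻¹ ∧ y = a⁻¹ ∧ z = b⁻¹)) ∨
    ((x = c ∧ y = b ∧ z = a) ∨ (x = c⁻¹ ∧ y = b⁻¹ ∧ z = a⁻¹)) := by
  have : x ∈ s6 a b c := hs ▸ mem_s6.2 (Or.inl (self_mem_pr x))
  rcases mem_s6.1 this with h1 | h1 | h1
  · rcases pair_one hs h1 with ⟨h2, h3⟩ | ⟨h2, h3⟩
    · exact Or.inl (flip_sign h h' h1 h2 h3)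
    · exact Or.inr (Or.inl (flip_sign (by rw [← h]; ring) h' h1 h2 h3))
  · rcases pair_one (hs.trans (s6_rot a b c)) h1 with ⟨h2, h3⟩ | ⟨h2, h3⟩
    · exact Or.inr (Or.inr (Or.inl (flip_sign (by rw [← h]; ring) h' h1 h2 h3)))
    · exact Or.inr (Or.inr (Or.inr (Or.inl (flip_sign (by rw [← h]; ring) h' h1 h2 h3))))
  · rcases pair_one (hs.trans (s6_rot c a b).symm) h1 with ⟨h2, h3⟩ | ⟨h2, h3⟩
    · exact Or.inr (Or.inr (Or.inr (Or.inr (Or.inl (flip_sign (by rw [← h]; ring) h' h1 h2 h3)))))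
    · exact Or.inr (Or.inr (Or.inr (Or.inr (Or.inr (flip_sign (by rw [← h]; ring) h' h1 h2 h3)))))

theorem pow_eq_one_of {μ : K} (h0 : μ ≠ 0) {n m : ℕ} (hm : m ≤ n) (h : μ ^ n = μ ^ m) :
    μ ^ (n - m) = 1 := by
  rw [pow_sub₀ _ h0 hm, h, mul_inv_cancel₀ (pow_ne_zero _ h0)]

theorem torus_cases {a b c : K} (h : a * b * c = 1) {q : ℕ} (hq : 0 < q)
    (hs : s6 (a ^ q) (b ^ q) (c ^ q) = s6 a b c) :
    ∃ k ∈ [q ^ 2 - 1, q ^ 2 + q + 1, q ^ 2 - q + 1], ∀ μ ∈ s6 a b c, μ ^ k = 1 := by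
  have hc : c ≠ 0 := right_ne_zero_of_mul_eq_one h
  have ha : a ≠ 0 := left_ne_zero_of_mul (left_ne_zero_of_mul_eq_one h)
  have hb : b ≠ 0 := right_ne_zero_of_mul (left_ne_zero_of_mul_eq_one h)
  have key : ∀ k, a ^ k = 1 → b ^ k = 1 → c ^ k = 1 → ∀ μ ∈ s6 a b c, μ ^ k = 1 := fun k =>
    forall_s6 (p := fun x => x ^ k = 1) fun x hx => by rw [inv_pow, hx, inv_one]
  have k1 : ∀ μ : K, μ ≠ 0 → (μ ^ q) ^ q = μ → μ ^ (q ^ 2 - 1) = 1 := fun μ h0 e =>
    pow_eq_one_of h0 (Nat.one_le_pow _ _ hq) (by rw [pow_two, pow_mul, e, pow_one])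
  have k2 : ∀ μ : K, (μ ^ q) ^ q * μ ^ q * μ = 1 → μ ^ (q ^ 2 + q + 1) = 1 := fun μ e => by
    rw [pow_succ, pow_add, pow_two, pow_mul, e]
  have k3 : ∀ μ : K, μ ≠ 0 → (μ ^ q) ^ q * (μ ^ q)⁻¹ * μ = 1 → μ ^ (q ^ 2 - q + 1) = 1 :=
    fun μ h0 e => by
      rw [pow_succ, pow_sub₀ _ h0 (Nat.le_self_pow two_ne_zero q), pow_two, pow_mul, e]
  rcases frob_perm h (by rw [← mul_pow, ← mul_pow, h, one_pow]) hs with
    (e | e) | (e | e) | (e | e) | (e | e) | (e | e) | (e | e) <;> obtain ⟨e1, e2, e3⟩ := e <;>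
    first
    | (refine ⟨q ^ 2 - 1, by simp, key _ (k1 a ha ?_) (k1 b hb ?_) (k1 c hc ?_)⟩ <;>
        (simp only [e1, e2, e3, inv_pow, inv_inv]; done))
    | (refine ⟨q ^ 2 + q + 1, by simp, key _ (k2 a ?_) (k2 b ?_) (k2 c ?_)⟩ <;>
        (simp only [e1, e2, e3]; linear_combination h))
    | (refine ⟨q ^ 2 - q + 1, by simp, key _ (k3 a ha ?_) (k3 b hb ?_) (k3 c hc ?_)⟩ <;>
        (simp only [e1, e2, e3, inv_pow, inv_inv]; linear_combination h))

theorem pm_of_mem_pr {a : K} (ha : a ≠ 0) {q : ℕ} (hq : 0 < q) (h : a ^ q ∈ pr a) :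
    ∃ k ∈ [q + 1, q - 1], a ^ k = 1 := by
  rcases mem_pr.1 h with h | h
  · exact ⟨q - 1, by simp, pow_eq_one_of ha hq (by rw [h, pow_one])⟩
  · exact ⟨q + 1, by simp, by rw [pow_succ, h, inv_mul_cancel₀ ha]⟩

theorem eq_of_eq_inv {a : K} (h : a = a⁻¹) (ha : a ≠ 0) : a = 1 ∨ a = -1 :=
  mul_self_eq_one_iff.1 (by nth_rewrite 2 [h]; exact mul_inv_cancel₀ ha)

variable [DecidableEq K]

theorem count_pr_le (μ x : K) : (pr x).count μ ≤ 2 :=
  (Multiset.count_le_card _ _).trans (by simp [pr])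

theorem count_pr_le_one {x : K} (h : x ≠ x⁻¹) (μ : K) : (pr x).count μ ≤ 1 :=
  Multiset.nodup_iff_count_le_one.1 (by simpa [pr] using h) μ

theorem count_s6 (a b c μ : K) :
    (s6 a b c).count μ = (pr a).count μ + (pr b).count μ + (pr c).count μ := by
  simp only [s6, Multiset.count_add]

/-- The conclusion of the case analysis of the eigenvalues. -/
def Cases (q : ℕ) (S : Multiset K) : Prop :=
  (∀ μ ∈ S, μ = 1) ∨
  (1 ∉ S ∧ (∀ μ, S.count μ ≤ 1 ∨ (μ = -1 ∧ S.count μ ≤ 2)) ∧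
    ∃ k ∈ [q ^ 2 - 1, q ^ 2 + q + 1, q ^ 2 - q + 1], ∀ μ ∈ S, μ ^ k = 1) ∨
  ((∃ k ∈ [q + 1, q - 1], ∀ μ ∈ S, μ ^ k = 1) ∧ S.count 1 ≤ 2 ∧
    ∀ μ, S.count μ ≤ 2 ∨ (μ = -1 ∧ μ ≠ 1 ∧ S.count μ ≤ 4) ∨
      ((∀ ν ∈ S, ν ^ 3 = 1) ∧ S.count μ ≤ 3))

theorem cases_short {a b : K} (h : a * b * 1 = 1) {q : ℕ} (hq : 0 < q)
    (hi : ∀ μ : K, μ ^ q = 1 → μ = 1) (hs : s6 (a ^ q) (b ^ q) (1 ^ q) = s6 a b 1) :
    Cases q (s6 a b 1) := by
  have ha : a ≠ 0 := left_ne_zero_of_mul (left_ne_zero_of_mul_eq_one h)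
  obtain rfl : b = a⁻¹ := eq_inv_of_mul_eq_one_right (by rwa [mul_one] at h)
  by_cases h1 : a = 1
  · exact Or.inl (forall_s6 (fun x hx => by rw [hx, inv_one]) h1 (by rw [h1, inv_one]) rfl)
  have h2 : a ^ q ∈ pr a := by
    have : a ^ q ∈ s6 a a⁻¹ 1 := hs ▸ mem_s6.2 (Or.inl (self_mem_pr _))
    rw [mem_s6, pr_inv, ← or_assoc, or_self] at this
    exact this.resolve_right fun e => h1 (hi a (by simpa [pr] using e))
  have h3 : (pr a).count 1 = 0 := Multiset.count_eq_zero.2 fun e => by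
    rcases mem_pr.1 e with e | e
    exacts [h1 e.symm, h1 (inv_eq_one.1 e.symm)]
  have h4 : (s6 a a⁻¹ 1).count 1 ≤ 2 := by
    rw [count_s6, pr_inv, h3]; simpa using count_pr_le 1 1
  obtain ⟨k, hk, e⟩ := pm_of_mem_pr ha hq h2
  refine Or.inr (Or.inr ⟨⟨k, hk, forall_s6 (fun x hx => by rw [inv_pow, hx, inv_one]) e
    (by rw [inv_pow, e, inv_one]) (one_pow _)⟩, h4, fun μ => ?_⟩)
  by_cases h5 : μ = 1
  · exact Or.inl (h5 ▸ h4)
  have h6 : (pr (1 : K)).count μ = 0 := Multiset.count_eq_zero.2 (by simpa [pr] using h5)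
  rw [count_s6, pr_inv, h6]
  by_cases h7 : a = a⁻¹
  · by_cases h8 : μ ∈ pr a
    · have := count_pr_le μ a
      refine Or.inr (Or.inl ⟨?_, h5, by omega⟩)
      rw [mem_pr, ← h7, or_self] at h8
      exact h8.trans ((eq_of_eq_inv h7 ha).resolve_left h1)
    · rw [Multiset.count_eq_zero.2 h8]; simp
  · have := count_pr_le_one h7 μ
    exact Or.inl (by omega)

theorem cases_long {a c : K} (h : a * a * c = 1) (hc1 : c ≠ 1) {q : ℕ} (hq : 0 < q)
    (hs : s6 (a ^ q) (a ^ q) (c ^ q) = s6 a a c) : Cases q (s6 a a c) := by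
  have hc : c ≠ 0 := right_ne_zero_of_mul_eq_one h
  have ha : a ≠ 0 := left_ne_zero_of_mul (left_ne_zero_of_mul_eq_one h)
  have h0 : a ≠ a⁻¹ := fun e => hc1 (by
    nth_rewrite 2 [e] at h
    rwa [mul_inv_cancel₀ ha, one_mul] at h)
  have h1 : a ≠ 1 := fun e => h0 (by rw [e, inv_one])
  have h2 : a ^ q ∈ pr a := by
    rcases frob_perm h (by rw [← mul_pow, ← mul_pow, h, one_pow]) hs with
      (e | e) | (e | e) | (e | e) | (e | e) | (e | e) | (e | e) <;>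
      first
      | exact mem_pr.2 (Or.inl e.1)
      | exact mem_pr.2 (Or.inr e.1)
      | exact mem_pr.2 (Or.inl e.2.1)
      | exact mem_pr.2 (Or.inr e.2.1)
  have hk : ∀ k, a ^ k = 1 → ∀ μ ∈ s6 a a c, μ ^ k = 1 := fun k e =>
    forall_s6 (fun x hx => by rw [inv_pow, hx, inv_one]) e e (by
      have := congrArg (· ^ k) h
      simpa only [mul_pow, e, one_mul, one_pow] using this)
  obtain ⟨k, hk', e⟩ := pm_of_mem_pr ha hq h2
  have h3 : (pr a).count 1 = 0 := Multiset.count_eq_zero.2 fun e => by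
    rcases mem_pr.1 e with e | e
    exacts [h1 e.symm, h1 (inv_eq_one.1 e.symm)]
  refine Or.inr (Or.inr ⟨⟨k, hk', hk k e⟩, by rw [count_s6, h3]; simpa using count_pr_le 1 c,
    fun μ => ?_⟩)
  have h4 := count_pr_le_one h0 μ
  rw [count_s6]
  by_cases h5 : μ ∈ pr a
  · by_cases h6 : μ ∈ pr c
    · have h7 : pr c = pr a := (pr_eq_of_mem h6).symm.trans (pr_eq_of_mem h5)
      rw [h7]
      refine Or.inr (Or.inr ⟨hk 3 ?_, by omega⟩)
      rcases mem_pr.1 (h7 ▸ self_mem_pr c) with e | e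
      · rw [← h, e]; ring
      · rw [e, mul_assoc, mul_inv_cancel₀ ha, mul_one] at h
        exact absurd h h1
    · rw [Multiset.count_eq_zero.2 h6]
      exact Or.inl (by omega)
  · rw [Multiset.count_eq_zero.2 h5]
    exact Or.inl (by simpa using count_pr_le μ c)

theorem count_pr_add {a b c : K} (h : a * b * c = 1) (hc : c ≠ 1) (hab : a ≠ b) (μ : K) :
    (pr a).count μ = 0 ∨ (pr b).count μ = 0 := by
  by_contra! H
  have h1 := Multiset.count_ne_zero.1 H.1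
  have h2 := Multiset.count_ne_zero.1 H.2
  have h3 : a ∈ pr b := (pr_eq_of_mem h2).symm.trans (pr_eq_of_mem h1).symm.symm ▸ self_mem_pr a
  rcases mem_pr.1 h3 with e | e
  · exact hab e
  · rw [e, inv_mul_cancel₀ (right_ne_zero_of_mul (left_ne_zero_of_mul_eq_one h)), one_mul] at h
    exact hc h

theorem count_pr_cases {a : K} (ha : a ≠ 0) (h1 : a ≠ 1) (μ : K) :
    (pr a).count μ ≤ 1 ∨ (μ = -1 ∧ (pr a).count μ ≤ 2) := by
  by_cases h : a = a⁻¹
  · by_cases h2 : μ ∈ pr a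
    · rw [mem_pr, ← h, or_self] at h2
      exact Or.inr ⟨h2.trans ((eq_of_eq_inv h ha).resolve_left h1), count_pr_le _ _⟩
    · rw [Multiset.count_eq_zero.2 h2]; simp
  · exact Or.inl (count_pr_le_one h μ)

theorem cases_s6 {a b c : K} (h : a * b * c = 1) {q : ℕ} (hq : 0 < q)
    (hi : ∀ μ : K, μ ^ q = 1 → μ = 1) (hs : s6 (a ^ q) (b ^ q) (c ^ q) = s6 a b c) :
    Cases q (s6 a b c) := by
  have h' : b * c * a = 1 := by rw [← h]; ring
  have h'' : c * a * b = 1 := by rw [← h]; ring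
  have hs' : s6 (b ^ q) (c ^ q) (a ^ q) = s6 b c a := by rw [← s6_rot, hs, s6_rot]
  have hs'' : s6 (c ^ q) (a ^ q) (b ^ q) = s6 c a b := by rw [s6_rot, hs, ← s6_rot]
  by_cases c1 : c = 1
  · subst c1; exact cases_short h hq hi hs
  by_cases a1 : a = 1
  · subst a1; rw [s6_rot]; exact cases_short h' hq hi hs'
  by_cases b1 : b = 1
  · subst b1; rw [← s6_rot]; exact cases_short h'' hq hi hs''
  by_cases ab : a = b
  · subst ab; exact cases_long h c1 hq hs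
  by_cases bc : b = c
  · subst bc; rw [s6_rot]; exact cases_long h' a1 hq hs'
  by_cases ca : c = a
  · subst ca; rw [← s6_rot]; exact cases_long h'' b1 hq hs''
  refine Or.inr (Or.inl ⟨?_, fun μ => ?_, torus_cases h hq hs⟩)
  · intro h1
    exact forall_s6 (p := fun x => x ≠ 1) (fun x hx => by simpa using hx) a1 b1 c1 1 h1 rfl
  · have k1 := count_pr_add h c1 ab μ
    have k2 := count_pr_add h' a1 bc μ
    have k3 := count_pr_add h'' b1 ca μ
    have l1 := count_pr_cases (right_ne_zero_of_mul_eq_one h') a1 μ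
    have l2 := count_pr_cases (right_ne_zero_of_mul_eq_one h'') b1 μ
    have l3 := count_pr_cases (right_ne_zero_of_mul_eq_one h) c1 μ
    rw [count_s6]
    by_cases hμ : μ = -1
    · exact Or.inr ⟨hμ, by omega⟩
    · simp only [hμ, false_and, or_false] at l1 l2 l3 ⊢
      omega

end comb

section evs

variable {F : Type*} [Field F] (K : Type*) [Field K] [Algebra F K]

theorem evs_toLin'_of_conj {n : ℕ} {M : Matrix (Fin n) (Fin n) F} {A B : Matrix (Fin n) (Fin n) K}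
    (hAB : B * A = 1) (h : (A * M.map (algebraMap F K) * B).BlockTriangular id) :
    evs K (Matrix.toLin' M) =
      Finset.univ.val.map fun i => (A * M.map (algebraMap F K) * B) i i := by
  rw [evs, Matrix.charpoly_toLin', aroots_def, ← Matrix.charpoly_map,
    ← roots_multiset_prod_X_sub_C (Finset.univ.val.map _), Multiset.map_map]
  congr 1
  have := Matrix.charpoly_of_isUpperTriangular _ h
  rw [Matrix.charpoly_mul_comm, ← mul_assoc, hAB, one_mul] at this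
  exact this

variable [IsAlgClosed K]

/-- The eigenvalues on the 7-dimensional module. -/
theorem exists_evs_rho (g : chevG2.group F) : ∃ a b c : K, a * b * c = 1 ∧
    evs K (Matrix.toLin' (rho F g)) = 1 ::ₘ s6 a b c := by
  obtain ⟨h, ht, a, b, ha, hb, hd⟩ := exists_conj_tri (fieldHom chevG2 (algebraMap F K) g)
  rw [map_mul, map_mul, rho_fieldHom] at ht hd
  refine ⟨a, b, (a * b)⁻¹, mul_inv_cancel₀ (mul_ne_zero ha hb), ?_⟩
  rw [evs_toLin'_of_conj K (by rw [← map_mul, inv_mul_cancel, map_one]) ht, funext hd]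
  classical
  ext μ
  simp only [Fin.univ_val_map, List.ofFn_succ, List.ofFn_zero, ← Multiset.cons_coe,
    Multiset.count_cons, count_s6, pr, Multiset.insert_eq_cons, Multiset.count_singleton, inv_inv]
  simp
  ring

/-- The eigenvalues on the 6-dimensional module. -/
theorem exists_evs_rho6 [CharP F 2] (g : chevG2.group F) : ∃ a b c : K, a * b * c = 1 ∧
    evs K (Matrix.toLin' (rho6 F g)) = s6 a b c := by
  have : CharP K 2 := charP_of_injective_algebraMap (algebraMap F K).injective 2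
  obtain ⟨h, ht, a, b, ha, hb, hd⟩ := exists_conj_tri (fieldHom chevG2 (algebraMap F K) g)
  have ht' : (rho6 K (h * fieldHom chevG2 (algebraMap F K) g * h⁻¹)).BlockTriangular id :=
    fun i j hij => ht (Fin.strictMono_succAbove 3 hij)
  have hd' : ∀ i, rho6 K (h * fieldHom chevG2 (algebraMap F K) g * h⁻¹) i i =
      ![a * b, a, b, b⁻¹, a⁻¹, (a * b)⁻¹] i := fun i => by
    rw [rho6_apply, hd]; fin_cases i <;> rfl
  rw [map_mul, map_mul, rho6_fieldHom] at ht' hd'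
  refine ⟨a, b, (a * b)⁻¹, mul_inv_cancel₀ (mul_ne_zero ha hb), ?_⟩
  rw [evs_toLin'_of_conj K (by rw [← map_mul, inv_mul_cancel, map_one]) ht', funext hd']
  classical
  ext μ
  simp only [Fin.univ_val_map, List.ofFn_succ, List.ofFn_zero, ← Multiset.cons_coe,
    Multiset.count_cons, count_s6, pr, Multiset.insert_eq_cons, Multiset.count_singleton, inv_inv]
  simp
  ring

variable [Fintype F] [DecidableEq K]

theorem exists_cases_rho (g : chevG2.group F) : ∃ S : Multiset K, Cases (Fintype.card F) S ∧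
    S.card = 6 ∧ evs K (Matrix.toLin' (rho F g)) = 1 ::ₘ S := by
  obtain ⟨a, b, c, h, e⟩ := exists_evs_rho K g
  refine ⟨_, cases_s6 h Fintype.card_pos
    (fun μ hμ => spec_pow_card_injective (F := F) (hμ.trans (one_pow _).symm)) ?_, rfl, e⟩
  have := evs_map_frob (K := K) (Matrix.toLin' (rho F g))
  rwa [e, Multiset.map_cons, one_pow, Multiset.cons_inj_right, map_s6] at this

theorem exists_cases_rho6 [CharP F 2] (g : chevG2.group F) :
    Cases (Fintype.card F) (evs K (Matrix.toLin' (rho6 F g))) := by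
  obtain ⟨a, b, c, h, e⟩ := exists_evs_rho6 K g
  have := evs_map_frob (K := K) (Matrix.toLin' (rho6 F g))
  rw [e, map_s6] at this
  rw [e]
  exact cases_s6 h Fintype.card_pos
    (fun μ hμ => spec_pow_card_injective (F := F) (hμ.trans (one_pow _).symm)) this

end evs

end Cfsg.Agent.Chev.G2
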