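import Mathlib
import Cfsg.Agent.Chev.G2Rep

/-!
# The 6-dimensional representation of `G₂(K)` in characteristic two
-/

set_option autoImplicit false

namespace Cfsg.Agent.Chev.G2

open Cfsg.Lie Cfsg.Lie.ChevalleyDatum
open scoped Matrix

variable (K : Type*) [Field K]

/-- Matrices which preserve the line spanned by the middle basis vector. -/
def midFix : Submonoid (Matrix (Fin 7) (Fin 7) K) where
  carrier := {M | ∀ i : Fin 6, M ((3 : Fin 7).succAbove i) 3 = 0}
  one_mem' := fun i => Matrix.one_apply_ne (Fin.succAbove_ne 3 i)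
  mul_mem' := fun {M N} hM hN i => by
    rw [Matrix.mul_apply, Fin.sum_univ_succAbove _ 3, hM i, zero_mul, zero_add]
    exact Finset.sum_eq_zero fun k _ => by rw [hN k, mul_zero]

/-- The action on the quotient by the middle basis vector. -/
def midRed : midFix K →* Matrix (Fin 6) (Fin 6) K where
  toFun M := M.1.submatrix (3 : Fin 7).succAbove (3 : Fin 7).succAbove
  map_one' := Matrix.submatrix_one _ Fin.succAbove_right_injective
  map_mul' M N := by
    ext i j
    rw [Matrix.submatrix_apply, Submonoid.coe_mul, Matrix.mul_apply, Fin.sum_univ_succAbove _ 3,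
      M.2 i, zero_mul, zero_add, Matrix.mul_apply]
    rfl

variable [CharP K 2]

theorem Y_mem_midFix {r : ℕ} (hr : r < 12) (t : K) : Y r t ∈ midFix K := by
  have h2 : (2 : K) = 0 := CharTwo.two_eq_zero
  intro i
  interval_cases r <;> fin_cases i <;> simp [Y, sp, Fin.succAbove, h2]

theorem rho_mem_midFix (g : chevG2.group K) : rho K g ∈ midFix K := by
  induction g using g2_induction with
  | h1 => rw [map_one]; exact one_mem _
  | hx r hr t g ih => rw [map_mul, rho_XG hr]; exact mul_mem (Y_mem_midFix K hr t) ih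

/-- The 6-dimensional representation. -/
noncomputable def rhoSix : chevG2.group K →* GL (Fin 6) K :=
  ((midRed K).comp ((rho K).codRestrict (midFix K) (rho_mem_midFix K))).toHomUnits

theorem coe_rhoSix (g : chevG2.group K) : (rhoSix K g : Matrix (Fin 6) (Fin 6) K) =
    (rho K g).submatrix (3 : Fin 7).succAbove (3 : Fin 7).succAbove := rfl

theorem coe_rhoSix_XG {r : ℕ} (hr : r < 12) (t : K) :
    (rhoSix K (chevG2.XG K r t) : Matrix (Fin 6) (Fin 6) K) =
      (Y r t).submatrix (3 : Fin 7).succAbove (3 : Fin 7).succAbove := by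
  rw [coe_rhoSix, rho_XG hr]

theorem rhoSix_injective (hK : ∃ a : K, a ≠ 0 ∧ a ≠ 1) : Function.Injective (rhoSix K) := by
  have := (S1055.result hK).1
  rw [← MonoidHom.ker_eq_bot_iff]
  refine (IsSimpleGroup.eq_bot_or_eq_top_of_normal _ inferInstance).resolve_right fun h => ?_
  have h1 : rhoSix K (chevG2.XG K 6 1) = 1 := h.ge (Subgroup.mem_top _)
  have h2 : (rhoSix K (chevG2.XG K 6 1) : Matrix (Fin 6) (Fin 6) K) 1 2 =
      (1 : Matrix (Fin 6) (Fin 6) K) 1 2 := by rw [h1]; rfl
  rw [coe_rhoSix_XG K (by norm_num)] at h2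
  simp [Y, sp, Fin.succAbove] at h2

end Cfsg.Agent.Chev.G2
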