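import Mathlib
import Cfsg.Agent.Chev.G2Eig
import Cfsg.Agent.S2371

/-!
# Element orders of `G₂(q)`
-/

set_option autoImplicit false
set_option linter.unnecessarySeqFocus false
set_option maxRecDepth 100000

namespace Cfsg.Agent.Chev.G2

open Cfsg.Lie Cfsg.Lie.ChevalleyDatum Cfsg.Agent.Cl Polynomial
open scoped Matrix

section upper

variable {F : Type*} [Field F]

theorem pow_eq_one_of_toLin' {g : chevG2.group F} {n : ℕ} (h : Matrix.toLin' (rho F g) ^ n = 1) :
    g ^ n = 1 := by
  apply rho_injective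
  apply Matrix.toLin'.injective
  rw [map_pow, Matrix.toLin'_pow, h, map_one, Matrix.toLin'_one]; rfl

theorem pow_eq_one_of_toLin'6 [CharP F 2] {g : chevG2.group F} {n : ℕ}
    (h : Matrix.toLin' (rho6 F g) ^ n = 1) : g ^ n = 1 := by
  apply rho6_injective
  apply Matrix.toLin'.injective
  rw [map_pow, Matrix.toLin'_pow, h, map_one, Matrix.toLin'_one]; rfl

theorem pow_eq_one_of_erase {K : Type*} [Field K] [Algebra F K] [IsAlgClosed K] [DecidableEq K]
    (p : ℕ) [Fact p.Prime] [CharP F p] (hp : p ≠ 2) (g : chevG2.group F) {k b : ℕ}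
    (h : ∀ μ ∈ evs K (Matrix.toLin' (rho F g)), μ ^ k = 1)
    (hb : ∀ μ, ((evs K (Matrix.toLin' (rho F g))).erase (-1)).count μ ≤ p ^ b) :
    g ^ (k * p ^ b) = 1 := by
  have h2 : (2 : F) ≠ 0 := Ring.two_ne_zero (by rwa [ringChar.eq F p])
  have h1 := spec_aeval_pow_eq_zero_erase (K := K) h2 (bfL_nondeg h2) bf_comm
    (x := Matrix.toLin' (rho F g)) (bf_rho g) (a := -1) (by simp)
    (by simp [det_rho]) (P := Polynomial.X ^ k - C 1) (k := p ^ b) (by simpa using hb)
    fun μ hμ => by simp [h μ hμ]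
  rw [← map_pow, sub_pow_char_pow, map_sub, sub_eq_zero] at h1
  exact pow_eq_one_of_toLin' (by simpa [pow_mul] using h1)

variable [Fintype F]

/-- Exponents of elements of `G₂(q)`, `q` odd. -/
theorem pow_eq_one_odd (p : ℕ) [Fact p.Prime] [CharP F p] (hp : p ≠ 2) (g : chevG2.group F) :
    (∀ b, 7 ≤ p ^ b → g ^ p ^ b = 1) ∨
    (∃ k ∈ [Fintype.card F ^ 2 - 1, Fintype.card F ^ 2 + Fintype.card F + 1,
      Fintype.card F ^ 2 - Fintype.card F + 1], g ^ k = 1) ∨
    ∃ k ∈ [Fintype.card F + 1, Fintype.card F - 1], g ^ (p * k) = 1 := by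
  classical
  have hK : CharP (AlgebraicClosure F) p := inferInstance
  have hp3 : 3 ≤ p := by have := (Fact.out : p.Prime).two_le; omega
  have h2 : (-1 : AlgebraicClosure F) ≠ 1 := Ring.neg_one_ne_one_of_char_ne_two
    (by rwa [ringChar.eq _ p])
  obtain ⟨S, hS, hc, e⟩ := exists_cases_rho (AlgebraicClosure F) g
  have hm : ∀ k, (∀ μ ∈ S, μ ^ k = 1) → ∀ μ ∈ evs (AlgebraicClosure F) (Matrix.toLin' (rho F g)),
      μ ^ k = 1 := fun k hk μ hμ => by
    rw [e, Multiset.mem_cons] at hμ
    rcases hμ with rfl | hμ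
    exacts [one_pow _, hk μ hμ]
  have hcount : ∀ μ, ((1 ::ₘ S).erase (-1)).count μ =
      if μ = 1 then S.count 1 + 1 else if μ = -1 then S.count μ - 1 else S.count μ := fun μ => by
    split_ifs with h1 h1'
    · rw [h1, Multiset.count_erase_of_ne h2.symm, Multiset.count_cons_self]
    · rw [h1', Multiset.count_erase_self, Multiset.count_cons_of_ne h2]
    · rw [Multiset.count_erase_of_ne h1', Multiset.count_cons_of_ne h1]
  rcases hS with h | ⟨h1, h, k, hk, hk'⟩ | ⟨⟨k, hk, hk'⟩, h1, h⟩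
  · refine Or.inl fun b hb => ?_
    have := pow_eq_one_of_erase p hp g (hm 1 (by simpa using h)) (b := b) fun μ =>
      (Multiset.count_le_card _ _).trans ((Multiset.card_erase_le).trans (by rw [e]; simpa [hc]))
    rwa [one_mul] at this
  · refine Or.inr (Or.inl ⟨k, hk, ?_⟩)
    have := pow_eq_one_of_erase p hp g (hm k hk') (b := 0) fun μ => by
      have := h μ
      rw [e, hcount, Multiset.count_eq_zero.2 h1]
      split_ifs <;> simp_all <;> omega
    rwa [pow_zero, mul_one] at this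
  · refine Or.inr (Or.inr ⟨k, hk, ?_⟩)
    have := pow_eq_one_of_erase p hp g (hm k hk') (b := 1) fun μ => by
      have := h μ
      rw [e, hcount, pow_one]
      split_ifs with a1 a2
      · omega
      · omega
      · simp only [a2, false_and, false_or] at this; omega
    rwa [pow_one, mul_comm] at this

/-- Exponents of elements of `G₂(q)`, `q` even. -/
theorem pow_eq_one_even [CharP F 2] (g : chevG2.group F) : g ^ 8 = 1 ∨ g ^ 12 = 1 ∨
    (∃ k ∈ [Fintype.card F ^ 2 - 1, Fintype.card F ^ 2 + Fintype.card F + 1,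
      Fintype.card F ^ 2 - Fintype.card F + 1], g ^ k = 1) ∨
    ∃ k ∈ [Fintype.card F + 1, Fintype.card F - 1], g ^ (2 * k) = 1 := by
  classical
  have h2 : (-1 : AlgebraicClosure F) = 1 := CharTwo.neg_eq 1
  have key : ∀ k b, (∀ μ ∈ evs (AlgebraicClosure F) (Matrix.toLin' (rho6 F g)), μ ^ k = 1) →
      (∀ μ, (evs (AlgebraicClosure F) (Matrix.toLin' (rho6 F g))).count μ ≤ 2 ^ b) →
      g ^ (k * 2 ^ b) = 1 := fun k b h hb => pow_eq_one_of_toLin'6 (by
    simpa using pow_mul_eq_of_count_le 2 (c := 1) (by simpa using h) hb)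
  rcases exists_cases_rho6 (AlgebraicClosure F) g with h | ⟨h1, h, k, hk, hk'⟩ | ⟨⟨k, hk, hk'⟩, h1, h⟩
  · exact Or.inl (key 1 3 (by simpa using h) fun μ =>
      (Multiset.count_le_card _ _).trans (by rw [evs_card]; simp))
  · refine Or.inr (Or.inr (Or.inl ⟨k, hk, ?_⟩))
    have := key k 0 hk' fun μ => (h μ).elim id fun h => by
      rw [h.1, h2, Multiset.count_eq_zero.2 h1]; simp
    rwa [pow_zero, mul_one] at this
  · by_cases h3 : ∀ ν ∈ evs (AlgebraicClosure F) (Matrix.toLin' (rho6 F g)), ν ^ 3 = 1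
    · refine Or.inr (Or.inl (key 3 2 h3 fun μ => ?_))
      have := h μ
      omega
    · refine Or.inr (Or.inr (Or.inr ⟨k, hk, ?_⟩))
      have := key k 1 hk' fun μ => by
        rcases h μ with h | h | h
        exacts [h, absurd (h.1.trans h2) h.2.1, absurd h.1 h3]
      rwa [pow_one, mul_comm] at this

/-- An element with a fixed vector on the 6-dimensional module. -/
theorem pow_eq_one_of_fix [CharP F 2] {g : chevG2.group F} {v : Fin 6 → F} (hv : v ≠ 0)
    (h : rho6 F g *ᵥ v = v) : ∃ k ∈ [Fintype.card F + 1, Fintype.card F - 1], g ^ (8 * k) = 1 := by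
  classical
  have h1 : (1 : AlgebraicClosure F) ∈ evs (AlgebraicClosure F) (Matrix.toLin' (rho6 F g)) := by
    have : Module.End.HasEigenvalue (Matrix.toLin' (rho6 F g)) 1 :=
      Module.End.hasEigenvalue_of_hasEigenvector ⟨Module.End.mem_eigenspace_iff.2 (by simpa using h), hv⟩
    rw [Module.End.hasEigenvalue_iff_isRoot_charpoly] at this
    rw [mem_evs, ← map_one (algebraMap F _), aeval_algebraMap_apply, coe_aeval_eq_eval, this.eq_zero,
      map_zero]
  have key : ∀ k, (∀ μ ∈ evs (AlgebraicClosure F) (Matrix.toLin' (rho6 F g)), μ ^ k = 1) →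
      g ^ (8 * k) = 1 := fun k h => pow_eq_one_of_toLin'6 (by
    simpa [mul_comm] using pow_mul_eq_of_evs (K := AlgebraicClosure F) 2 (x := Matrix.toLin' (rho6 F g)) (c := 1) (b := 3)
      (k := k) (by rwa [map_one]) (by simp))
  rcases exists_cases_rho6 (AlgebraicClosure F) g with h | h | ⟨⟨k, hk, hk'⟩, -⟩
  · exact ⟨_, List.mem_cons_self, key _ fun μ hμ => by rw [h μ hμ, one_pow]⟩
  · exact absurd h1 h.1
  · exact ⟨k, hk, key k hk'⟩

end upper

section levi

variable {F : Type*} [Field F]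

/-- The Levi subgroup `GL₂`. -/
def levi : GL (Fin 2) F →* Matrix (Fin 7) (Fin 7) F where
  toFun A := !![A.1.det, 0, 0, 0, 0, 0, 0;
    0, A.1 0 0, A.1 0 1, 0, 0, 0, 0;
    0, A.1 1 0, A.1 1 1, 0, 0, 0, 0;
    0, 0, 0, 1, 0, 0, 0;
    0, 0, 0, 0, A.1 0 0 * A.1.det⁻¹, A.1 0 1 * A.1.det⁻¹, 0;
    0, 0, 0, 0, A.1 1 0 * A.1.det⁻¹, A.1 1 1 * A.1.det⁻¹, 0;
    0, 0, 0, 0, 0, 0, A.1.det⁻¹]
  map_one' := by
    ext i j; fin_cases i <;> fin_cases j <;> simp
  map_mul' A B := by
    ext i j
    rw [Units.val_mul, Matrix.det_mul]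
    fin_cases i <;> fin_cases j <;> simp [Matrix.mul_apply, Fin.sum_univ_seven] <;> ring

theorem levi_injective : Function.Injective (levi (F := F)) := fun A B h => by
  ext i j
  fin_cases i <;> fin_cases j
  exacts [congrFun (congrFun h 1) 1, congrFun (congrFun h 1) 2, congrFun (congrFun h 2) 1,
    congrFun (congrFun h 2) 2]

theorem exists_rho_eq_levi (A : GL (Fin 2) F) : ∃ g, rho F g = levi A := by
  refine Matrix.diagonal_transvection_induction_of_det_ne_zero
    (fun M => ∀ A : GL (Fin 2) F, A.1 = M → ∃ g, rho F g = levi A) A.1 A.det_ne_zero ?_ ?_ ?_ A rfl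
  · intro D hD A hA
    rw [Matrix.det_diagonal, Fin.prod_univ_two] at hD
    have h0 := left_ne_zero_of_mul hD
    have h1 := right_ne_zero_of_mul hD
    refine ⟨hG ⟨7, by decide⟩ (D 0 * D 1) * hG ⟨6, by decide⟩ (D 0 * D 0 * D 1), ?_⟩
    rw [map_mul, rho_hG _ hD, rho_hG _ (mul_ne_zero (mul_ne_zero h0 h0) h1),
      Matrix.diagonal_mul_diagonal]
    have e7 : hx 7 = ![1, -1, 2, 0, -2, 1, -1] := by decide
    have e6 : hx 6 = ![0, 1, -1, 0, 1, -1, 0] := by decide
    ext i j
    fin_cases i <;> fin_cases j <;> simp [levi, hA, e7, e6] <;> field_simp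
  · rintro ⟨i, j, hij, c⟩ A hA
    fin_cases i <;> fin_cases j
    · exact absurd rfl hij
    · refine ⟨chevG2.XG F 6 c, ?_⟩
      rw [rho_XG (by norm_num)]
      ext i j
      fin_cases i <;> fin_cases j <;> simp [levi, hA, Y, sp, Matrix.transvection, Matrix.det_fin_two]
    · refine ⟨chevG2.XG F 5 c, ?_⟩
      rw [rho_XG (by norm_num)]
      ext i j
      fin_cases i <;> fin_cases j <;> simp [levi, hA, Y, sp, Matrix.transvection, Matrix.det_fin_two]
    · exact absurd rfl hij
  · intro M N hM hN ihM ihN A hA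
    obtain ⟨g, hg⟩ := ihM (Matrix.GeneralLinearGroup.mkOfDetNeZero M hM) rfl
    obtain ⟨h, hh⟩ := ihN (Matrix.GeneralLinearGroup.mkOfDetNeZero N hN) rfl
    exact ⟨g * h, by rw [map_mul, hg, hh, ← map_mul]; exact congrArg _ (Units.ext hA.symm)⟩

theorem exists_orderOf_eq_gl (A : GL (Fin 2) F) : ∃ g : chevG2.group F, orderOf g = orderOf A :=
  (exists_rho_eq_levi A).imp fun g hg => by rw [← orderOf_rho, hg, orderOf_injective _ levi_injective]

theorem orderOf_XG (p : ℕ) [Fact p.Prime] [CharP F p] : orderOf (chevG2.XG F 9 1) = p := by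
  have : ∀ n : ℕ, chevG2.XG F 9 1 ^ n = chevG2.XG F 9 n := fun n => by
    induction n with
    | zero => apply rho_injective; simp [rho_XG, Y_zero]
    | succ n ih => rw [pow_succ, ih, ← XG_add (by norm_num), Nat.cast_succ]
  refine orderOf_eq_prime ?_ fun h => ?_
  · apply rho_injective; simp [this, rho_XG, Y_zero]
  · have h1 := congrFun (congrFun (congrArg (rho F) h) 1) 4
    simp [rho_XG, Y, sp] at h1

theorem exists_orderOf_eq_sl (p : ℕ) [Fact p.Prime] [CharP F p] {A : GL (Fin 2) F}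
    (hA : A.1.det = 1) (hp : p.Coprime (orderOf A)) :
    ∃ g : chevG2.group F, orderOf g = p * orderOf A := by
  obtain ⟨g, hg⟩ := exists_rho_eq_levi A
  have h1 : orderOf g = orderOf A := by rw [← orderOf_rho, hg, orderOf_injective _ levi_injective]
  have h2 : Commute (chevG2.XG F 9 1) g := by
    apply rho_injective
    rw [map_mul, map_mul, hg, rho_XG (by norm_num)]
    ext i j
    fin_cases i <;> fin_cases j <;> simp [levi, hA, Y, sp, Matrix.mul_apply, Fin.sum_univ_seven]
  exact ⟨_, by rw [h2.orderOf_mul_eq_mul_orderOf_of_coprime (by rwa [h1, orderOf_XG p]), h1,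
    orderOf_XG p]⟩

variable (F) [Fintype F]

theorem exists_singer_gl : ∃ A : GL (Fin 2) F, orderOf A = Fintype.card F ^ 2 - 1 ∧
    (A ^ (Fintype.card F - 1)).1.det = 1 := by
  obtain ⟨p, hc, k, hp, hq⟩ := FiniteField.card' F
  have := Fact.mk hp
  let E := FiniteField.Extension F p 2
  have hE : Nat.card E = Fintype.card F ^ 2 := by
    rw [FiniteField.natCard_extension, Nat.card_eq_fintype_card]
  let b := Module.finBasisOfFinrankEq F E (FiniteField.finrank_extension F p 2)
  obtain ⟨ω, hω⟩ := IsCyclic.exists_ofOrder_eq_natCard (α := Eˣ)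
  rw [Nat.card_units, hE] at hω
  refine ⟨Units.map (Algebra.leftMulMatrix b).toMonoidHom ω, ?_, ?_⟩
  · rw [orderOf_injective _ (Units.map_injective (Algebra.leftMulMatrix_injective b)), hω]
  · rw [← map_pow]
    apply (algebraMap F E).injective
    have := FiniteField.algebraMap_norm_eq_pow (K := F) (x := (ω ^ (Fintype.card F - 1)).1)
    rw [Algebra.norm_eq_matrix_det b, hE, Nat.card_eq_fintype_card, Units.val_pow_eq_pow_val,
      ← pow_mul, Nat.mul_div_cancel' (Nat.sub_one_dvd_pow_sub_one _ _), ← hω,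
      ← Units.val_pow_eq_pow_val, ← Units.val_pow_eq_pow_val, pow_orderOf_eq_one] at this
    rw [map_one]
    exact this

theorem exists_orderOf_sq_sub_one : ∃ g : chevG2.group F, orderOf g = Fintype.card F ^ 2 - 1 := by
  obtain ⟨A, hA, -⟩ := exists_singer_gl F
  exact hA ▸ exists_orderOf_eq_gl A

theorem exists_orderOf_mul_add_one (p : ℕ) [Fact p.Prime] [CharP F p] :
    ∃ g : chevG2.group F, orderOf g = p * (Fintype.card F + 1) := by
  obtain ⟨A, hA, h⟩ := exists_singer_gl F
  have hq : 1 < Fintype.card F := Fintype.one_lt_card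
  have h1 : orderOf (A ^ (Fintype.card F - 1)) = Fintype.card F + 1 := by
    have : Fintype.card F ^ 2 - 1 = (Fintype.card F + 1) * (Fintype.card F - 1) := by
      rw [← Nat.sq_sub_sq, one_pow]
    rw [orderOf_pow_of_dvd (by omega) (by rw [hA, this]; exact dvd_mul_left _ _), hA, this,
      Nat.mul_div_cancel _ (by omega)]
  rw [← h1]
  refine exists_orderOf_eq_sl p h ?_
  obtain ⟨n, -, hn⟩ := FiniteField.card F p
  rw [h1, (Fact.out : p.Prime).coprime_iff_not_dvd, Nat.dvd_add_right (hn ▸ dvd_pow_self p n.ne_zero)]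
  exact (Fact.out : p.Prime).not_dvd_one

theorem exists_orderOf_mul_sub_one (p : ℕ) [Fact p.Prime] [CharP F p] :
    ∃ g : chevG2.group F, orderOf g = p * (Fintype.card F - 1) := by
  classical
  obtain ⟨ω, hω⟩ := IsCyclic.exists_ofOrder_eq_natCard (α := Fˣ)
  rw [Nat.card_units, Nat.card_eq_fintype_card] at hω
  let f : Fˣ →* Matrix (Fin 2) (Fin 2) F :=
    { toFun := fun t => Matrix.diagonal ![t.1, t⁻¹.1]
      map_one' := by ext i j; fin_cases i <;> fin_cases j <;> simp
      map_mul' := fun s t => by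
        rw [Matrix.diagonal_mul_diagonal]; congr 1; funext i; fin_cases i <;> simp [mul_comm] }
  have h1 : orderOf (f.toHomUnits ω) = Fintype.card F - 1 := by
    rw [orderOf_injective f.toHomUnits fun s t h =>
      Units.ext (congrArg (fun A : GL (Fin 2) F => A.1 0 0) h), hω]
  rw [← h1]
  refine exists_orderOf_eq_sl p (by simp [f]) ?_
  obtain ⟨n, -, hn⟩ := FiniteField.card F p
  have hq : 1 < Fintype.card F := Fintype.one_lt_card
  rw [h1, (Fact.out : p.Prime).coprime_iff_not_dvd]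
  intro h
  have := (Nat.dvd_sub_iff_right hq.le (hn ▸ dvd_pow_self p n.ne_zero)).1 h
  exact (Fact.out : p.Prime).not_dvd_one this

theorem exists_orderOf_of_isCyclic {G : Type*} [Group G] {H : Subgroup G} (h : IsCyclic H) :
    ∃ g : G, orderOf g = Nat.card H :=
  let ⟨g, hg⟩ := IsCyclic.exists_ofOrder_eq_natCard (α := H)
  ⟨g, by rw [Subgroup.orderOf_coe, hg]⟩

theorem exists_orderOf_sq_add (hq : 3 ≤ Fintype.card F) :
    ∃ g : chevG2.group F, orderOf g = Fintype.card F ^ 2 + Fintype.card F + 1 := by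
  obtain ⟨H, h1, h2, -⟩ := S2371.result (F := F) _ rfl hq
  exact h2 ▸ exists_orderOf_of_isCyclic h1

/-- The Coxeter element. -/
def coxW : List (Fin 2) := [0, 1]

/-- The certificate for the Coxeter torus. -/
def coxT : TorTab :=
  { V := [[-2, 1], [-1, 0], [1, -1]]
    B := [[0, -1], [1, -2]]
    G := [[1, 0], [-2, 1]]
    p := [1, -1]
    g := [-1, 0]
    C := 2, m := 1, d := 1, a := 7, q0 := 4, q1 := 6 }

theorem coxT_ok1 : coxT.OK1 chevG2.rank (chevG2.lwL (coxW.map Fin.val)) := by decide +kernel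

theorem coxT_ok2 : coxT.OK2 chevG2 (chevG2.lwL (coxW.map Fin.val)) := by decide +kernel

theorem exists_cox_torus {q : ℕ} (hF : Fintype.card F = q) (hq : 4 ≤ q) :
    ∃ H : Subgroup (chevG2.group F), IsCyclic H ∧ Nat.card H = q ^ 2 - q + 1 ∧
      Subgroup.centralizer (H : Set (chevG2.group F)) = H := by
  have hc : ((q ^ 2 - q + 1 : ℕ) : ℤ) = q ^ 2 - q + 1 := by
    rw [Nat.cast_add, Nat.cast_sub (Nat.le_self_pow two_ne_zero q)]; simp
  refine TorTab.exists_selfCent_finite F (stTor_injective_G2 _) coxW hF coxT coxT_ok1 coxT_ok2 hq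
    (N := q ^ 2 - q + 1) ?_ ?_ (one_mul _).symm (fun _ _ => one_dvd _) fun k hk => ?_
  · change _ = coxT.N 2 q
    rw [hc]; simp [TorTab.N, coxT, sumL, List.range_succ]; ring
  · intro h
    rw [hc]
    obtain ⟨t, rfl⟩ := Nat.exists_eq_add_of_le h
    change 2 * 2 * ∑ k ∈ Finset.range 2, _ < _
    simp only [coxT, Finset.sum_range_succ, Finset.sum_range_zero]
    push_cast
    rw [← sub_pos]; ring_nf; positivity
  · exact Int.natCast_dvd_natCast.1 (by simpa [coxT] using hk)

theorem exists_orderOf_sq_sub (hq : 4 ≤ Fintype.card F) :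
    ∃ g : chevG2.group F, orderOf g = Fintype.card F ^ 2 - Fintype.card F + 1 := by
  obtain ⟨H, h1, h2, -⟩ := exists_cox_torus F rfl hq
  exact h2 ▸ exists_orderOf_of_isCyclic h1

end levi

section words

variable (F : Type*) [Field F]

/-- A product of root elements `x_r(1)`. -/
noncomputable def gw (w : List ℕ) : chevG2.group F := (w.map fun r => chevG2.XG F r 1).prod

/-- The integer entries of a power of a product of root elements. -/
def entZ (w : List ℕ) (n : ℕ) (i j : Fin 7) : ℤ :=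
  ((entP ((List.replicate n w).flatten.map fun r => (r, [(0, 0, 1)])) i j).map fun m => m.2.2).sum

theorem rho_gw_pow {w : List ℕ} (hw : ∀ r ∈ w, r < 12) (n : ℕ) (i j : Fin 7) :
    rho F (gw F w ^ n) i j = entZ w n i j := by
  have h1 : ∀ p : P, evP (1 : F) 1 p = ((p.map fun m => m.2.2).sum : ℤ) := fun p => by
    induction p with
    | nil => simp [evP]
    | cons a l ih => simp [evP_cons, ih, evM]
  rw [entZ, ← h1, evP_entP, map_pow, gw, map_list_prod, List.map_map, List.map_map,
    List.map_flatten, List.prod_flatten, List.map_replicate, List.map_replicate, List.prod_replicate]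
  rw [List.map_congr_left (g := (fun a : ℕ × P => Y a.1 (evP (1 : F) 1 a.2)) ∘ fun r => (r, [(0, 0, 1)]))
    fun r hr => by simp [rho_XG (hw r hr), evP, evM]]

theorem gw_pow_eq_one_iff (p : ℕ) [CharP F p] {w : List ℕ} (hw : ∀ r ∈ w, r < 12) (n : ℕ) :
    gw F w ^ n = 1 ↔ ∀ i j, (entZ w n i j - if i = j then 1 else 0) % p = 0 := by
  rw [← rho_injective.eq_iff, map_one, ← Matrix.ext_iff]
  refine forall₂_congr fun i j => ?_
  rw [rho_gw_pow F hw, ← Int.dvd_iff_emod_eq_zero, ← CharP.intCast_eq_zero_iff F p, Int.cast_sub,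
    sub_eq_zero, Matrix.one_apply]
  simp

theorem orderOf_gw_three [CharP F 3] : orderOf (gw F [0, 8]) = 3 ^ 2 :=
  haveI := Fact.mk Nat.prime_three
  orderOf_eq_prime_pow (n := 1) (by rw [gw_pow_eq_one_iff F 3 (by decide)]; decide +kernel)
    (by rw [gw_pow_eq_one_iff F 3 (by decide)]; decide +kernel)

theorem orderOf_gw_five [CharP F 5] : orderOf (gw F [0, 8]) = 5 ^ 2 :=
  haveI := Fact.mk Nat.prime_five
  orderOf_eq_prime_pow (n := 1) (by rw [gw_pow_eq_one_iff F 5 (by decide)]; decide +kernel)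
    (by rw [gw_pow_eq_one_iff F 5 (by decide)]; decide +kernel)

theorem orderOf_gw_eight [CharP F 2] : orderOf (gw F [0, 8]) = 8 :=
  orderOf_eq_prime_pow (p := 2) (n := 2) (by rw [gw_pow_eq_one_iff F 2 (by decide)]; decide +kernel)
    (by rw [gw_pow_eq_one_iff F 2 (by decide)]; decide +kernel)

theorem orderOf_gw_twelve [CharP F 2] : orderOf (gw F [0, 2, 9]) = 12 := by
  refine orderOf_eq_of_pow_and_pow_div_prime (by norm_num) ?_ fun p hp h => ?_
  · rw [gw_pow_eq_one_iff F 2 (by decide)]; decide +kernel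
  · have := Nat.le_of_dvd (by norm_num) h
    rw [Ne, gw_pow_eq_one_iff F 2 (by decide)]
    interval_cases p <;> first | (norm_num at hp; done) | (norm_num at h; done) | decide +kernel

end words

end Cfsg.Agent.Chev.G2
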