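import Mathlib
import Cfsg.Agent.Chev.BNHecke
import Cfsg.Agent.Blk.Omega

/-!
The generic Hecke algebra with one parameter and the number of irreducible constituents of the
permutation character on the cosets of `B` (Tits' deformation argument).
-/

set_option autoImplicit false

namespace Cfsg.Agent.Chev.HG

open CoxeterSystem Finset Matrix Polynomial

theorem eventually_rank_le {m n : Type*} [Fintype m] [Fintype n] (A : Matrix m n ℂ[X]) (a : ℂ) :
    {x | ¬ (A.map (eval a)).rank ≤ (A.map (eval x)).rank}.Finite := by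
  classical
  set f := (A.map (eval a)).mulVecLin with hf
  let b := Module.finBasis ℂ (LinearMap.range f)
  obtain ⟨g, hg⟩ := f.rangeRestrict.exists_rightInverse_of_surjective
    (LinearMap.range_rangeRestrict f)
  obtain ⟨h, hh⟩ := (LinearMap.range f).subtype.exists_leftInverse_of_injective
    (Submodule.ker_subtype _)
  let Q := LinearMap.toMatrix' (g ∘ₗ b.equivFun.symm.toLinearMap)
  let P := LinearMap.toMatrix' (b.equivFun.toLinearMap ∘ₗ h)
  have h1 : P * A.map (eval a) * Q = 1 := by
    rw [← LinearMap.toMatrix'_toLin' (A.map _), ← LinearMap.toMatrix'_comp,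
      ← LinearMap.toMatrix'_comp, ← LinearMap.toMatrix'_id]
    congr 1
    refine LinearMap.ext fun v => ?_
    have e1 : f (g (b.equivFun.symm v)) = b.equivFun.symm v :=
      congrArg Subtype.val (LinearMap.congr_fun hg (b.equivFun.symm v))
    have e2 := LinearMap.congr_fun hh (b.equivFun.symm v)
    simp only [LinearMap.comp_apply, LinearEquiv.coe_coe, Submodule.subtype_apply,
      LinearMap.id_apply] at e2 ⊢
    rw [toLin'_apply', ← hf, e1, e2, LinearEquiv.apply_symm_apply]
  have h2 : ∀ x, eval x (P.map C * A * Q.map C).det = (P * A.map (eval x) * Q).det := fun x => by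
    rw [← coe_evalRingHom, RingHom.map_det, RingHom.mapMatrix_apply, Matrix.map_mul, Matrix.map_mul,
      Matrix.map_map, Matrix.map_map]
    congr 3 <;> ext <;> simp
  refine (finite_setOfPred_isRoot (p := (P.map C * A * Q.map C).det) fun h0 => ?_).subset
    fun x hx => ?_
  · have := h2 a
    rw [h0, h1] at this
    simp at this
  · by_contra h3
    refine hx ?_
    have h4 := rank_of_isUnit _ ((isUnit_iff_isUnit_det _).2 (Ne.isUnit ((h2 x).symm.trans_ne h3)))
    rw [Fintype.card_fin] at h4
    exact h4.ge.trans ((rank_mul_le_left _ _).trans (rank_mul_le_right _ _))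

theorem rank_add_rank_le {l m n : Type*} [Fintype l] [Fintype m] [Fintype n] (A : Matrix l m ℂ[X])
    (B : Matrix m n ℂ[X]) (h : A * B = 0) (a b : ℂ) :
    (A.map (eval a)).rank + (B.map (eval b)).rank ≤ Fintype.card m := by
  obtain ⟨x, hx⟩ := ((eventually_rank_le A a).union (eventually_rank_le B b)).exists_notMem
  simp only [Set.mem_union, Set.mem_ofPred_eq, not_or, not_not] at hx
  refine (add_le_add hx.1 hx.2).trans (rank_add_rank_le_card_of_mul_eq_zero ?_)
  rw [← coe_evalRingHom, ← Matrix.map_mul, h]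
  simp

variable {B W : Type*} [Group W] [Fintype W] [DecidableEq W] {M : CoxeterMatrix B}
  (cs : CoxeterSystem M W) {k : Type*} [CommRing k] (x : k)

open Classical in
/-- Left multiplication by `T_s`. -/
noncomputable def Lm (i : B) : Matrix W W k := Matrix.of fun v w =>
  if cs.IsLeftDescent w i then
    (if v = cs.simple i * w then x else 0) + (if v = w then x - 1 else 0)
  else if v = cs.simple i * w then 1 else 0

open Classical in
/-- Right multiplication by `T_s`. -/
noncomputable def Rm (i : B) : Matrix W W k := Matrix.of fun v w =>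
  if cs.IsRightDescent w i then
    (if v = w * cs.simple i then x else 0) + (if v = w then x - 1 else 0)
  else if v = w * cs.simple i then 1 else 0

variable {cs}

theorem Lm_of {i : B} {w : W} (h : cs.IsLeftDescent w i) : Lm cs x i *ᵥ Pi.single w 1 =
    x • Pi.single (cs.simple i * w) 1 + (x - 1) • Pi.single w 1 := by
  ext v; simp [Lm, h, Pi.single_apply]

theorem Lm_of_not {i : B} {w : W} (h : ¬ cs.IsLeftDescent w i) : Lm cs x i *ᵥ Pi.single w 1 =
    Pi.single (cs.simple i * w) 1 := by
  ext v; simp [Lm, h, Pi.single_apply]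

theorem Rm_of {i : B} {w : W} (h : cs.IsRightDescent w i) : Rm cs x i *ᵥ Pi.single w 1 =
    x • Pi.single (w * cs.simple i) 1 + (x - 1) • Pi.single w 1 := by
  ext v; simp [Rm, h, Pi.single_apply]

theorem Rm_of_not {i : B} {w : W} (h : ¬ cs.IsRightDescent w i) : Rm cs x i *ᵥ Pi.single w 1 =
    Pi.single (w * cs.simple i) 1 := by
  ext v; simp [Rm, h, Pi.single_apply]

omit [Group W] in
theorem ext_single {A A' : Matrix W W k}
    (h : ∀ w, A *ᵥ Pi.single w 1 = A' *ᵥ Pi.single w 1) : A = A' := by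
  ext v w
  simpa using congrFun (h w) v

variable (cs)

theorem Lm_sq (i : B) : Lm cs x i * Lm cs x i = x • 1 + (x - 1) • Lm cs x i := by
  refine ext_single fun w => ?_
  rw [← mulVec_mulVec, add_mulVec, smul_mulVec, smul_mulVec, one_mulVec]
  by_cases h : cs.IsLeftDescent w i
  · conv_lhs => rw [Lm_of x h]
    rw [mulVec_add, mulVec_smul, mulVec_smul,
      Lm_of_not x (cs.isLeftDescent_iff_not_isLeftDescent_mul.1 h), simple_mul_simple_cancel_left]
  · rw [Lm_of_not x h, Lm_of x (by rwa [cs.isLeftDescent_iff_not_isLeftDescent_mul,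
      simple_mul_simple_cancel_left]), simple_mul_simple_cancel_left]

theorem Rm_sq (i : B) : Rm cs x i * Rm cs x i = x • 1 + (x - 1) • Rm cs x i := by
  refine ext_single fun w => ?_
  rw [← mulVec_mulVec, add_mulVec, smul_mulVec, smul_mulVec, one_mulVec]
  by_cases h : cs.IsRightDescent w i
  · conv_lhs => rw [Rm_of x h]
    rw [mulVec_add, mulVec_smul, mulVec_smul,
      Rm_of_not x (cs.isRightDescent_iff_not_isRightDescent_mul.1 h),
      simple_mul_simple_cancel_right]
  · rw [Rm_of_not x h, Rm_of x (by rwa [cs.isRightDescent_iff_not_isRightDescent_mul,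
      simple_mul_simple_cancel_right]), simple_mul_simple_cancel_right]

theorem commute_Lm_Rm (i j : B) : Commute (Lm cs x i) (Rm cs x j) := by
  have h0 : ∀ w, ¬ cs.IsLeftDescent w i → ¬ cs.IsRightDescent w j →
      (Lm cs x i * Rm cs x j) *ᵥ Pi.single w 1 = (Rm cs x j * Lm cs x i) *ᵥ Pi.single w 1 := by
    intro w h1 h2
    rw [← mulVec_mulVec, ← mulVec_mulVec, Lm_of_not x h1, Rm_of_not x h2]
    by_cases h3 : cs.IsLeftDescent (w * cs.simple j) i
    · have h4 := simple_mul_eq_mul_simple cs h1 h3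
      rw [Lm_of x h3, ← mul_assoc, h4, Rm_of x (by
        rwa [cs.isRightDescent_iff_not_isRightDescent_mul, simple_mul_simple_cancel_right])]
    · rw [Lm_of_not x h3, Rm_of_not x, mul_assoc]
      rw [not_isLeftDescent_iff] at h1 h3
      rw [not_isRightDescent_iff] at h2 ⊢
      rw [mul_assoc]
      omega
  have h1 : ∀ w, ¬ cs.IsLeftDescent w i →
      (Lm cs x i * Rm cs x j) *ᵥ Pi.single w 1 = (Rm cs x j * Lm cs x i) *ᵥ Pi.single w 1 := by
    intro w h1
    by_cases h2 : cs.IsRightDescent w j
    · have h3 := cs.isRightDescent_iff_not_isRightDescent_mul.1 h2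
      have h4 := h0 _ (by
        have := cs.length_mul_simple (cs.simple i * w) j
        have := cs.length_simple_mul (w * cs.simple j) i
        rw [not_isLeftDescent_iff] at h1 ⊢
        rw [isRightDescent_iff] at h2
        rw [← mul_assoc] at *
        omega) h3
      have h5 := Rm_of_not x h3
      rw [simple_mul_simple_cancel_right] at h5
      rw [← h5, mulVec_mulVec, mulVec_mulVec, mul_assoc, Rm_sq, mul_assoc,
        ← mulVec_mulVec _ (Rm cs x j), h4, mulVec_mulVec, ← mul_assoc, Rm_sq]
      simp only [mul_add, add_mul, add_mulVec, mul_smul_comm, smul_mul_assoc, smul_mulVec, h4,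
        mul_one, one_mul]
    · exact h0 w h1 h2
  refine ext_single fun w => ?_
  by_cases h2 : cs.IsLeftDescent w i
  · have h3 := cs.isLeftDescent_iff_not_isLeftDescent_mul.1 h2
    have h4 := h1 _ h3
    have h5 := Lm_of_not x h3
    rw [simple_mul_simple_cancel_left] at h5
    rw [← h5, mulVec_mulVec, mulVec_mulVec, mul_assoc, ← mulVec_mulVec _ (Lm cs x i), ← h4,
      mulVec_mulVec, ← mul_assoc, Lm_sq, mul_assoc, Lm_sq]
    simp only [mul_add, add_mul, add_mulVec, mul_smul_comm, smul_mul_assoc, smul_mulVec, h4,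
      mul_one, one_mul]
  · exact h1 w h2

theorem commute_prod (l l' : List B) :
    Commute (l.map (Lm cs x)).prod (l'.map (Rm cs x)).prod :=
  Commute.list_prod_left _ _ fun a ha => Commute.list_prod_right _ _ fun b hb => by
    obtain ⟨i, -, rfl⟩ := List.mem_map.1 ha
    obtain ⟨j, -, rfl⟩ := List.mem_map.1 hb
    exact commute_Lm_Rm cs x i j

theorem prod_Lm_single {l : List B} (hl : cs.IsReduced l) :
    (l.map (Lm cs x)).prod *ᵥ Pi.single 1 1 = Pi.single (cs.wordProd l) 1 := by
  induction l with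
  | nil => simp [-mulVec_single]
  | cons i l ih =>
    obtain ⟨h1, h2⟩ := (isReduced_cons_iff cs).1 hl
    rw [List.map_cons, List.prod_cons, ← mulVec_mulVec, ih h1, Lm_of_not x h2, wordProd_cons]

theorem prod_Rm_single {l : List B} (hl : cs.IsReduced l) :
    (l.map (Rm cs x)).prod *ᵥ Pi.single 1 1 = Pi.single (cs.wordProd l)⁻¹ 1 := by
  induction l with
  | nil => simp [-mulVec_single]
  | cons i l ih =>
    obtain ⟨h1, h2⟩ := (isReduced_cons_iff cs).1 hl
    rw [List.map_cons, List.prod_cons, ← mulVec_mulVec, ih h1,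
      Rm_of_not x (by rwa [isRightDescent_inv_iff]), wordProd_cons, _root_.mul_inv_rev, inv_simple]

/-- A chosen reduced word. -/
noncomputable def rw (w : W) : List B := (cs.exists_isReduced w).choose

omit [Fintype W] [DecidableEq W] in
theorem rw_spec (w : W) : cs.IsReduced (rw cs w) ∧ cs.wordProd (rw cs w) = w :=
  ⟨(cs.exists_isReduced w).choose_spec.1, (cs.exists_isReduced w).choose_spec.2.symm⟩

/-- Left multiplication by `T_w`. -/
noncomputable def Lw (w : W) : Matrix W W k := ((rw cs w).map (Lm cs x)).prod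

/-- Right multiplication by `T_{w⁻¹}`. -/
noncomputable def Rw (w : W) : Matrix W W k := ((rw cs w).map (Rm cs x)).prod

theorem Lw_single (w : W) : Lw cs x w *ᵥ Pi.single 1 1 = Pi.single w 1 := by
  rw [Lw, prod_Lm_single cs x (rw_spec cs w).1, (rw_spec cs w).2]

theorem Rw_single (w : W) : Rw cs x w *ᵥ Pi.single 1 1 = Pi.single w⁻¹ 1 := by
  rw [Rw, prod_Rm_single cs x (rw_spec cs w).1, (rw_spec cs w).2]

theorem prod_Lm_eq {l : List B} (hl : cs.IsReduced l) :
    (l.map (Lm cs x)).prod = Lw cs x (cs.wordProd l) := by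
  refine ext_single fun w => ?_
  rw [← inv_inv w, ← Rw_single cs x, mulVec_mulVec, mulVec_mulVec, Rw, Lw, commute_prod,
    commute_prod, ← mulVec_mulVec, ← mulVec_mulVec, prod_Lm_single cs x hl,
    prod_Lm_single cs x (rw_spec cs _).1, (rw_spec cs _).2]

theorem prod_Rm_eq {l : List B} (hl : cs.IsReduced l) :
    (l.map (Rm cs x)).prod = Rw cs x (cs.wordProd l) := by
  refine ext_single fun w => ?_
  rw [← Lw_single cs x, mulVec_mulVec, mulVec_mulVec, Rw, Lw, ← commute_prod,
    ← commute_prod, ← mulVec_mulVec, ← mulVec_mulVec, prod_Rm_single cs x hl,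
    prod_Rm_single cs x (rw_spec cs _).1, (rw_spec cs _).2]

omit [Fintype W] [DecidableEq W] in
theorem isHecke_of_prod {A : Type*} [Ring A] [Algebra k A] {r : B → A} {t : W → A}
    (hq : ∀ i, r i * r i = x • (1 : A) + (x - 1) • r i)
    (h : ∀ l, cs.IsReduced l → (l.map r).prod = t (cs.wordProd l)) :
    IsHecke cs (fun _ => x) t ∧ t 1 = 1 ∧ ∀ i, t (cs.simple i) = r i := by
  have h1 : t 1 = 1 := by simpa using (h [] (isReduced_nil cs)).symm
  have h2 : ∀ i, t (cs.simple i) = r i := fun i => by
    simpa using (h [i] (by simp [CoxeterSystem.IsReduced])).symm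
  refine ⟨⟨fun w => by rw [h1, one_mul], fun i w hw => ?_, fun i => by rw [h1, h2, hq]⟩, h1, h2⟩
  obtain ⟨l, hl, rfl⟩ := cs.exists_isReduced w
  rw [← wordProd_cons, ← h _ ((isReduced_cons_iff cs).2 ⟨hl, hw⟩), ← h l hl, h2, List.map_cons,
    List.prod_cons]

omit [DecidableEq W] in
theorem casimir {A : Type*} [Ring A] [Algebra k A] {t t' : W → A} (ht : IsHecke cs (fun _ => x) t)
    (ht' : IsHecke cs (fun _ => x) t') (hc : ∀ v w, Commute (t v) (t' w)) {N : ℕ}
    (hN : ∀ w, cs.length w ≤ N) (i : B) :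
    (t (cs.simple i) - t' (cs.simple i)) * ∑ w, x ^ (N - cs.length w) • (t w * t' w) = 0 := by
  have key : ∀ w, ¬ cs.IsLeftDescent w i →
      (t (cs.simple i) - t' (cs.simple i)) * (x ^ (N - cs.length w) • (t w * t' w)) +
      (t (cs.simple i) - t' (cs.simple i)) * (x ^ (N - cs.length (cs.simple i * w)) •
        (t (cs.simple i * w) * t' (cs.simple i * w))) = 0 := by
    intro w hw
    have h1 : cs.IsLeftDescent (cs.simple i * w) i := by
      rwa [cs.isLeftDescent_iff_not_isLeftDescent_mul, simple_mul_simple_cancel_left, ]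
    have h2 : N - cs.length w = N - cs.length (cs.simple i * w) + 1 := by
      have := hN (cs.simple i * w)
      rw [not_isLeftDescent_iff] at hw
      omega
    simp only [sub_mul, mul_smul_comm, ← mul_assoc, ← (hc _ _).eq]
    simp only [mul_assoc (t _) (t' _)]
    rw [ht.mul_of_not i w hw, ht'.mul_of_not i w hw, ht.mul_of h1, ht'.mul_of h1, h2,
      simple_mul_simple_cancel_left]
    simp only [add_mul, mul_add, smul_mul_assoc, mul_smul_comm]
    module
  rw [mul_sum]
  refine sum_involution (fun w _ => cs.simple i * w) (fun w _ => ?_) (fun w _ _ h => ?_)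
    (fun _ _ => mem_univ _) fun w _ => simple_mul_simple_cancel_left ..
  · by_cases hw : cs.IsLeftDescent w i
    · have := key _ (cs.isLeftDescent_iff_not_isLeftDescent_mul.1 hw)
      rwa [simple_mul_simple_cancel_left, add_comm] at this
    · exact key w hw
  · exact cs.length_simple_mul_ne w i (congrArg _ h)

/-- The Casimir (Gaschütz–Ikeda–Higman) map. -/
noncomputable def Phi (N : ℕ) : Matrix W W k :=
  ∑ w, x ^ (N - cs.length w) • (Lw cs x w * Rw cs x w)

/-- The commutators with the generators. -/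
noncomputable def Cm : Matrix (B × W) W k :=
  Matrix.of fun p w => (Lm cs x p.1 - Rm cs x p.1) p.2 w

theorem Cm_mul_Phi {N : ℕ} (hN : ∀ w, cs.length w ≤ N) : Cm cs x * Phi cs x N = 0 := by
  obtain ⟨h1, -, h2⟩ := isHecke_of_prod cs x (Lm_sq cs x) fun l => prod_Lm_eq cs x
  obtain ⟨h3, -, h4⟩ := isHecke_of_prod cs x (Rm_sq cs x) fun l => prod_Rm_eq cs x
  ext ⟨i, v⟩ w
  have := casimir cs x h1 h3 (fun _ _ => commute_prod cs x _ _) hN i
  rw [h2, h4] at this
  exact congrFun₂ this v w

section Map

variable {k' : Type*} [CommRing k'] (f : k →+* k')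

theorem Lm_map (i : B) : f.mapMatrix (Lm cs x i) = Lm cs (f x) i := by
  ext v w
  simp only [Lm, RingHom.mapMatrix_apply, map_apply, of_apply]
  split_ifs <;> simp

theorem Rm_map (i : B) : f.mapMatrix (Rm cs x i) = Rm cs (f x) i := by
  ext v w
  simp only [Rm, RingHom.mapMatrix_apply, map_apply, of_apply]
  split_ifs <;> simp

theorem Phi_map (N : ℕ) : (Phi cs x N).map f = Phi cs (f x) N := by
  rw [← RingHom.mapMatrix_apply, Phi, Phi, map_sum]
  refine sum_congr rfl fun w _ => ?_
  have : f.mapMatrix (Lw cs x w * Rw cs x w) = Lw cs (f x) w * Rw cs (f x) w := by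
    simp only [map_mul, Lw, Rw, map_list_prod, List.map_map, Function.comp_def, Lm_map, Rm_map]
  rw [← this]
  generalize Lw cs x w * Rw cs x w = Y
  ext
  simp

theorem Cm_map : (Cm cs x).map f = Cm cs (f x) := by
  ext p w
  simp [Cm, ← Lm_map cs x f, ← Rm_map cs x f]

end Map

theorem rank_Cm_add_rank_Phi [Fintype B] {N : ℕ} (hN : ∀ w, cs.length w ≤ N) (a b : ℂ) :
    (Cm cs a).rank + (Phi cs b N).rank ≤ Fintype.card W := by
  have := rank_add_rank_le _ _ (Cm_mul_Phi cs (X : ℂ[X]) hN) a b
  rw [← coe_evalRingHom, ← coe_evalRingHom, Cm_map, Phi_map] at this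
  simpa using this

section Realise

variable {cs x} {A : Type*} [Ring A] [Algebra k A] {t : W → A} (ht : IsHecke cs (fun _ => x) t)
include ht

theorem lc_Lm (i : B) (a : W → k) : Fintype.linearCombination k t (Lm cs x i *ᵥ a) =
    t (cs.simple i) * Fintype.linearCombination k t a := by
  have : Fintype.linearCombination k t ∘ₗ (Lm cs x i).mulVecLin =
      LinearMap.mulLeft k (t (cs.simple i)) ∘ₗ Fintype.linearCombination k t := by
    refine (Pi.basisFun k W).ext fun w => ?_
    simp only [LinearMap.comp_apply, Pi.basisFun_apply, mulVecLin_apply, LinearMap.mulLeft_apply]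
    by_cases h : cs.IsLeftDescent w i
    · simp [Lm_of x h, ht.mul_of h, -mulVec_single]
    · simp [Lm_of_not x h, ht.mul_of_not i w h, -mulVec_single]
  exact LinearMap.congr_fun this a

omit [DecidableEq W] in
theorem one_mul_lc (a : W → k) :
    t 1 * Fintype.linearCombination k t a = Fintype.linearCombination k t a := by
  simp [Fintype.linearCombination_apply, mul_sum, ht.one_mul]

omit [DecidableEq W] in
theorem lc_mul_one (a : W → k) :
    Fintype.linearCombination k t a * t 1 = Fintype.linearCombination k t a := by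
  simp [Fintype.linearCombination_apply, sum_mul, ht.mul_one]

theorem lc_Lw (w : W) (a : W → k) : Fintype.linearCombination k t (Lw cs x w *ᵥ a) =
    t w * Fintype.linearCombination k t a := by
  obtain ⟨h1, h2, h3⟩ := isHecke_of_prod cs x (Lm_sq cs x) fun l => prod_Lm_eq cs x
  induction w using length_induction_left cs with
  | one => rw [h2, one_mulVec, one_mul_lc ht]
  | step w i hw ih =>
    rw [← h1.mul_of_not i w hw, ← ht.mul_of_not i w hw, ← mulVec_mulVec, h3, lc_Lm ht, ih,
      mul_assoc]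

theorem lc_Rm (i : B) (a : W → k) : Fintype.linearCombination k t (Rm cs x i *ᵥ a) =
    Fintype.linearCombination k t a * t (cs.simple i) := by
  have : Fintype.linearCombination k t ∘ₗ (Rm cs x i).mulVecLin =
      LinearMap.mulRight k (t (cs.simple i)) ∘ₗ Fintype.linearCombination k t := by
    refine (Pi.basisFun k W).ext fun w => ?_
    have h := commute_prod cs x (rw cs w) [i]
    simp only [List.map_singleton, List.prod_singleton] at h
    simp only [LinearMap.comp_apply, Pi.basisFun_apply, mulVecLin_apply, LinearMap.mulRight_apply]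
    conv_lhs => rw [← Lw_single cs x, mulVec_mulVec, Lw, ← h, ← mulVec_mulVec, ← Lw, lc_Lw ht,
      Rm_of_not x (cs.not_isRightDescent_one i)]
    simp
  exact LinearMap.congr_fun this a

theorem lc_Rw (w : W) (a : W → k) : Fintype.linearCombination k t (Rw cs x w *ᵥ a) =
    Fintype.linearCombination k t a * t w⁻¹ := by
  obtain ⟨h1, h2, h3⟩ := isHecke_of_prod cs x (Rm_sq cs x) fun l => prod_Rm_eq cs x
  induction w using length_induction_left cs with
  | one => rw [h2, one_mulVec, inv_one, lc_mul_one ht]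
  | step w i hw ih =>
    have h4 := lc_Rm ht i (Pi.single w⁻¹ 1)
    rw [Rm_of_not x (by rwa [isRightDescent_inv_iff])] at h4
    simp only [Fintype.linearCombination_apply_single, one_smul] at h4
    rw [← h1.mul_of_not i w hw, ← mulVec_mulVec, h3, lc_Rm ht, ih, mul_assoc, ← h4,
      _root_.mul_inv_rev, inv_simple]

theorem lc_Phi (N : ℕ) (a : W → k) : Fintype.linearCombination k t (Phi cs x N *ᵥ a) =
    ∑ w, x ^ (N - cs.length w) • (t w * Fintype.linearCombination k t a * t w⁻¹) := by
  simp only [Phi, sum_mulVec, map_sum, smul_mulVec, map_smul, ← mulVec_mulVec, lc_Lw ht, lc_Rw ht,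
    mul_assoc]

theorem lc_comm {a : W → k} (ha : Cm cs x *ᵥ a = 0) (w : W) :
    t w * Fintype.linearCombination k t a = Fintype.linearCombination k t a * t w := by
  induction w using length_induction_left cs with
  | one => rw [one_mul_lc ht, lc_mul_one ht]
  | step w i hw ih =>
    have h1 : Lm cs x i *ᵥ a = Rm cs x i *ᵥ a := by
      rw [← sub_eq_zero, ← sub_mulVec]
      exact funext fun v => congrFun ha (i, v)
    rw [← ht.mul_of_not i w hw, mul_assoc, ih, ← mul_assoc, ← lc_Lm ht, h1, lc_Rm ht, mul_assoc]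

end Realise

section Group

open Blk MonoidAlgebra

variable {G : Type*} [Group G] [Fintype G]

/-- The sum of the conjugates. -/
noncomputable def zeta (y : MonoidAlgebra ℂ G) : MonoidAlgebra ℂ G :=
  ∑ g, .single g 1 * y * .single g⁻¹ 1

theorem zeta_mem_ctr (y : MonoidAlgebra ℂ G) : zeta y ∈ Ctr ℂ G := by
  refine mem_ctr_iff.2 fun g h => ?_
  simp only [zeta, coeff_sum_apply, coeff_mul_single_apply, coeff_single_mul_apply]
  rw [← Equiv.sum_comp (Equiv.mulLeft h)]
  simp [mul_assoc]

theorem charLin_zeta (χ : IrrCharacter G) (y : MonoidAlgebra ℂ G) :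
    charLin χ (zeta y) = Fintype.card G * charLin χ y := by
  rw [zeta, map_sum, sum_congr rfl fun g _ => by
    rw [charLin_mul_comm χ.2.isClassFunction, ← mul_assoc, MonoidAlgebra.single_mul_single, inv_mul_cancel,
      mul_one, ← one_def, one_mul]]
  simp

theorem omega_zeta_eq_zero_iff (χ : IrrCharacter G) (y : MonoidAlgebra ℂ G) :
    omega χ (zeta y) = 0 ↔ charLin χ y = 0 := by
  simp [omega_eq_div, charLin_zeta, χ.2.apply_one_ne_zero]

theorem zeta_mul_ctr (y : MonoidAlgebra ℂ G) {z : MonoidAlgebra ℂ G} (hz : z ∈ Ctr ℂ G) :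
    zeta (y * z) = zeta y * z := by
  simp only [zeta, sum_mul, mul_assoc, ctr_comm hz]

theorem charLin_idem_mul {e : MonoidAlgebra ℂ G} (he : e * e = e) {χ : IrrCharacter G}
    (h : charLin χ e = 0) (a : MonoidAlgebra ℂ G) : charLin χ (e * a) = 0 := by
  classical
  have h1 : IsIdempotentElem (Matrix.toLin' (regMat (setIdem {χ} * e))) := by
    rw [IsIdempotentElem, Module.End.mul_eq_comp, ← Matrix.toLin'_mul, ← map_mul, mul_assoc,
      ← mul_assoc e, ← ctr_comm (setIdem_mem_ctr _), mul_assoc, he, ← mul_assoc, setIdem_mul_self]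
  have h2 := LinearMap.IsIdempotentElem.eq_zero_of_trace_eq_zero h1 (by
    have h3 := card_mul_coeff_eq_sum (setIdem {χ} * e) 1
    rw [sum_eq_zero fun ψ _ => by
      by_cases hψ : ψ = χ
      · rw [inv_one, ← one_def, mul_one, charLin_setIdem_mul_of_mem (by simp [hψ]), hψ, h, mul_zero]
      · rw [mul_assoc, charLin_setIdem_mul_of_not_mem (by simpa using hψ), mul_zero]] at h3
    rw [Matrix.trace_toLin'_eq, ← h3]
    simp [Matrix.trace, -map_mul])
  have h3 : setIdem {χ} * e = 0 := ext_coeff fun g => by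
    simpa [-map_mul] using congrFun₂ (Matrix.toLin'.map_eq_zero_iff.1 h2) g 1
  rw [← charLin_setIdem_mul_of_mem (B := {χ}) rfl, ← mul_assoc, h3, zero_mul, map_zero]

variable {cs} {x : ℂ} {t : W → MonoidAlgebra ℂ G} (ht : IsHecke cs (fun _ => x) t) {N : ℕ} {κ : ℂ}
  (hκ : κ ≠ 0) (h3 : ∀ y, ∑ w, x ^ (N - cs.length w) • (t w * y * t w⁻¹) =
    κ • (zeta (t 1 * y * t 1) * t 1))
include ht hκ h3

theorem card_le_rank_Phi (h2 : ∀ y, t 1 * y * t 1 ∈ Submodule.span ℂ (Set.range t)) :
    Nat.card {χ : IrrCharacter G // charLin χ (t 1) ≠ 0} ≤ (Phi cs x N).rank := by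
  classical
  have := Fintype.ofFinite {χ : IrrCharacter G // charLin χ (t 1) ≠ 0}
  let Λ : (W → ℂ) →ₗ[ℂ] ({χ : IrrCharacter G // charLin χ (t 1) ≠ 0} → ℂ) :=
    LinearMap.pi fun χ => charLin χ.1 ∘ₗ Fintype.linearCombination ℂ t
  have h4 : LinearMap.range (Λ ∘ₗ (Phi cs x N).mulVecLin) = ⊤ := by
    rw [eq_top_iff, ← (Pi.basisFun ℂ _).span_eq, Submodule.span_le]
    rintro _ ⟨χ, rfl⟩
    obtain ⟨a, ha⟩ := (Submodule.mem_span_range_iff_exists_fun ℂ).1 (h2 (setIdem {χ.1}))
    have h5 : κ * (omega χ.1 (zeta (t 1)) * charLin χ.1 (t 1)) ≠ 0 :=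
      mul_ne_zero hκ (mul_ne_zero (mt (omega_zeta_eq_zero_iff _ _).1 χ.2) χ.2)
    refine ⟨(κ * (omega χ.1 (zeta (t 1)) * charLin χ.1 (t 1)))⁻¹ • a, funext fun ψ => ?_⟩
    have h6 := setIdem_mem_ctr ({χ.1} : Set (IrrCharacter G))
    have h7 : Fintype.linearCombination ℂ t (Phi cs x N *ᵥ a) =
        κ • (setIdem {χ.1} * (zeta (t 1) * t 1)) := by
      have h8 : ∀ y, t 1 * (t 1 * y) = t 1 * y := fun y => by rw [← mul_assoc, ht.one_mul]
      rw [lc_Phi ht, h3, Fintype.linearCombination_apply, ha]
      simp only [mul_assoc, ctr_comm h6, h8]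
      rw [zeta_mul_ctr _ h6, mul_assoc, ctr_comm h6]
    simp only [map_smul, Λ, LinearMap.comp_apply, mulVecLin_apply, Pi.smul_apply,
      LinearMap.pi_apply, h7, smul_eq_mul, Pi.basisFun_apply, Pi.single_apply]
    split_ifs with h
    · rw [h, charLin_setIdem_mul_of_mem (Set.mem_singleton _), charLin_ctr_mul _ (zeta_mem_ctr _),
        inv_mul_cancel₀ h5]
    · rw [charLin_setIdem_mul_of_not_mem (B := {χ.1}) fun h' => h (Subtype.ext h'), mul_zero, mul_zero]
  rw [Nat.card_eq_fintype_card, ← Module.finrank_fintype_fun_eq_card ℂ, ← finrank_top, ← h4,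
    LinearMap.range_comp]
  exact Submodule.finrank_map_le _ _

theorem card_le_rank_Cm [Fintype B] (h1 : LinearIndependent ℂ t) : Fintype.card W ≤
    (Cm cs x).rank + Nat.card {χ : IrrCharacter G // charLin χ (t 1) ≠ 0} := by
  classical
  have := Fintype.ofFinite {χ : IrrCharacter G // charLin χ (t 1) ≠ 0}
  let Λ : LinearMap.ker (Cm cs x).mulVecLin →ₗ[ℂ]
      ({χ : IrrCharacter G // charLin χ (t 1) ≠ 0} → ℂ) :=
    (LinearMap.pi fun χ => charLin χ.1 ∘ₗ Fintype.linearCombination ℂ t) ∘ₗ Submodule.subtype _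
  have h4 : Function.Injective Λ := by
    refine (injective_iff_map_eq_zero Λ).2 fun ⟨a, ha⟩ h => Subtype.ext ?_
    set y := Fintype.linearCombination ℂ t a with hy
    have e1 : t 1 * y = y := one_mul_lc ht a
    have e2 : y * t 1 = y := lc_mul_one ht a
    have e3 : zeta y = 0 := ctr_eq_zero_of_omega (zeta_mem_ctr y) fun χ => by
      rw [omega_zeta_eq_zero_iff]
      by_cases hχ : charLin χ (t 1) = 0
      · rw [← e1, charLin_idem_mul (ht.one_mul 1) hχ]
      · exact congrFun h ⟨χ, hχ⟩
    have e4 := h3 y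
    rw [e1, e2, e3, zero_mul, smul_zero] at e4
    have e5 := congrArg (y * ·) (h3 1)
    simp only [mul_sum, mul_smul_comm, ← mul_assoc, mul_one, hy, ← lc_comm ht ha] at e5
    rw [← hy, e4, ht.one_mul, mul_assoc, ctr_comm (zeta_mem_ctr _), ← mul_assoc, e2, eq_comm,
      smul_eq_zero_iff_right hκ] at e5
    have e6 : y = 0 := eq_zero_of_forall_charLin_mul fun χ g => by
      by_cases hχ : charLin χ (t 1) = 0
      · rw [← e1, mul_assoc, charLin_idem_mul (ht.one_mul 1) hχ]
      · have := charLin_ctr_mul χ (zeta_mem_ctr (t 1)) (y * .single g 1)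
        rw [← mul_assoc, ctr_comm (zeta_mem_ctr _), e5, zero_mul, map_zero] at this
        exact (mul_eq_zero.1 this.symm).resolve_left (mt (omega_zeta_eq_zero_iff _ _).1 hχ)
    exact funext (Fintype.linearIndependent_iff.1 h1 a e6)
  have h5 := LinearMap.finrank_le_finrank_of_injective h4
  have h6 := (Cm cs x).mulVecLin.finrank_range_add_finrank_ker
  rw [Module.finrank_fintype_fun_eq_card] at h5 h6
  rw [Nat.card_eq_fintype_card, ← h6]
  exact Nat.add_le_add_left h5 _

end Group

end Cfsg.Agent.Chev.HG
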