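import Mathlib
import Cfsg.Agent.Chev.HeckeGeneric
import Cfsg.Agent.Chev.DefZeroUnique
import Cfsg.Agent.Ch.Induction

/-!
The number of irreducible constituents of the permutation character on `G / B`.
-/

set_option autoImplicit false

namespace Cfsg.Agent.Chev.HG

open CoxeterSystem Finset

variable {B W : Type*} [Group W] [Fintype W] [DecidableEq W] {M : CoxeterMatrix B}
  (cs : CoxeterSystem M W)

omit [Fintype W] [DecidableEq W] in
theorem isHecke_single :
    IsHecke cs (fun _ => (1 : ℂ)) fun w => (MonoidAlgebra.single w 1 : MonoidAlgebra ℂ W) :=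
  ⟨fun w => by simp [MonoidAlgebra.single_mul_single],
    fun i w _ => by simp [MonoidAlgebra.single_mul_single],
    fun i => by simp [MonoidAlgebra.single_mul_single]⟩

theorem group_ranks [Fintype B] (N : ℕ) : Nat.card (ConjClasses W) ≤ (Phi cs (1 : ℂ) N).rank ∧
    Fintype.card W ≤ (Cm cs (1 : ℂ)).rank + Nat.card (ConjClasses W) := by
  obtain ⟨t, ht⟩ : ∃ t : W → MonoidAlgebra ℂ W, t = fun w => MonoidAlgebra.single w 1 := ⟨_, rfl⟩
  have h : Nat.card {χ : IrrCharacter W // Blk.charLin χ (t 1) ≠ 0} =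
      Nat.card (ConjClasses W) := by
    rw [← Ch.card_irr]
    exact Nat.card_congr (Equiv.subtypeUnivEquiv fun χ => by
      simpa [ht] using χ.2.apply_one_ne_zero)
  have h3 : ∀ y : MonoidAlgebra ℂ W, ∑ w, (1 : ℂ) ^ (N - cs.length w) • (t w * y * t w⁻¹) =
      (1 : ℂ) • (zeta (t 1 * y * t 1) * t 1) := fun y => by
    simp [ht, zeta, ← MonoidAlgebra.one_def]
  have h4 : IsHecke cs (fun _ => (1 : ℂ)) t := ht ▸ isHecke_single cs
  rw [← h]
  refine ⟨card_le_rank_Phi h4 one_ne_zero h3 fun y => ?_, card_le_rank_Cm h4 one_ne_zero h3 ?_⟩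
  · rw [show t 1 = 1 by rw [ht]; rfl, one_mul, mul_one, Blk.eq_sum_single y, ht]
    refine Submodule.sum_mem _ fun g _ => ?_
    rw [← mul_one (y.coeff g), ← smul_eq_mul, ← MonoidAlgebra.smul_single]
    exact Submodule.smul_mem _ _ (Submodule.subset_span ⟨g, rfl⟩)
  · refine Fintype.linearIndependent_iff.2 fun a ha w => ?_
    have := congrArg (fun y => y.coeff w) ha
    simpa [ht, Blk.coeff_sum_apply, Finsupp.single_apply] using this

end Cfsg.Agent.Chev.HG

namespace Cfsg.BNPair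

open Cfsg.Agent Cfsg.Agent.Chev Cfsg.Agent.Chev.HG Finset MonoidAlgebra

variable {G : Type*} [Group G] [Fintype G] {P : BNPair G}

theorem single_mul_hk {b : G} (hb : b ∈ P.B) (w : P.W) : single b 1 * P.hk w = P.hk w :=
  Blk.ext_coeff fun g => by
    rw [coeff_single_mul_apply, one_mul, coeff_hk, coeff_hk, cellOf_mul_left (inv_mem hb)]

theorem hk_mul_single {b : G} (hb : b ∈ P.B) (w : P.W) : P.hk w * single b 1 = P.hk w :=
  Blk.ext_coeff fun g => by
    rw [coeff_mul_single_apply, mul_one, coeff_hk, coeff_hk, cellOf_mul_right (inv_mem hb)]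

theorem hk_eq (g : G) :
    P.hk (P.cellOf g) = P.cq (P.cellOf g) • (P.hk 1 * single g 1 * P.hk 1) := by
  classical
  conv_lhs => rw [← isHecke_hk.one_mul, ← isHecke_hk.mul_one (P.cellOf g),
    Blk.eq_sum_single (P.hk (P.cellOf g))]
  rw [sum_mul, mul_sum, cq, ncell, ← sum_boole, sum_div, sum_smul]
  refine sum_congr rfl fun z _ => ?_
  rw [coeff_hk]
  split_ifs with h
  · obtain ⟨b, hb, b', hb', rfl⟩ := exists_eq_of_mem_cell (mem_cell_cellOf g) (cellOf_eq_iff.1 h)
    have h1 : single (b * g * b') (Nat.card P.B : ℂ)⁻¹ =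
        (Nat.card P.B : ℂ)⁻¹ • (single b 1 * single g 1 * single b' 1 : MonoidAlgebra ℂ G) := by
      simp [single_mul_single]
    rw [h1, smul_mul_assoc, mul_smul_comm, one_div, mul_assoc _ _ (P.hk 1), single_mul_hk hb',
      ← mul_assoc, ← mul_assoc, hk_mul_single hb]
  · simp

theorem linearIndependent_hk [Fintype P.W] : LinearIndependent ℂ P.hk := by
  classical
  refine Fintype.linearIndependent_iff.2 fun a ha w => ?_
  obtain ⟨g, hg⟩ := P.cell_nonempty w
  have := congrArg (fun y => y.coeff g) ha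
  simpa [Blk.coeff_sum_apply, coeff_hk, cellOf_eq_iff.2 hg] using this

theorem hk_mul_mul_hk_mem (y : MonoidAlgebra ℂ G) :
    P.hk 1 * y * P.hk 1 ∈ Submodule.span ℂ (Set.range P.hk) := by
  rw [Blk.eq_sum_single y, mul_sum, sum_mul]
  refine Submodule.sum_mem _ fun g _ => ?_
  have : P.hk 1 * single g (y.coeff g) * P.hk 1 =
      (y.coeff g * (P.cq (P.cellOf g))⁻¹) • P.hk (P.cellOf g) := by
    rw [hk_eq, smul_smul, inv_mul_cancel_right₀ (cq_ne_zero _), ← smul_mul_assoc, ← mul_smul_comm,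
      smul_single, smul_eq_mul, mul_one]
  rw [this]
  exact Submodule.smul_mem _ _ (Submodule.subset_span ⟨_, rfl⟩)

theorem cq_eq_pow {x : ℂ} (hx : ∀ s, P.cq (P.simple s) = x) (w : P.W) :
    P.cq w = x ^ P.cs.length w := by
  obtain ⟨l, hl, rfl⟩ := P.cs.exists_isReduced w
  simp [cq_wordProd hl, hx, hl.eq]

theorem sum_hk_mul_mul_hk [Fintype P.W] {x : ℂ} (hx : ∀ s, P.cq (P.simple s) = x) (hx0 : x ≠ 0)
    {N : ℕ} (hN : ∀ w, P.cs.length w ≤ N) (y : MonoidAlgebra ℂ G) :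
    ∑ w, x ^ (N - P.cs.length w) • (P.hk w * y * P.hk w⁻¹) =
      (x ^ N / Nat.card P.B) • (zeta (P.hk 1 * y * P.hk 1) * P.hk 1) := by
  classical
  have h1 : zeta (P.hk 1 * y * P.hk 1) * P.hk 1 =
      P.hk 1 * zeta (P.hk 1 * y * P.hk 1) * P.hk 1 := by
    rw [← Blk.ctr_comm (zeta_mem_ctr _), mul_assoc (zeta _), isHecke_hk.one_mul]
  rw [h1, zeta, mul_sum, sum_mul, ← sum_fiberwise univ P.cellOf, smul_sum]
  refine sum_congr rfl fun w _ => ?_
  have hc := cq_ne_zero (P := P) w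
  rw [sum_congr rfl (g := fun _ => ((P.cq w)⁻¹ * (P.cq w)⁻¹) • (P.hk w * y * P.hk w⁻¹))
    fun g hg => ?_, sum_const, ← Nat.cast_smul_eq_nsmul ℂ, smul_smul, smul_smul, ← ncell,
    pow_sub₀ _ hx0 (hN w), ← cq_eq_pow hx, ← div_mul_cancel₀ (P.ncell w : ℂ)
      (natCard_subgroup_ne_zero P.B), ← cq]
  · have := natCard_subgroup_ne_zero P.B
    congr 1
    field_simp
  · have h2 := hk_eq (P := P) g
    have h3 := hk_eq (P := P) g⁻¹
    rw [cellOf_inv, cq_eq_pow hx, P.cs.length_inv, ← cq_eq_pow hx] at h3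
    rw [(mem_filter.1 hg).2] at h2 h3
    rw [h2, h3]
    simp only [smul_mul_assoc, mul_smul_comm, smul_smul, mul_assoc]
    rw [inv_mul_cancel_left₀ hc, inv_mul_cancel₀ hc, one_smul]

theorem exists_add_iff (χ : IrrCharacter G) :
    (∃ φ, IsCharacter G φ ∧ fixedPointCharacter P.B = χ + φ) ↔ Blk.charLin χ (P.hk 1) ≠ 0 := by
  classical
  have h1 : fixedPointCharacter P.B = indFun P.B fun _ => 1 := by
    funext g
    rw [fixedPointCharacter_eq_relFix, relFix, Ch.indFun_apply, div_eq_inv_mul]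
    simp [Ch.extendByZero_eq_dite]
  have h2 : classInner χ (fixedPointCharacter P.B) = Blk.charLin χ (P.hk 1) := by
    have h3 := Ch.sum_extendByZero_mul P.B (fun _ => (Nat.card P.B : ℂ)⁻¹) χ.1
    rw [h1, Ch.classInner_indFun_right _ _ χ.2.isClassFunction, Blk.charLin_apply, classInner,
      mul_sum]
    simp only [map_one, mul_one, ← h3, coeff_hk, cellOf_eq_one_iff, Ch.extendByZero_eq_dite]
    simp
  rw [← h2, χ.isCharacter.classInner_comm (isCharacter_fixedPointCharacter _)]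
  refine ⟨fun ⟨φ, h3, h4⟩ => ?_, (isCharacter_fixedPointCharacter _).exists_eq_irr_add χ.2⟩
  rw [h4, χ.isCharacter.classInner_add_ne_zero_iff h3 χ.isCharacter, χ.2.classInner_self]
  exact Or.inl one_ne_zero

theorem card_constituents {x : ℂ} (hx : ∀ s, P.cq (P.simple s) = x) (hx0 : x ≠ 0) :
    Nat.card {χ : IrrCharacter G // ∃ φ, IsCharacter G φ ∧ fixedPointCharacter P.B = χ + φ} =
      Nat.card (ConjClasses P.W) := by
  classical
  have := Fintype.ofFinite P.W
  have := Fintype.ofFinite P.S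
  obtain ⟨w, hw⟩ := Finite.exists_max P.cs.length
  have ht : IsHecke P.cs (fun _ => x) P.hk := (funext hx : _ = fun _ => x) ▸ isHecke_hk
  have hκ : x ^ P.cs.length w / Nat.card P.B ≠ 0 :=
    div_ne_zero (pow_ne_zero _ hx0) (natCard_subgroup_ne_zero _)
  have h1 := card_le_rank_Phi ht hκ (sum_hk_mul_mul_hk hx hx0 hw) hk_mul_mul_hk_mem
  have h2 := card_le_rank_Cm ht hκ (sum_hk_mul_mul_hk hx hx0 hw) linearIndependent_hk
  obtain ⟨h3, h4⟩ := group_ranks P.cs (P.cs.length w)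
  have h5 := rank_Cm_add_rank_Phi P.cs hw x 1
  have h6 := rank_Cm_add_rank_Phi P.cs hw 1 x
  simp only [exists_add_iff]
  omega

theorem cq_toW (n : P.N) : P.cq (P.toW n) = Nat.card P.B / Nat.card (P.Bw n) := by
  classical
  have := sum_cell_eq n (fun _ => 1) fun _ _ _ => rfl
  simp only [← cellOf_eq_iff] at this
  rw [sum_boole, sum_ite_mem_subgroup] at this
  rw [cq, ncell, div_eq_div_iff (natCard_subgroup_ne_zero _) (natCard_subgroup_ne_zero _),
    mul_comm, ← this]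

end Cfsg.BNPair

namespace Cfsg.Lie.ChevalleyDatum

open Cfsg.Agent.Chev

variable (D : ChevalleyDatum) [hG : D.Good] (F : Type*) [Field F]

theorem cq_simple [Fintype (D.group F)] (s : (D.bnPair F).S) :
    (D.bnPair F).cq ((D.bnPair F).simple s) = Nat.card F := by
  classical
  obtain ⟨i, rfl⟩ := (D.nodeEquiv F).surjective s
  have hn := D.nE_sr_mem F i
  have hUm : (D.rootBN F).Um (D.nE F (D.sr i) 1)⁻¹ = D.rootSubgroup F (D.sr i) := by
    rw [RootBN.Um, ← rootBN_s, RootBN.Inv_s_inv, RootBN.XS_singleton]; rfl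
  have hXU : (D.rootSubgroup F (D.sr i)).subgroupOf (D.group F) ≤ D.UG F := fun x hx =>
    RootBN.Um_le_U (R := D.rootBN F) _ (hUm.ge hx)
  have h := DZ.sg_eq_mul (1 : D.group F →* ℂ) (hXU.trans (D.UG_le_B F))
    (BNPair.Bw_le (D.mkN F hn : D.group F))
    (fun b hb => by
      obtain ⟨u, hu, h, hh, rfl⟩ := D.exists_UG_mul_HG F hb
      obtain ⟨a, ha, c, hc, e⟩ := RootBN.factor (R := D.rootBN F) (inv_mem hn) hu
      have ha' : a ∈ D.group F := (D.rootBN F).U_le_G (RootBN.Um_le_U _ ha)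
      have hc' : c ∈ D.group F := (D.rootBN F).U_le_G (RootBN.Up_le_U _ hc)
      refine ⟨⟨a, ha'⟩, hUm.le ha, ⟨c, hc'⟩ * h, mul_mem
        ((D.mem_Bw_inf_UG F hn (x := ⟨c, hc'⟩)).2 hc).1 (D.HG_le_Bw F _ hh), ?_⟩
      rw [← mul_assoc]
      congr 1
      exact Subtype.ext e)
    (fun q hq hq' => Subtype.ext (RootBN.eq_one_of_mem_Um_Up (R := D.rootBN F) (inv_mem hn)
      (hUm.ge hq) ((D.mem_Bw_inf_UG F hn).1 ⟨hq', hXU hq⟩)))
  simp only [DZ.sg_eq, MonoidHom.one_apply, Finset.sum_const, Finset.card_univ, nsmul_one,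
    ← Nat.card_eq_fintype_card] at h
  rw [show (D.bnPair F).simple (D.nodeEquiv F i) = (D.bnPair F).toW (D.mkN F hn) from rfl,
    BNPair.cq_toW, h, mul_div_cancel_right₀ _ (natCard_subgroup_ne_zero _),
    ← D.card_rootSubgroup F (D.sr i)]
  exact congrArg _ (Nat.card_congr (Subgroup.subgroupOfEquivOfLe
    ((D.rootBN F).X_le_G (D.sr i))).toEquiv)

end Cfsg.Lie.ChevalleyDatum
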