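import Mathlib
import Cfsg.Agent.Chev.MdE
import Cfsg.Agent.Chev.Coll
import Cfsg.Agent.Chev.HeckeConst

/-!
# Joint weight spaces of root subgroups
-/

set_option autoImplicit false
set_option backward.isDefEq.respectTransparency false

namespace Cfsg.Agent.Chev.Md

open Cfsg.Agent.Cl Cfsg.Agent.Ch Module Coll Subgroup

variable {G : Type*} [Group G] {F : Type*} [Field F] {W : Type*} [AddCommGroup W] [Module ℂ W]
  (ρ : Representation ℂ G W) (ψ : AddChar F ℂ) (x : ℕ → F → G)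

/-- The joint weight space. -/
def Vw (R : List ℕ) (a : ℕ → F) : Submodule ℂ W :=
  repWt ρ (fun p : {r // r ∈ R} × F => x p.1 p.2) fun p => ψ (p.2 * a p.1)

/-- The multiplicity. -/
noncomputable def mu (R : List ℕ) (a : ℕ → F) : ℕ := finrank ℂ (Vw ρ ψ x R a)

/-- The element acts as a scalar. -/
def Ac (S : Submodule ℂ W) (g : G) (c : F) : Prop := ∀ w ∈ S, ρ g w = ψ c • w

/-- The element maps one weight space to another one. -/
def Mp (g : G) (R : List ℕ) (a : ℕ → F) (R' : List ℕ) (a' : ℕ → F) : Prop :=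
  ∀ w ∈ Vw ρ ψ x R a, ρ g w ∈ Vw ρ ψ x R' a'

/-- The value of a character on a word. -/
def val (a v : ℕ → F) (w : List Let) : F := (w.map fun L => L.2.1 * evE v L.2.2 * a L.1).sum

/-- The conjugate of a root element. -/
def cj (r s : ℕ) : List Let := [(r, -1, [1, 0]), (s, 1, [0, 1]), (r, 1, [1, 0])]

/-- Two parameters. -/
def v2 (k t : F) : ℕ → F
  | 0 => k
  | _ => t

variable {ρ ψ x} {R R' : List ℕ} {a a' : ℕ → F} {p : ℕ} {T : ℕ → ℕ → Option Terms}

theorem mem_Vw {w : W} : w ∈ Vw ρ ψ x R a ↔ ∀ r ∈ R, ∀ t, ρ (x r t) w = ψ (t * a r) • w := by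
  simp [Vw, mem_repWt]

theorem ac_evW (h : ∀ r, IsAdd x r) (hp : (p : F) = 0) {w : List Let} (hw : ∀ L ∈ w, L.1 ∈ R ∨ (p : ℤ) ∣ L.2.1)
    (v : ℕ → F) : Ac ρ ψ (Vw ρ ψ x R a) (evW x v w) (val a v w) := fun u hu => by
  induction w with
  | nil => simp [evW, val]
  | cons L w ih =>
    rw [evW_cons, map_mul, Module.End.mul_apply, ih fun L hL => hw L (List.mem_cons_of_mem _ hL), map_smul, val, val,
      List.map_cons, List.sum_cons, AddChar.map_add_eq_mul, mul_comm, mul_smul]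
    congr 1
    rcases hw L List.mem_cons_self with h1 | ⟨c, h1⟩
    · exact mem_Vw.1 hu _ h1 _
    · simp [ev, h1, hp, (h _).zero]

theorem mp_of_ac {g : G} (h : ∀ s ∈ R', ∀ t, Ac ρ ψ (Vw ρ ψ x R a) (g⁻¹ * x s t * g) (t * a' s)) :
    Mp ρ ψ x g R a R' a' := fun w hw => mem_Vw.2 fun s hs t => by
  rw [← map_smul, ← h s hs t w hw]
  simp [← Module.End.mul_apply, ← map_mul, mul_assoc]

theorem mp_of_conj {g : G} {σ : ℕ → ℕ} {c : ℕ → F}
    (h : ∀ s ∈ R', (∀ t, g⁻¹ * x s t * g = x (σ s) (c s * t)) ∧ σ s ∈ R ∧ a' s = c s * a (σ s)) :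
    Mp ρ ψ x g R a R' a' := mp_of_ac fun s hs t w hw => by
  rw [(h s hs).1, mem_Vw.1 hw _ (h s hs).2.1, (h s hs).2.2, mul_comm (c s), mul_assoc]

theorem conj_eq {q : ℕ} (h : Rel q T x) {r s : ℕ} {w : List Let} (e : chk q T 30 (cj r s) w = true) (k t : F) :
    (x r k)⁻¹ * x s t * x r k = evW x (v2 k t) w := by
  simpa [cj, evW, ev, evE, v2, (h.add _).neg, mul_assoc] using h.eq_of_chk e (v2 k t)

theorem mp_X {q : ℕ} (h : Rel q T x) (hp : (p : F) = 0) {r : ℕ} {tab : ℕ → List Let}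
    (H : ∀ s ∈ R', chk q T 30 (cj r s) (tab s) = true ∧ ∀ L ∈ tab s, L.1 ∈ R ∨ (p : ℤ) ∣ L.2.1) {k : F}
    (e : ∀ s ∈ R', ∀ t, val a (v2 k t) (tab s) = t * a' s) : Mp ρ ψ x (x r k) R a R' a' := mp_of_ac fun s hs t => by
  rw [conj_eq h (H s hs).1, ← e s hs]
  exact ac_evW h.add hp (H s hs).2 _

variable [FiniteDimensional ℂ W]

theorem Mp.le {g : G} (h : Mp ρ ψ x g R a R' a') : mu ρ ψ x R a ≤ mu ρ ψ x R' a' :=
  LinearMap.finrank_le_finrank_of_injective (f := (ρ g).restrict h) fun u v e => Subtype.ext (by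
    simpa [← Module.End.mul_apply, ← map_mul] using congrArg (fun w : Vw ρ ψ x R' a' => ρ g⁻¹ w) e)

theorem mu_mono (h : ∀ s ∈ R', s ∈ R ∧ a' s = a s) : mu ρ ψ x R a ≤ mu ρ ψ x R' a' :=
  Submodule.finrank_mono fun _ hw => mem_Vw.2 fun s hs t => (h s hs).2 ▸ mem_Vw.1 hw s (h s hs).1 t

theorem mu_ne_zero : mu ρ ψ x R a ≠ 0 ↔ ∃ w ∈ Vw ρ ψ x R a, w ≠ 0 := by
  rw [mu, ne_eq, Submodule.finrank_eq_zero, ← ne_eq, Submodule.ne_bot_iff]

omit [FiniteDimensional ℂ W] in
theorem mu_nil : mu ρ ψ x [] a = finrank ℂ W := by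
  rw [mu, show Vw ρ ψ x [] a = ⊤ from eq_top_iff.2 fun w _ => mem_Vw.2 (by simp), finrank_top]

theorem mu_split [Fintype F] (hψ : ψ ≠ 1) {r : ℕ} (hr : IsAdd x r) (h : ∀ t, Mp ρ ψ x (x r t) R a R a) {f : F → ℕ → F}
    (hR : R' ⊆ r :: R ∧ r :: R ⊆ R') (hf : ∀ u, f u r = u ∧ ∀ s ∈ R, f u s = a s) :
    mu ρ ψ x R a = ∑ u, mu ρ ψ x R' (f u) := by
  classical
  let σ : Representation ℂ (Multiplicative F) (Vw ρ ψ x R a) :=
    { toFun := fun t => (ρ (x r t.toAdd)).restrict (h _)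
      map_one' := LinearMap.ext fun w => Subtype.ext (by simp [hr.zero])
      map_mul' := fun s t => LinearMap.ext fun w => Subtype.ext (by simp [hr _ _]) }
  obtain ⟨b, l, hl⟩ := diag_exists_basis σ fun s t => by rw [← map_mul, mul_comm, map_mul]
  choose c hc using fun i => addChar_exists_eq hψ (fun t => l i (Multiplicative.ofAdd t)) (by simp)
    fun s t => by rw [← map_mul, ← ofAdd_add]
  rw [mu]
  conv_lhs => rw [← Fintype.card_fin (finrank ℂ (Vw ρ ψ x R a)), ← Finset.card_univ]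
  rw [Finset.card_eq_sum_card_fiberwise (f := c) (t := Finset.univ) fun i _ => by simp]
  refine Finset.sum_congr rfl fun u _ => ?_
  have h2 := finrank_repWt_eq_card (ρ := σ) b (r := Multiplicative.ofAdd) (χ := fun i t => l i (Multiplicative.ofAdd t))
    (fun t i => hl _ i) fun t => ψ (t * u)
  rw [Nat.card_eq_fintype_card, Fintype.card_subtype] at h2
  rw [mu, show Vw ρ ψ x R' (f u) = (repWt σ Multiplicative.ofAdd fun t => ψ (t * u)).map (Vw ρ ψ x R a).subtype from ?_,
    Submodule.finrank_map_subtype_eq, h2]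
  · congr 1
    ext i
    simp only [Finset.mem_filter, Finset.mem_univ, true_and, funext_iff, hc]
    exact ⟨fun e t => by rw [e], addChar_eq_of_forall hψ⟩
  · ext w
    refine ⟨fun hw => ⟨⟨w, mem_Vw.2 fun s hs t => ((hf u).2 s hs) ▸ mem_Vw.1 hw s (hR.2 (by simp [hs])) t⟩,
      fun t => Subtype.ext (by simpa [σ, (hf u).1] using mem_Vw.1 hw r (hR.2 (by simp)) t), rfl⟩, ?_⟩
    rintro ⟨w, hw, rfl⟩
    refine mem_Vw.2 fun s hs t => ?_
    rcases List.mem_cons.1 (hR.1 hs) with rfl | hs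
    · simpa [σ, (hf u).1] using congrArg Subtype.val (hw t)
    · exact ((hf u).2 s hs).symm ▸ mem_Vw.1 w.2 s hs t

theorem Vw_le_of_mu (h : ∀ s ∈ R, s ∈ R' ∧ a s = a' s) (h' : mu ρ ψ x R a ≤ mu ρ ψ x R' a') :
    Vw ρ ψ x R a ≤ Vw ρ ψ x R' a' :=
  (Submodule.eq_of_le_of_finrank_le (fun _ hw => mem_Vw.2 fun s hs t => (h s hs).2 ▸ mem_Vw.1 hw s (h s hs).1 t) h').ge

omit [Field F] in
theorem sum_eq_add [Fintype F] [Zero F] {f : F → ℕ} {m : ℕ} (h : ∀ u ≠ 0, f u = m) :
    ∑ u, f u = f 0 + (Fintype.card F - 1) * m := by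
  classical
  rw [← Finset.add_sum_erase _ _ (Finset.mem_univ 0), Finset.sum_congr rfl fun u hu => h u (Finset.mem_erase.1 hu).1]
  simp [Finset.card_erase_of_mem]

omit [Field F] in
theorem add_le_sum [Fintype F] [Zero F] {f : F → ℕ} {m : ℕ} (h : ∀ u ≠ 0, m ≤ f u) :
    f 0 + (Fintype.card F - 1) * m ≤ ∑ u, f u := by
  classical
  rw [← Finset.add_sum_erase _ _ (Finset.mem_univ 0)]
  simpa [Finset.card_erase_of_mem] using Finset.card_nsmul_le_sum (Finset.univ.erase 0) f m fun u hu => h u (Finset.mem_erase.1 hu).1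

section Sum

omit [FiniteDimensional ℂ W]

variable (ρ) in
/-- The sum over a subgroup. -/
noncomputable def eS (V : Subgroup G) [Fintype V] : W →ₗ[ℂ] W := ∑ v : V, ρ v

variable {V : Subgroup G} [Fintype V] {g : G} {w : W}

theorem eS_comm (hg : g ∈ normalizer (V : Set G)) : eS ρ V (ρ g w) = ρ g (eS ρ V w) := by
  simp only [eS, LinearMap.sum_apply, map_sum]
  exact (Fintype.sum_equiv (V.normalizerMonoidHom ⟨g, hg⟩).toEquiv _ _ fun v => by
    simp [← Module.End.mul_apply, ← map_mul]).symm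

theorem eS_mul (hg : g ∈ V) : eS ρ V (ρ g w) = eS ρ V w := by
  simp only [eS, LinearMap.sum_apply, ← Module.End.mul_apply, ← map_mul]
  exact Fintype.sum_equiv (Equiv.mulRight ⟨g, hg⟩) _ _ fun _ => rfl

theorem eS_fix (hw : w ∈ fix ρ V) : eS ρ V w = (Fintype.card V : ℂ) • w := by
  rw [eS, LinearMap.sum_apply, Finset.sum_congr rfl fun a _ => mem_fix.1 hw a.1 a.2, Finset.sum_const,
    Nat.cast_smul_eq_nsmul, Finset.card_univ]

theorem eS_fixed (hg : g ∈ V ∨ g ∈ normalizer (V : Set G) ∧ ρ g w = w) : ρ g (eS ρ V w) = eS ρ V w := by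
  rcases hg with hg | ⟨hg, e⟩
  · rw [← eS_comm (le_normalizer hg), eS_mul hg]
  · rw [← eS_comm hg, e]

variable (ρ) in
/-- The stabiliser of a vector. -/
def stb (v : W) : Subgroup G where
  carrier := {g | ρ g v = v}
  one_mem' := by simp
  mul_mem' {a b} (ha : _ = _) (hb : _ = _) := show _ = _ by rw [map_mul, Module.End.mul_apply, hb, ha]
  inv_mem' {a} (ha : _ = _) := show _ = _ by
    rw [← ha, ← Module.End.mul_apply, ← map_mul, inv_mul_cancel, map_one, ha]; rfl

end Sum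

end Cfsg.Agent.Chev.Md

namespace Cfsg.BNPair

open Cfsg.Agent Cfsg.Agent.Chev Cfsg.Agent.Chev.Md Cfsg.Agent.Chev.HG Finset Module

variable {G : Type*} [Group G] [Fintype G] {P : BNPair G} {W : Type*} [AddCommGroup W] [Module ℂ W]
  [FiniteDimensional ℂ W] {ρ : Representation ℂ G W}

/-- A constituent of the permutation character on the Borel subgroup of multiplicity one, in rank two. -/
theorem dvd_of_fix (hρ : ρ.IsIrreducible) {q : ℕ} (hq : ∀ s, P.cq (P.simple s) = q) (q0 : q ≠ 0) {v : W} (v0 : v ≠ 0)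
    (h : fix ρ P.B = ℂ ∙ v) {s : P.S} (hs : ρ s v = v) (hS : ∀ s' s'' : P.S, s' ≠ s → s'' ≠ s → s' = s'') :
    finrank ℂ W ∣ q * P.B.index := by
  classical
  have := Fintype.ofFinite P.W
  let A := ρ.asAlgebraHom
  have h1 : ∀ w, A (P.hk w) v = ∑ g, (P.hk w).coeff g • ρ g v := fun w => by
    conv_lhs => rw [Blk.eq_sum_single (P.hk w)]
    simp [A]
  have h2 : ∀ w u, A (P.hk w) u ∈ fix ρ P.B := fun w u => mem_fix.2 fun b hb => by
    conv_rhs => rw [← single_mul_hk hb w]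
    simp [A]
  choose τ hτ using fun w => Submodule.mem_span_singleton.1 (h.le (h2 w v))
  have hv := mem_fix.1 (h.ge (Submodule.mem_span_singleton_self v))
  have h3 : ∀ n : P.N, ρ n v = v → τ (P.toW n) = P.cq (P.toW n) := fun n hn => smul_left_injective ℂ v0 (by
    simp only [hτ, h1, coeff_hk, ite_smul, zero_smul, ← sum_filter]
    rw [sum_congr rfl fun g hg => ?_, sum_const, cq, ncell, ← Nat.cast_smul_eq_nsmul ℂ, smul_smul, div_eq_mul_inv]
    obtain ⟨b, hb, b', hb', rfl⟩ := (mem_cell_iff rfl).1 (cellOf_eq_iff.1 (mem_filter.1 hg).2)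
    simp [hv b hb, hv b' hb', hn])
  have h4 : τ 1 = 1 := by simpa [cq_one] using h3 1 (by simp)
  have h5 : ∀ x y : P.W, A (P.hk x * P.hk y) v = (τ x * τ y) • v := fun x y => by
    rw [map_mul, Module.End.mul_apply, ← hτ, map_smul, ← hτ, smul_smul, mul_comm]
  have h6 : ∀ i, ∃ z : ℤ, τ (P.cs.simple i) = z := fun i => by
    have e := h5 (P.cs.simple i) (P.cs.simple i)
    rw [isHecke_hk.sq, map_add, map_smul, map_smul, LinearMap.add_apply, LinearMap.smul_apply, LinearMap.smul_apply,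
      ← hτ, ← hτ, h4, hq, smul_smul, smul_smul, ← add_smul] at e
    rcases mul_eq_zero.1 (show (τ (P.cs.simple i) - q) * (τ (P.cs.simple i) + 1) = 0 by
      linear_combination -smul_left_injective ℂ v0 e) with e | e
    · exact ⟨q, by linear_combination e⟩
    · exact ⟨-1, by push_cast; linear_combination e⟩
  have h7 : ∀ l, P.cs.IsReduced l → τ (P.cs.wordProd l) = (l.map fun i => τ (P.cs.simple i)).prod := fun l hl => by
    induction l with
    | nil => simpa using h4
    | cons i l ih =>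
      obtain ⟨k1, k2⟩ := (isReduced_cons_iff P.cs).1 hl
      have e := h5 (P.cs.simple i) (P.cs.wordProd l)
      rw [isHecke_hk.mul_of_not i _ k2, ← hτ] at e
      rw [CoxeterSystem.wordProd_cons, smul_left_injective ℂ v0 e, ih k1, List.map_cons, List.prod_cons]
  have h8 : ∀ l, P.cs.IsReduced l → ∃ z : ℤ, (l.map fun i => τ (P.cs.simple i)).prod ^ 2 *
      (if l.head?.getD s = s then 1 else (q : ℂ)) = z * q ^ l.length := fun l hl => by
    induction l with
    | nil => exact ⟨1, by simp⟩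
    | cons i l ih =>
      obtain ⟨k1, k2⟩ := (isReduced_cons_iff P.cs).1 hl
      obtain ⟨z, hz⟩ := ih k1
      simp only [List.map_cons, List.prod_cons, List.head?_cons, Option.getD_some, List.length_cons]
      split_ifs with hi
      · have e : τ (P.cs.simple i) = q := by rw [hi, cs_simple, ← hq s]; exact h3 (P.repN s) hs
        split_ifs at hz
        · exact ⟨z * q, by rw [e]; push_cast; linear_combination (q : ℂ) ^ 2 * hz⟩
        · exact ⟨z, by rw [e]; linear_combination (q : ℂ) * hz⟩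
      obtain ⟨y, hy⟩ := h6 i
      rw [if_pos] at hz
      · exact ⟨y ^ 2 * z, by rw [hy]; push_cast; linear_combination (q : ℂ) * y ^ 2 * hz⟩
      cases l with
      | nil => rfl
      | cons j l =>
        by_contra hj
        rw [hS i j hi hj] at k2
        exact k2 (P.cs.isLeftDescent_iff_not_isLeftDescent_mul.2 (by
          rw [CoxeterSystem.wordProd_cons, CoxeterSystem.simple_mul_simple_cancel_left]
          exact ((isReduced_cons_iff P.cs).1 k1).2))
  have q1 : (q : ℂ) ≠ 0 := Nat.cast_ne_zero.2 q0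
  obtain ⟨w₀, hw⟩ := Finite.exists_max P.cs.length
  have h9 : ∀ w, ∃ z : ℤ, (q : ℂ) ^ (P.cs.length w₀ - P.cs.length w) * (τ w * τ w⁻¹) * q = z * q ^ P.cs.length w₀ :=
    fun w => by
      obtain ⟨l, hl, rfl⟩ := P.cs.exists_isReduced w
      obtain ⟨z, hz⟩ := h8 l hl
      rw [← CoxeterSystem.wordProd_reverse, h7 _ hl.reverse, List.map_reverse, List.prod_reverse, h7 _ hl,
        pow_sub₀ _ q1 (hw _), hl.eq]
      split_ifs at hz
      · exact ⟨z * q, by push_cast; field_simp; linear_combination hz⟩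
      · exact ⟨z, by field_simp; linear_combination hz⟩
  choose z hz using h9
  obtain ⟨c, hc⟩ := Ch.exists_eq_smul_of_commute ρ (A (zeta (P.hk 1))) fun g => by
    rw [← Representation.asAlgebraHom_single_one, ← map_mul, ← map_mul, Blk.ctr_comm (zeta_mem_ctr _)]
  have h10 := congrArg (A · v) (sum_hk_mul_mul_hk hq q1 hw 1)
  simp only [mul_one, isHecke_hk.one_mul, map_sum, map_smul, LinearMap.sum_apply, LinearMap.smul_apply, h5, smul_smul,
    ← sum_smul] at h10
  rw [map_mul, Module.End.mul_apply, ← hτ, h4, one_smul, hc, LinearMap.smul_apply, LinearMap.id_apply, smul_smul] at h10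
  have h11 := congrArg (· * (q : ℂ)) (smul_left_injective ℂ v0 h10)
  simp only [sum_mul, hz] at h11
  have h12 := congrArg (LinearMap.trace ℂ W) hc
  have h13 : LinearMap.IsProj (ℂ ∙ v) (A (P.hk 1)) := ⟨fun u => h.le (h2 1 u), fun u hu => by
    obtain ⟨d, rfl⟩ := Submodule.mem_span_singleton.1 hu
    rw [map_smul, ← hτ, h4, one_smul]⟩
  simp only [zeta, map_sum, map_mul, A, Representation.asAlgebraHom_single_one, LinearMap.trace_mul_cycle, ← map_mul ρ,
    inv_mul_cancel, map_one, one_mul, map_smul, LinearMap.trace_id] at h12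
  rw [h13.trace, finrank_span_singleton v0, sum_const, card_univ, ← Nat.card_eq_fintype_card, ← P.B.index_mul_card] at h12
  refine Int.natCast_dvd_natCast.1 ⟨∑ w, z w, Int.cast_injective (α := ℂ) ?_⟩
  have := natCard_subgroup_ne_zero P.B
  rw [← sum_mul] at h11
  push_cast
  field_simp at h11
  simp only [nsmul_eq_mul, Nat.cast_mul, Nat.cast_one, mul_one, smul_eq_mul] at h12
  apply mul_left_cancel₀ this
  linear_combination q * h12 - finrank ℂ W * h11

end Cfsg.BNPair
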