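import Mathlib
import Cfsg.Agent.Chev.MdMu
import Cfsg.Agent.Chev.CTA2
import Cfsg.Agent.Chev.StFin

/-!
# Small representations of derived Levi subgroups
-/

set_option autoImplicit false
set_option linter.style.haveILetI false
set_option backward.isDefEq.respectTransparency false

namespace Cfsg.Agent.Chev.StRoot

variable {ι Nd M : Type} [AddCommGroup M] [Fintype Nd] {K : Type*} [Field K] {G G₀ G' : Type*} [Group G] [Group G₀]
  [Group G'] {R : StRoot ι Nd M} {y : ι → K → G} {x₀ : ι → K → G₀}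

theorem IsModel.exists_hom_or [Finite ι] [Finite K] [DecidableEq Nd] (h₀ : R.IsModel x₀) (hg₀ : XS x₀ Set.univ = ⊤)
    (h : R.IsSt y) {S : Subgroup G} (hS : ∀ r t, y r t ∈ S) (φ : S →* G') (I : Set Nd)
    (hI : ∀ c, h₀.toIsSt.tor h₀.toIsSt.hmul_of_finite c = 1 → ∀ i ∉ I, c i = 1) :
    (∃ f : G₀ →* G', ∀ r t, f (x₀ r t) = φ ⟨y r t, hS r t⟩) ∨
      (∃ u : Kˣ, u ≠ 1) ∧ ∃ k : S, φ k ≠ 1 ∧ k.1 ∈ XS y (R.sgOn I) ∧ ∀ r t, Commute k.1 (y r t) := by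
  let p : ι → K → G × G₀ := fun r t => (y r t, x₀ r t)
  let q : ι → K → XS p Set.univ := fun r t => ⟨p r t, x_mem_XS p (Set.mem_univ r) t⟩
  let π₀ : XS p Set.univ →* G₀ := (MonoidHom.snd _ _).comp (Subgroup.subtype _)
  let π : XS p Set.univ →* G := (MonoidHom.fst _ _).comp (Subgroup.subtype _)
  have hinj : ∀ a b, π a = π b → π₀ a = π₀ b → a = b := fun a b e e' => Subtype.ext (Prod.ext e e')
  have hq : R.IsSt q := ⟨⟨fun r t u => hinj _ _ (h.add r t u) (h₀.add r t u), fun r s h1 h2 t u =>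
    hinj _ _ (by rw [map_stWord]; exact h.comm r s h1 h2 t u) (by rw [map_stWord]; exact h₀.comm r s h1 h2 t u)⟩,
    fun r s t ht u => hinj _ _ (h.nconj r s t ht u) (h₀.nconj r s t ht u)⟩
  have hgq : XS q Set.univ = ⊤ := by
    apply Subgroup.map_injective (XS p Set.univ).subtype_injective
    rw [map_XS, ← MonoidHom.range_eq_map, Subgroup.range_subtype]; rfl
  have hs : Function.Surjective π₀ := by
    rw [← MonoidHom.range_eq_top, eq_top_iff, ← hg₀]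
    exact XS_le fun r _ t => ⟨q r t, rfl⟩
  have h1 : ∀ z, π z ∈ S := fun z => (XS_le fun r _ t => hS r t : XS q Set.univ ≤ S.comap π) (hgq.ge trivial)
  by_cases h2 : π₀.ker ≤ (φ.comp (π.codRestrict S h1)).ker
  · exact Or.inl ⟨π₀.liftOfRightInverse (Function.surjInv hs) (Function.rightInverse_surjInv _) ⟨_, h2⟩, fun r t =>
      MonoidHom.liftOfRightInverse_comp_apply _ _ _ _ (q r t)⟩
  obtain ⟨z, hz, h3⟩ := SetLike.not_le_iff_exists.1 h2
  obtain ⟨h4, h5⟩ := h₀.ker_central hq π₀ (fun _ _ => rfl) (hgq.ge trivial) hz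
  obtain ⟨c, rfl⟩ := hq.exists_tor hq.hmul_of_finite h4
  refine Or.inr ⟨by_contra fun h6 => h3 ?_, _, h3, ?_, fun r t =>
    Commute.map (h5.commute_of_trivial (hgq.ge trivial : q r t ∈ _)) π⟩
  · rw [show c = 1 from funext fun i => by_contra fun h7 => h6 ⟨_, h7⟩, map_one]; exact one_mem _
  have h6 := hI c ((hq.map_tor π₀ _ c).symm.trans hz)
  change π _ ∈ _
  rw [← Finset.univ_prod_mulSingle c]
  refine Finset.prod_induction _ (fun c => π (hq.tor _ c) ∈ XS y (R.sgOn I)) (fun a b ha hb => by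
    rw [map_mul, map_mul]; exact mul_mem ha hb) (by simp) fun i _ => ?_
  by_cases hi : i ∈ I
  · rw [hq.tor_single, map_hh]; exact hh_mem_XS (sr_mem_sgOn hi) (ng_sr_mem_sgOn hi) _
  · simp [h6 i hi]

end Cfsg.Agent.Chev.StRoot

namespace Cfsg.Agent.Chev.Md

open Module Subgroup Cfsg.Lie.ChevalleyDatum
open scoped commutatorElement

variable {G : Type*} [Group G] [Finite G] {W : Type*} [AddCommGroup W] [Module ℂ W] [FiniteDimensional ℂ W]
  {ρ : Representation ℂ G W} {F : Type*} [Field F] [Finite F] {z : F → G} {H Z D E M : Subgroup G}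

theorem two_le_or (hZ : ScFam H z Z) (hc : ∀ a ∈ Z ⊔ D, ∀ b ∈ Z ⊔ D, Commute a b)
    (HA : H ≤ normalizer (Z ⊔ D : Subgroup G)) (EA : E ≤ normalizer (Z ⊔ D : Subgroup G))
    (EZ : ∀ e ∈ E, ∀ a ∈ Z, Commute e a) (nd : ∀ e ∈ E, e ≠ 1 → ∀ z ∈ Z, ∃ a ∈ D, e⁻¹ * a * e = a * z)
    (cE : Nat.card D ≤ Nat.card E) (ZD : ¬ Z ≤ D) (MZ : ∀ m ∈ M, ∀ a ∈ Z, Commute m a)
    (MD : M ≤ normalizer D) (hM : ∀ S : Subgroup G, (∀ a ∈ M, ∀ b ∈ M, ⁅a, b⁆ ∈ S) → M ≤ S)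
    (h : ∃ z ∈ Z, ρ z ≠ 1) {a : ℕ} (ha : Nat.card (Z ⊔ D : Subgroup G) = a * Nat.card Z) :
    2 * (a * Nat.card Z) ≤ finrank ℂ W + 2 * a ∨ ∃ w ≠ 0, ∀ m ∈ M, ρ m w = w := by
  obtain ⟨χ₀, h0, h1⟩ := exists_ml_ne_zero hc le_sup_left h
  have key : ∀ χ : (Z ⊔ D : Subgroup G) →* ℂˣ, ¬ Triv χ Z → ml ρ χ = ml ρ χ₀ := fun χ hχ => by
    obtain ⟨g, hg, e⟩ := exists_smul_eqOn hZ le_sup_left HA h0 hχ
    obtain ⟨g', hg', e'⟩ := exists_smul_eq hc le_sup_right le_sup_left le_rfl EA EZ nd cE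
      (fun h => hχ fun a ha => (e a ha).symm.trans (h a ha)) e
    rw [← e', ml_smul, ml_smul]
  have h2 := finrank_add_eq hc le_sup_left ha key
  rw [ha] at h2
  by_cases h3 : ml ρ χ₀ = 1
  swap
  · obtain ⟨k, hk⟩ : ∃ j, ml ρ χ₀ = j + 2 := ⟨ml ρ χ₀ - 2, by omega⟩
    have := Nat.le_mul_of_pos_right a (Nat.card_pos (α := Z))
    rw [hk] at h2
    exact Or.inl (by nlinarith)
  letI : CommGroup (Z ⊔ D : Subgroup G) :=
    { (inferInstance : Group (Z ⊔ D : Subgroup G)) with mul_comm := fun a b => Subtype.ext (hc _ a.2 _ b.2) }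
  obtain ⟨y, hy, h4⟩ := SetLike.not_le_iff_exists.1 ZD
  obtain ⟨χ, h5, h6⟩ : ∃ χ : (Z ⊔ D : Subgroup G) →* ℂˣ, Triv χ D ∧ χ ⟨y, mem_sup_left hy⟩ ≠ 1 := by
    by_contra! H
    exact h4 ((CommGroup.forall_monoidHom_apply_eq_one_iff ℂ (D.subgroupOf (Z ⊔ D)) ⟨y, mem_sup_left hy⟩).1 H)
  have h7 := (key χ fun h => h6 (h _ hy)).trans h3
  obtain ⟨w, hw, w0⟩ := ml_ne_zero.1 (h7.trans_ne one_ne_zero)
  have h8 : ∀ m ∈ M, ∃ c : ℂ, c • w = ρ m w := fun m hm => by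
    have h9 : m ∈ normalizer (Z ⊔ D : Subgroup G) := normalizer_inf_normalizer_le_normalizer_sup _ _
      ⟨le_normalizer_of_conj (E := M) (fun e he a ha => by
        rwa [mul_assoc, ← (MZ e he a ha).eq, inv_mul_cancel_left]) hm, MD hm⟩
    have h10 : (⟨m, h9⟩ : normalizer _) • χ = χ := eq_of_eqOn le_rfl le_sup_left le_sup_right
      (fun a ha => smul_apply_of_eq _ _ (by rw [mul_assoc, ← (MZ m hm a ha).eq, inv_mul_cancel_left]))
      fun a ha => by rw [h5 a ha, smul_apply, h5 _ (conj_mem ⟨m, MD hm⟩ ha)]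
    obtain ⟨c, hc⟩ := (finrank_eq_one_iff_of_nonzero' (⟨w, hw⟩ : wt ρ χ) fun h => w0 (congrArg Subtype.val h)).1 h7
      ⟨ρ m w, fun a => by
        change _ = (χ a : ℂ) • _
        rw [← h10, smul_apply, ← map_smul, ← mem_wt.1 hw]
        simp [← Module.End.mul_apply, ← map_mul, mul_assoc]⟩
    exact ⟨c, congrArg Subtype.val hc⟩
  refine Or.inr ⟨w, w0, fun m hm => hM (stb ρ w) (fun a ha b hb => ?_) hm⟩
  obtain ⟨c, hc⟩ := h8 a ha
  obtain ⟨d, hd⟩ := h8 b hb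
  have h9 : ρ (a * b) w = ρ (b * a) w := by simp only [map_mul, Module.End.mul_apply, ← hc, ← hd, map_smul, smul_comm c]
  obtain ⟨e, he⟩ := h8 _ (inv_mem (mul_mem hb ha))
  change ρ _ w = w
  rw [show ⁅a, b⁆ = a * b * (b * a)⁻¹ by group, map_mul, Module.End.mul_apply, ← he, map_smul, h9, ← map_smul, he,
    ← Module.End.mul_apply, ← map_mul, mul_inv_cancel, map_one, Module.End.one_apply]

end Cfsg.Agent.Chev.Md

namespace Cfsg.Lie.ChevalleyDatum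

open Cfsg.Agent.Chev Cfsg.Agent.Chev.Md Cfsg.Agent.Ch Subgroup Module
open scoped commutatorElement

/-- Root data in a Levi subgroup. -/
structure MdCov where
  /-- roots -/
  (θ β : ℕ)
  /-- layers, nodes and a chain -/
  (Dl El J I O : List ℕ)
  /-- the grading -/
  c : List ℤ
  /-- pairs of roots -/
  tr : List (ℕ × ℕ)

/-- The simple roots and their negatives. -/
def sgL (D : ChevalleyDatum) (I : List ℕ) : List ℕ := I.map D.simple ++ I.map fun i => D.neg (D.simple i)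

/-- The conditions on the data. -/
structure MdCov.Chk (M : MdCov) (D : ChevalleyDatum) : Prop where
  θlt : M.θ < D.nroots
  βlt : M.β < D.nroots
  nd : D.NDeg 0 1 (M.El.zip M.Dl) M.θ
  len : M.El.length = M.Dl.length ∧ M.El.zip M.Dl ≠ []
  lt : (∀ r ∈ M.Dl, r < D.nroots ∧ D.fl M.c r < 2) ∧ ∀ r ∈ M.El, r < D.nroots ∧ D.fl M.c r < 2
  cone : D.ConeOK M.c 1 (M.Dl ++ [M.θ]) ∧ D.ConeOK M.c 1 (M.El ++ [])
  nodup : (M.Dl ++ [M.θ]).Nodup ∧ (M.El ++ []).Nodup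
  cA : D.Cp 0 (M.Dl ++ [M.θ]) (M.Dl ++ [M.θ]) []
  cE : D.Cp 0 M.El (M.El ++ []) []
  cE' : D.Cp 0 M.El (M.Dl ++ [M.θ]) (M.Dl ++ [M.θ])
  sup : ∀ r ∈ M.β :: D.neg M.β :: (M.Dl ++ [M.θ] ++ M.El), D.suppL M.J r
  pβ : D.pairing M.β M.θ = 1
  IJ : M.I ⊆ M.J
  cM : D.Cp 0 (D.sgL M.I) M.Dl M.Dl
  cM' : D.Cp 0 (D.sgL M.I) [M.θ] []
  tr : ∀ x ∈ M.tr.zip (D.sgL M.I), D.Trip 1 x.1.1 x.1.2 x.2 ∧ D.suppL M.I x.1.1 ∧ D.suppL M.I x.1.2
  tr' : (D.sgL M.I).length ≤ M.tr.length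
  ch : D.Chain (M.J.map ([·])) [M.θ] M.O ∧ D.sgL M.J ⊆ M.O ∧ ∀ r ∈ M.O, r < D.nroots

variable {D : ChevalleyDatum} [hG : D.Good] {K : Type*} [Field K]

theorem LJ_le_of_sgL {I : List ℕ} {A : Subgroup (GL D.Idx K)} (h : ∀ r ∈ D.sgL I, ∀ t, D.X K r t ∈ A) :
    D.LJ K (D.nset I) ≤ A := LJ_le fun _ hj t =>
  ⟨h _ (List.mem_append_left _ (List.mem_map_of_mem hj)) t, h _ (List.mem_append_right _ (List.mem_map_of_mem hj)) t⟩

theorem XS_lset_append (A B : List ℕ) : D.XS K (D.lset (A ++ B)) = D.XS K (D.lset B) ⊔ D.XS K (D.lset A) :=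
  le_antisymm (XS_le_iff.2 fun _ hr t => (List.mem_append.1 hr).elim (fun h => mem_sup_right (X_mem_lset h t))
    fun h => mem_sup_left (X_mem_lset h t)) (sup_le (lset_mono (by simp)) (lset_mono (by simp)))

theorem card_lset_single (r : D.Rt) : Nat.card (D.XS K (D.lset [r.1])) = Nat.card K :=
  (Nat.card_congr (Equiv.ofBijective (fun t => ⟨_, mem_lset_single.2 ⟨t, rfl⟩⟩)
    ⟨fun _ _ e => D.X_injective K r (congrArg Subtype.val e), fun g => (mem_lset_single.1 g.2).imp fun _ e =>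
      Subtype.ext e.symm⟩)).symm

theorem Cp.card_lay [Finite K] {p : ℕ} (hp : (p : K) = 0) {A O : List ℕ} {c : List ℤ}
    (hl : ∀ r ∈ A, r < D.nroots ∧ D.fl c r < 2) (h : D.Cp p A (A ++ O) []) (hc : D.ConeOK c 1 (A ++ O))
    (hnd : (A ++ O).Nodup) : Nat.card (D.XS K (D.lset (A ++ O))) = Nat.card K ^ A.length * Nat.card (D.XS K (D.lset O)) := by
  induction A with
  | nil => simp
  | cons r A ih =>
    have h1 : D.Cp p [r] (r :: A ++ O) [] := h.mono (by simp) (List.Subset.refl _)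
    rw [show r :: A ++ O = [r] ++ (A ++ O) from rfl, XS_lset_append, card_sup_of_commute (fun a ha b hb =>
      ((h1.mono (B' := A ++ O) (List.Subset.refl _) (List.subset_cons_self _ _)).commute hp hb ha).symm)
      (Cp.disj hp (c := c) (by simpa using hl r (by simp)) (h1.mono (List.Subset.refl _) (by simp))
        hc hnd), ih (fun s hs => hl s (by simp [hs])) (h.mono (by simp) (by simp)) (hc.mono (by simp))
        (List.nodup_cons.1 hnd).2, card_lset_single ⟨r, (hl r (by simp)).1⟩, List.length_cons]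
    ring

theorem Trip.X_mem {δ r ζ : ℕ} (h : D.Trip 1 δ r ζ) {A S : Subgroup (GL D.Idx K)} (h1 : ∀ t, D.X K δ t ∈ A)
    (h2 : ∀ t, D.X K r t ∈ A) (hS : ∀ a ∈ A, ∀ b ∈ A, ⁅a, b⁆ ∈ S) (c : K) : D.X K ζ c ∈ S := by
  obtain ⟨t, ht⟩ := h.conj (K := K) (by simp) one_ne_zero (fun _ => Commute.one_left _) (fun _ => Commute.one_left _) c
  convert hS _ (inv_mem (h2 t)) _ (inv_mem (h1 1)) using 1
  rw [← inv_mul_eq_iff_eq_mul.2 ht, commutatorElement_def]; group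

namespace MdCov.Chk

variable {M : MdCov} (h : M.Chk D)
include h

theorem mem {r : ℕ} (hr : r ∈ M.β :: D.neg M.β :: (M.Dl ++ [M.θ] ++ M.El)) (t : K) :
    D.X K r t ∈ D.LJ K (D.nset M.J) := X_mem_LJ' (h.sup r hr) t

theorem eq_top (N : Subgroup (D.LJ K (D.nset M.J))) [hN : N.Normal]
    (h1 : ∀ t, ⟨_, h.mem (r := M.θ) (by simp) t⟩ ∈ N) : N = ⊤ := by
  have h2 := h.ch.1.ind (p := fun r => ∀ t, D.X K r t ∈ N.map (Subgroup.subtype _))
    (List.forall_mem_singleton.2 fun t => ⟨_, h1 t, rfl⟩) fun g hg r hr h3 t => by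
      obtain ⟨j, hj, rfl⟩ := List.mem_map.1 hg
      obtain ⟨ε, -, e⟩ := (nW_spec (K := K) [j]).1.2 ⟨r, h.ch.2.2 r hr⟩
      obtain ⟨a, ha, e'⟩ := h3 (ε * t)
      refine ⟨_, hN.conj_mem a ha (⟨_, nW_mem_LJ (w := [j]) (by simpa using hj)⟩ : D.LJ K (D.nset M.J))⁻¹, ?_⟩
      rw [(nW_spec (K := K) [j]).2] at e
      change _ * a.1 * _ = _
      rw [show a.1 = _ from e', ← e]
      simp [mul_assoc]
  refine eq_top_iff.2 fun g _ => ?_
  obtain ⟨a, ha, e⟩ := LJ_le_of_sgL (fun r hr => h2 r (h.ch.2.1 hr)) g.2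
  exact Subtype.ext e ▸ ha

theorem commutator_eq : commutator (D.LJ K (D.nset M.J)) = ⊤ := by
  refine h.eq_top _ fun t => ?_
  obtain ⟨x, hx⟩ := List.exists_mem_of_ne_nil _ h.len.2
  have h1 := (h.nd.1 x hx).X_mem (S := ⁅D.LJ K (D.nset M.J), D.LJ K (D.nset M.J)⁆)
    (h.mem (r := x.1) (by simp [(List.of_mem_zip hx).1])) (h.mem (r := x.2) (by simp [(List.of_mem_zip hx).2]))
    (fun a ha b hb => commutator_mem_commutator ha hb) t
  rw [← map_subtype_commutator] at h1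
  exact (mem_map_iff_mem (subtype_injective _)).1 h1

variable [Finite K] {W : Type*} [AddCommGroup W] [Module ℂ W] [FiniteDimensional ℂ W]
  {ρ : Representation ℂ (D.LJ K (D.nset M.J)) W}

theorem two_le_or (h0 : ρ.ker ≠ ⊤) : 2 * Nat.card K ^ (M.Dl.length + 1) ≤ finrank ℂ W + 2 * Nat.card K ^ M.Dl.length ∨
    ∃ w ≠ 0, ∀ m : D.LJ K (D.nset M.J), m.1 ∈ D.LJ K (D.nset M.I) → ρ m w = w := by
  let Γ := D.LJ K (D.nset M.J)
  have hp : ((0 : ℕ) : K) = 0 := Nat.cast_zero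
  have h1 : ∀ A, A ⊆ M.Dl ++ [M.θ] ++ M.El → D.XS K (D.lset A) ≤ Γ := fun A hA =>
    XS_le_iff.2 fun r hr t => h.mem (by simp only [List.mem_cons]; exact Or.inr (Or.inr (hA hr))) t
  have h2 : ∀ A, A ⊆ M.Dl ++ [M.θ] ++ M.El →
      Nat.card ((D.XS K (D.lset A)).subgroupOf Γ) = Nat.card (D.XS K (D.lset A)) := fun A hA =>
    Nat.card_congr (subgroupOfEquivOfLe (h1 A hA)).toEquiv
  have h3 : (D.XS K (D.lset [M.θ])).subgroupOf Γ ⊔ (D.XS K (D.lset M.Dl)).subgroupOf Γ =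
      (D.XS K (D.lset (M.Dl ++ [M.θ]))).subgroupOf Γ := by
    rw [XS_lset_append, subgroupOf_sup (h1 _ (by simp)) (h1 _ (by simp))]
  have h4 := card_lset_single (K := K) ⟨_, h.θlt⟩
  have h5 : ∀ u, D.nE K M.β u ∈ Γ := fun u =>
    mul_mem (mul_mem (h.mem (by simp) _) (h.mem (by simp) _)) (h.mem (by simp) _)
  have h6 := h.len.1
  have := Md.two_le_or (ρ := ρ) (z := fun t => ⟨_, h.mem (r := M.θ) (by simp) t⟩)
    (H := (D.diagonalSubgroup K).subgroupOf Γ) (Z := (D.XS K (D.lset [M.θ])).subgroupOf Γ)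
    (D := (D.XS K (D.lset M.Dl)).subgroupOf Γ) (E := (D.XS K (D.lset M.El)).subgroupOf Γ)
    (M := (D.LJ K (D.nset M.I)).subgroupOf Γ) (a := Nat.card K ^ M.Dl.length)
    ⟨fun t u => Subtype.ext (D.X_add K _ t u), fun t u e => D.X_injective K ⟨_, h.θlt⟩ (congrArg Subtype.val e),
      fun g => mem_lset_single.trans (by simp [Subtype.ext_iff]),
      le_normalizer_of_conj fun _ hg _ ha => H_conj hg ha,
      fun v hv => ⟨⟨D.hE K M.β v, mul_mem (h5 v) (h5 (-1))⟩, D.hE_mem_diagonal K ⟨_, h.βlt⟩ hv, fun t => Subtype.ext (by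
        simpa [h.pβ] using D.hE_conj_X K ⟨_, h.βlt⟩ ⟨_, h.θlt⟩ hv t)⟩⟩
    (h3 ▸ fun a ha b hb => Subtype.ext (h.cA.commute hp ha hb))
    (h3 ▸ le_normalizer_of_conj fun _ hg _ ha => H_conj hg ha)
    (h3 ▸ le_normalizer_of_conj fun _ hg _ ha => h.cE'.norm hp hg _ ha)
    (fun e he a ha => Subtype.ext (h.nd.2.2.commute hp (by rwa [List.map_fst_zip h6.le]) ha))
    (fun e he e0 z hz => by
      obtain ⟨r, hr, h7⟩ := h.nd.exists_conj hp (by simp) (e := e.1) (by rwa [List.map_fst_zip h6.le])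
        fun h => e0 (Subtype.ext h)
      obtain ⟨c, hc⟩ := mem_lset_single.1 hz
      obtain ⟨t, ht⟩ := h7 c
      rw [List.map_snd_zip h6.ge] at hr
      exact ⟨⟨_, h.mem (r := r) (by simp [hr]) t⟩, X_mem_lset hr t, Subtype.ext (ht.trans (congrArg _ hc.symm))⟩)
    (by
      have h7 := h.cE.card_lay hp h.lt.2 h.cone.2 h.nodup.2
      have h8 := Cp.card_lay hp (O := []) h.lt.1 (h.cA.mono (by simp) (by simp)) (h.cone.1.mono (by simp))
        (by simpa using h.nodup.1.of_append_left)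
      rw [List.append_nil] at h7 h8
      rw [h2 _ (by simp), h2 _ (by simp), h7, h8, h6])
    (fun h7 => one_ne_zero ((D.X_eq_one_iff K ⟨_, h.θlt⟩ 1).1 ((Cp.disj hp h.lt.1 (h.cA.mono (by simp) (by simp))
      h.cone.1 h.nodup.1).le ⟨X_mem_lset (by simp) 1, h7 (x := ⟨_, h.mem (r := M.θ) (by simp) 1⟩)
        (X_mem_lset (by simp) 1)⟩)))
    (fun m hm a ha => Subtype.ext (mem_centralizer_singleton_iff.1 (LJ_le_of_sgL (fun r hr t =>
      mem_centralizer_singleton_iff.2 (h.cM'.commute hp (X_mem_lset hr t) ha)) hm)))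
    (le_normalizer_of_conj fun m hm a ha => conj_mem (A := D.XS K (D.lset M.Dl)) ⟨m.1, LJ_le_of_sgL (fun r hr t =>
      le_normalizer_of_conj (fun _ => h.cM.norm hp) (X_mem_lset hr t)) hm⟩ ha)
    (fun S hS m hm => by
      obtain ⟨a, ha, e⟩ := LJ_le_of_sgL (A := S.map Γ.subtype) (fun r hr => by
        rw [← List.map_snd_zip h.tr'] at hr
        obtain ⟨x, hx, rfl⟩ := List.mem_map.1 hr
        obtain ⟨k1, k2, k3⟩ := h.tr x hx
        exact k1.X_mem (X_mem_LJ' k2) (X_mem_LJ' k3) fun a ha b hb =>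
          ⟨_, hS ⟨a, LJ_mono (fun _ h' => h.IJ h') ha⟩ ha ⟨b, LJ_mono (fun _ h' => h.IJ h') hb⟩ hb, rfl⟩) hm
      exact Subtype.ext e ▸ ha)
    (by_contra fun h7 => h0 (h.eq_top _ fun t => by_contra fun h8 => h7 ⟨_, X_mem_lset (by simp) t, h8⟩))
    (by rw [h3, h2 _ (by simp), h2 _ (by simp), Cp.card_lay hp h.lt.1 (h.cA.mono (by simp) (by simp)) h.cone.1 h.nodup.1])
  rwa [h2 _ (by simp), h4, ← pow_succ] at this

/-- The degrees of the representations of the derived Levi subgroup. -/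
theorem le_or {ι Nd L : Type} [AddCommGroup L] [Fintype Nd] [DecidableEq Nd] [Finite ι] {R : StRoot ι Nd L}
    {G₀ : Type*} [Group G₀] {x₀ : ι → K → G₀} (hD : D.stRoot.SL) (hL : R.SL) (hS : R.Std) (h₀ : R.IsModel x₀)
    (hg₀ : Agent.Chev.XS x₀ Set.univ = ⊤) (ν : Nd → D.Nd) (hν : ∀ i k, R.A (R.sr i) (R.sr k) = D.cartan (ν i) (D.simple (ν k)))
    (hadj : ∀ i, ∃ k, D.cartan (ν i) (D.simple (ν k)) = -1) (h3 : ∀ i k, D.cartan (ν i) (D.simple (ν k)) = -1 →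
      ∃ j, ¬ (3 : ℤ) ∣ D.cartan (ν i) (D.simple (ν j)) + 2 * D.cartan (ν k) (D.simple (ν j)))
    (hJ : ∀ j : D.Nd, j.1 ∈ M.J ↔ ∃ i, ν i = j)
    (hI : ∀ c, h₀.toIsSt.tor h₀.toIsSt.hmul_of_finite c = 1 → ∀ i, (ν i).1 ∉ M.I → c i = 1)
    (hρ : ρ.IsIrreducible) : (∃ σ : Representation ℂ G₀ W, σ.IsIrreducible) ∨ (∃ u : Kˣ, u ≠ 1) ∧
      2 * Nat.card K ^ (M.Dl.length + 1) ≤ finrank ℂ W + 2 * Nat.card K ^ M.Dl.length := by
  have hX := D.isModel_X K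
  obtain ⟨y, h1, h2⟩ := h₀.exists_isSt_of_edges hL hS (by simpa only [hν] using hadj)
    (fun i k e => (h3 i k (hν i k ▸ e)).elim fun j hj => ⟨R.sr j, by rwa [hν, hν]⟩)
    (fun i => D.X K (D.sr (ν i))) (fun i => D.X K (D.ng (D.sr (ν i))))
    (fun i k e => StRoot.SL.edge hD D.std hX (by rw [← e, hν]; exact D.stRoot_A_sr_sr _ _))
    (fun i => D.L1 K (D.sr (ν i))) (fun i => D.X_mem_L1 K _) (fun i => D.X_ng_mem_L1 K _) fun i k e a ha b hb =>
      D.XS_commute K (by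
        have : D.stRoot.A (D.sr (ν i)) (D.sr (ν k)) = 0 := by rw [← e, hν]; exact D.stRoot_A_sr_sr _ _
        rintro _ (rfl | rfl) _ (rfl | rfl) <;> refine StRoot.SL.commute hD hX.toIsAB ?_ <;>
          simp only [← stRoot_ng, StRoot.A_ng_left, StRoot.A_ng_right, this, neg_zero, le_refl]) ha hb
  have h4 : ∀ I : List ℕ, Agent.Chev.XS y (R.sgOn {i | (ν i).1 ∈ I}) ≤ D.LJ K (D.nset I) := fun I => XS_le (by
    rintro _ ⟨i, hi, rfl | rfl⟩ t
    exacts [(h1 i).1 ▸ X_mem_LJ (cw_sr_of_mem hi) t, (h1 i).2 ▸ X_ng_mem_LJ (cw_sr_of_mem hi) t])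
  have h5 : Agent.Chev.XS y Set.univ = D.LJ K (D.nset M.J) := le_antisymm (h2.XS_univ_eq.le.trans (le_trans (b :=
    Agent.Chev.XS y (R.sgOn {i | (ν i).1 ∈ M.J})) (Agent.Chev.XS_mono _ fun r ⟨i, hi⟩ => ⟨i, (hJ _).2 ⟨i, rfl⟩, hi⟩) (h4 _))) (LJ_le fun j hj t => by
      obtain ⟨i, rfl⟩ := (hJ j).1 hj
      exact ⟨(h1 i).1 ▸ x_mem_XS y (Set.mem_univ _) t, (h1 i).2 ▸ x_mem_XS y (Set.mem_univ _) t⟩)
  refine (h₀.exists_hom_or hg₀ h2 (fun r t => h5.le (x_mem_XS y (Set.mem_univ _) t)) ρ.toHomUnits _ hI).imp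
    (fun ⟨f, hf⟩ => ⟨(Units.coeHom _).comp f, (isIrreducible_iff _).2 (((isIrreducible_iff _).1 hρ).imp_right
      fun H U hU => H U fun g => ?_)⟩) (And.imp_right fun ⟨k, k1, k2, k3⟩ => ?_)
  · obtain ⟨a, ⟨b, hb⟩, e⟩ := XS_le (H := (f.range.comap ρ.toHomUnits).map (Subgroup.subtype _))
      (fun r _ t => ⟨_, ⟨_, hf r t⟩, rfl⟩) (h5.ge g.2)
    rw [← Subtype.ext e]
    exact fun v hv => (congrArg (fun u : (Module.End ℂ W)ˣ => u.1 v) hb) ▸ hU b v hv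
  refine (h.two_le_or fun e => k1 (Units.ext (e.ge (mem_top k)))).resolve_right fun ⟨w, w0, hw⟩ => k1 (Units.ext ?_)
  obtain ⟨c, hc⟩ := exists_eq_smul_of_commute ρ (ρ k) fun g => by
    rw [← map_mul, ← map_mul]
    exact congrArg _ (Subtype.ext (mem_centralizer_singleton_iff.1 ((XS_le fun r _ t =>
      mem_centralizer_singleton_iff.2 (k3 r t).symm : Agent.Chev.XS y Set.univ ≤ _) (h5.ge g.2))).symm)
  have h6 := hw k (h4 _ k2)
  rw [hc, LinearMap.smul_apply, LinearMap.id_apply] at h6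
  change ρ k = 1
  rw [hc, smul_left_injective ℂ w0 (h6.trans (one_smul ℂ w).symm), one_smul]; rfl

end MdCov.Chk

end Cfsg.Lie.ChevalleyDatum
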