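import Mathlib
import Cfsg.Agent.Chev.ReeCount
import Cfsg.Agent.Chev.ReeSyl2

/-!
# Abstract small Ree groups: the four classes of maximal tori
-/

set_option autoImplicit false

namespace Cfsg.Agent.Chev

open Subgroup

theorem sq_sub_add_one (s : ℕ) : (s + 3) ^ 2 - (s + 3) + 1 = s ^ 2 + 5 * s + 7 := by
  rw [show (s + 3) ^ 2 = s ^ 2 + 5 * s + 6 + (s + 3) by ring, Nat.add_sub_cancel]

theorem sq_sub_one (s : ℕ) : (s + 3) ^ 2 - 1 = (s + 2) * (s + 4) := by
  rw [show (s + 3) ^ 2 = (s + 2) * (s + 4) + 1 by ring, Nat.add_sub_cancel]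

theorem sub_mul_add {q r : ℕ} (hq : 3 ≤ q) (hr : r ^ 2 = 3 * q) :
    (q - r + 1) * (q + r + 1) = q ^ 2 - q + 1 := by
  have h1 : r ≤ q := by nlinarith
  have h2 : q ≤ q ^ 2 := by nlinarith
  zify [h1, h2] at hr ⊢
  linear_combination -hr

theorem eq_of_mul_of_add {q r a b : ℕ} (hq : 3 ≤ q) (hr : r ^ 2 = 3 * q)
    (h1 : a * b = q ^ 2 - q + 1) (h2 : a + b = 2 * q + 2) :
    (a = q - r + 1 ∧ b = q + r + 1) ∨ (b = q - r + 1 ∧ a = q + r + 1) := by
  have h3 : r ≤ q := by nlinarith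
  have h4 : q ≤ q ^ 2 := by nlinarith
  zify [h3, h4] at hr h1 h2 ⊢
  have h5 : ((a : ℤ) - (q - r + 1)) * (a - (q + r + 1)) = 0 := by
    linear_combination (a : ℤ) * h2 - h1 - hr
  rcases mul_eq_zero.1 h5 with h | h
  · exact Or.inl ⟨by omega, by omega⟩
  · exact Or.inr ⟨by omega, by omega⟩

namespace ReeGroup

variable {K : Type*} [Field K] {Γ : Type*} [Group Γ] (R : ReeGroup K Γ) [Fintype K]

theorem card_involutions_H : Nat.card {z | z ∈ R.H ∧ orderOf z = 2} = 1 := by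
  have := R.finite
  have := R.card_mod_four
  rw [← card_subgroup_orderOf _ (· = 2), card_orderOf_of_isCyclic R.isCyclic_H
    (by rw [card_H]; omega), Nat.totient_two]

theorem card_involutions_Cp : Nat.card {z | z ∈ R.Cp ∧ orderOf z = 2} = 3 := by
  have : Fact (Nat.Prime 2) := ⟨Nat.prime_two⟩
  have hna : R.n ≠ R.a := fun e => R.n_not_mem_B (e ▸ R.a_mem_B)
  rw [Nat.card_coe_set_eq, Set.ncard_eq_three]
  refine ⟨R.a, R.n, R.a * R.n, hna.symm, fun e => R.n_ne_one (left_eq_mul.1 e),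
    fun e => R.a_ne_one (right_eq_mul.1 e), Set.ext fun t => ⟨fun ⟨h1, h2⟩ => ?_, ?_⟩⟩
  · obtain ⟨h3, h4⟩ := orderOf_eq_prime_iff.1 h2
    have := R.eq_of_mem_Cp_of_mul_self h1 (by rwa [← sq])
    simp only [Set.mem_insert_iff, Set.mem_singleton_iff]
    tauto
  · rintro (rfl | rfl | rfl)
    · exact ⟨R.a_mem_Cp, R.orderOf_a⟩
    · exact ⟨R.n_mem_Cp, orderOf_eq_prime (by rw [sq, R.n_n]) R.n_ne_one⟩
    · exact ⟨mul_mem R.a_mem_Cp R.n_mem_Cp,
        orderOf_eq_prime (by rw [sq]; exact R.h_n_mul_self _) (R.h_n_ne_one _)⟩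

theorem normalizer_H' {y : Γ} (hy : Big (orderOf y)) (h : y ∈ R.H) :
    normalizer (R.H : Set Γ) = R.N := by
  obtain ⟨c, rfl⟩ := h
  refine R.normalizer_H (c := c) ?_ ?_ <;> rintro rfl
  · exact hy.mul_self_ne_one (by simp)
  · exact hy.mul_self_ne_one R.a_mul_a

theorem two_mul_index_N : 2 * R.N.index = Fintype.card K ^ 3 * (Fintype.card K ^ 3 + 1) := by
  have h := R.N.card_mul_index
  have h1 := Fintype.one_lt_card (α := K)
  rw [card_N, R.card_eq] at h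
  refine Nat.eq_of_mul_eq_mul_left (show 0 < Fintype.card K - 1 by omega) ?_
  linear_combination h

theorem six_mul_index_Cp {y : Γ} (hy : Big (orderOf y)) (h : y ∈ R.Cp) :
    6 * (normalizer (R.Cp : Set Γ)).index = Fintype.card K ^ 3 * (Fintype.card K - 1) *
      (Fintype.card K ^ 2 - Fintype.card K + 1) := by
  have h1 := (normalizer (R.Cp : Set Γ)).card_mul_index
  rw [R.card_normalizer_Cp hy h, R.card_eq'] at h1
  refine Nat.eq_of_mul_eq_mul_left (show 0 < Fintype.card K + 1 by omega) ?_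
  linear_combination h1

theorem card_oddPart_H {y : Γ} (hy : Big (orderOf y))
    (h : Nat.card (centralizer {y}) = Fintype.card K - 1) :
    Nat.card (R.oddPart hy) = (Fintype.card K - 1) / 2 := by
  have := R.card_mod_four
  exact R.card_oddPart hy (j := 1) (by omega) (Nat.odd_iff.2 (by omega))

theorem card_oddPart_Cp {y : Γ} (hy : Big (orderOf y))
    (h : Nat.card (centralizer {y}) = Fintype.card K + 1) :
    Nat.card (R.oddPart hy) = (Fintype.card K + 1) / 4 := by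
  have := R.card_mod_eight
  exact R.card_oddPart hy (j := 2) (by omega) (Nat.odd_iff.2 (by omega))

theorem card_oddPart_Z {y : Γ} (hy : Big (orderOf y))
    (h : Nat.card (centralizer {y}) ∣ Fintype.card K ^ 2 - Fintype.card K + 1) :
    Nat.card (R.oddPart hy) = Nat.card (centralizer {y}) :=
  R.card_oddPart hy (j := 0) (by simp) (R.odd_sq_sub.of_dvd_nat h)

theorem oddPart_Z {y : Γ} (hy : Big (orderOf y))
    (h : Nat.card (centralizer {y}) ∣ Fintype.card K ^ 2 - Fintype.card K + 1) :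
    R.oddPart hy = centralizer {y} := by
  have := R.finite
  exact eq_of_le_of_card_ge (R.oddPart_le hy) (R.card_oddPart_Z hy h).ge

include R in
theorem three_lt_of_dvd {p : ℕ} (hp : p.Prime) (h : p ∣ Fintype.card K ^ 2 - Fintype.card K + 1) :
    3 < p := by
  have h2 : p ≠ 2 := by
    rintro rfl
    exact R.odd_sq_sub.not_two_dvd_nat h
  have h3 : p ≠ 3 := by
    rintro rfl
    have h4 := R.three_dvd_card
    have := Nat.dvd_sub (dvd_pow h4 two_ne_zero) h4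
    omega
  have := hp.two_le
  omega

include R in
theorem exists_orderOf_of_dvd {p : ℕ} (hp : p.Prime)
    (h : p ∣ Fintype.card K ^ 2 - Fintype.card K + 1) : ∃ y : Γ, Big (orderOf y) ∧
      p ∣ Nat.card (centralizer {y}) ∧
      Nat.card (centralizer {y}) ∣ Fintype.card K ^ 2 - Fintype.card K + 1 := by
  have := R.finite
  have := Fact.mk hp
  obtain ⟨y, hy⟩ := exists_prime_orderOf_dvd_card' (G := Γ) p (R.card_eq' ▸ h.mul_left _)
  exact ⟨y, hy ▸ big_of_prime hp (R.three_lt_of_dvd hp h), hy ▸ orderOf_dvd_card_centralizer y,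
    R.card_centralizer_dvd hp (R.three_lt_of_dvd hp h) hy.symm.dvd h⟩

include R in
theorem not_dvd_of_eq_mul {y : Γ} (hy : Big (orderOf y)) {k p : ℕ}
    (h : Fintype.card K ^ 2 - Fintype.card K + 1 = Nat.card (centralizer {y}) * k) (hp : p.Prime)
    (hk : p ∣ k) : ¬ p ∣ Nat.card (centralizer {y}) := fun h1 => by
  have := R.finite
  refine R.not_dvd_index hy hp (R.three_lt_of_dvd hp (h ▸ hk.mul_left _)) h1 ?_
  have h2 := (centralizer {y}).card_mul_index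
  rw [R.card_eq', h, mul_left_comm] at h2
  rw [Nat.eq_of_mul_eq_mul_left Nat.card_pos h2]
  exact hk.mul_left _

include R in
theorem card_com_Z {y : Γ} (hy : Big (orderOf y))
    (h : Nat.card (centralizer {y}) ∣ Fintype.card K ^ 2 - Fintype.card K + 1) :
    ∃ e d, e ∣ 6 ∧ 4 ≤ d ∧ Nat.card (centralizer {y}) = d + 1 ∧
      Nat.card (normalizer (centralizer {y} : Set Γ)) = e * (d + 1) ∧
      e * (d + 1) * Nat.card {z : Γ // Com (d + 1) (orderOf z)} = d * Nat.card Γ := by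
  have := R.finite
  have h5 := (hy.of_dvd (orderOf_dvd_card_centralizer y)).five_le Nat.card_pos.ne'
  obtain ⟨d, hd⟩ : ∃ d, Nat.card (centralizer {y}) = d + 1 := ⟨_, (Nat.succ_pred_eq_of_pos
    Nat.card_pos).symm⟩
  have h1 := R.card_com hy
  have h2 : Nat.card {z | z ∈ centralizer {y} ∧ orderOf z = 2} = 0 := by
    rw [Nat.card_eq_zero]
    refine Or.inl ⟨fun z => ?_⟩
    have h3 : z.1 ∈ R.oddPart hy := (R.oddPart_Z hy h).ge z.2.1
    exact absurd (z.2.2 ▸ h3.2) (by decide)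
  have h3 : Nat.card (normalizer (centralizer {y} : Set Γ)) =
      (centralizer {y}).relIndex (normalizer (centralizer {y} : Set Γ)) * (d + 1) := by
    rw [← ((centralizer {y}).subgroupOf _).card_mul_index,
      Nat.card_congr (subgroupOfEquivOfLe le_normalizer).toEquiv, hd, mul_comm]
    rfl
  refine ⟨_, d, R.relIndex_dvd_six hy, by omega, hd, h3, ?_⟩
  rw [h2, hd] at h1
  rw [h1, ← h3, ← (normalizer (centralizer {y} : Set Γ)).card_mul_index, Nat.sub_zero,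
    Nat.add_sub_cancel, mul_left_comm]

variable (hq : 3 < Fintype.card K)
include hq

theorem exists_big_H : ∃ y ∈ R.H, Big (orderOf y) := by
  have := R.card_mod_four
  have := R.three_dvd_card
  obtain ⟨p, a, b, c⟩ := big_of_odd (d := (Fintype.card K - 1) / 2) (by omega)
    (Nat.odd_iff.2 (by omega)) (by omega)
  obtain ⟨y, h1, h2⟩ := R.exists_mem_H a (c.trans (Nat.div_dvd_of_dvd (by omega)))
  exact ⟨y, h1, h2 ▸ big_of_prime a b⟩

theorem exists_big_Cp : ∃ y ∈ R.Cp, Big (orderOf y) := by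
  have := R.card_mod_eight
  have := R.three_dvd_card
  obtain ⟨p, a, b, c⟩ := big_of_odd (d := (Fintype.card K + 1) / 4) (by omega)
    (Nat.odd_iff.2 (by omega)) (by omega)
  obtain ⟨y, h1, h2⟩ := R.exists_mem_Cp a (c.trans (Nat.div_dvd_of_dvd (by omega)))
  exact ⟨y, h1, h2 ▸ big_of_prime a b⟩

include R in
theorem card_com_sq : 3 * Nat.card {z : Γ // Com (Fintype.card K ^ 2 - Fintype.card K + 1)
    (orderOf z)} = Fintype.card K ^ 3 * (Fintype.card K - 1) * (Fintype.card K + 1) *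
      (Fintype.card K * (Fintype.card K - 2)) := by
  have := R.finite
  obtain ⟨y, hy, hb⟩ := R.exists_big_H hq
  obtain ⟨y', hy', hb'⟩ := R.exists_big_Cp hq
  have a1 := R.card_com hb
  rw [R.centralizer_eq_H hb hy, card_involutions_H, R.normalizer_H' hb hy, card_H] at a1
  have a2 := R.card_com hb'
  rw [R.centralizer_eq_Cp hb' hy', card_involutions_Cp, card_Cp] at a2
  have b1 := R.two_mul_index_N
  have b2 := R.six_mul_index_Cp hb' hy'
  have c2 := R.card_order_two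
  have c3 := R.card_order_three
  have c6 := R.card_order_six
  have c9 := R.card_order_nine
  have c0 := R.card_eq
  have hpos : 0 < Fintype.card K := by omega
  set q := Fintype.card K
  have nb : ∀ {d k : ℕ}, d ∣ 18 → ¬ Com k d := fun h h' => not_big_of_dvd h h'.big
  have e : Nat.card Γ = Nat.card {z : Γ // (((((((orderOf z = 1 ∨ orderOf z = 2) ∨ orderOf z = 3) ∨
      orderOf z = 6) ∨ orderOf z = 9) ∨ Com (q - 1) (orderOf z)) ∨ Com (q + 1) (orderOf z)) ∨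
      Com (q ^ 2 - q + 1) (orderOf z))} := by
    refine (Nat.card_congr (Equiv.subtypeUnivEquiv fun z => ?_)).symm
    rcases R.orderOf_cases z with h | h | h | h | h | h
    all_goals try tauto
    have h1 := orderOf_dvd_card_centralizer z
    rcases R.card_centralizer_cases h with h2 | h2 | h2
    · exact Or.inl (Or.inl (Or.inr (h.com (h2 ▸ h1))))
    · exact Or.inl (Or.inr (h.com (h2 ▸ h1)))
    · exact Or.inr (h.com (h1.trans h2))
  rw [card_orderOf_or (fun d => (((((d = 1 ∨ d = 2) ∨ d = 3) ∨ d = 6) ∨ d = 9) ∨ Com (q - 1) d) ∨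
      Com (q + 1) d) (Com (q ^ 2 - q + 1)),
    card_orderOf_or (fun d => ((((d = 1 ∨ d = 2) ∨ d = 3) ∨ d = 6) ∨ d = 9) ∨ Com (q - 1) d)
      (Com (q + 1)),
    card_orderOf_or (fun d => (((d = 1 ∨ d = 2) ∨ d = 3) ∨ d = 6) ∨ d = 9) (Com (q - 1)),
    card_orderOf_or (fun d => ((d = 1 ∨ d = 2) ∨ d = 3) ∨ d = 6) (· = 9) (fun _ _ => by omega),
    card_orderOf_or (fun d => (d = 1 ∨ d = 2) ∨ d = 3) (· = 6) (fun _ _ => by omega),
    card_orderOf_or (fun d => d = 1 ∨ d = 2) (· = 3) (fun _ _ => by omega),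
    card_orderOf_or (· = 1) (· = 2) (fun _ _ => by omega), card_orderOf_one, c0, c2, c3, c6, c9,
    a1, a2] at e
  · obtain ⟨s, hs⟩ : ∃ s, q = s + 3 := ⟨q - 3, by omega⟩
    generalize Nat.card {z : Γ // Com (q ^ 2 - q + 1) (orderOf z)} = Z at e ⊢
    rw [hs] at e b1 b2 ⊢
    rw [sq_sub_add_one] at e b2
    rw [sq_sub_one, show s + 3 - 1 - 1 - 1 = s by omega, show s + 3 + 1 - 1 - 3 = s by omega] at e
    rw [show s + 3 - 1 = s + 2 by omega] at e b2 ⊢
    rw [show s + 3 - 2 = s + 1 by omega]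
    refine Nat.eq_of_mul_eq_mul_left two_pos ?_
    zify at e b1 b2 ⊢
    linear_combination -6 * e - 3 * s * b1 - s * b2
  · rintro z ((((h | h) | h) | h) | h) <;> exact nb (by rw [h]; decide)
  · rintro z (((((h | h) | h) | h) | h) | ⟨p, a, b, c, d⟩)
    all_goals try exact nb (by rw [h]; decide)
    rintro ⟨p', a', b', c', d'⟩
    have h1 := R.card_centralizer_of_dvd_sub a b c d
    have h2 := R.card_centralizer_of_dvd_add a' b' c' d'
    omega
  · rintro z ((((((h | h) | h) | h) | h) | ⟨p, a, b, c, d⟩) | ⟨p, a, b, c, d⟩)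
    all_goals try exact nb (by rw [h]; decide)
    all_goals
      rintro ⟨p', a', b', c', d'⟩
      have := prime_dvd_cases hpos a b ((c.trans (orderOf_dvd_card_centralizer z)).trans
        (R.card_centralizer_dvd a' b' c' d'))
      tauto

include R in
theorem exists_tori : ∃ y₁ y₂ : Γ, Big (orderOf y₁) ∧ Big (orderOf y₂) ∧
    Nat.card (centralizer {y₁}) * Nat.card (centralizer {y₂}) =
      Fintype.card K ^ 2 - Fintype.card K + 1 ∧
    Nat.card (centralizer {y₁}) + Nat.card (centralizer {y₂}) = 2 * Fintype.card K + 2 ∧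
    Nat.card (normalizer (centralizer {y₁} : Set Γ)) = 6 * Nat.card (centralizer {y₁}) ∧
    Nat.card (normalizer (centralizer {y₂} : Set Γ)) = 6 * Nat.card (centralizer {y₂}) := by
  have := R.finite
  have hZ := R.card_com_sq hq
  have hG := R.card_eq'
  obtain ⟨s, hs⟩ : ∃ s, Fintype.card K = s + 3 := ⟨Fintype.card K - 3, by omega⟩
  have hn : Fintype.card K ^ 2 - Fintype.card K + 1 = s ^ 2 + 5 * s + 7 := by
    rw [hs, sq_sub_add_one]
  rw [show Fintype.card K * (Fintype.card K - 2) = s ^ 2 + 4 * s + 3 by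
    rw [hs, show s + 3 - 2 = s + 1 by omega]; ring] at hZ
  have hG0 : 0 < Fintype.card K ^ 3 * (Fintype.card K - 1) * (Fintype.card K + 1) :=
    Nat.mul_pos (Nat.mul_pos (by positivity) (by omega)) (by omega)
  generalize Fintype.card K ^ 3 * (Fintype.card K - 1) * (Fintype.card K + 1) = G0 at hZ hG hG0
  set n := Fintype.card K ^ 2 - Fintype.card K + 1 with hn'
  set Z := Nat.card {z : Γ // Com n (orderOf z)} with hZ'
  have hlt : 3 * Z < Nat.card Γ := by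
    rw [hZ, hG, hn]
    exact Nat.mul_lt_mul_of_pos_left (by omega) hG0
  have big : ∀ {e d c : ℕ}, e ∣ 6 → 4 ≤ d → e * (d + 1) * c = d * Nat.card Γ →
      2 * Nat.card Γ ≤ 15 * c ∧ (e ≠ 6 → 4 * Nat.card Γ ≤ 15 * c) := fun {e d c} h1 h2 h3 => by
    have h4 := Nat.le_of_dvd (by norm_num) h1
    have h5 : 4 * (d + 1) * Nat.card Γ ≤ 5 * d * Nat.card Γ := Nat.mul_le_mul_right _ (by omega)
    have h6 : 4 * Nat.card Γ ≤ 5 * e * c :=
      Nat.le_of_mul_le_mul_left (c := d + 1) (by nlinarith) (by omega)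
    interval_cases e <;> omega
  have disj : ∀ {y y' : Γ}, Big (orderOf y) → Big (orderOf y') → ∀ {d d' : ℕ},
      Nat.card (centralizer {y}) = d → Nat.card (centralizer {y'}) = d' → d ≠ d' →
      ∀ z : Γ, Com d (orderOf z) → ¬ Com d' (orderOf z) := by
    rintro y y' hy hy' _ _ rfl rfl h z h1 h2
    exact h ((R.card_centralizer_eq hy h1).symm.trans (R.card_centralizer_eq hy' h2))
  have mono : ∀ {d k : ℕ}, d ∣ n → Com d k → Com n k := fun h ⟨p, a, b, c, d⟩ =>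
    ⟨p, a, b, c, d.trans h⟩
  obtain ⟨p₁, hp₁, h₁⟩ := Nat.exists_prime_and_dvd (n := n) (by omega)
  obtain ⟨y₁, hy₁, -, k₁, hk₁⟩ := R.exists_orderOf_of_dvd hp₁ h₁
  obtain ⟨e₁, d₁, a₁, b₁, c₁, f₁, g₁⟩ := R.card_com_Z hy₁ ⟨k₁, hk₁⟩
  by_cases hk : k₁ = 1
  · exfalso
    rw [hk, mul_one, c₁, ← hn'] at hk₁
    rw [← hk₁, ← hZ', hG] at g₁
    have h1 : G0 * n * (e₁ * (s ^ 2 + 4 * s + 3)) = G0 * n * (3 * d₁) := by
      zify at g₁ hZ ⊢
      linear_combination 3 * g₁ - e₁ * n * hZ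
    have h2 := Nat.eq_of_mul_eq_mul_left (Nat.mul_pos hG0 (by omega)) h1
    have h3 := Nat.le_of_dvd (by norm_num) a₁
    have h4 : s ^ 2 + 5 * s + 6 = d₁ := by omega
    have h5 : 0 < s := by omega
    interval_cases e₁ <;> omega
  obtain ⟨p₂, hp₂, h₂⟩ := Nat.exists_prime_and_dvd hk
  have n₂ := R.not_dvd_of_eq_mul hy₁ hk₁ hp₂ h₂
  obtain ⟨y₂, hy₂, m₂, hd₂⟩ := R.exists_orderOf_of_dvd hp₂ (hk₁ ▸ h₂.mul_left _)
  obtain ⟨e₂, d₂, a₂, b₂, c₂, f₂, g₂⟩ := R.card_com_Z hy₂ hd₂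
  have ne₁₂ : d₁ + 1 ≠ d₂ + 1 := fun h => n₂ (by rwa [c₁, h, ← c₂])
  have cop : (Nat.card (centralizer {y₂})).Coprime (Nat.card (centralizer {y₁})) :=
    Nat.coprime_of_dvd fun p hp h1 h2 => by
      have := Fact.mk hp
      obtain ⟨z, hz⟩ := exists_prime_orderOf_dvd_card' p h1
      rw [← orderOf_coe] at hz
      have h3 := R.three_lt_of_dvd hp (h1.trans hd₂)
      exact disj hy₁ hy₂ c₁ c₂ ne₁₂ z ⟨p, hp, h3, hz.symm.dvd, c₁ ▸ h2⟩
        ⟨p, hp, h3, hz.symm.dvd, c₂ ▸ h1⟩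
  obtain ⟨k₂, rfl⟩ := cop.dvd_of_dvd_mul_left (hk₁ ▸ hd₂)
  have dv₁ : d₁ + 1 ∣ n := c₁ ▸ ⟨_, hk₁⟩
  have dv₂ : d₂ + 1 ∣ n := c₂ ▸ hd₂
  have s₁₂ := card_orderOf_or (G := Γ) _ _ (disj hy₁ hy₂ c₁ c₂ ne₁₂)
  obtain ⟨u₁, v₁⟩ := big a₁ b₁ g₁
  obtain ⟨u₂, v₂⟩ := big a₂ b₂ g₂
  by_cases hk' : k₂ = 1
  · rw [hk', mul_one] at hk₁
    rw [Nat.card_congr (Equiv.subtypeEquivRight (q := fun z => Com n (orderOf z)) fun z =>
      ⟨fun h => h.elim (mono dv₁) (mono dv₂), ?_⟩), ← hZ'] at s₁₂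
    · obtain rfl : e₁ = 6 := by by_contra h; have := v₁ h; omega
      obtain rfl : e₂ = 6 := by by_contra h; have := v₂ h; omega
      refine ⟨y₁, y₂, hy₁, hy₂, hk₁.symm, ?_, by rw [f₁, c₁], by rw [f₂, c₂]⟩
      rw [c₁, c₂, ← hn'] at hk₁
      rw [hG, hk₁] at g₁ g₂
      have h1 : G0 * ((d₁ + 1) * (d₂ + 1)) * (d₁ * (d₂ + 1) + d₂ * (d₁ + 1)) =
          G0 * ((d₁ + 1) * (d₂ + 1)) * (2 * (s ^ 2 + 4 * s + 3)) := by
        zify at g₁ g₂ hZ s₁₂ ⊢
        linear_combination -(d₂ + 1) * g₁ - (d₁ + 1) * g₂ + 2 * (d₁ + 1) * (d₂ + 1) * hZ -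
          6 * (d₁ + 1) * (d₂ + 1) * s₁₂
      have h2 := Nat.eq_of_mul_eq_mul_left (by positivity) h1
      rw [c₁, c₂, hs]
      rw [hn] at hk₁
      zify at h2 hk₁ ⊢
      linear_combination -h2 - 2 * hk₁
    · rintro ⟨p, a, b, c, d⟩
      rw [hn', hk₁, a.dvd_mul, c₁, c₂] at d
      exact d.imp (fun d => ⟨p, a, b, c, d⟩) fun d => ⟨p, a, b, c, d⟩
  exfalso
  obtain ⟨p₃, hp₃, h₃⟩ := Nat.exists_prime_and_dvd hk'
  have n₃ := R.not_dvd_of_eq_mul hy₁ hk₁ hp₃ (h₃.mul_left _)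
  have n₃' := R.not_dvd_of_eq_mul hy₂ (hk₁.trans (mul_left_comm _ _ _)) hp₃ (h₃.mul_left _)
  obtain ⟨y₃, hy₃, m₃, hd₃⟩ := R.exists_orderOf_of_dvd hp₃ (hk₁ ▸ (h₃.mul_left _).mul_left _)
  obtain ⟨e₃, d₃, a₃, b₃, c₃, f₃, g₃⟩ := R.card_com_Z hy₃ hd₃
  obtain ⟨u₃, -⟩ := big a₃ b₃ g₃
  have s₃ := card_orderOf_or (G := Γ) (fun k => Com (d₁ + 1) k ∨ Com (d₂ + 1) k) (Com (d₃ + 1))
    fun z h => h.elim (disj hy₁ hy₃ c₁ c₃ (fun h => n₃ (by rwa [c₁, h, ← c₃])) z)
      (disj hy₂ hy₃ c₂ c₃ (fun h => n₃' (by rwa [c₂, h, ← c₃])) z)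
  have le : Nat.card {z : Γ // (Com (d₁ + 1) (orderOf z) ∨ Com (d₂ + 1) (orderOf z)) ∨
      Com (d₃ + 1) (orderOf z)} ≤ Z :=
    Nat.card_le_card_of_injective (Subtype.map id fun z h =>
      h.elim (fun h => h.elim (mono dv₁) (mono dv₂)) (mono (c₃ ▸ hd₃)))
      (Subtype.map_injective _ Function.injective_id)
  omega

include R in
theorem exists_tori' {r : ℕ} (hr : r ^ 2 = 3 * Fintype.card K) :
    (∃ y : Γ, Big (orderOf y) ∧ Nat.card (centralizer {y}) = Fintype.card K - r + 1 ∧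
      Nat.card (normalizer (centralizer {y} : Set Γ)) = 6 * (Fintype.card K - r + 1)) ∧
    (∃ y : Γ, Big (orderOf y) ∧ Nat.card (centralizer {y}) = Fintype.card K + r + 1 ∧
      Nat.card (normalizer (centralizer {y} : Set Γ)) = 6 * (Fintype.card K + r + 1)) := by
  obtain ⟨y₁, y₂, h1, h2, h3, h4, h5, h6⟩ := R.exists_tori hq
  rcases eq_of_mul_of_add hq.le hr h3 h4 with ⟨a, b⟩ | ⟨a, b⟩
  · exact ⟨⟨y₁, h1, a, a ▸ h5⟩, ⟨y₂, h2, b, b ▸ h6⟩⟩
  · exact ⟨⟨y₂, h2, a, a ▸ h6⟩, ⟨y₁, h1, b, b ▸ h5⟩⟩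

end ReeGroup

end Cfsg.Agent.Chev
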