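import Mathlib
import Cfsg.Agent.Chev.ReeInv
import Cfsg.Agent.Chev.ReeBN
import Cfsg.Agent.Cl.RepWt

/-!
# The smallest degree of a non-trivial complex representation of a small Ree group
-/

set_option autoImplicit false

namespace Cfsg.Agent.Chev.ReeGroup

open Module Cfsg.Agent.Cl

variable {K : Type*} [Field K] {Γ : Type*} [Group Γ] (R : ReeGroup K Γ)

theorem x_uv_mul (u v u' v' : K) : R.x 0 u v * R.x 0 u' v' = R.x 0 (u + u') (v + v') := by
  rw [R.x_mul]
  exact R.x_congr (by ring) (by ring) (by ring)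

variable [Fintype K] {W : Type*} [AddCommGroup W] [Module ℂ W] [FiniteDimensional ℂ W]

theorem exists_sq_mul_φ_eq {b : K} (hb : b ≠ 0) : ∃ c : Kˣ, (c : K) ^ 2 * R.φ c = b := by
  let f : Kˣ →* Kˣ := (powMonoidHom 2) * Units.map (R.φ : K →* K)
  have hf : Function.Injective f := (injective_iff_map_eq_one f).2 fun c hc =>
    Units.ext (R.eq_one_of_sq_mul_φ (by simpa [f] using congrArg Units.val hc))
  obtain ⟨c, hc⟩ := Finite.surjective_of_injective hf (Units.mk0 b hb)
  exact ⟨c, by simpa [f] using congrArg Units.val hc⟩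

theorem four_dvd_of_fix_eq_bot (ρ : Representation ℂ Γ W)
    (h : repWt ρ (fun v : K => R.x 0 0 v) 1 = ⊥) : 4 ∣ finrank ℂ W := by
  have h1 : ∑ v : K, ρ (R.x 0 0 v) = 0 := by
    ext w
    have : (∑ v : K, ρ (R.x 0 0 v)) w ∈ repWt ρ (fun v : K => R.x 0 0 v) 1 := by
      rw [mem_repWt]
      intro s
      rw [Pi.one_apply, one_smul, ← Module.End.mul_apply, Finset.mul_sum,
        ← Equiv.sum_comp (Equiv.addLeft s) fun v => ρ (R.x 0 0 v)]
      simp only [← map_mul, x_uv_mul, add_zero, Equiv.coe_addLeft]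
    rwa [h, Submodule.mem_bot] at this
  have tr : ∀ g, IsConj R.a g → LinearMap.trace ℂ W (ρ g) = LinearMap.trace ℂ W (ρ R.a) := by
    intro g hg
    obtain ⟨c, rfl⟩ := isConj_iff.1 hg
    rw [map_mul ρ, LinearMap.trace_mul_comm, ← map_mul ρ, inv_mul_cancel_left]
  have h2 : ∀ v, IsConj R.a (R.a * R.x 0 0 v) := fun v => by
    refine isConj_iff.2 ⟨R.x 0 0 v, ?_⟩
    rw [mul_inv_eq_iff_eq_mul, mul_assoc, x_uv_mul, R.a_x]
    congr 1
    exact R.x_congr (by ring) (by ring) (by linear_combination v * R.three)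
  have h3 : LinearMap.trace ℂ W (ρ R.a) = 0 := by
    have h4 := congrArg (fun f => LinearMap.trace ℂ W (ρ R.a * f)) h1
    simp only [Finset.mul_sum, map_sum, ← map_mul, tr _ (h2 _), mul_zero, map_zero,
      Finset.sum_const, nsmul_eq_mul, mul_eq_zero, Nat.cast_eq_zero, Finset.card_eq_zero] at h4
    exact h4.resolve_left Finset.univ_nonempty.ne_empty
  set e : Module.End ℂ W := (4 : ℂ)⁻¹ • (1 + ρ R.a + ρ R.n + ρ (R.a * R.n)) with he
  have a1 : ρ R.a * ρ R.a = 1 := by rw [← map_mul, R.a_mul_a, map_one]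
  have a2 : ρ R.n * ρ R.n = 1 := by rw [← map_mul, R.n_n, map_one]
  have a3 : ρ R.n * ρ R.a = ρ R.a * ρ R.n := by rw [← map_mul, ← R.a_n, map_mul]
  have h5 : IsIdempotentElem e := by
    rw [IsIdempotentElem, he, map_mul, smul_mul_smul_comm, mul_smul]
    congr 1
    rw [inv_smul_eq_iff₀ (by norm_num)]
    generalize ρ R.a = A at a1 a3
    generalize ρ R.n = N at a2 a3
    have b1 : ∀ X, A * (A * X) = X := fun X => by rw [← mul_assoc, a1, one_mul]
    have b2 : ∀ X, N * (A * X) = A * (N * X) := fun X => by rw [← mul_assoc, a3, mul_assoc]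
    simp only [add_mul, mul_add, mul_one, one_mul, mul_assoc, a1, a2, a3, b1, b2]
    module
  have h6 := (LinearMap.IsIdempotentElem.isProj_range _ h5).trace
  rw [he, map_smul, map_add, map_add, map_add, tr _ R.isConj_a_n, tr _ R.isConj_a_an, h3,
    LinearMap.trace_one, add_zero, add_zero, add_zero, inv_smul_eq_iff₀ (by norm_num),
    smul_eq_mul] at h6
  exact ⟨_, by exact_mod_cast h6⟩

theorem le_finrank (ρ : Representation ℂ Γ W) (h : ρ (R.x 0 0 1) ≠ 1) :
    Fintype.card K * (Fintype.card K - 1) + 1 ≤ finrank ℂ W := by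
  classical
  have := R.finite
  obtain ⟨ψ, hψ⟩ := addChar_exists_ne_one K
  let r : K × K → Γ := fun p => R.x 0 p.1 p.2
  have hr : ∀ x y, r x * r y = r y * r x := fun x y => by
    simp only [r, x_uv_mul, add_comm]
  let l : K × K → K × K → ℂ := fun a p => ψ (p.1 * a.1 + p.2 * a.2)
  have key : ∀ (g : Γ) (α : K × K → K × K), Function.Surjective α → (∀ p, r (α p) * g = g * r p) →
      ∀ a a', l a ∘ α = l a' → finrank ℂ (repWt ρ r (l a)) = finrank ℂ (repWt ρ r (l a')) :=
    fun g α hα h a a' e => by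
      rw [← repWt_comp hα, finrank_repWt_conj (r := r) (r' := r ∘ α) (g := g) h, e]
  have k1 : ∀ a b, b ≠ 0 → finrank ℂ (repWt ρ r (l (a, b))) = finrank ℂ (repWt ρ r (l (0, 1))) := by
    intro a b hb
    obtain ⟨c, hc⟩ := R.exists_sq_mul_φ_eq (inv_ne_zero hb)
    have hc1 : (c : K) * R.φ c ≠ 0 := mul_ne_zero c.ne_zero (R.φ_ne_zero c.ne_zero)
    refine (key (R.x (-(a / b)) 0 0) (fun p => (p.1, p.2 - a / b * p.1))
      (fun p => ⟨(p.1, p.2 + a / b * p.1), by simp⟩) (fun p => ?_) (a, b) (0, b) ?_).trans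
      (key (R.h c) (fun p => (c * R.φ c * p.1, c ^ 2 * R.φ c * p.2))
      (fun p => ⟨((c * R.φ c)⁻¹ * p.1, b * p.2), ?_⟩) (fun p => ?_) (0, b) (0, 1) ?_)
    · simp only [r, R.x_mul, map_zero]
      exact R.x_congr (by ring) (by ring) (by ring)
    · funext p
      simp only [l, Function.comp]
      congr 1
      field_simp
      ring
    · simp only [hc]
      rw [mul_inv_cancel_left₀ hc1, inv_mul_cancel_left₀ hb]
    · simp only [r, R.h_x, mul_zero]
    · funext p
      simp only [l, Function.comp, hc, mul_zero, zero_add, mul_one]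
      congr 1
      field_simp
  obtain ⟨m, hm, hm1⟩ := exists_repWt_ne_one (ρ := ρ) hr (x := (0, 1)) h
  obtain ⟨φ, hφ⟩ := addChar_exists_dual hψ m (repWt_one hm R.x_zero)
    fun c d => repWt_mul hm (R.x_uv_mul ..)
  have e : m = l (φ (1, 0), φ (0, 1)) := funext fun p => by
    rw [hφ]
    simp only [l]
    rw [← smul_eq_mul, ← smul_eq_mul, ← map_smul, ← map_smul, ← map_add]
    simp
  have hb : φ (0, 1) ≠ 0 := fun h0 => hm1 (by rw [hφ, h0, AddChar.map_zero_eq_one])
  have h1 : 1 ≤ finrank ℂ (repWt ρ r (l (0, 1))) := by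
    rw [← k1 (φ (1, 0)) _ hb, ← e]
    exact Submodule.one_le_finrank_iff.2 hm
  have h2 := repWt_card_add_le (ρ := ρ) hr (fun v : K => ((0, v) : K × K)) (J := K × Kˣ)
    (l := fun j => l (j.1, j.2)) (fun j j' e => by
      refine Prod.ext (addChar_eq_of_forall hψ fun c => ?_)
        (Units.ext (addChar_eq_of_forall hψ fun c => ?_))
      · simpa [l] using congrFun e (c, 0)
      · simpa [l] using congrFun e (0, c))
    (fun j e => j.2.ne_zero (addChar_eq_of_forall hψ fun c => by simpa [l] using congrFun e c))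
    (d := 1) fun j => by rw [k1 _ _ j.2.ne_zero]; exact h1
  rw [Nat.card_prod, Nat.card_units, Nat.card_eq_fintype_card, mul_one] at h2
  by_contra h3
  have h4 : 4 ∣ finrank ℂ W := R.four_dvd_of_fix_eq_bot ρ (Submodule.finrank_eq_zero.1 (by
    change finrank ℂ (repWt ρ (r ∘ fun v : K => ((0, v) : K × K)) 1) = 0
    omega))
  rw [show finrank ℂ W = Fintype.card K * (Fintype.card K - 1) by omega] at h4
  obtain ⟨n, hn⟩ : ∃ n, Fintype.card K = 4 * n + 3 := ⟨Fintype.card K / 4, by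
    have := R.card_mod_four; omega⟩
  rw [hn, show (4 * n + 3) * (4 * n + 3 - 1) = 4 * (4 * n ^ 2 + 5 * n + 1) + 2 by
    rw [show 4 * n + 3 - 1 = 4 * n + 2 by omega]; ring] at h4
  omega

include R in
theorem le_finrank_of_irreducible (hq : 3 < Fintype.card K) (ρ : Representation ℂ Γ W)
    (hρ : ρ.IsIrreducible) (h : 2 ≤ finrank ℂ W) :
    Fintype.card K * (Fintype.card K - 1) + 1 ≤ finrank ℂ W := by
  obtain ⟨g, hg⟩ := repWt_ne_one_of_irreducible hρ h
  refine R.le_finrank ρ fun h1 => ?_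
  have := R.isSimpleGroup hq
  rcases (MonoidHom.normal_ker ρ).eq_bot_or_eq_top with h2 | h2
  · have h3 : R.x 0 0 1 ∈ MonoidHom.ker ρ := h1
    rw [h2, Subgroup.mem_bot, R.x_eq_one_iff] at h3
    exact one_ne_zero h3.2.2
  · exact hg (show g ∈ MonoidHom.ker ρ from h2 ▸ Subgroup.mem_top g)

end Cfsg.Agent.Chev.ReeGroup
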