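import Mathlib
import Cfsg.Agent.Chev.ShB
import Cfsg.Agent.GT.PGroupGauss

/-!
# Shaw's theorem on Suzuki 2-groups: abelian invariant subgroups

Port of `Chev/Sz2Hig` to an eigenvalue which need not generate the multiplicative group.
-/

set_option autoImplicit false
set_option linter.unusedSectionVars false

namespace Cfsg.Agent.Chev.Sh

open scoped commutatorElement
open Cfsg.Agent.Chev.Sz2

/-- A 2-group with an automorphism `ξ` acting on the central subgroup of involutions as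
multiplication by a big element `l` of the field `F`. -/
structure Hg (G : Type*) [Group G] (F : Type*) [Field F] where
  /-- the automorphism -/
  ξ : MulAut G
  /-- its eigenvalue on the involutions -/
  l : F
  /-- coordinate on the involutions -/
  ι : G → F
  gen : Big l
  two_lt : 2 < Nat.card F
  pgroup : IsPGroup 2 G
  ξ_pow' : ∃ t, ξ ^ (Nat.card F - 1) ^ t = 1
  central : ∀ z : G, z * z = 1 → ∀ g, z * g = g * z
  ι_mul : ∀ z w, z * z = 1 → w * w = 1 → ι (z * w) = ι z + ι w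
  ι_eq_zero : ∀ z, z * z = 1 → ι z = 0 → z = 1
  ι_surj : ∀ x, ∃ z, z * z = 1 ∧ ι z = x
  ι_ξ : ∀ z, z * z = 1 → ι (ξ z) = l * ι z

variable {G : Type*} [Group G] [Finite G] {F : Type*} [Field F] [Finite F] [CharP F 2]

namespace Hg

variable (S : Hg G F)

/-- `ξ`-invariant subgroups. -/
def Inv (H : Subgroup G) : Prop := ∀ x ∈ H, S.ξ x ∈ H

/-- The coordinate on `A / A²` for `A` of exponent `2 ^ (e + 1)`. -/
def fe (e : ℕ) (a : G) : F := S.ι (a ^ 2 ^ e)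

theorem fe_mul_self (e : ℕ) (a : G) : S.fe e (a * a) = S.fe (e + 1) a := by
  rw [fe, fe, ← pow_two a, ← pow_mul, ← pow_succ']

theorem ι_one : S.ι 1 = 0 := by simpa using S.ι_mul 1 1 (mul_one _) (mul_one _)

include S in
theorem mul_invol {z w : G} (hz : z * z = 1) (hw : w * w = 1) : z * w * (z * w) = 1 := by
  rw [mul_assoc, ← mul_assoc w, ← S.central z hz w, mul_assoc, hw, mul_one, hz]

/-- The subgroup of involutions. -/
def Om : Subgroup G where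
  carrier := {z | z * z = 1}
  one_mem' := mul_one _
  mul_mem' := S.mul_invol
  inv_mem' := fun {z} (hz : z * z = 1) => by
    rw [Set.mem_ofPred_eq, ← mul_inv_rev, hz, inv_one]

theorem mem_Om {z : G} : z ∈ S.Om ↔ z * z = 1 := Iff.rfl

theorem addOn_ι : AddOn S.Om S.ι := fun z hz w hw => S.ι_mul z w hz hw

theorem inv_Om : S.Inv S.Om := fun z (hz : z * z = 1) => by
  rw [mem_Om, ← map_mul, hz, map_one]

instance normal_Om : S.Om.Normal := ⟨fun z hz g => by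
  rw [← S.central z hz g, mul_inv_cancel_right]; exact hz⟩

theorem inv_top : S.Inv ⊤ := fun _ _ => trivial

variable {S}

theorem Inv.sq {A : Subgroup G} (h : S.Inv A) : S.Inv (sq A) := map_mem_sq S.ξ.toMonoidHom h

theorem Inv.map_le {A : Subgroup G} (h : S.Inv A) : A.map S.ξ.toMonoidHom ≤ A := by
  rintro _ ⟨x, hx, rfl⟩
  exact h x hx

theorem Inv.sup {A B : Subgroup G} (h : S.Inv A) (h' : S.Inv B) : S.Inv (A ⊔ B) := fun x hx =>
  (show (A ⊔ B).map S.ξ.toMonoidHom ≤ A ⊔ B from by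
    rw [Subgroup.map_sup]; exact sup_le_sup h.map_le h'.map_le) ⟨x, hx, rfl⟩

theorem Inv.inf {A B : Subgroup G} (h : S.Inv A) (h' : S.Inv B) : S.Inv (A ⊓ B) :=
  fun x hx => ⟨h x hx.1, h' x hx.2⟩

theorem Inv.commutator {A B : Subgroup G} (h : S.Inv A) (h' : S.Inv B) : S.Inv ⁅A, B⁆ := fun x hx =>
  (show ⁅A, B⁆.map S.ξ.toMonoidHom ≤ ⁅A, B⁆ from by
    rw [Subgroup.map_commutator]; exact Subgroup.commutator_mono h.map_le h'.map_le) ⟨x, hx, rfl⟩

theorem Inv.pow {A : Subgroup G} (h : S.Inv A) (k : ℕ) {x : G} (hx : x ∈ A) : (S.ξ ^ k) x ∈ A := by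
  induction k with
  | zero => exact hx
  | succ k ih => rw [pow_succ', MulAut.mul_apply]; exact h _ ih

theorem ι_pow (k : ℕ) {z : G} (hz : z * z = 1) : S.ι ((S.ξ ^ k) z) = S.l ^ k * S.ι z := by
  induction k with
  | zero => simp
  | succ k ih => rw [pow_succ', MulAut.mul_apply, S.ι_ξ _ (S.inv_Om.pow k hz), ih, pow_succ', mul_assoc]

theorem fix_eq_one {k : ℕ} (hk : S.l ^ k ≠ 1) {x : G} (h : (S.ξ ^ k) x = x) : x = 1 := by
  by_contra hx
  obtain ⟨j, h1, h2⟩ := exists_pow_invol S.pgroup hx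
  have h3 := ι_pow (S := S) k h2
  rw [map_pow, h] at h3
  refine h1 (S.ι_eq_zero _ h2 ?_)
  by_contra h4
  exact hk (mul_right_cancel₀ h4 (h3.symm.trans (one_mul _).symm))

theorem Inv.mem_of_inv_mul' {H : Subgroup G} (hH : S.Inv H) {k : ℕ} (hk : S.l ^ k ≠ 1) {x : G}
    (h : x⁻¹ * (S.ξ ^ k) x ∈ H) : x ∈ H := by
  have h1 : Function.Injective
      fun y : H => (⟨y * ((S.ξ ^ k) y)⁻¹, mul_mem y.2 (inv_mem (hH.pow k y.2))⟩ : H) := by
    intro y z hyz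
    have h2 : (y : G) * ((S.ξ ^ k) y)⁻¹ = z * ((S.ξ ^ k) z)⁻¹ := congrArg Subtype.val hyz
    have h3 : (S.ξ ^ k) ((z : G)⁻¹ * y) = (z : G)⁻¹ * y := by
      rw [map_mul, map_inv, eq_inv_mul_iff_mul_eq, ← mul_assoc, ← h2, inv_mul_cancel_right]
    exact Subtype.ext (inv_mul_eq_one.mp (fix_eq_one hk h3)).symm
  obtain ⟨y, hy⟩ := Finite.surjective_of_injective h1 ⟨_, h⟩
  have h2 : (y : G) * ((S.ξ ^ k) y)⁻¹ = x⁻¹ * (S.ξ ^ k) x := congrArg Subtype.val hy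
  have h3 : (S.ξ ^ k) (x * y) = x * y := by
    rw [map_mul, ← mul_inv_cancel_left x ((S.ξ ^ k) x), ← h2, mul_assoc, inv_mul_cancel_right]
  rw [eq_inv_of_mul_eq_one_left (fix_eq_one hk h3)]
  exact inv_mem y.2

theorem Inv.mem_of_inv_mul {H : Subgroup G} (hH : S.Inv H) {x : G} (h : x⁻¹ * S.ξ x ∈ H) : x ∈ H :=
  hH.mem_of_inv_mul' (S.gen.pow_ne_one S.two_lt one_pos Nat.card_pos) (by rwa [pow_one])

theorem ι_inj {z w : G} (hz : z * z = 1) (hw : w * w = 1) (h : S.ι z = S.ι w) :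
    z = w := by
  have := S.ι_eq_zero _ (S.mul_invol hz hw) (by rw [S.ι_mul _ _ hz hw, h, CharTwo.add_self_eq_zero])
  rw [eq_inv_of_mul_eq_one_left this, inv_eq_of_mul_eq_one_left hw]

/-- The image of an additive function. -/
def img {E : Type*} [Field E] {K : Subgroup G} {f : G → E} (hf : AddOn K f) : AddSubgroup E where
  carrier := {t | ∃ x ∈ K, f x = t}
  zero_mem' := ⟨1, one_mem _, hf.one⟩
  add_mem' := by
    rintro _ _ ⟨x, hx, rfl⟩ ⟨y, hy, rfl⟩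
    exact ⟨x * y, mul_mem hx hy, hf x hx y hy⟩
  neg_mem' := by
    rintro _ ⟨x, hx, rfl⟩
    exact ⟨x⁻¹, inv_mem hx, hf.neg hx⟩

theorem Inv.exists_eq {K : Subgroup G} (hK : S.Inv K) {f : G → F} (hf : AddOn K f) {u : F}
    (hu : Big u) (hξ : ∀ x ∈ K, f (S.ξ x) = u * f x) {x : G} (hx : x ∈ K) (h0 : f x ≠ 0) (t : F) :
    ∃ y ∈ K, f y = t :=
  (hu.eq_top (S := img hf) (by rintro _ ⟨y, hy, rfl⟩; exact ⟨_, hK y hy, hξ y hy⟩) ⟨x, hx, rfl⟩ h0).ge
    (AddSubgroup.mem_top t)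

theorem Inv.Om_le {H : Subgroup G} (hH : S.Inv H) (h0 : H ≠ ⊥) : S.Om ≤ H := by
  intro z hz
  obtain ⟨⟨x, hx⟩, h1⟩ := Subgroup.ne_bot_iff_exists_ne_one.mp h0
  obtain ⟨k, h2, h3⟩ := exists_pow_invol S.pgroup (x := x) fun h => h1 (Subtype.ext h)
  obtain ⟨y, hy, h4⟩ := (hH.inf S.inv_Om).exists_eq (S.addOn_ι.mono inf_le_right) S.gen
    (fun y hy => S.ι_ξ y hy.2) ⟨pow_mem hx _, h3⟩ (fun h => h2 (S.ι_eq_zero _ h3 h)) (S.ι z)
  exact ι_inj hy.2 hz h4 ▸ hy.1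

section abelian

variable {A : Subgroup G} {e : ℕ}

theorem addOn_fe (hA : Ab A) (h : HasExp A e) : AddOn A (S.fe e) := fun a ha b hb => by
  rw [fe, (hA a ha b hb).mul_pow, S.ι_mul _ _ (h.1 a ha) (h.1 b hb), fe, fe]

theorem fe_ξ (h : HasExp A e) {a : G} (ha : a ∈ A) : S.fe e (S.ξ a) = S.l * S.fe e a := by
  rw [fe, ← map_pow, S.ι_ξ _ (h.1 a ha), fe]

theorem Inv.fe_surj (hI : S.Inv A) (hA : Ab A) (h : HasExp A e) (t : F) : ∃ a ∈ A, S.fe e a = t := by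
  obtain ⟨a, ha, h1⟩ := h.2
  exact hI.exists_eq (addOn_fe hA h) S.gen (fun _ => fe_ξ h) ha
    (fun h2 => h1 (S.ι_eq_zero _ (h.1 a ha) h2)) t

theorem Inv.fe_eq_zero (hI : S.Inv A) (hA : Ab A) (h : HasExp A e) {a : G} (ha : a ∈ A) :
    S.fe e a = 0 ↔ a ∈ Sz2.sq A := by
  refine ⟨fun h0 => ?_, (addOn_fe hA h).sq⟩
  have key : ∀ k, k ≤ e → ∀ a ∈ A, a ^ 2 ^ k = 1 → a ∈ Sz2.sq A := by
    intro k
    induction k with
    | zero => intro _ a _ h1; rw [show a = 1 by simpa using h1]; exact one_mem _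
    | succ k ih =>
      intro hk a ha h1
      obtain ⟨j, rfl⟩ : ∃ j, e = j + 1 + k := ⟨e - 1 - k, by omega⟩
      have h2 : a ^ 2 ^ k * a ^ 2 ^ k = 1 := by rw [← pow_two, ← pow_mul, ← pow_succ, h1]
      obtain ⟨b, hb, h3⟩ := hI.fe_surj hA h (S.ι (a ^ 2 ^ k))
      have h4 := ι_inj (h.1 b hb) h2 h3
      have h5 : b ^ 2 ^ (j + 1) ∈ Sz2.sq A := by
        rw [pow_succ, pow_mul, pow_two]
        exact mul_self_mem_sq (pow_mem hb _)
      have h6 := ih (by omega) (a * (b ^ 2 ^ (j + 1))⁻¹) (mul_mem ha (inv_mem (pow_mem hb _))) (by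
        rw [(hA a ha _ (inv_mem (pow_mem hb _))).mul_pow, inv_pow, ← pow_mul, ← pow_add, h4,
          mul_inv_cancel])
      simpa using mul_mem h6 h5
  exact key e le_rfl a ha (S.ι_eq_zero _ (h.1 a ha) h0)

theorem Inv.le_sq (hI : S.Inv A) (hA : Ab A) {B : Subgroup G} (hB : S.Inv B) (hBA : B ≤ A)
    (hne : B ≠ A) : B ≤ Sz2.sq A := by
  obtain ⟨e, h⟩ := exists_hasExp S.pgroup (A := A) (by rintro rfl; exact hne (le_bot_iff.mp hBA))
  intro b hb
  by_contra hc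
  refine hne (le_antisymm hBA ?_)
  have h1 := hB.exists_eq ((addOn_fe hA h).mono hBA) S.gen (fun x hx => fe_ξ h (hBA hx)) hb
    (mt (hI.fe_eq_zero hA h (hBA hb)).mp hc)
  have key : ∀ k, ∀ a ∈ A, ∃ b ∈ B, ∃ c ∈ A, a = b * c ^ 2 ^ k := by
    intro k a ha
    induction k with
    | zero => exact ⟨1, one_mem _, a, ha, by simp⟩
    | succ k ih =>
      obtain ⟨b, hb, c, hc, rfl⟩ := ih
      obtain ⟨b', hb', h2⟩ := h1 (S.fe e c)
      obtain ⟨d, hd, h3⟩ := hA.mem_sq.mp ((hI.fe_eq_zero hA h (mul_mem (inv_mem (hBA hb')) hc)).mp (by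
        rw [addOn_fe hA h _ (inv_mem (hBA hb')) _ hc, (addOn_fe hA h).neg (hBA hb'), h2,
          neg_add_cancel]))
      refine ⟨b * b' ^ 2 ^ k, mul_mem hb (pow_mem hb' _), d, hd, ?_⟩
      rw [pow_succ', pow_mul, pow_two, h3, mul_assoc,
        ← (hA _ (hBA hb') _ (mul_mem (inv_mem (hBA hb')) hc)).mul_pow, mul_inv_cancel_left]
  intro a ha
  obtain ⟨b, hb, c, hc, rfl⟩ := key (e + 1) a ha
  rwa [pow_succ, pow_mul, pow_two, h.1 c hc, mul_one]

theorem Inv.commutator_mem_sq [A.Normal] (hI : S.Inv A) (hA : Ab A) {a : G} (ha : a ∈ A) (g : G) :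
    ⁅a, g⁆ ∈ Sz2.sq A := by
  by_cases h0 : A = ⊥
  · subst h0
    rw [Subgroup.mem_bot.mp ha, commutatorElement_one_left]
    exact one_mem _
  have := S.pgroup.isNilpotent
  have h := GT.PG.commutator_top_lt A h0
  exact hI.le_sq hA (hI.commutator S.inv_top) h.le h.ne
    (Subgroup.commutator_mem_commutator ha (Subgroup.mem_top g))

theorem Inv.commutator_mem_sq' [A.Normal] (hI : S.Inv A) (hA : Ab A) {a : G} (ha : a ∈ A) (g : G) :
    ⁅g, a⁆ ∈ Sz2.sq A := by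
  rw [← commutatorElement_inv]
  exact inv_mem (hI.commutator_mem_sq hA ha g)

theorem Inv.fe_conj [A.Normal] (hI : S.Inv A) (hA : Ab A) (h : HasExp A e) {a : G} (ha : a ∈ A)
    (g : G) : S.fe e (g * a * g⁻¹) = S.fe e a := by
  have h1 := hI.commutator_mem_sq' hA ha g
  rw [show g * a * g⁻¹ = ⁅g, a⁆ * a by simp [commutatorElement_def],
    addOn_fe hA h _ (sq_le A h1) _ ha, (addOn_fe hA h).sq h1, zero_add]

theorem Inv.addOn_left [A.Normal] (hI : S.Inv A) (hA : Ab A) (h : HasExp A e) {X : Subgroup G}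
    {y : G} (hX : ∀ x ∈ X, ⁅x, y⁆ ∈ A) : AddOn X fun x => S.fe e ⁅x, y⁆ := by
  intro a ha b hb
  simp only
  rw [show ⁅a * b, y⁆ = a * ⁅b, y⁆ * a⁻¹ * ⁅a, y⁆ by simp [commutatorElement_def, mul_assoc],
    addOn_fe hA h _ (‹A.Normal›.conj_mem _ (hX b hb) a) _ (hX a ha), hI.fe_conj hA h (hX b hb),
    add_comm]

theorem Inv.addOn_right [A.Normal] (hI : S.Inv A) (hA : Ab A) (h : HasExp A e) {Y : Subgroup G}
    {x : G} (hY : ∀ y ∈ Y, ⁅x, y⁆ ∈ A) : AddOn Y fun y => S.fe e ⁅x, y⁆ := by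
  intro a ha b hb
  simp only
  rw [show ⁅x, a * b⁆ = ⁅x, a⁆ * (a * ⁅x, b⁆ * a⁻¹) by simp [commutatorElement_def, mul_assoc],
    addOn_fe hA h _ (hY a ha) _ (‹A.Normal›.conj_mem _ (hY b hb) a), hI.fe_conj hA h (hY b hb)]

theorem fe_commutator_symm (hA : Ab A) (h : HasExp A e) {x y : G} (hxy : ⁅x, y⁆ ∈ A) :
    S.fe e ⁅y, x⁆ = S.fe e ⁅x, y⁆ := by
  rw [← commutatorElement_inv, (addOn_fe hA h).inv hxy]

theorem Inv.fe_mul_sq [A.Normal] (hI : S.Inv A) (hA : Ab A) (h : HasExp A e) {x y : G}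
    (hx : x * x ∈ A) (hy : y * y ∈ A) (hxy : ⁅y, x⁆ ∈ A) :
    S.fe e (x * y * (x * y)) = S.fe e (x * x) + S.fe e (y * y) + S.fe e ⁅y, x⁆ := by
  have h1 := ‹A.Normal›.conj_mem _ hxy x
  rw [show x * y * (x * y) = x * ⁅y, x⁆ * x⁻¹ * (x * x * (y * y)) by
      simp [commutatorElement_def, mul_assoc],
    addOn_fe hA h _ h1 _ (mul_mem hx hy), addOn_fe hA h _ hx _ hy, hI.fe_conj hA h hxy, add_comm]

open scoped IsMulCommutative in
/-- Higman's second lemma. -/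
theorem Inv.mem_of_commutator [A.Normal] (hI : S.Inv A) (hA : Ab A) (h0 : A ≠ ⊥) {u : G}
    (hu : u * u ∈ Sz2.sq A) (h : ∀ a ∈ A, ⁅a, u⁆ ∈ Sz2.sq (Sz2.sq A)) : u ∈ A := by
  have : IsMulCommutative A := ⟨⟨fun a b => Subtype.ext (hA _ a.2 _ b.2)⟩⟩
  obtain ⟨n, hn⟩ := IsPGroup.iff_card.mp S.pgroup
  obtain ⟨b, hb, h1⟩ := hA.mem_sq.mp hu
  obtain ⟨a, ha⟩ := comm_surj (M := A) (n := n)
    (fun a => Subtype.ext (by rw [← hn]; exact pow_card_eq_one'))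
    ((MulAut.conjNormal u).toMonoidHom * MonoidHom.id A) (fun a => by
      obtain ⟨_, h2, h3⟩ := (hA.mono (sq_le A)).mem_sq.mp (inv_mem (h a a.2))
      obtain ⟨c, hc, rfl⟩ := hA.mem_sq.mp h2
      refine ⟨⟨c, hc⟩, ?_⟩
      rw [mul_comm (a ^ 2)]
      apply Subtype.ext
      simp [pow_two, h3, commutatorElement_def, mul_assoc]) ⟨b⁻¹, inv_mem hb⟩
  have h2 : u * a * u⁻¹ * a = (u * u)⁻¹ := by
    rw [← h1]
    simpa [pow_two] using congrArg Subtype.val ha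
  have h3 : u * a * (u * a) = 1 := by
    rw [show u * a * (u * a) = u * a * u⁻¹ * (u * u * a) by group,
      (hA _ (sq_le A hu) _ a.2).eq, ← mul_assoc, h2, inv_mul_cancel]
  exact (Subgroup.mul_mem_cancel_right _ a.2).mp (hI.Om_le h0 h3)

end abelian

/-- `C / A` is a minimal normal invariant section. -/
structure Cover (S : Hg G F) (A C : Subgroup G) : Prop where
  normal : C.Normal
  inv : S.Inv C
  lt : A < C
  comm : ∀ c ∈ C, ∀ g, ⁅c, g⁆ ∈ A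
  sq : ∀ c ∈ C, c * c ∈ A
  irr : ∀ H : Subgroup G, A ≤ H → H ≤ C → S.Inv H → H = A ∨ H = C

theorem Inv.exists_cover {A D : Subgroup G} [A.Normal] [D.Normal] (hA : S.Inv A) (hD : S.Inv D)
    (h : A < D) : ∃ C ≤ D, Cover S A C := by
  obtain ⟨C, hCD, ⟨hC1, hC2, hC3⟩, hC4⟩ := Finite.exists_le_minimal
    (p := fun C : Subgroup G => C.Normal ∧ S.Inv C ∧ A < C) ⟨‹_›, hD, h⟩
  have key : ∀ H : Subgroup G, H.Normal → S.Inv H → H ≤ C → ¬ C ≤ H ⊔ A → H ≤ A := by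
    intro H h1 h2 h3 h4
    by_contra h5
    exact h4 (hC4 ⟨inferInstance, h2.sup hA, lt_of_le_of_ne le_sup_right
      fun h => h5 (h ▸ le_sup_left)⟩ (sup_le h3 hC3.le))
  have h1 : ⁅C, ⊤⁆ ≤ A := by
    refine key _ inferInstance (hC2.commutator S.inv_top) (Subgroup.commutator_le_left _ _) fun h => ?_
    have := S.pgroup.isNilpotent
    refine (GT.PG.commutator_top_lt (C.map (QuotientGroup.mk' A)) fun h0 => hC3.not_ge ?_).not_ge ?_
    · rwa [Subgroup.map_eq_bot_iff, QuotientGroup.ker_mk'] at h0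
    · refine (Subgroup.map_mono h).trans ?_
      rw [Subgroup.map_sup, QuotientGroup.map_mk'_self, sup_bot_eq, Subgroup.map_commutator]
      exact Subgroup.commutator_mono le_rfl le_top
  have h2 : Sz2.sq C ≤ A := by
    refine key _ inferInstance hC2.sq (sq_le C) fun h => ?_
    obtain ⟨M, hM, hM2⟩ := GT.PG.exists_index_eq_prime_of_ne_top (S.pgroup.to_subgroup C)
      (H := A.subgroupOf C) (fun h => hC3.not_ge (Subgroup.subgroupOf_eq_top.mp h))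
    have h3 : C ≤ M.map C.subtype := h.trans (sup_le
      (sq_le_iff.mpr fun c hc => ⟨_, Subgroup.mul_self_mem_of_index_two hM2 ⟨c, hc⟩, rfl⟩)
      fun a ha => ⟨⟨a, hC3.le ha⟩, hM ha, rfl⟩)
    rw [(Subgroup.eq_top_iff' M).mpr fun x =>
      (Subgroup.mem_map_iff_mem C.subtype_injective).mp (h3 x.2), Subgroup.index_top] at hM2
    omega
  have h3 : ∀ c ∈ C, ∀ g, ⁅c, g⁆ ∈ A :=
    fun c hc g => h1 (Subgroup.commutator_mem_commutator hc (Subgroup.mem_top g))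
  refine ⟨C, hCD, hC1, hC2, hC3, h3, sq_le_iff.mp h2, fun H h4 h5 h6 => ?_⟩
  by_cases h7 : C ≤ H ⊔ A
  · exact Or.inr (le_antisymm h5 (h7.trans (sup_le le_rfl h4)))
  · refine Or.inl (le_antisymm (key H ⟨fun x hx g => ?_⟩ h6 h5 h7) h4)
    rw [show g * x * g⁻¹ = ⁅x, g⁆⁻¹ * x by simp [commutatorElement_def, mul_assoc]]
    exact mul_mem (inv_mem (h4 (h3 x (h5 hx) g))) hx

end Hg

end Cfsg.Agent.Chev.Sh
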