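import Mathlib
import Cfsg.Agent.Chev.SsE7
import Cfsg.Agent.Chev.TwTab
import Cfsg.Agent.Chev.CheckBase
import Cfsg.Agent.Chev.TwAux

/-!
Element orders in finite Chevalley groups through twisted tori; the case `F₄(2^n)`.
-/

set_option autoImplicit false

namespace Cfsg.Lie.ChevalleyDatum

open Cfsg.Agent.Chev

universe u

variable (D : ChevalleyDatum) [hG : D.Good]

section
variable {K : Type*} [Field K]

theorem exists_root_of_commute [CharP K 2] {χ : Multiplicative D.Lat →* Kˣ} {g : D.group K}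
    (h1 : g ≠ 1) (h2 : g * g = 1) (hc : Commute (D.stProj K (D.torC K χ)) g) :
    ∃ r : D.Rt, cv χ (D.wt r) = 1 := by
  have hsq : ∀ a : Kˣ, a * a = 1 → a = 1 := fun a h => Units.ext (by
    rcases mul_self_eq_one_iff.1 (congrArg Units.val h) with h | h
    · exact h
    · rw [h, CharTwo.neg_eq]; rfl)
  by_contra! hne
  obtain ⟨y, rfl⟩ := D.stProj_surjective K g
  obtain ⟨hN, h3⟩ := D.mem_NN_of_commute_stProj (U := {χ}) (fun r => ⟨χ, rfl, hne r⟩) (y := y)
    (by rintro _ rfl; exact hc)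
  have hs := D.isStrong_stGen K
  obtain ⟨r, hr⟩ := D.exists_root_neg_of_sq _ (D.stRoot_weyl ▸ StRoot.wN_mem_weyl y) rfl
    (by rw [← hs.toIsModel.wN_mul hN hN]
        exact hs.toIsModel.wN_HH (D.ker_stProj_le K (by rw [MonoidHom.mem_ker, map_mul, h2])))
    (fun e => by
      obtain ⟨ψ, rfl⟩ := D.exists_torC (RootBN.mem_H_of_w_eq_one (R := hs.rootBN) hN e)
      rw [← map_mul, ← map_mul, stProj_torC_eq_one_iff] at h2
      exact h1 ((D.stProj_torC_eq_one_iff _).2 fun j => hsq _ (h2 j)))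
  have := h3 χ rfl r
  rw [hr, wt_ng, cv_neg, inv_eq_iff_mul_eq_one] at this
  exact hne r (hsq _ this)

end

variable (F : Type u) [Field F] [Fintype F] (hinj : Function.Injective (D.stTor (AlgebraicClosure F)))
  (hZ : Function.Injective (D.stProj F)) (p : ℕ) [hp : Fact p.Prime] [CharP F p]
include hinj hZ

theorem exists_orderOf_of_mem_twT {w : Equiv.Perm D.Rt} (hw : w ∈ D.stRoot.weyl)
    {χ : Multiplicative D.Lat →* (AlgebraicClosure F)ˣ} (hχ : χ ∈ twT _ (D.wl w) (Fintype.card F)) :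
    ∃ g : D.group F, orderOf g = orderOf χ := by
  obtain ⟨g, c, hc⟩ := D.exists_isConj_of_mem_twT F hinj hw hχ
  refine ⟨D.stProj F g, ?_⟩
  rw [orderOf_injective _ hZ, ← orderOf_injective _ (D.stMap_injective hinj _), hc.orderOf_eq,
    orderOf_injective _ (D.torC_injective hinj)]

theorem exists_orderOf_mul_of_mem_twT {w : Equiv.Perm D.Rt} (hw : w ∈ D.stRoot.weyl)
    {χ : Multiplicative D.Lat →* (AlgebraicClosure F)ˣ} (hχ : χ ∈ twT _ (D.wl w) (Fintype.card F))
    (h0 : orderOf χ ≠ 0) {r : D.Rt} (hr : w r = r) (h1 : cv χ (D.wt r) = 1) :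
    ∃ g : D.group F, orderOf g = orderOf χ * p := by
  set K := AlgebraicClosure F
  obtain ⟨φ, hφ, hL, -⟩ := D.exists_frob_data F hinj
  obtain ⟨L, rfl⟩ := D.stRoot.mem_weyl_iff.1 hw
  rw [D.mem_twT_iff_stMap hinj hφ, ← lw_eq_wl, ← nw_inv_conj_torC] at hχ
  have hs := D.isModel_stGen K
  obtain ⟨z, hz⟩ := hL (D.stRoot.nw (fun r : D.Rt => D.stGen _ r) L)
  obtain ⟨c, hc, -⟩ := hs.toIsSt.exists_mono_nw L
  have hq := Fintype.one_lt_card (α := F)
  obtain ⟨a, ha⟩ := IsAlgClosed.exists_pow_nat_eq (c r)⁻¹ (n := Fintype.card F - 1) (by omega)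
  have ha0 : a ≠ 0 := by
    rintro rfl
    rw [zero_pow (by omega), eq_comm, inv_eq_zero] at ha
    exact hc.ne_zero r ha
  have h2 := hc.conj r (φ a)
  rw [hr, hφ, ← Nat.sub_add_cancel hq.le, pow_succ, ha, mul_inv_cancel_left₀ (hc.ne_zero r), ← ha,
    ← pow_succ, Nat.sub_add_cancel hq.le, ← hφ] at h2
  obtain ⟨g, hg⟩ := (D.stMap_eq_self_iff hinj (f := algebraMap F _) (φ := φ)
    (fun t => by rw [hφ, mem_range_iff_pow_card]) (z * (D.torC _ χ * D.stGen K r a) * z⁻¹)).1 (by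
      rw [map_mul, map_mul, map_mul, map_inv, hχ, stMap_stGen, ← h2, hz]; group; rfl)
  have h3 : Commute (D.torC K χ) (D.stGen K r a) := by
    have := (D.mono_torC χ).conj r a
    rw [h1, Units.val_one, one_mul] at this
    exact mul_inv_eq_iff_eq_mul.1 this
  have h4 : orderOf (D.stGen K r a) = p := by
    have : ∀ k : ℕ, D.stGen K r a ^ k = D.stGen K r (k * a) := fun k => by
      induction k with
      | zero => simpa using (hs.add r).zero.symm
      | succ k ih => rw [pow_succ, ih, Nat.cast_succ, add_mul, one_mul]; exact (hs.add r _ _).symm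
    refine orderOf_eq_prime ?_ fun e => ha0 (hs.x_eq_one e)
    rw [this, CharP.cast_eq_zero, zero_mul]; exact (hs.add r).zero
  have h5 := orderOf_injective _ (D.torC_injective hinj) χ
  refine ⟨D.stProj F g, ?_⟩
  rw [orderOf_injective _ hZ, ← orderOf_injective _ (D.stMap_injective hinj _), hg,
    ← MulAut.conj_apply, MulEquiv.orderOf_eq, h3.orderOf_mul_eq_mul_orderOf_of_coprime
      (by rw [h4, h5]; exact coprime_orderOf_chr p h0), h4, h5]

omit hZ hinj in
theorem natCard_twT {w : Equiv.Perm D.Rt} (hw : w ∈ D.stRoot.weyl) :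
    Finite (twT (AlgebraicClosure F) (D.wl w) (Fintype.card F)) ∧
    Nat.card (twT (AlgebraicClosure F) (D.wl w) (Fintype.card F)) =
      (D.wm w - (Fintype.card F : ℤ) • 1).det.natAbs := by
  have h := D.det_wm_sub_ne_zero (K := AlgebraicClosure F) hw (q := Fintype.card F) (by
    rw [← map_natCast (algebraMap F _), FiniteField.cast_card_eq_zero, map_zero])
  have h1 := card_twT _ _ _ h
  exact ⟨Nat.finite_of_card_ne_zero (by
    rw [h1, Int.natAbs_ne_zero]; exact fun e => h (by rw [wm, e, Int.cast_zero])), h1⟩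

omit hZ hinj in
theorem exists_mem_twT {w : Equiv.Perm D.Rt} (hw : w ∈ D.stRoot.weyl) {r : ℕ} (hr : r.Prime)
    (h : (r : ℤ) ∣ (D.wm w - (Fintype.card F : ℤ) • 1).det) :
    ∃ χ ∈ twT (AlgebraicClosure F) (D.wl w) (Fintype.card F), orderOf χ = r := by
  obtain ⟨h1, h2⟩ := D.natCard_twT F hw
  have := Fact.mk hr
  obtain ⟨χ, hχ⟩ := exists_prime_orderOf_dvd_card' r (h2 ▸ Int.natCast_dvd.1 h)
  exact ⟨χ.1, χ.2, by rw [Subgroup.orderOf_coe, hχ]⟩

end Cfsg.Lie.ChevalleyDatum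

namespace Cfsg.Agent.Chev.Adj

open Cfsg.Lie Cfsg.Lie.ChevalleyDatum

theorem cv_wl_iterate {K : Type*} [Field K] {M : Type*} [AddCommGroup M] {W : M →+ M} {q : ℕ}
    {χ : Multiplicative M →* Kˣ}
    (h : χ ∈ twT K W q) (k : ℕ) (v : M) : cv χ (W^[k] v) = cv χ v ^ (q : ℤ) ^ k := by
  induction k with
  | zero => simp
  | succ k ih => rw [Function.iterate_succ_apply', h, ih, pow_succ, zpow_mul, zpow_natCast]

theorem chr_zpow_det {K : Type*} [Field K] {n : Type*} [Fintype n] [DecidableEq n]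
    {χ : Multiplicative (n → ℤ) →* Kˣ} (B : Matrix n n ℤ)
    (h : ∀ i, cv χ (B i) = 1) : χ ^ B.det = 1 := chr_ext_pi fun j => by
  have : B.det • (Pi.single j 1 : n → ℤ) = ∑ i, B.adjugate j i • B i := by
    funext k
    have := congrFun (congrFun B.adjugate_mul j) k
    simpa [Matrix.mul_apply, Matrix.one_apply, Pi.single_apply, eq_comm] using this.symm
  rw [cv_zpow, ← cv_zsmul, this, cv_sum]
  simp [cv_zsmul, h, cv_one, -zsmul_eq_mul]

/-- The determinant of a matrix of size four. -/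
def det4 (B : ℕ → ℕ → ℤ) : ℤ :=
  B 0 0 * (B 1 1 * (B 2 2 * B 3 3 - B 2 3 * B 3 2) - B 1 2 * (B 2 1 * B 3 3 - B 2 3 * B 3 1) +
    B 1 3 * (B 2 1 * B 3 2 - B 2 2 * B 3 1)) -
  B 0 1 * (B 1 0 * (B 2 2 * B 3 3 - B 2 3 * B 3 2) - B 1 2 * (B 2 0 * B 3 3 - B 2 3 * B 3 0) +
    B 1 3 * (B 2 0 * B 3 2 - B 2 2 * B 3 0)) +
  B 0 2 * (B 1 0 * (B 2 1 * B 3 3 - B 2 3 * B 3 1) - B 1 1 * (B 2 0 * B 3 3 - B 2 3 * B 3 0) +
    B 1 3 * (B 2 0 * B 3 1 - B 2 1 * B 3 0)) -
  B 0 3 * (B 1 0 * (B 2 1 * B 3 2 - B 2 2 * B 3 1) - B 1 1 * (B 2 0 * B 3 2 - B 2 2 * B 3 0) +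
    B 1 2 * (B 2 0 * B 3 1 - B 2 1 * B 3 0))

theorem det_eq_det4 {l : ℕ} (hl : l = 4) (B : ℕ → ℕ → ℤ) :
    (Matrix.of fun i j : Fin l => B i j).det = det4 B := by
  subst hl
  simp [Matrix.det_succ_row_zero, Fin.sum_univ_succ, det4, Fin.succAbove]
  ring

/-- Table of the coroots of `F₄`. -/
def cwT (r i : ℕ) : ℤ := Chk.get4
  0xaba99ba99aa9acba9a9999998999acb9aca9aaa98aa9aa998a99889988899a9899988998aa988a988898998889889888788887887788887886786678877877787678888788778677667786676667646764578777777776776456766775676567 (4 * r + i)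

/-- Table of the Cartan integers of `F₄`. -/
def prT (r s : ℕ) : ℤ := Chk.get4
  0xa999998999898889989889897878878778887877787777769a999899989898898989889797887878788787877787776799a989998998898899889778899788778878877877787677aaaaaaa999999998888888888888888887777777766666669989a998988998987788799887798899878778878776787798999a988989899787878879798898989778787887677787899999a88898999778788787989889899777878886777778aaa9888a9998887aaa999888888777666988877768887666aa89a889a889978a88997aa8866977886897788678867866a8a98a898a897988a897986a6a87978688797868786876868aa988a988a799888a799686a8a779688877968876887668a889aa88997a889886977a8a686997a887886977886678868a89a8a89798a898687978a6a689798a878687978686786888a98aa879988a96887796688aa79988a7688779866876888889aaa7888999a666777888888999aaa677788896667888998887799888877a999989988778777769988887799888779898787989887879a998987979878776798988787989878789987789889788799a899787989778677988978878998778a8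8888699979777aa8a88a8a68688686699979777a8888868a8886899797977a8a8a88a6a68868686997979778a8886888a8688979977978aa88a6688aa6886689799779788a8688987898789879878987987a997769879878987987898789878978978897889789788979a796797889789788978897897897888978897978889797897a697897978889797889788897798887988797988879798796a798797988879798879888798798798879887987988797697a979887987988798879879878987898789789878978967799a7897898789789878987898868a8879779979866886aa8866a88aa8797799798868a8886888a87797979968686886a6a88a8a8a7797979986888a8688888a77797999668688686a8a88a8aa77797999688888a877899878879889776877989787998a997887988987789987878989787889897677878979789899a978788989787898977888997788889967777877889989999a778888997788899888766698887776aaa999888888777666a9998887aaa9888886786689778867a88997aa88669778869a889978aa89a888687686879786878a897986a6a879786898a89798a8a98a868876688779688788a799686a8a779688988a79988aa988a866788678869778886977a8a686997a888997a889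a889aa86867868786879788687978a6a689798a889798a898a89a8a6687688768877986887796688aa79988a879988a988a98aa666788867778889666777888888999aaa7888999a8889aaa87777768887877799898898978788787799989888a999998787776788787877989898897978878787998989889a999897787677878877878998897788997887789899889899a989966666667777777788888888888888888899999999aaaaaaa776787778778878877887998877988998898899899989a997677787778787887878788797988989898898989998999a967777787778788877878878798988989988898999899999a (48 * r + s)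

theorem cwT_eq : ∀ r < 48, ∀ i < 4, chevF4.co r i = cwT r i := by decide +kernel

theorem prT_eq : ∀ r < 48, ∀ s < 48, chevF4.pairing r s = prT r s := by decide +kernel

/-- Vectors of length four. -/
abbrev V4 := ℤ × ℤ × ℤ × ℤ

/-- Strict evaluation. -/
noncomputable def fz (z : ℤ) (f : ℤ → Bool) : Bool :=
  Int.rec (fun n => Chk.force n fun m => f (Int.ofNat m)) (fun n => Chk.force n fun m => f (Int.negSucc m)) z

theorem fz_eq (z : ℤ) (f : ℤ → Bool) : fz z f = f z := by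
  cases z
  · exact Chk.force_eq _ fun m => f (Int.ofNat m)
  · exact Chk.force_eq _ fun m => f (Int.negSucc m)

/-- The pairing with a coroot. -/
def dot (r : ℕ) (v : V4) : ℤ :=
  Int.add (Int.add (Int.mul (cwT r 0) v.1) (Int.mul (cwT r 1) v.2.1))
    (Int.add (Int.mul (cwT r 2) v.2.2.1) (Int.mul (cwT r 3) v.2.2.2))

/-- The matrix with the given coroots as rows. -/
def ap (a : ℕ × ℕ × ℕ × ℕ) (v : V4) : V4 := (dot a.1 v, dot a.2.1 v, dot a.2.2.1 v, dot a.2.2.2 v)

/-- Strict application. -/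
noncomputable def app (a : ℕ × ℕ × ℕ × ℕ) (v : V4) (f : V4 → Bool) : Bool :=
  fz (dot a.1 v) fun x => fz (dot a.2.1 v) fun y => fz (dot a.2.2.1 v) fun z => fz (dot a.2.2.2 v) fun t =>
    f (x, y, z, t)

theorem app_eq (a : ℕ × ℕ × ℕ × ℕ) (v : V4) (f : V4 → Bool) : app a v f = f (ap a v) := by
  simp only [app, fz_eq, ap]

/-- The iterates. -/
noncomputable def its (a : ℕ × ℕ × ℕ × ℕ) (v : V4) (f : V4 → V4 → V4 → V4 → V4 → Bool) : Bool :=
  app a v fun v1 => app a v1 fun v2 => app a v2 fun v3 => app a v3 fun v4 => f v v1 v2 v3 v4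

/-- The five relations. -/
def rel (k : ℕ) (v0 v1 v2 v3 v4 : V4) : Bool :=
  match k with
  | 0 => decide (v4 + v3 = v1 + v0)
  | 1 => decide (v4 = v0)
  | 2 => decide (v4 + v1 = v3 + v0)
  | 3 => decide (v4 + v0 = 0)
  | _ => decide (v4 + v0 = v2)

/-- The determinant condition. -/
def dt (v0 v1 v2 v3 _v4 : V4) : Bool := decide (8 % det4 (tab [[v0.1, v0.2.1, v0.2.2.1, v0.2.2.2],
  [v1.1, v1.2.1, v1.2.2.1, v1.2.2.2], [v2.1, v2.2.1, v2.2.2.1, v2.2.2.2],
  [v3.1, v3.2.1, v3.2.2.1, v3.2.2.2]]) = 0)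

/-- The check for one element. -/
noncomputable def ok1 (a : ℕ × ℕ × ℕ × ℕ) : Bool :=
  its a (1, 0, 0, 0) fun a0 a1 a2 a3 a4 => its a (0, 1, 0, 0) fun b0 b1 b2 b3 b4 =>
  its a (0, 0, 1, 0) fun c0 c1 c2 c3 c4 => its a (0, 0, 0, 1) fun d0 d1 d2 d3 d4 =>
    !Chk.allLt 5 fun k => !(rel k a0 a1 a2 a3 a4 && rel k b0 b1 b2 b3 b4 && rel k c0 c1 c2 c3 c4 &&
      rel k d0 d1 d2 d3 d4 && (Nat.ble k 2 || dt a0 a1 a2 a3 a4 && dt d0 d1 d2 d3 d4))

/-- The pairing condition. -/
def pr (a b : ℕ) (x y : ℤ) : Bool := decide (prT a b = x) && decide (prT b a = y)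

theorem okF4 : (Chk.allLt 48 fun a => Chk.allLt 48 fun b => !pr a b (-1) (-1) ||
    Chk.allLt 48 fun c => !(pr b c (-2) (-1) && pr a c 0 0) ||
    Chk.allLt 48 fun d => !(pr c d (-1) (-1) && pr b d 0 0 && pr a d 0 0) ||
      ok1 (a, b, c, d)) = true := by decide +kernel

/-- The orders of five maximal tori. -/
def PP (k : ℕ) (q : ℤ) : ℤ :=
  match k with
  | 0 => (q ^ 3 - 1) * (q + 1)
  | 1 => q ^ 4 - 1
  | 2 => (q ^ 3 + 1) * (q - 1)
  | 3 => q ^ 4 + 1
  | _ => q ^ 4 - q ^ 2 + 1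

variable {K : Type*} [Field K] {q : ℕ}

theorem bridge {l : ℕ} (hl : l = 4) (f : (Fin l → ℤ) →+ (Fin l → ℤ)) (a : ℕ → ℕ)
    (hf : ∀ v (i : Fin l), f v i = ∑ j : Fin l, cwT (a i) j * v j)
    (h : ok1 (a 0, a 1, a 2, a 3) = true) : ∃ k < 5, (∀ χ ∈ twT K f q, χ ^ PP k q = 1) ∧
      (k ≤ 2 ∨ ∀ χ ∈ twT K f q, ∀ j : Fin l, j.1 = 0 ∨ j.1 = 3 → cv χ (Pi.single j 1) = 1 →
        χ ^ (8 : ℤ) = 1) := by
  subst hl
  let tv : (Fin 4 → ℤ) →+ V4 := ⟨⟨fun v => (v 0, v 1, v 2, v 3), rfl⟩, fun _ _ => rfl⟩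
  have htv : Function.Injective tv := fun u v e => by
    simp only [tv, AddMonoidHom.coe_mk, ZeroHom.coe_mk, Prod.mk.injEq] at e
    funext i; fin_cases i <;> tauto
  have h1 : ∀ v, ap (a 0, a 1, a 2, a 3) (tv v) = tv (f v) := fun v => by
    simp [tv, ap, dot, hf, Fin.sum_univ_four, add_assoc]
  have h2 : ∀ v g, its (a 0, a 1, a 2, a 3) (tv v) g =
      g (tv v) (tv (f^[1] v)) (tv (f^[2] v)) (tv (f^[3] v)) (tv (f^[4] v)) := fun v g => by
    simp only [its, app_eq, h1]; rfl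
  have h3 : ∀ k v, rel k (tv v) (tv (f^[1] v)) (tv (f^[2] v)) (tv (f^[3] v)) (tv (f^[4] v)) = true →
      ∀ χ ∈ twT K f q, cv (χ ^ PP k q) v = 1 := fun k v h χ hχ => by
    have key : ∀ {i j i' j' : ℕ}, tv (f^[i] v) + tv (f^[j] v) = tv (f^[i'] v) + tv (f^[j'] v) →
        cv χ v ^ ((q : ℤ) ^ i + q ^ j - (q ^ i' + q ^ j')) = 1 := fun e => by
      rw [← map_add, ← map_add] at e
      have := congrArg (cv χ) (htv e)
      rw [cv_add, cv_add] at this
      simp only [cv_wl_iterate hχ] at this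
      rw [zpow_sub, zpow_add, zpow_add, this, mul_inv_cancel]
    rw [cv_zpow]
    match k, h with
    | 0, h => convert key (j' := 0) (of_decide_eq_true h) using 2; simp only [PP]; ring
    | 1, h =>
      convert key (j := 0) (i' := 0) (j' := 0) (congrArg (· + tv v) (of_decide_eq_true h)) using 2
      simp only [PP]; ring
    | 2, h => convert key (j' := 0) (of_decide_eq_true h) using 2; simp only [PP]; ring
    | 3, h =>
      have := congrArg (cv χ) (htv ((map_add _ _ _).trans ((of_decide_eq_true h).trans (map_zero tv).symm)))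
      rw [cv_add, cv_wl_iterate hχ, cv_zero] at this
      rw [PP, zpow_add, zpow_one, this]
    | k + 4, h =>
      have := congrArg (cv χ) (htv ((map_add _ _ _).trans (of_decide_eq_true h)))
      rw [cv_add, cv_wl_iterate hχ, cv_wl_iterate hχ] at this
      rw [PP, sub_add_eq_add_sub, zpow_sub, zpow_add, zpow_one, this, mul_inv_cancel] <;> simp
  have h4 : ∀ v, dt (tv v) (tv (f^[1] v)) (tv (f^[2] v)) (tv (f^[3] v)) (tv (f^[4] v)) = true →
      ∀ χ ∈ twT K f q, cv χ v = 1 → χ ^ (8 : ℤ) = 1 := fun v h χ hχ hv => by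
    obtain ⟨c, hc⟩ := Int.dvd_of_emod_eq_zero (of_decide_eq_true h)
    refine chr_ext fun u => ?_
    rw [hc, ← det_eq_det4 rfl, cv_zpow, zpow_mul, ← cv_zpow, chr_zpow_det, cv_one, one_zpow]
    intro i
    rw [← one_zpow ((q : ℤ) ^ i.1), ← hv, ← cv_wl_iterate hχ]
    congr 1
    funext j
    fin_cases i <;> fin_cases j <;> rfl
  have e0 : ((1, 0, 0, 0) : V4) = tv (Pi.single 0 1) := rfl
  have e1 : ((0, 1, 0, 0) : V4) = tv (Pi.single 1 1) := rfl
  have e2 : ((0, 0, 1, 0) : V4) = tv (Pi.single 2 1) := rfl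
  have e3 : ((0, 0, 0, 1) : V4) = tv (Pi.single 3 1) := rfl
  rw [ok1, e0, e1, e2, e3] at h
  simp only [h2, Bool.not_eq_true', ← Bool.not_eq_true, Chk.allLt_iff, not_forall, Bool.not_eq_true',
    Bool.and_eq_true, Bool.or_eq_true, Nat.ble_eq, not_not] at h
  obtain ⟨k, hk, ⟨⟨⟨r0, r1⟩, r2⟩, r3⟩, h5⟩ := h
  refine ⟨k, hk, fun χ hχ => chr_ext_pi fun j => ?_, h5.imp id fun h5 χ hχ j hj => ?_⟩
  · fin_cases j
    exacts [h3 _ _ r0 χ hχ, h3 _ _ r1 χ hχ, h3 _ _ r2 χ hχ, h3 _ _ r3 χ hχ]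
  · rcases hj with hj | hj
    · obtain rfl : j = 0 := Fin.ext hj
      exact h4 _ h5.1 χ hχ
    · obtain rfl : j = 3 := Fin.ext hj
      exact h4 _ h5.2 χ hχ

theorem cases_aux {D : ChevalleyDatum} [D.Good] (hl : D.rank = 4) (hn : D.nroots = 48)
    (h1 : ∀ r < 48, ∀ i < 4, D.co r i = cwT r i) (h2 : ∀ r < 48, ∀ s < 48, D.pairing r s = prT r s)
    (h3 : ∀ i < 4, ∀ j < 4, D.pairing (D.simple i) (D.simple j) =
      tab [[2, -1, 0, 0], [-1, 2, -2, 0], [0, -1, 2, -1], [0, 0, -1, 2]] i j)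
    (h4 : ∀ r : D.Rt, D.IsDom r → ∃ j : D.Nd, (j.1 = 0 ∨ j.1 = 3) ∧ D.wt r = Pi.single j 1)
    {w : Equiv.Perm D.Rt} (hw : w ∈ D.stRoot.weyl) {χ : Multiplicative D.Lat →* Kˣ}
    (hχ : χ ∈ twT K (D.wl w) q) :
    ∃ k < 5, χ ^ PP k q = 1 ∧ (k ≤ 2 ∨ ∀ r : D.Rt, D.IsDom r → cv χ (D.wt r) = 1 → χ ^ (8 : ℤ) = 1) := by
  let a : ℕ → ℕ := fun i => if h : i < D.rank then w⁻¹ (D.sr ⟨i, h⟩) else 0
  have ha : ∀ i, a i < 48 := fun i => by
    simp only [a]; split_ifs
    · exact hn ▸ Fin.prop _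
    · omega
  have hp : ∀ i < 4, ∀ j < 4, prT (a i) (a j) =
      tab [[2, -1, 0, 0], [-1, 2, -2, 0], [0, -1, 2, -1], [0, 0, -1, 2]] i j := fun i hi j hj => by
    rw [← h2 _ (ha i) _ (ha j), ← h3 i hi j hj]
    simp only [a, dif_pos (hi.trans_eq hl.symm), dif_pos (hj.trans_eq hl.symm)]
    exact weyl_pairing (inv_mem (D.stRoot_weyl ▸ hw)) _ _
  have h5 := Chk.allLt_iff.1 (Chk.allLt_iff.1 okF4 _ (ha 0)) _ (ha 1)
  simp only [pr, Bool.or_eq_true, Chk.allLt_iff] at h5
  have h6 := (((h5.resolve_left (by simp [hp, tab]) _ (ha 2)).resolve_left (by simp [hp, tab]))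
    _ (ha 3)).resolve_left (by simp [hp, tab])
  obtain ⟨k, hk, h7, h8⟩ := bridge (K := K) (q := q) hl (D.wl w) a (fun v i => by
    change D.stRoot.cw _ v = _
    rw [stRoot_cw]
    refine Finset.sum_congr rfl fun j _ => ?_
    rw [← h1 _ (ha i) _ (j.2.trans_eq hl)]
    simp only [a, dif_pos i.2]; rfl) h6
  refine ⟨k, hk, h7 χ hχ, h8.imp id fun h8 r hr h => ?_⟩
  obtain ⟨j, hj, e⟩ := h4 r hr
  exact h8 χ hχ j hj (e ▸ h)

theorem cases_F4 {w : Equiv.Perm chevF4.Rt} (hw : w ∈ chevF4.stRoot.weyl)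
    {χ : Multiplicative chevF4.Lat →* Kˣ} (hχ : χ ∈ twT K (chevF4.wl w) q) :
    ∃ k < 5, χ ^ PP k q = 1 ∧
      (k ≤ 2 ∨ ∀ r : chevF4.Rt, chevF4.IsDom r → cv χ (chevF4.wt r) = 1 → χ ^ (8 : ℤ) = 1) :=
  cases_aux rfl rfl cwT_eq prT_eq (by decide +kernel) (by unfold IsDom; decide +kernel) hw hχ

theorem det_wm_wd {D : ChevalleyDatum} [D.Good] (hl : D.rank = 4) (L : List D.Nd) (M : List (List ℤ))
    (h : ∀ i j : D.Nd, (D.lwL (L.map Fin.val) ((List.range D.rank).map fun i =>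
      if i = j.1 then 1 else 0)).getD i 0 = tab M i j) (x : ℤ) :
    (D.wm (D.stRoot.wd L) - x • 1).det = det4 fun i j => tab M i j - if i = j then x else 0 := by
  rw [← det_eq_det4 hl]
  congr 1
  ext i j
  have h3 := D.lw_toLat L ((List.range D.rank).map fun i => if i = j.1 then 1 else 0)
  rw [toLat_map] at h3
  have : D.wm (D.stRoot.wd L) i j = tab M i j := by
    change D.wl _ (Pi.single j 1) i = _
    rw [← lw_eq_wl, show Pi.single j 1 = fun k : D.Nd => if (k : ℕ) = j then (1 : ℤ) else 0 by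
      ext k; simp [Pi.single_apply, Fin.ext_iff], h3, ← h]; rfl
  simp [this, Matrix.intCast_apply, Fin.ext_iff]

/-- Nodes of `F₄`. -/
def nd (i : Fin 4) : chevF4.Nd := i

theorem exists_PP (k : ℕ) : ∃ w ∈ chevF4.stRoot.weyl, (∀ x, (chevF4.wm w - x • 1).det = PP k x) ∧
    (k = 1 ∨ k = 2 → ∃ r, w r = r) := by
  have key : ∀ L : List chevF4.Nd, chevF4.actN L 0 = 0 → ∃ r, chevF4.stRoot.wd L r = r := fun L h =>
    ⟨⟨0, by decide⟩, Fin.ext (by rw [stRoot_wd, wordW_val]; exact h)⟩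
  match k with
  | 0 => exact ⟨_, chevF4.stRoot.wd_mem_weyl [nd 0, nd 1, nd 3], fun x => by
      rw [det_wm_wd rfl _ [[-1, -1, 0, 0], [1, 0, 0, 0], [0, 1, 1, 1], [0, 0, 0, -1]] (by decide +kernel)]
      simp [det4, tab, PP]; ring, by simp⟩
  | 1 => exact ⟨_, chevF4.stRoot.wd_mem_weyl [nd 0, nd 1, nd 2, nd 1, nd 2], fun x => by
      rw [det_wm_wd rfl _ [[-1, -2, -2, 0], [1, 1, 2, 0], [0, 0, -1, 0], [0, 1, 2, 1]] (by decide +kernel)]
      simp [det4, tab, PP]; ring, fun _ => key _ (by decide +kernel)⟩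
  | 2 => exact ⟨_, chevF4.stRoot.wd_mem_weyl [nd 0, nd 1, nd 2], fun x => by
      rw [det_wm_wd rfl _ [[-1, -1, -2, 0], [1, 0, 0, 0], [0, 1, 1, 0], [0, 0, 1, 1]] (by decide +kernel)]
      simp [det4, tab, PP]; ring, fun _ => key _ (by decide +kernel)⟩
  | 3 => exact ⟨_, chevF4.stRoot.wd_mem_weyl [nd 0, nd 1, nd 2, nd 1, nd 2, nd 3], fun x => by
      rw [det_wm_wd rfl _ [[-1, -2, -2, -2], [1, 1, 2, 2], [0, 0, -1, -1], [0, 1, 2, 1]] (by decide +kernel)]
      simp [det4, tab, PP]; ring, by simp⟩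
  | k + 4 => exact ⟨_, chevF4.stRoot.wd_mem_weyl [nd 0, nd 1, nd 2, nd 3], fun x => by
      rw [det_wm_wd rfl _ [[-1, -1, -2, -2], [1, 0, 0, 0], [0, 1, 1, 1], [0, 0, 1, 0]] (by decide +kernel)]
      simp [det4, tab, PP]; ring, by simp⟩

theorem exists_three : ∃ w ∈ chevF4.stRoot.weyl,
    (∀ x, (chevF4.wm w - x • 1).det = (x ^ 3 - 1) * (x - 1)) ∧ ∃ r, w r = r :=
  ⟨_, chevF4.stRoot.wd_mem_weyl [nd 0, nd 1], fun x => by
    rw [det_wm_wd rfl _ [[-1, -1, 0, 0], [1, 0, 0, 0], [0, 1, 1, 0], [0, 0, 0, 1]] (by decide +kernel)]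
    simp [det4, tab]; ring,
    ⟨0, by decide⟩, Fin.ext (by rw [stRoot_wd, wordW_val]; decide +kernel)⟩

end Cfsg.Agent.Chev.Adj
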