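import Mathlib
import Cfsg.Agent.Chev.SzSubgroups
import Cfsg.Agent.Perm.Binary

/-!
# Binary coset actions of the Suzuki groups
-/

set_option autoImplicit false

namespace Cfsg.Agent.Chev.Sz

open MulAction Cfsg.Agent.Perm.Bin

variable {F : Type*} [Field F] {m : ℕ} [SzF F m]

theorem exists_conj_ue_zero {g : Cfsg.Sz F m} (h : g * g = 1) (h1 : g ≠ 1) {b : F} (hb : b ≠ 0) :
    ∃ x : Cfsg.Sz F m, x⁻¹ * g * x = ue 0 b := by
  obtain ⟨P, hP⟩ := exists_mem_sylAt_of_mul_self h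
  obtain ⟨x, rfl⟩ := exists_smul_inf_eq P
  have hx : x⁻¹ * g * x ∈ cenZ F m := mem_cenZ_iff.mpr
    ⟨(mem_sylU_iff.mp (mem_sylAt_smul_inf.mp hP)).1, by
      calc _ = x⁻¹ * (g * g) * x := by group
        _ = 1 := by rw [h]; group⟩
  obtain ⟨c, hc⟩ := mem_cenZ.mp hx
  have hc0 : c ≠ 0 := by
    rintro rfl
    rw [ue_zero, inv_conj_eq_one] at hc
    exact h1 hc
  obtain ⟨k, hk⟩ := mul_th_surjective (m := m) (b / c)
  have hk0 : k ≠ 0 := by
    rintro rfl
    rw [zero_mul, eq_comm, div_eq_zero_iff] at hk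
    tauto
  refine ⟨x * (he (Units.mk0 k hk0))⁻¹, ?_⟩
  calc _ = he (Units.mk0 k hk0) * (x⁻¹ * g * x) * (he (Units.mk0 k hk0))⁻¹ := by group
    _ = _ := by
      rw [hc, he_conj_ue, Units.val_mk0, hk, mul_zero, div_mul_cancel₀ _ hc0]

theorem mul_self_of_orderOf {G : Type*} [Group G] {s : G} (hs : orderOf s = 2) :
    s * s = 1 ∧ s ≠ 1 :=
  ⟨by rw [← sq, ← hs, pow_orderOf_eq_one], by rintro rfl; simp at hs⟩

theorem isConj_of_orderOf_two (s t : Cfsg.Sz F m) (hs : orderOf s = 2) (ht : orderOf t = 2) :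
    IsConj s t := by
  obtain ⟨x, hx⟩ := exists_conj_ue_zero (mul_self_of_orderOf hs).1 (mul_self_of_orderOf hs).2
    (one_ne_zero (α := F))
  obtain ⟨y, hy⟩ := exists_conj_ue_zero (mul_self_of_orderOf ht).1 (mul_self_of_orderOf ht).2
    (one_ne_zero (α := F))
  refine isConj_iff.mpr ⟨y * x⁻¹, ?_⟩
  calc _ = y * (x⁻¹ * s * x) * y⁻¹ := by group
    _ = t := by rw [hx, ← hy]; group

theorem exists_conj_ue_one {g : Cfsg.Sz F m} (h : g ^ 4 = 1) (h1 : g * g ≠ 1) :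
    ∃ (x : Cfsg.Sz F m) (b : F), x⁻¹ * g * x = ue 1 b := by
  obtain ⟨P, hP⟩ := exists_mem_sylAt h
  obtain ⟨x, rfl⟩ := exists_smul_inf_eq P
  obtain ⟨c, d, hc⟩ := mem_sylU.mp (mem_sylAt_smul_inf.mp hP)
  have hc0 : c ≠ 0 := by
    rintro rfl
    apply h1
    rw [← inv_conj_eq_one (x := x), ← ue_zero_mul_self d, ← hc]
    group
  refine ⟨x * (he (Units.mk0 c hc0)⁻¹)⁻¹, ?_, ?_⟩
  swap
  calc _ = he (Units.mk0 c hc0)⁻¹ * (x⁻¹ * g * x) * (he (Units.mk0 c hc0)⁻¹)⁻¹ := by group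
    _ = _ := by
      rw [hc, he_conj_ue, Units.val_inv_eq_inv_val, Units.val_mk0, inv_mul_cancel₀ hc0]

theorem eq_top_of_cenZ_le {M : Subgroup (Cfsg.Sz F m)} (hZ : cenZ F m ≤ M)
    (hM : ¬ M ≤ borel F m) : M = ⊤ := by
  obtain ⟨g, hgM, hg⟩ := SetLike.not_le_iff_exists.mp hM
  have hZ' : ∀ b : F, ue 0 b ∈ M := fun b => hZ (by simp)
  obtain ⟨s, hs, -, -, h1, h2⟩ := swap_of_not_le hgM hg one_ne_zero one_ne_zero (hZ' 1) (hZ' 1)
  obtain ⟨x, y, hxy⟩ := exists_pt_of_ne hg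
  rw [hxy] at h1 h2
  obtain ⟨l, hl⟩ := exists_he_of_fix (g := we * ((ue x y)⁻¹ * s * ue x y))
    (by rw [mul_smul, mul_smul, mul_smul, ue_smul_inf, h1, ← eq_inv_smul_iff, inv_smul_eq_iff]; simp)
    (by
      rw [mul_smul, mul_smul, mul_smul, ← eq_inv_smul_iff, inv_smul_eq_iff]
      simpa using h2)
  obtain ⟨l, rfl⟩ := units_exists_sq l
  have hz : ∀ t, ue 0 t ∈ M.map (MulAut.conj (he l * (ue x y)⁻¹)).toMonoidHom := by
    intro t
    refine ⟨_, hZ' (t / (l * th F l)), ?_⟩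
    change he l * (ue x y)⁻¹ * ue 0 _ * (he l * (ue x y)⁻¹)⁻¹ = _
    rw [mul_assoc (he l), ue_inv, ← ue_zero_comm, ← mul_assoc, mul_inv_rev, mul_assoc,
      mul_inv_cancel_left, he_conj_ue, mul_zero, mul_div_cancel₀ _ (by simp)]
  obtain ⟨t, ht0, ht1⟩ := exists_ne_zero_one F
  obtain ⟨F₀, k, hk, -, h4⟩ := eq_range_of_we_mem
    (M := M.map (MulAut.conj (he l * (ue x y)⁻¹)).toMonoidHom) ⟨s, hs, by
      change he l * (ue x y)⁻¹ * s * (he l * (ue x y)⁻¹)⁻¹ = _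
      have h5 : (ue x y)⁻¹ * s * ue x y = we * he (l ^ 2) := by rw [← hl, we_mul_we_mul]
      calc _ = he l * ((ue x y)⁻¹ * s * ue x y) * (he l)⁻¹ := by group
        _ = _ := by
          rw [h5, ← mul_assoc, he_mul_we, ← he_inv, mul_assoc, mul_assoc, ← he_mul, ← he_mul]
          simp [sq]⟩
    ht0 one_ne_zero ht1 (hz _) (hz _)
  have hsurj : Function.Surjective F₀.subtype := by
    intro t
    obtain ⟨g0, hg0⟩ := h4 ▸ hz t
    have := congrFun (congrFun (congrArg mat hg0) 1) 3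
    rw [mat_subMap, mat_ue] at this
    exact ⟨mat g0 1 3, by simpa [uMat] using this⟩
  rw [range_subMap_eq_top hsurj] at h4
  rw [eq_top_iff]
  intro a _
  have : (he l * (ue x y)⁻¹) * a * (he l * (ue x y)⁻¹)⁻¹ ∈
      M.map (MulAut.conj (he l * (ue x y)⁻¹)).toMonoidHom := h4 ▸ Subgroup.mem_top _
  rw [mem_map_conj] at this
  convert this using 1
  group

theorem binSub_cenZ : BinSub (cenZ F m) := by
  refine binSub_of_elem (fun x hx => (mem_cenZ_iff.mp hx).2) fun g => ?_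
  by_cases hg : g ∈ borel F m
  · left
    intro x hx
    simpa using conj_mem_cenZ (inv_mem hg) hx
  · right
    intro x hx y hy hc
    by_contra hne
    push Not at hne
    exact hg (mem_borel_of_conj (cenZ_le_sylU hy) hne.2
      (mem_sylU_of_commute (cenZ_le_sylU hx) hne.1 hc.symm.eq))

theorem isSylZ_cenZ : IsSylZ 2 (cenZ F m) :=
  ⟨sylowU F m, by
    rw [coe_sylowU, center_sylU, Subgroup.subgroupOf_map_subtype, inf_eq_left.mpr cenZ_le_sylU]⟩

theorem IsSylZ.binSub {H : Subgroup (Cfsg.Sz F m)} (h : IsSylZ 2 H) : BinSub H := by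
  obtain ⟨P, hP⟩ := h
  obtain ⟨x, hx⟩ := exists_smul_eq (Cfsg.Sz F m) P (sylowU F m)
  rw [← binSub_map_iff (MulAut.conj x)]
  convert binSub_cenZ (F := F) (m := m)
  have hU : ∀ y, y ∈ sylU F m ↔ x⁻¹ * y * x ∈ (P : Subgroup (Cfsg.Sz F m)) := by
    intro y
    rw [← coe_sylowU, ← hx, Sylow.coe_subgroup_smul, Subgroup.mem_pointwise_smul_iff_inv_smul_mem]
    simp
  ext y
  rw [mem_map_conj, hP, mem_map_center, ← hU,
    ← inf_eq_left.mpr (cenZ_le_sylU (F := F) (m := m)), ← Subgroup.subgroupOf_map_subtype,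
    ← center_sylU, mem_map_center]
  refine and_congr_right fun _ => ⟨fun h z hz => ?_, fun h z hz => ?_⟩
  · have := h _ ((hU z).mp hz)
    calc z * y = x * (x⁻¹ * z * x * (x⁻¹ * y * x)) * x⁻¹ := by group
      _ = y * z := by rw [this]; group
  · have := h (x * z * x⁻¹) ((hU _).mpr (by simpa [mul_assoc] using hz))
    calc z * (x⁻¹ * y * x) = x⁻¹ * (x * z * x⁻¹ * y) * x := by group
      _ = _ := by rw [this]; group

omit [SzF F m] in
theorem smul_eq_of_conj_mem_borel {g k : Cfsg.Sz F m} (h : g⁻¹ * k * g ∈ borel F m) :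
    k • g • (inf : Ov F m) = g • inf := by
  rw [mem_stabilizer_iff, mul_smul, mul_smul, inv_smul_eq_iff] at h
  exact h

theorem not_binSub_of_he {H : Subgroup (Cfsg.Sz F m)} (hH : H ≤ borel F m) {k : Fˣ} (hk : k ≠ 1)
    (hkH : he k ∈ H) : ¬ BinSub H := by
  intro h
  have hk2 : k * k ≠ 1 := fun e => hk (units_eq_one_of_sq (by rw [sq, e]))
  have e0 : (ue 0 1 * he k * (ue 0 1)⁻¹ * he k : Cfsg.Sz F m) =
      ue 0 (1 + k * th F k * 1) * he (k * k) := by
    rw [ue_zero_inv, mul_assoc (ue 0 1), he_mul_ue, mul_zero, ← mul_assoc, ue_zero_mul, mul_assoc,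
      ← he_mul]
  obtain ⟨x, y, hxy⟩ := conj_he_of_borel (m := m) 0 (1 + k * th F k * 1) hk2
  obtain ⟨κ, h0, h1, h2, h3⟩ := h.quad (g1 := we) (g2 := ue 0 1 * we) (g3 := ue x y * we)
    (h1 := he k) (h2 := ue 0 1 * (he k)⁻¹ * (ue 0 1)⁻¹) hkH
    (by rw [we_inv, we_conj_he, he_inv]; exact inv_mem hkH)
    (by
      have : (ue 0 1 * we)⁻¹ * (ue 0 1 * (he k)⁻¹ * (ue 0 1)⁻¹) * (ue 0 1 * we) =
          (we * he k⁻¹ * we : Cfsg.Sz F m) := by rw [he_inv, mul_inv_rev, we_inv]; group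
      rw [this, we_conj_he, inv_inv]; exact hkH)
    (by
      have : (ue 0 1 * (he k)⁻¹ * (ue 0 1)⁻¹)⁻¹ * he k =
          (ue 0 1 * he k * (ue 0 1)⁻¹ * he k : Cfsg.Sz F m) := by group
      rw [this, e0, hxy]
      have : (ue x y * we)⁻¹ * (ue x y * he (k * k) * (ue x y)⁻¹) * (ue x y * we) =
          (we * he (k * k) * we : Cfsg.Sz F m) := by rw [mul_inv_rev, we_inv]; group
      rw [this, we_conj_he, he_inv, he_mul]
      exact inv_mem (mul_mem hkH hkH))
  have a1 := smul_eq_of_conj_mem_borel (hH h1)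
  have a2 := smul_eq_of_conj_mem_borel (hH h2)
  have a3 := smul_eq_of_conj_mem_borel (hH h3)
  simp only [mul_smul, we_smul_inf, ue_smul_pt, zero_add, add_zero, mul_zero] at a1 a2 a3
  have hκ : κ = 1 := eq_one_of_fix_three (P := inf) (Q := pt 0 0) (R := pt 0 1) (by simp) (by simp)
    (by simp) (hH h0) a1 a2
  rw [hκ, one_smul, inv_smul_eq_iff] at a3
  obtain ⟨rfl, rfl⟩ := he_fix hk a3.symm
  rw [ue_zero, one_mul, inv_one, mul_one (he (k * k)), mul_eq_right, ue_eq_one] at hxy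
  have : (he k : Cfsg.Sz F m) • (pt 0 1 : Ov F m) = pt 0 1 := by
    rw [he_smul_pt, mul_zero, pt_inj]
    exact ⟨rfl, by linear_combination hxy.2 - (CharTwo.two_eq_zero (R := F))⟩
  exact one_ne_zero (he_fix hk this).2

theorem not_binSub_of_borel {H : Subgroup (Cfsg.Sz F m)} (hH : H ≤ borel F m)
    (hU : ¬ H ≤ sylU F m) : ¬ BinSub H := by
  obtain ⟨g, hg, hgU⟩ := SetLike.not_le_iff_exists.mp hU
  obtain ⟨a, b, k, rfl⟩ := mem_borel.mp (hH hg)
  have hk : k ≠ 1 := by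
    rintro rfl
    simp at hgU
  obtain ⟨x, y, hxy⟩ := conj_he_of_borel (m := m) a b hk
  rw [← binSub_map_iff (MulAut.conj (ue x y)⁻¹)]
  refine not_binSub_of_he (k := k) ?_ hk ?_
  · intro g hg
    rw [mem_map_conj] at hg
    have := hH hg
    have hx : ue x y ∈ borel F m := sylU_le_borel (ue_mem_sylU x y)
    rw [inv_inv] at this
    simpa [mul_assoc] using mul_mem (mul_mem (inv_mem hx) this) hx
  · rw [mem_map_conj, inv_inv, ← hxy]
    exact hg

theorem ue_we_pow_four : (ue 1 0 * we : Cfsg.Sz F m) ^ 4 = 1 := by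
  apply mat_injective
  have h2 : (2 : F) = 0 := CharTwo.two_eq_zero
  have e : mat (ue 1 0 * we : Cfsg.Sz F m) = !![1, 1, 1, 1; 0, 1, 1, 0; 1, 1, 0, 0; 1, 0, 0, 0] := by
    rw [mat_mul, mat_ue, mat_we]
    ext i j
    fin_cases i <;> fin_cases j <;> simp [uMat, suzukiForm, Matrix.mul_apply, Fin.sum_univ_four, nrm]
  have e2 : mat ((ue 1 0 * we : Cfsg.Sz F m) * (ue 1 0 * we)) =
      !![1, 1, 0, 1; 1, 0, 1, 0; 1, 0, 0, 1; 1, 1, 1, 1] := by
    rw [mat_mul, e]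
    ext i j
    fin_cases i <;> fin_cases j <;> simp [Matrix.mul_apply, Fin.sum_univ_four, CharTwo.add_self_eq_zero]
  have e4 : ∀ y : Cfsg.Sz F m, y ^ 4 = (y * y) * (y * y) := fun y => by
    rw [← sq, ← sq, ← pow_mul]
  rw [e4, mat_mul, e2, mat_one]
  ext i j
  fin_cases i <;> fin_cases j <;> simp [Matrix.mul_apply, Fin.sum_univ_four, CharTwo.add_self_eq_zero]

theorem not_binSub_of_four {H : Subgroup (Cfsg.Sz F m)} (hH : H ≤ sylU F m) (hZ : cenZ F m ≤ H)
    {b : F} (hb : ue 1 b ∈ H) : ¬ BinSub H := by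
  intro h
  have hall : ∀ c : F, ue 1 c ∈ H := by
    intro c
    have := mul_mem (hZ (x := ue 0 (c + b)) (by simp)) hb
    rw [ue_mul] at this
    simpa [add_assoc, CharTwo.add_self_eq_zero] using this
  have hy1 : (ue 1 0 : Cfsg.Sz F m) ≠ 1 := by simp
  have hsq : (ue 1 0 * we : Cfsg.Sz F m) * (ue 1 0 * we) ≠ 1 := by
    intro e
    apply we_not_mem_borel (F := F) (m := m)
    refine mem_borel_of_conj (ue_mem_sylU 1 0) hy1 ?_
    have : (we * ue 1 0 * we⁻¹ : Cfsg.Sz F m) = (ue 1 0)⁻¹ := by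
      rw [we_inv, eq_inv_iff_mul_eq_one, ← inv_conj_eq_one (x := (ue 1 0)⁻¹), ← e]
      group
    rw [this]
    exact inv_mem (ue_mem_sylU 1 0)
  obtain ⟨g2, c, hc⟩ := exists_conj_ue_one ue_we_pow_four hsq
  obtain ⟨g3, h3⟩ := exists_conj_ue_zero (we_mul_we (F := F) (m := m)) we_ne_one
    (one_ne_zero (α := F))
  obtain ⟨κ, a1, a2, a3⟩ := h.triple (g1 := 1) (g2 := g2) (g3 := g3) (h1 := ue 1 0)
    (h2 := ue 1 0 * we) (by simpa using hall 0) (hc ▸ hall c)
    (by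
      rw [mul_inv_rev, inv_mul_cancel_right, we_inv, h3]
      exact hZ (by simp))
  rw [inv_one, one_mul, mul_one] at a1
  have hκ : κ = 1 := by
    by_contra hκ
    have b1 := eq_inf_of_mem_sylU (hH a1) hκ (smul_eq_of_conj_mem_borel (sylU_le_borel (hH a2)))
    have b2 := smul_eq_of_conj_mem_borel (g := g2) (k := ue 1 0 * we)
      (sylU_le_borel (hc ▸ ue_mem_sylU 1 c))
    rw [b1] at b2
    simp [mul_smul] at b2
  rw [hκ, mul_one] at a3
  have b1 := eq_inf_of_mem_sylU (inv_mem (ue_mem_sylU 1 0)) (inv_ne_one.mpr hy1)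
    (smul_eq_of_conj_mem_borel (sylU_le_borel (hH a3)))
  have b2 := smul_eq_of_conj_mem_borel (g := g3) (k := we) (sylU_le_borel (h3 ▸ ue_mem_sylU 0 1))
  rw [b1] at b2
  simp at b2

theorem eq_cenZ_of_binSub {H : Subgroup (Cfsg.Sz F m)} (h : BinSub H) (hH : H ≠ ⊤)
    (hZ : cenZ F m ≤ H) : H = cenZ F m := by
  have hB : H ≤ borel F m := by
    by_contra hB
    exact hH (eq_top_of_cenZ_le hZ hB)
  have hU : H ≤ sylU F m := by
    by_contra hU
    exact not_binSub_of_borel hB hU h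
  refine le_antisymm (fun g hg => ?_) hZ
  obtain ⟨a, b, rfl⟩ := mem_sylU.mp (hU hg)
  rw [ue_mem_cenZ]
  by_contra ha
  rw [← binSub_map_iff (MulAut.conj (he (Units.mk0 a ha)⁻¹))] at h
  have hx : he (Units.mk0 a ha)⁻¹ ∈ borel F m := torH_le_borel (he_mem_torH _)
  refine not_binSub_of_four ?_ ?_ (b := ((Units.mk0 a ha)⁻¹ : Fˣ) * th F ((Units.mk0 a ha)⁻¹ : Fˣ) * b)
    (Subgroup.mem_map.mpr ⟨_, hg, ?_⟩) h
  · rintro _ ⟨g, hg, rfl⟩
    exact conj_mem_sylU hx (hU hg)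
  · intro g hg
    rw [mem_map_conj]
    simpa using hZ (conj_mem_cenZ (inv_mem hx) hg)
  · change he _ * ue a b * (he _)⁻¹ = _
    rw [he_conj_ue, Units.val_inv_eq_inv_val, Units.val_mk0, inv_mul_cancel₀ ha]

theorem isSylZ_of_binSub {H : Subgroup (Cfsg.Sz F m)} (h : BinSub H) (hH : H ≠ ⊤)
    (h2 : Even (Nat.card H)) : IsSylZ 2 H := by
  obtain ⟨t, ht⟩ := exists_prime_orderOf_dvd_card' (G := H) 2 h2.two_dvd
  rw [← Subgroup.orderOf_coe] at ht
  obtain ⟨x, hx⟩ := exists_conj_ue_zero (mul_self_of_orderOf ht).1 (mul_self_of_orderOf ht).2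
    (one_ne_zero (α := F))
  rw [← binSub_map_iff (MulAut.conj x⁻¹)] at h
  rw [← isSylZ_map_iff (MulAut.conj x⁻¹)]
  have h1 : ue 0 1 ∈ H.map (MulAut.conj x⁻¹).toMonoidHom := ⟨t, t.2, by rw [← hx]; simp⟩
  have o2 : ∀ b : F, b ≠ 0 → orderOf (ue 0 b : Cfsg.Sz F m) = 2 := fun b hb =>
    orderOf_eq_prime (by rw [sq, ue_zero_mul_self]) (by simp [hb])
  rw [eq_cenZ_of_binSub h ?_ ?_]
  · exact isSylZ_cenZ
  · intro e
    apply hH
    rw [eq_top_iff]
    intro a _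
    have : x⁻¹ * a * x ∈ H.map (MulAut.conj x⁻¹).toMonoidHom := e ▸ Subgroup.mem_top _
    rw [mem_map_conj] at this
    convert this using 1
    group
  · intro g hg
    obtain ⟨b, rfl⟩ := mem_cenZ.mp hg
    by_cases hb : b = 0
    · rw [hb, ue_zero]; exact one_mem _
    · exact h.mem_of_commute isConj_of_orderOf_two (o2 1 one_ne_zero) (o2 b hb)
        (ue_zero_comm _ _ _) h1

/-- The trace. -/
noncomputable def tr (g : Cfsg.Sz F m) : F := (mat g).trace

omit [SzF F m] in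
theorem tr_conj (x g : Cfsg.Sz F m) : tr (x⁻¹ * g * x) = tr g := by
  unfold tr
  rw [mat_mul, Matrix.trace_mul_comm, ← mat_mul, ← mul_assoc, mul_inv_cancel, one_mul]

theorem tr_ue (a b : F) : tr (ue a b : Cfsg.Sz F m) = 0 := by
  have h2 : (2 : F) = 0 := CharTwo.two_eq_zero
  simp only [tr, mat_ue, uMat, Matrix.trace, Fin.sum_univ_four, Matrix.diag]
  simp
  linear_combination 2 * h2

theorem tr_we_ue (b : F) : tr (we * ue 0 b : Cfsg.Sz F m) = th F b := by
  simp [tr, mat_mul, mat_ue, mat_we, uMat, suzukiForm, Matrix.trace, Fin.sum_univ_four]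

theorem tr_we_conj (a b : F) : tr (we * ((ue a b)⁻¹ * we * ue a b) : Cfsg.Sz F m) =
    (a * th F a + nrm a b + th F a) ^ 2 := by
  have h2 : (2 : F) = 0 := CharTwo.two_eq_zero
  have h1 := (isSzMat_uMat (m := m) a b).1
  have e : mat (we * (ue a b)⁻¹ * we : Cfsg.Sz F m) = (uMat a b).transpose := by
    have : mat (we * (ue a b)⁻¹ * we : Cfsg.Sz F m) =
        (uMat a b).transpose * mat (we * ue a b * (ue a b)⁻¹ * we : Cfsg.Sz F m) := by
      rw [mat_mul (we * ue a b * _), mat_mul (we * ue a b), mat_mul we (ue a b), mat_we, mat_ue,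
        ← Matrix.mul_assoc, ← Matrix.mul_assoc, ← Matrix.mul_assoc, h1, mat_mul, mat_mul, mat_we]
    rw [this, mul_inv_cancel_right, we_mul_we, mat_one, Matrix.mul_one]
  rw [← mul_assoc, ← mul_assoc, tr, mat_mul, e, mat_ue, CharTwo.add_sq, CharTwo.add_sq]
  simp [uMat, Matrix.trace, Fin.sum_univ_four, Matrix.mul_apply]
  linear_combination (2 + a ^ 2 + b ^ 2 + b * a * th F a) * h2

theorem exists_good {σ : F} (hσ : σ ≠ 0) (β : F) :
    ∃ a b : F, a ≠ 0 ∧ a * th F a ≠ β ∧ a * th F a + nrm a b + th F a = σ := by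
  have h2 : (2 : F) = 0 := CharTwo.two_eq_zero
  have key : ∀ ε : F, ∃ a b : F, a ≠ 0 ∧ a ^ 2 * th F a * (ε + th F ε + 1) = σ ∧
      a * th F a + nrm a b + th F a = σ := by
    intro ε
    have hd : ε + th F ε + 1 ≠ 0 := fun e =>
      add_th_ne_one (m := m) ε (by linear_combination e - h2)
    obtain ⟨c, hc⟩ := th_surjective (F := F) (m := m) (σ / (ε + th F ε + 1))
    obtain ⟨a, rfl⟩ := mul_th_surjective (m := m) c
    rw [map_mul, th_th] at hc
    have ha : a ≠ 0 := by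
      rintro rfl
      rw [map_zero, zero_mul, eq_comm, div_eq_zero_iff] at hc
      tauto
    have hσ' : a ^ 2 * th F a * (ε + th F ε + 1) = σ := by
      rw [mul_comm (a ^ 2), hc, div_mul_cancel₀ _ hd]
    refine ⟨a, a * th F a * (th F a⁻¹ + a⁻¹ + ε), ha, hσ', ?_⟩
    have ha' : th F a ≠ 0 := by simpa using ha
    rw [← hσ', nrm]
    simp only [map_mul, map_add, th_th, map_inv₀]
    field_simp
    linear_combination (th F a + a * th F a + a ^ 2 ) * h2
  obtain ⟨t, ht0, ht1⟩ := exists_ne_zero_one F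
  obtain ⟨a, b, ha, e1, e2⟩ := key 0
  obtain ⟨a', b', ha', e1', e2'⟩ := key t
  by_cases h : a * th F a = β
  · refine ⟨a', b', ha', fun h' => ?_, e2'⟩
    obtain rfl := mul_th_injective (h.trans h'.symm)
    have : a ^ 2 * th F a ≠ 0 := by simp [ha]
    have e := mul_left_cancel₀ this (e1.trans e1'.symm)
    rw [map_zero] at e
    rcases th_eq_self (m := m) (t := t) (by linear_combination -e - t * h2) with h | h
    · exact ht0 h
    · exact ht1 h
  · exact ⟨a, b, ha, h, e2⟩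

theorem exists_conj_pair' {s t : Cfsg.Sz F m} (hs : s * s = 1) (ht : t * t = 1)
    (h : ∀ P, s * t ∉ sylAt P) :
    ∃ (g : Cfsg.Sz F m) (b : F), g⁻¹ * s * g = we ∧ g⁻¹ * t * g = ue 0 b := by
  have ht1 : t ≠ 1 := by
    rintro rfl
    obtain ⟨P, hP⟩ := exists_mem_sylAt_of_mul_self hs
    exact h P (by rwa [mul_one])
  obtain ⟨x, hx⟩ := exists_conj_ue_zero ht ht1 (one_ne_zero (α := F))
  have hs' : (x⁻¹ * s * x) * (x⁻¹ * s * x) = 1 := by
    calc _ = x⁻¹ * (s * s) * x := by group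
      _ = 1 := by rw [hs]; group
  have hne : (x⁻¹ * s * x) • (inf : Ov F m) ≠ inf := by
    intro e
    have := mul_mem (cenZ_le_sylU (mem_cenZ_iff.mpr ⟨e, hs'⟩)) (ue_mem_sylU 0 1)
    rw [← hx] at this
    apply h (x • inf)
    rw [mem_sylAt_smul_inf]
    convert this using 1
    group
  obtain ⟨c, d, hxy⟩ := exists_pt_of_ne hne
  have h2 : (x⁻¹ * s * x) • (pt c d : Ov F m) = inf := by
    rw [← hxy, smul_smul, hs', one_smul]
  obtain ⟨l, hl⟩ := exists_he_of_fix (g := we * ((ue c d)⁻¹ * (x⁻¹ * s * x) * ue c d))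
    (by rw [mul_smul, mul_smul, mul_smul, ue_smul_inf, hxy, ← eq_inv_smul_iff, inv_smul_eq_iff]; simp)
    (by
      rw [mul_smul, mul_smul, mul_smul, ← eq_inv_smul_iff, inv_smul_eq_iff]
      simpa using h2)
  obtain ⟨l, rfl⟩ := units_exists_sq l
  refine ⟨x * ue c d * (he l)⁻¹, l * th F l * 1, ?_, ?_⟩
  · have h5 : (ue c d)⁻¹ * (x⁻¹ * s * x) * ue c d = we * he (l ^ 2) := by rw [← hl, we_mul_we_mul]
    calc _ = he l * ((ue c d)⁻¹ * (x⁻¹ * s * x) * ue c d) * (he l)⁻¹ := by group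
      _ = _ := by
        rw [h5, ← mul_assoc, he_mul_we, ← he_inv, mul_assoc, mul_assoc, ← he_mul, ← he_mul]
        simp [sq]
  · calc _ = he l * ((ue c d)⁻¹ * (x⁻¹ * t * x) * ue c d) * (he l)⁻¹ := by group
      _ = _ := by
        rw [hx, mul_assoc (ue c d)⁻¹, ue_zero_comm, inv_mul_cancel_left, he_conj_ue, mul_zero]

theorem exists_conj_pair {s t : Cfsg.Sz F m} (hs : s * s = 1) (ht : t * t = 1)
    (h : tr (s * t) ≠ 0) :
    ∃ (g : Cfsg.Sz F m) (b : F), g⁻¹ * s * g = we ∧ g⁻¹ * t * g = ue 0 b ∧ th F b = tr (s * t) := by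
  obtain ⟨g, b, h1, h2⟩ := exists_conj_pair' hs ht (by
    intro P hP
    obtain ⟨x, rfl⟩ := exists_smul_inf_eq P
    obtain ⟨c, d, hc⟩ := mem_sylU.mp (mem_sylAt_smul_inf.mp hP)
    apply h
    rw [← tr_conj x, hc, tr_ue])
  refine ⟨g, b, h1, h2, ?_⟩
  rw [← tr_we_ue, ← h1, ← h2, ← tr_conj g (s * t)]
  congr 1
  group

theorem IsTorus.conj_eq_inv {T : Subgroup (Cfsg.Sz F m)} (hT : IsTorus T) {s x : Cfsg.Sz F m}
    (hs : s ∈ Subgroup.normalizer (T : Set (Cfsg.Sz F m))) (hs2 : s * s = 1) (hs1 : s ≠ 1)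
    (hx : x ∈ T) : s * x * s⁻¹ = x⁻¹ := by
  have h1 : s * x * s⁻¹ ∈ T := (Subgroup.mem_normalizer_iff.mp hs x).mp hx
  have hc : ∀ a ∈ T, ∀ b ∈ T, a * b = b * a := fun a ha b hb => by
    have := hT.isCyclic
    exact congrArg Subtype.val (mul_comm' (⟨a, ha⟩ : T) ⟨b, hb⟩)
  by_contra hne
  have h2 : s * x * s⁻¹ * x ≠ 1 := fun e => hne (eq_inv_of_mul_eq_one_left e)
  have h3 : s ∈ T := by
    rw [← hT.centralizer_eq (mul_mem h1 hx) h2, Subgroup.mem_centralizer_singleton_iff]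
    have hi : s⁻¹ = s := inv_eq_of_mul_eq_one_right hs2
    calc s * (s * x * s⁻¹ * x) = (s * s) * x * s⁻¹ * x := by group
      _ = x * s * x * (s * s) := by rw [hs2, hi]; group
      _ = x * (s * x * s⁻¹) * s := by rw [hi]; group
      _ = _ := by rw [hc _ hx _ h1]
  obtain ⟨P, hP⟩ := exists_mem_sylAt_of_mul_self hs2
  exact hT.not_mem_sylAt h3 hs1 P hP

theorem not_binSub_of_torus {T H : Subgroup (Cfsg.Sz F m)} (hT : IsTorus T) (hH : H ≤ T) {β : F}
    (hβ : β ≠ 0) (hx : we * ue 0 β ∈ H) : ¬ BinSub H := by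
  intro h
  have hτ : th F β ≠ 0 := by simpa using hβ
  obtain ⟨σ, hσ⟩ := exists_sq (m := m) (th F β)
  have hσ0 : σ ≠ 0 := by
    rintro rfl
    exact hτ (by rw [← hσ]; simp)
  obtain ⟨a, b, ha, hab, he⟩ := exists_good hσ0 β
  have hx1 : (we * ue 0 β : Cfsg.Sz F m) ≠ 1 := by
    intro e
    apply hτ
    rw [← tr_we_ue, e, ← ue_zero, tr_ue]
  set u : Cfsg.Sz F m := ue a b with hu
  have hzu : ue 0 β * u = u * ue 0 β := ue_zero_comm _ _ _
  have hc2 : (u⁻¹ * we * u) * (u⁻¹ * we * u) = 1 := by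
    calc _ = u⁻¹ * (we * we) * u := by group
      _ = 1 := by rw [we_mul_we]; group
  have htr : tr (we * (u⁻¹ * we * u)) = th F β := by rw [hu, tr_we_conj, he, hσ]
  obtain ⟨g, β', e1, e2, e3⟩ := exists_conj_pair we_mul_we hc2 (by rw [htr]; exact hτ)
  obtain rfl : β' = β := th_injective (e3.trans htr)
  have hzi := ue_zero_inv (m := m) β'
  have e4 : (ue 0 β' * g)⁻¹ * ((u⁻¹ * (we * ue 0 β') * u)⁻¹ * (we * ue 0 β')) * (ue 0 β' * g) =
      (we * ue 0 β')⁻¹ := by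
    calc _ = g⁻¹ * ((ue 0 β')⁻¹ * (ue 0 β' * u)⁻¹) * we⁻¹ * u * we * (ue 0 β' * ue 0 β') * g := by
          group
      _ = (g⁻¹ * (u⁻¹ * we * u) * g) * (g⁻¹ * we * g) := by
          rw [hzu, mul_inv_rev, ue_zero_mul_self, hzi, we_inv, ← mul_assoc (ue 0 β'),
            ue_zero_mul_self]
          group
      _ = _ := by rw [e1, e2, mul_inv_rev, hzi, we_inv]
  obtain ⟨κ, a1, a2, a3⟩ := h.triple (g1 := 1) (g2 := u⁻¹) (g3 := ue 0 β' * g)
    (h1 := we * ue 0 β') (h2 := u⁻¹ * (we * ue 0 β') * u) (by simpa using hx)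
    (by simpa [mul_assoc] using hx) (by rw [e4]; exact inv_mem hx)
  rw [inv_one, one_mul, mul_one] at a1
  have hN : u ∈ Subgroup.normalizer (T : Set (Cfsg.Sz F m)) := by
    by_cases hκ : κ = 1
    · rw [hκ, mul_one] at a3
      have hg := hT.isPart.mem_normalizer_of_conj (x := (ue 0 β' * g)⁻¹) (inv_mem (hH hx))
        (inv_ne_one.mpr hx1) (by rw [inv_inv]; exact hH a3)
      have b1 : (u⁻¹ * (we * ue 0 β') * u)⁻¹ * (we * ue 0 β') ∈ T := by
        rw [Subgroup.mem_normalizer_iff.mp hg, inv_inv, e4]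
        exact inv_mem (hH hx)
      rw [mul_mem_cancel_right (hH hx), inv_mem_iff] at b1
      simpa using hT.isPart.mem_normalizer_of_conj (x := u⁻¹) (hH hx) hx1 (by rwa [inv_inv])
    · exact hT.isPart.mem_normalizer_of_conj (hH a1) hκ (by simpa using hH a2)
  have hzN : ue 0 β' ∈ Subgroup.normalizer (T : Set (Cfsg.Sz F m)) :=
    hT.isPart.mem_normalizer_of_conj (hH hx) hx1 (by
      have : (ue 0 β' * (we * ue 0 β') * (ue 0 β')⁻¹ : Cfsg.Sz F m) = (we * ue 0 β')⁻¹ := by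
        rw [mul_inv_rev, we_inv, hzi, mul_assoc, mul_assoc, ue_zero_mul_self, mul_one]
      rw [this]
      exact inv_mem (hH hx))
  have hu2 := mul_mem hN hN
  rw [hu, ue_mul_self] at hu2
  have i1 := hT.conj_eq_inv hu2 (ue_zero_mul_self _) (by simp [ha]) (hH hx)
  have i2 := hT.conj_eq_inv hzN (ue_zero_mul_self _) (by simp [hβ]) (hH hx)
  have hmem : (ue 0 β')⁻¹ * ue 0 (a * th F a) ∈ T := by
    rw [← hT.centralizer_eq (hH hx) hx1, Subgroup.mem_centralizer_singleton_iff]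
    calc _ = (ue 0 β')⁻¹ * (ue 0 (a * th F a) * (we * ue 0 β') * (ue 0 (a * th F a))⁻¹) *
          ue 0 (a * th F a) := by group
      _ = _ := by rw [i1, ← i2]; group
  rw [hzi, ue_zero_mul] at hmem
  refine hT.not_mem_sylAt hmem ?_ inf (ue_zero_mem_sylAt _)
  rw [Ne, ue_eq_one]
  rintro ⟨-, e⟩
  exact hab (by linear_combination e - β' * (CharTwo.two_eq_zero (R := F)))

theorem not_binSub_of_odd {H : Subgroup (Cfsg.Sz F m)} (h2 : Odd (Nat.card H)) (h1 : H ≠ ⊥) :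
    ¬ BinSub H := by
  have noinv : ∀ s ∈ H, s * s = 1 → s = 1 := by
    intro s hs hs2
    by_contra hs1
    have : orderOf s = 2 := orderOf_eq_prime (by rw [sq, hs2]) hs1
    have h3 := Subgroup.orderOf_dvd_natCard H hs
    rw [this] at h3
    exact (Nat.not_even_iff_odd.mpr h2) (even_iff_two_dvd.mpr h3)
  obtain ⟨⟨x, hx⟩, hx1⟩ := Subgroup.ne_bot_iff_exists_ne_one.mp h1
  have hx1 : x ≠ 1 := fun e => hx1 (Subtype.ext e)
  have fixcase : ∀ P : Ov F m, H ≤ stabilizer _ P → ¬ BinSub H := by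
    intro P hP
    obtain ⟨g, rfl⟩ := exists_smul_inf_eq P
    rw [← binSub_map_iff (MulAut.conj g⁻¹)]
    refine not_binSub_of_borel ?_ ?_
    · rintro _ ⟨y, hy, rfl⟩
      have := hP hy
      rw [mem_stabilizer_iff] at this ⊢
      simp [mul_smul, this]
    · intro hU
      have h4 := pow_four_of_mem_sylU (hU ⟨x, hx, rfl⟩)
      rw [← map_pow, map_eq_one_iff (MulAut.conj g⁻¹).toMonoidHom
        (MulAut.conj g⁻¹).injective] at h4
      apply hx1
      refine noinv x hx (noinv _ (mul_mem hx hx) ?_)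
      rw [← sq, ← sq, ← pow_mul]
      exact h4
  rcases subgroup_cases H with ⟨T, hT, hHT⟩ | ⟨F₀, k, hk, g, -, hg⟩
  · rcases isPart_iff.mp hT with ⟨P, rfl⟩ | hT
    · exact fixcase P (normalizer_sylAt P ▸ hHT)
    have hHT' : H ≤ T := by
      intro y hy
      have hd : T.relIndex (Subgroup.normalizer (T : Set (Cfsg.Sz F m))) ∣ 4 := by
        have := hT.card_normalizer_dvd
        rw [← Subgroup.index_mul_card (T.subgroupOf (Subgroup.normalizer (T : Set (Cfsg.Sz F m)))),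
          Nat.card_congr (Subgroup.subgroupOfEquivOfLe Subgroup.le_normalizer).toEquiv] at this
        exact Nat.dvd_of_mul_dvd_mul_right Nat.card_pos this
      have h3 : y ^ 4 ∈ T := by
        obtain ⟨c, hc⟩ := hd
        have := pow_mem (show y ^ T.relIndex (Subgroup.normalizer (T : Set (Cfsg.Sz F m))) ∈ T from
          (T.subgroupOf (Subgroup.normalizer (T : Set (Cfsg.Sz F m)))).pow_index_mem
          ⟨y, hHT hy⟩) c
        rwa [← pow_mul, ← hc] at this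
      have hco : (orderOf y).Coprime 4 :=
        ((Nat.coprime_two_right.mpr h2).coprime_dvd_left (Subgroup.orderOf_dvd_natCard H hy)).pow_right 2
      obtain ⟨n, hn⟩ := exists_pow_eq_self_of_coprime hco.symm
      rw [← hn]
      exact pow_mem h3 n
    rcases hT with ⟨P, Q, -, rfl⟩ | ⟨s, hs, rfl⟩
    · exact fixcase P (hHT'.trans inf_le_left)
    obtain ⟨t, ht⟩ := exists_prime_orderOf_dvd_card'
      (G := Subgroup.normalizer (Subgroup.centralizer {s} : Set (Cfsg.Sz F m))) 2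
      (by rw [hs.card_normalizer]; omega)
    rw [← Subgroup.orderOf_coe] at ht
    obtain ⟨t2, t1⟩ := mul_self_of_orderOf ht
    have hi := hs.isTorus.conj_eq_inv t.2 t2 t1 (hHT' hx)
    have hti : (t : Cfsg.Sz F m)⁻¹ = t := inv_eq_of_mul_eq_one_right t2
    have htx : (t * x) * (t * x) = 1 := by
      rw [hti] at hi
      rw [← mul_assoc, hi, inv_mul_cancel]
    have hxe : t * (t * x) = x := by rw [← mul_assoc, t2, one_mul]
    obtain ⟨g, b, e1, e2⟩ := exists_conj_pair' t2 htx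
      (by rw [hxe]; exact hs.isTorus.not_mem_sylAt (hHT' hx) hx1)
    have e3 : g⁻¹ * x * g = we * ue 0 b := by
      rw [← e1, ← e2]
      conv_lhs => rw [← hxe]
      group
    rw [← binSub_map_iff (MulAut.conj g⁻¹)]
    refine not_binSub_of_torus (hs.isTorus.map_conj g⁻¹) (Subgroup.map_mono hHT') (β := b) ?_
      (Subgroup.mem_map.mpr ⟨x, hx, by rw [← e3]; simp⟩)
    rintro rfl
    rw [ue_zero, inv_conj_eq_one] at e2
    rw [e2, mul_one] at hxe
    exact hx1 (noinv x hx (hxe ▸ t2))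
  · have : we ∈ H.map (MulAut.conj g).toMonoidHom := hg ▸ ⟨we, subMap_we _⟩
    rw [mem_map_conj] at this
    have := noinv _ this (by
      calc _ = g⁻¹ * (we * we) * g := by group
        _ = 1 := by rw [we_mul_we]; group)
    exact absurd (inv_conj_eq_one.mp this) we_ne_one

theorem binSub_iff {H : Subgroup (Cfsg.Sz F m)} (hH : H ≠ ⊤) :
    BinSub H ↔ H = ⊥ ∨ IsSylZ 2 H := by
  constructor
  · intro h
    rcases Nat.even_or_odd (Nat.card H) with h2 | h2
    · exact Or.inr (isSylZ_of_binSub h hH h2)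
    · by_contra hne
      exact not_binSub_of_odd h2 (fun e => hne (Or.inl e)) h
  · rintro (rfl | h)
    · exact binSub_bot
    · exact IsSylZ.binSub h

end Cfsg.Agent.Chev.Sz
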