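import Mathlib
import Cfsg.Agent.Inv.Exc

/-!
# A uniform form of the theory of exceptional characters for self-centralizing subgroups
-/

set_option autoImplicit false

namespace Cfsg.Agent.Chev.Sz

open Finset Cfsg.Agent.Ch Cfsg.Agent.Inv.Exc
open scoped ComplexConjugate

variable {G : Type*} [Group G] [Fintype G]

/-- The degree as an integer. -/
noncomputable def dg (χ : IrrCharacter G) : ℤ := charDegree (χ : G → ℂ)

omit [Fintype G] in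
theorem coe_dg (χ : IrrCharacter G) : (dg χ : ℂ) = (χ : G → ℂ) 1 := by
  rw [dg, Int.cast_natCast, χ.2.coe_charDegree]

omit [Fintype G] in
theorem dg_pos (χ : IrrCharacter G) : 0 < dg χ := by
  rw [dg]; exact_mod_cast χ.2.charDegree_pos

theorem dg_sq_le (χ : IrrCharacter G) : dg χ ^ 2 ≤ Nat.card G := by
  rw [dg]; exact_mod_cast χ.2.charDegree_sq_le

omit [Fintype G] in
theorem dg_one : dg (irrOne G) = 1 := by
  have : (dg (irrOne G) : ℂ) = 1 := coe_dg (irrOne G)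
  exact_mod_cast this

/-- Exceptional characters `Y` and constant values `c`. -/
structure Tor (K : Subgroup G) (e : ℕ) (c : IrrCharacter G → ℤ) (Y : Finset (IrrCharacter G)) :
    Prop where
  c_Y : ∀ θ ∈ Y, c θ = 0
  c_one : c (irrOne G) = 1
  const : ∀ χ ∉ Y, ∀ k ∈ K, k ≠ 1 → (χ : G → ℂ) k = c χ
  deg : ∀ χ ∉ Y, (Nat.card K : ℤ) ∣ dg χ - c χ
  agree : ∀ g, Off K g → ∀ θ ∈ Y, ∀ θ' ∈ Y, (θ : G → ℂ) g = (θ' : G → ℂ) g
  nonconst : ∀ θ ∈ Y, ∀ a : ℂ, ¬ ∀ k ∈ K, k ≠ 1 → (θ : G → ℂ) k = a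
  rel : ∀ g, Off K g → (∀ θ ∈ Y, (θ : G → ℂ) g = 0) → ∑ χ, (c χ : ℂ) * (χ : G → ℂ) g = 0
  norm : (Y = ∅ ∧ ∑ χ, c χ ^ 2 = e + 1 ∧ Nat.card K = e + 1) ∨
    (Y.card * e + 1 = Nat.card K ∧ 2 ≤ Y.card ∧ ∑ χ, c χ ^ 2 ≤ e ∧ (3 ≤ Y.card →
      ∑ χ, c χ ^ 2 = e → ∃ ε : ℤ, (ε = 1 ∨ ε = -1) ∧ ∀ g, Off K g → ∀ θ ∈ Y,
        ∑ χ, (c χ : ℂ) * (χ : G → ℂ) g = ε * (θ : G → ℂ) g))

omit [Fintype G] in
theorem exists_of_not_off {K : Subgroup G} {g : G} (h : ¬ Off K g) :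
    ∃ k ∈ K, k ≠ 1 ∧ ∀ χ : IrrCharacter G, (χ : G → ℂ) g = (χ : G → ℂ) k := by
  unfold Off at h
  push Not at h
  obtain ⟨k, hk, h1, h2⟩ := h
  exact ⟨k, hk, h1, fun χ => (χ.isClassFunction.eq_of_isConj h2).symm⟩

theorem exists_tor {K : Subgroup G} (h : SC K) {e : ℕ}
    (he : Nat.card (Subgroup.normalizer (K : Set G)) = e * Nat.card K) (hle : e + 1 ≤ Nat.card K) :
    ∃ c Y, Tor K e c Y := by
  rcases hle.eq_or_lt with heq | hlt
  · obtain ⟨c, H⟩ := h.exists_isExc1 he heq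
    refine ⟨c, ∅, by simp, H.c_one, fun χ _ => H.const χ, fun χ _ => ?_, by simp, by simp,
      fun g hg _ => H.rel g hg, Or.inl ⟨rfl, by rw [H.norm, ← heq]; simp, heq.symm⟩⟩
    obtain ⟨n, hn, -⟩ := H.deg χ
    exact ⟨n, by rw [dg, hn]; ring⟩
  · obtain ⟨c, Y, ε, α, H⟩ := h.exists_isExc he hlt
    have h2 : 2 ≤ Y.card := by
      have := H.card_Y
      by_contra hc
      have h3 : Y.card * e ≤ 1 * e := Nat.mul_le_mul_right e (by omega)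
      omega
    have h3 : (2 : ℤ) ≤ Y.card := by exact_mod_cast h2
    refine ⟨c, Y, H.c_Y, H.c_one, H.const, fun χ hχ => ?_, H.agree, fun θ hθ a ha => ?_,
      fun g hg h0 => ?_, Or.inr ⟨H.card_Y, h2, ?_, fun h4 h5 => ⟨ε, H.sign, fun g hg θ hθ => ?_⟩⟩⟩
    · obtain ⟨n, hn, -⟩ := H.deg χ hχ
      exact ⟨n, by rw [dg, hn]; ring⟩
    · obtain ⟨θ', hθ', hne⟩ := exists_mem_ne h2 θ
      have h4 : classInner (θ'.1 - θ.1) θ.1 = conj a * classInner (θ'.1 - θ.1) fun _ => 1 := by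
        simp only [classInner_def, mul_sum]
        refine sum_congr rfl fun g _ => ?_
        by_cases hg : Off K g
        · simp [H.agree g hg θ' hθ' θ hθ]
        · obtain ⟨k, hk, h1, h2⟩ := exists_of_not_off hg
          rw [h2 θ, ha k hk h1, map_one]
          ring
      have h5 : ∀ χ ∈ Y, classInner χ.1 (fun _ => 1) = 0 := fun χ hχ =>
        χ.2.classInner_one fun h => H.one_not_mem (by rwa [show irrOne G = χ from Subtype.ext h.symm])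
      rw [classInner_sub_left, classInner_sub_left, h5 θ hθ, h5 θ' hθ', θ.2.classInner_self,
        θ'.2.classInner_eq_zero θ.2 fun h => hne (Subtype.ext h)] at h4
      simp at h4
    · obtain ⟨θ, hθ⟩ := card_pos.1 (show 0 < Y.card by omega)
      rw [H.rel g hg θ hθ, h0 θ hθ, mul_zero]
    · have h4 := H.norm
      have h5 : 1 ≤ α ^ 2 + (α - ε) ^ 2 := by
        rcases H.sign with rfl | rfl <;> rcases le_or_gt α 0 with h | h <;> nlinarith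
      nlinarith [sq_nonneg α]
    · have h6 := H.norm
      have h7 : (3 : ℤ) ≤ Y.card := by exact_mod_cast h4
      have h8 : α = 0 := by
        by_contra h8
        have : 0 < α ^ 2 := by positivity
        nlinarith [sq_nonneg (α - ε)]
      rw [H.rel g hg θ hθ, h8]
      simp

namespace Tor

variable {K K' : Subgroup G} {e e' : ℕ} {c c' : IrrCharacter G → ℤ}
  {Y Y' : Finset (IrrCharacter G)}

theorem of_const (H : Tor K e c Y) {k : G} (hk : k ∈ K) (h1 : k ≠ 1) {χ : IrrCharacter G} {a : ℤ}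
    (h : ∀ k ∈ K, k ≠ 1 → (χ : G → ℂ) k = a) : χ ∉ Y ∧ c χ = a := by
  have h2 : χ ∉ Y := fun hχ => H.nonconst χ hχ a h
  exact ⟨h2, by exact_mod_cast (H.const χ h2 k hk h1).symm.trans (h k hk h1)⟩

theorem one_not_mem (H : Tor K e c Y) : irrOne G ∉ Y := fun h => by
  have := H.c_Y _ h
  rw [H.c_one] at this
  exact one_ne_zero this

theorem not_mem (H : Tor K e c Y) (H' : Tor K' e' c' Y') (h : ∀ k ∈ K', Off K k) (h2 : 2 ≤ Y.card)
    {θ : IrrCharacter G} (hθ : θ ∈ Y) : θ ∉ Y' := by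
  intro hθ'
  obtain ⟨θ₂, h3, hne⟩ := exists_mem_ne h2 θ
  have h4 : θ₂ ∈ Y' := by
    by_contra h4
    exact H'.nonconst θ hθ' (c' θ₂) fun k hk h1 =>
      (H.agree k (h k hk) θ hθ θ₂ h3).trans (H'.const θ₂ h4 k hk h1)
  refine hne (Subtype.ext (funext fun g => ?_))
  by_cases hg : Off K' g
  · exact H'.agree g hg θ₂ h4 θ hθ'
  · obtain ⟨k, hk, -, h5⟩ := exists_of_not_off hg
    rw [h5, h5]
    exact H.agree k (h k hk) θ₂ h3 θ hθ

theorem c_eq (H : Tor K e c Y) (H' : Tor K' e' c' Y') (h : ∀ k ∈ K', Off K k) {k : G} (hk : k ∈ K')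
    (h1 : k ≠ 1) {θ θ₂ : IrrCharacter G} (hθ : θ ∈ Y) (hθ' : θ ∉ Y') (hθ₂ : θ₂ ∈ Y) :
    c' θ₂ = c' θ :=
  (H'.of_const hk h1 fun k hk h1 =>
    (H.agree k (h k hk) θ₂ hθ₂ θ hθ).trans (H'.const θ hθ' k hk h1)).2

end Tor

section sums

variable {ι : Type*} [Fintype ι]

theorem sum_subset_le {f : ι → ℤ} (hf : ∀ i, 0 ≤ f i) (s : Finset ι) : ∑ i ∈ s, f i ≤ ∑ i, f i :=
  sum_le_sum_of_subset_of_nonneg (subset_univ s) fun i _ _ => hf i

theorem three_le_sum {f : ι → ℤ} (hf : ∀ i, 0 ≤ f i) {a b i : ι} (hab : a ≠ b) (ha : i ≠ a)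
    (hb : i ≠ b) : f i + f a + f b ≤ ∑ i, f i := by
  classical
  have := sum_subset_le hf {i, a, b}
  rwa [sum_insert (by simp [ha, hb]), sum_pair hab, ← add_assoc] at this

theorem two_add_le_sum {f : ι → ℤ} (hf : ∀ i, 0 ≤ f i) {a b : ι} (hab : a ≠ b) {s : Finset ι}
    (ha : a ∉ s) (hb : b ∉ s) : f a + f b + ∑ i ∈ s, f i ≤ ∑ i, f i := by
  classical
  have := sum_subset_le hf (insert a (insert b s))
  rwa [sum_insert (by simp [ha, hab]), sum_insert hb, ← add_assoc] at this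

end sums

theorem deg_arith {x c d : ℤ} (hx : 2 ≤ x) (hc : c ^ 2 ≤ 1) (hd : 0 < d)
    (h0 : 2 * x ^ 2 - 1 ∣ d) (h1 : 2 * x ^ 2 + 2 * x + 1 ∣ d - c) (h2 : 2 * x ^ 2 - 2 * x + 1 ∣ d + c)
    (hle : d ^ 2 ≤ (2 * x ^ 2) ^ 2 * ((2 * x ^ 2) ^ 2 + 1) * (2 * x ^ 2 - 1)) :
    c = 1 ∧ d = x * (2 * x ^ 2 - 1) := by
  have e0 : 2 * x ^ 2 - 1 ∣ d - c * (x * (2 * x ^ 2 - 1)) := dvd_sub h0 ⟨c * x, by ring⟩
  have e1 : 2 * x ^ 2 + 2 * x + 1 ∣ d - c * (x * (2 * x ^ 2 - 1)) := by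
    rw [show d - c * (x * (2 * x ^ 2 - 1)) = d - c - (2 * x ^ 2 + 2 * x + 1) * (c * (x - 1)) by ring]
    exact dvd_sub h1 (Dvd.intro _ rfl)
  have e2 : 2 * x ^ 2 - 2 * x + 1 ∣ d - c * (x * (2 * x ^ 2 - 1)) := by
    rw [show d - c * (x * (2 * x ^ 2 - 1)) = d + c - (2 * x ^ 2 - 2 * x + 1) * (c * (x + 1)) by ring]
    exact dvd_sub h2 (Dvd.intro _ rfl)
  have c1 : IsCoprime (2 * x ^ 2 + 2 * x + 1) (2 * x ^ 2 - 2 * x + 1) :=
    ⟨1 - (x ^ 2 + x) * (1 - x), -(x ^ 2 + x) * (1 + x), by ring⟩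
  have c2 : IsCoprime (2 * x ^ 2 - 1) ((2 * x ^ 2 + 2 * x + 1) * (2 * x ^ 2 - 2 * x + 1)) :=
    ⟨-(x ^ 2 * (2 * x ^ 2 + 1) + 1), x ^ 2, by ring⟩
  have e3 := c2.mul_dvd e0 (c1.mul_dvd e1 e2)
  have hc' : c = -1 ∨ c = 0 ∨ c = 1 := by
    have : -1 ≤ c ∧ c ≤ 1 := by constructor <;> nlinarith
    omega
  set q := 2 * x ^ 2 with hq
  have hq8 : 4 * x ≤ q := by nlinarith
  have h3 : d < (q - 1) * (q ^ 2 + 1 - x) := by
    have h4 : q ^ 2 + 1 ≤ 2 * (q ^ 2 + 1 - x) := by nlinarith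
    have h5 : 0 < q ^ 2 + 1 - x := by nlinarith
    refine lt_of_pow_lt_pow_left₀ 2 (by nlinarith) (hle.trans_lt ?_)
    have h6 : q ^ 2 * (q ^ 2 + 1) * 4 < 7 * (q ^ 2 + 1) ^ 2 := by nlinarith
    have h7 : (q ^ 2 + 1) ^ 2 ≤ (2 * (q ^ 2 + 1 - x)) ^ 2 := by gcongr
    have h8 : q ^ 2 * (q ^ 2 + 1) < (q - 1) * (q ^ 2 + 1 - x) ^ 2 := by nlinarith
    nlinarith
  have h9 : (q + 2 * x + 1) * (q - 2 * x + 1) = q ^ 2 + 1 := by rw [hq]; ring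
  rw [h9] at e3
  have h10 : 0 < x * (q - 1) := by nlinarith
  have h11 := Int.eq_zero_of_abs_lt_dvd e3 (by
    rw [abs_lt]
    rcases hc' with rfl | rfl | rfl <;> constructor <;> nlinarith)
  rcases hc' with rfl | rfl | rfl
  · omega
  · omega
  · exact ⟨rfl, by omega⟩

end Cfsg.Agent.Chev.Sz
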