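import Mathlib
import Cfsg.Agent.Chev.SzCharTor
import Cfsg.Agent.Chev.SzPart
import Cfsg.Agent.Chev.SzLie
import Cfsg.Agent.Ch.Integrality
import Cfsg.Agent.S0157
import Cfsg.Prelude.Def_DegreeGraph

/-!
# The irreducible character degrees of the Suzuki groups
-/

set_option autoImplicit false

namespace Cfsg.Agent.Chev.Sz

open Finset Cfsg.Agent.Ch Cfsg.Agent.Inv.Exc

section abstract

variable {G : Type*} [Group G] [Fintype G] {K₀ K₁ K₂ : Subgroup G}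
  {c₀ c₁ c₂ : IrrCharacter G → ℤ} {Y₀ Y₁ Y₂ : Finset (IrrCharacter G)}

omit [Fintype G] in
theorem exists_mem_ne_one {K : Subgroup G} [Finite K] (h : 1 < Nat.card K) : ∃ k ∈ K, k ≠ 1 := by
  rw [Subgroup.one_lt_card_iff_ne_bot, Subgroup.ne_bot_iff_exists_ne_one] at h
  obtain ⟨⟨k, hk⟩, h1⟩ := h
  exact ⟨k, hk, fun h => h1 (Subtype.ext h)⟩

omit [Fintype G] in
theorem sum_dg [Fintype (IrrCharacter G)] (c : IrrCharacter G → ℤ) :
    ∑ χ, (c χ : ℂ) * (χ : G → ℂ) 1 = (∑ χ, c χ * dg χ : ℤ) := by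
  simp [coe_dg]

theorem eq_zero_of_sq_le {a : ℤ} (h : a ^ 2 ≤ 0) : a = 0 := by nlinarith

theorem sq_le_one_of_le {a : ℤ} (h : a ^ 2 ≤ 3) : a ^ 2 ≤ 1 := by
  have h4 : -2 < a ∧ a < 2 := by constructor <;> nlinarith
  nlinarith

theorem sq_add_mul_nonneg {a b : ℤ} (h : b ^ 2 ≤ 1) : 0 ≤ a ^ 2 + a * b := by
  have h4 : -1 ≤ b ∧ b ≤ 1 := by constructor <;> nlinarith
  rcases lt_trichotomy a 0 with h | h | h
  · nlinarith
  · simp [h]
  · nlinarith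

theorem eq_of_mul_le_three {a b : ℤ} (ha : 3 ≤ a) (hb : 0 < b) (h : a * b ≤ 3) :
    a = 3 ∧ b = 1 := by
  have : b = 1 := by nlinarith
  subst this
  omega

set_option maxHeartbeats 1000000 in
theorem degrees_abstract {x : ℤ} (hx : 2 ≤ x)
    (hG : (Nat.card G : ℤ) = (2 * x ^ 2) ^ 2 * ((2 * x ^ 2) ^ 2 + 1) * (2 * x ^ 2 - 1))
    (h3 : ¬ 3 ∣ Nat.card G) (H₀ : Tor K₀ 2 c₀ Y₀) (H₁ : Tor K₁ 4 c₁ Y₁) (H₂ : Tor K₂ 4 c₂ Y₂)
    (n₀ : (Nat.card K₀ : ℤ) = 2 * x ^ 2 - 1) (n₁ : (Nat.card K₁ : ℤ) = 2 * x ^ 2 + 2 * x + 1)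
    (n₂ : (Nat.card K₂ : ℤ) = 2 * x ^ 2 - 2 * x + 1) (o₀₁ : ∀ k ∈ K₁, Off K₀ k)
    (o₀₂ : ∀ k ∈ K₂, Off K₀ k) (o₁₂ : ∀ k ∈ K₂, Off K₁ k) (o₂₁ : ∀ k ∈ K₁, Off K₂ k)
    (St : IrrCharacter G) (s : dg St = (2 * x ^ 2) ^ 2)
    (s₀ : ∀ k ∈ K₀, k ≠ 1 → (St : G → ℂ) k = (1 : ℤ))
    (s₁ : ∀ k ∈ K₁, k ≠ 1 → (St : G → ℂ) k = (-1 : ℤ))
    (s₂ : ∀ k ∈ K₂, k ≠ 1 → (St : G → ℂ) k = (-1 : ℤ)) :
    (∀ χ : IrrCharacter G, χ = irrOne G ∨ dg χ = (2 * x ^ 2) ^ 2 ∨ dg χ = (2 * x ^ 2) ^ 2 + 1 ∨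
      dg χ = x * (2 * x ^ 2 - 1) ∨ dg χ = (2 * x ^ 2 - 1) * (2 * x ^ 2 - 2 * x + 1) ∨
      dg χ = (2 * x ^ 2 - 1) * (2 * x ^ 2 + 2 * x + 1)) ∧
    (∃ χ : IrrCharacter G, dg χ = (2 * x ^ 2) ^ 2 + 1) ∧
    (∃ χ : IrrCharacter G, dg χ = x * (2 * x ^ 2 - 1)) ∧
    (∃ χ : IrrCharacter G, dg χ = (2 * x ^ 2 - 1) * (2 * x ^ 2 - 2 * x + 1)) ∧
    (∃ χ : IrrCharacter G, dg χ = (2 * x ^ 2 - 1) * (2 * x ^ 2 + 2 * x + 1)) := by
  classical
  have hx2 : 2 * x ≤ x ^ 2 := by nlinarith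
  have hx3 : x ≠ 2 → 3 * x ≤ x ^ 2 := fun h => by
    have : 3 ≤ x := by omega
    nlinarith
  obtain ⟨k₀, hk₀, h₀⟩ := exists_mem_ne_one (K := K₀) (by zify; linarith)
  obtain ⟨k₁, hk₁, h₁⟩ := exists_mem_ne_one (K := K₁) (by zify; linarith)
  obtain ⟨k₂, hk₂, h₂⟩ := exists_mem_ne_one (K := K₂) (by zify; linarith)
  obtain ⟨t₀, u₀⟩ := H₀.of_const hk₀ h₀ s₀
  obtain ⟨t₁, u₁⟩ := H₁.of_const hk₁ h₁ s₁
  obtain ⟨t₂, u₂⟩ := H₂.of_const hk₂ h₂ s₂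
  have v₀ := H₀.c_one
  have v₁ := H₁.c_one
  have v₂ := H₂.c_one
  have hne : irrOne G ≠ St := fun h => by rw [← h, v₁] at u₁; omega
  have hsgn : ∀ {ε a : ℤ} {θ : IrrCharacter G}, (ε = 1 ∨ ε = -1) → 0 < a →
      (a = ε * dg θ ∨ -a = ε * dg θ) → dg θ = a := by
    intro ε a θ hε ha h
    have := dg_pos θ
    rcases hε with rfl | rfl <;> omega
  -- the split torus
  obtain ⟨a1, a2, a3, a4⟩ := H₀.norm.resolve_left fun h => by
    have := h.2.2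
    zify at this
    linarith
  have a5 : 3 ≤ Y₀.card := by
    zify at a1 ⊢
    linarith
  have a6 : ∀ χ, χ ≠ irrOne G → χ ≠ St → c₀ χ = 0 := fun χ h1 h2 => by
    have := three_le_sum (f := fun χ => c₀ χ ^ 2) (fun _ => sq_nonneg _) hne h1 h2
    simp only [u₀, v₀] at this
    exact eq_zero_of_sq_le (by push_cast at a3; linarith)
  obtain ⟨ε₀, hε₀, a7⟩ := a4 a5 (by
    rw [Fintype.sum_eq_add _ _ hne fun χ h => by rw [a6 χ h.1 h.2]; rfl, u₀, v₀]; rfl)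
  have a8 : ∀ g, Off K₀ g → ∀ θ ∈ Y₀, 1 + (St : G → ℂ) g = ε₀ * (θ : G → ℂ) g := fun g hg θ hθ => by
    rw [← a7 g hg θ hθ, Fintype.sum_eq_add _ _ hne fun χ h => by simp [a6 χ h.1 h.2], u₀, v₀]
    simp
  have hX : ∀ θ ∈ Y₀, dg θ = (2 * x ^ 2) ^ 2 + 1 := fun θ hθ => by
    have := a8 1 (off_one _) θ hθ
    rw [← coe_dg, ← coe_dg, s] at this
    exact hsgn hε₀ (by positivity) (Or.inl (by rw [add_comm]; exact_mod_cast this))
  have hd₀ : ∀ χ, χ ≠ irrOne G → χ ≠ St → χ ∉ Y₀ → 2 * x ^ 2 - 1 ∣ dg χ := fun χ h1 h2 h => by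
    have := H₀.deg χ h
    rwa [a6 χ h1 h2, sub_zero, n₀] at this
  have hX0 : ∀ {g}, Off K₀ g → (St : G → ℂ) g = (-1 : ℤ) → ∀ θ ∈ Y₀, (θ : G → ℂ) g = (0 : ℤ) := by
    intro g hg h θ hθ
    have := a8 g hg θ hθ
    rcases hε₀ with rfl | rfl <;> simpa [h] using this.symm
  have hX₁ : ∀ θ ∈ Y₀, θ ∉ Y₁ ∧ c₁ θ = 0 := fun θ hθ =>
    H₁.of_const hk₁ h₁ fun k hk h => hX0 (o₀₁ k hk) (s₁ k hk h) θ hθ
  have hX₂ : ∀ θ ∈ Y₀, θ ∉ Y₂ ∧ c₂ θ = 0 := fun θ hθ =>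
    H₂.of_const hk₂ h₂ fun k hk h => hX0 (o₀₂ k hk) (s₂ k hk h) θ hθ
  -- the non-split tori
  obtain ⟨b1, b2, b3, b4⟩ := H₁.norm.resolve_left fun h => by
    have := h.2.2
    zify at this
    linarith
  have b5 : 3 ≤ Y₁.card := by
    zify at b1 ⊢
    linarith
  have d1 : ∑ χ, c₂ χ ^ 2 ≤ 5 := by
    rcases H₂.norm with h | h
    · exact h.2.1.le
    · exact h.2.2.1.trans (by norm_num)
  have d2 : ∀ θ ∈ Y₁, θ ∉ Y₂ := fun θ hθ => H₁.not_mem H₂ o₁₂ b2 hθ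
  have d3 : ∀ θ ∈ Y₁, c₂ θ = 0 := by
    intro θ hθ
    by_contra h
    have e1 : ∀ θ' ∈ Y₁, c₂ θ' = c₂ θ := fun θ' hθ' => H₁.c_eq H₂ o₁₂ hk₂ h₂ hθ (d2 θ hθ) hθ'
    have e2 : 0 < c₂ θ ^ 2 := by positivity
    have e3 := two_add_le_sum (f := fun χ => c₂ χ ^ 2) (fun _ => sq_nonneg _) hne H₁.one_not_mem t₁
    have e4 : ∑ χ ∈ Y₁, c₂ χ ^ 2 = Y₁.card * c₂ θ ^ 2 := by
      rw [sum_congr rfl fun χ hχ => by rw [e1 χ hχ], sum_const, nsmul_eq_mul]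
    simp only [u₂, v₂, e4] at e3
    obtain ⟨e5, e10⟩ := eq_of_mul_le_three (a := Y₁.card) (by exact_mod_cast b5) e2 (by linarith)
    have e6 : x = 2 := by_contra fun h => by zify at b1; linarith [hx3 h]
    obtain ⟨e7, e8, -⟩ := H₂.norm.resolve_right fun h => by
      obtain ⟨h1, h2, -⟩ := h
      zify at h1 h2
      rw [n₂, e6] at h1
      omega
    have e9 := H₂.rel 1 (off_one _) (by simp [e7])
    rw [sum_dg, Int.cast_eq_zero, ← sum_subset (subset_univ (insert (irrOne G) (insert St Y₁))),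
      sum_insert (by simp [hne, H₁.one_not_mem]), sum_insert t₁, u₂, v₂, s, dg_one,
      sum_congr rfl (g := fun _ => c₂ θ * dg θ), sum_const, nsmul_eq_mul, e5, e6] at e9
    · have e11 : (3 : ℤ) ∣ dg θ := ⟨7 * c₂ θ, by
        have : c₂ θ * dg θ = 21 := by linarith
        linear_combination c₂ θ * this - dg θ * e10⟩
      exact h3 ((Int.natCast_dvd_natCast.1 e11).trans θ.2.charDegree_dvd_card)
    · intro χ hχ
      have := H₁.agree 1 (off_one _) χ hχ θ hθ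
      rw [← coe_dg, ← coe_dg, Int.cast_inj] at this
      rw [e1 χ hχ, this]
    · intro χ _ hχ
      have := sum_subset_le (f := fun χ => c₂ χ ^ 2) (fun _ => sq_nonneg _)
        (insert χ (insert (irrOne G) (insert St Y₁)))
      rw [sum_insert hχ, sum_insert (by simp [hne, H₁.one_not_mem]), sum_insert t₁, u₂, v₂, e4,
        e5, e10] at this
      rw [eq_zero_of_sq_le (a := c₂ χ) (by linarith), zero_mul]
  have d4 : Y₂.card ≠ 2 := fun h => by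
    obtain ⟨h1, -⟩ := H₂.norm.resolve_left fun h' => by simp [h'.1] at h
    rw [h] at h1
    zify at h1
    rw [n₂] at h1
    have : x ≤ 3 := by
      by_contra h
      linarith [hx3 (by omega)]
    interval_cases x <;> omega
  have d5 : ∀ θ ∈ Y₂, c₁ θ = 0 := by
    intro θ hθ
    by_contra h
    have e1 : ∀ θ' ∈ Y₂, c₁ θ' = c₁ θ := fun θ' hθ' =>
      H₂.c_eq H₁ o₂₁ hk₁ h₁ hθ (fun h => d2 θ h hθ) hθ'
    have e2 : 0 < c₁ θ ^ 2 := by positivity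
    have e3 := two_add_le_sum (f := fun χ => c₁ χ ^ 2) (fun _ => sq_nonneg _) hne H₂.one_not_mem t₂
    rw [sum_congr rfl fun χ hχ => by rw [e1 χ hχ], sum_const, nsmul_eq_mul] at e3
    simp only [u₁, v₁] at e3
    obtain ⟨-, e4, -⟩ := H₂.norm.resolve_left fun h' => by simp [h'.1] at hθ
    have e5 : (3 : ℤ) ≤ Y₂.card := by exact_mod_cast (by omega : 3 ≤ Y₂.card)
    push_cast at b3
    have := (eq_of_mul_le_three e5 e2 (by linarith))
    rw [this.1, this.2] at e3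
    linarith
  have d6 : ∑ χ, c₁ χ * c₂ χ = 0 := by
    have := H₁.rel k₂ (o₁₂ _ hk₂) fun θ hθ => by
      rw [H₂.const θ (d2 θ hθ) k₂ hk₂ h₂, d3 θ hθ, Int.cast_zero]
    rw [sum_congr rfl (g := fun χ => ((c₁ χ * c₂ χ : ℤ) : ℂ))] at this
    · exact_mod_cast this
    · intro χ _
      by_cases hχ : χ ∈ Y₂
      · simp [d5 χ hχ]
      · rw [H₂.const χ hχ k₂ hk₂ h₂, Int.cast_mul]
  have d7 : ∀ χ, c₂ χ ^ 2 ≤ 1 := fun χ => by
    by_cases h1 : χ = irrOne G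
    · simp [h1, v₂]
    by_cases h2 : χ = St
    · simp [h2, u₂]
    have := three_le_sum (f := fun χ => c₂ χ ^ 2) (fun _ => sq_nonneg _) hne h1 h2
    simp only [u₂, v₂] at this
    exact sq_le_one_of_le (by linarith)
  have d8 : ∀ χ, 0 ≤ c₁ χ ^ 2 + c₁ χ * c₂ χ := fun χ => sq_add_mul_nonneg (d7 χ)
  have d9 : ∑ χ, (c₁ χ ^ 2 + c₁ χ * c₂ χ) = ∑ χ, c₁ χ ^ 2 := by rw [sum_add_distrib, d6, add_zero]
  have d10 : ∀ χ, χ ≠ irrOne G → χ ≠ St → c₁ χ = 0 ∨ c₂ χ = -c₁ χ := fun χ h1 h2 => by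
    have := three_le_sum d8 hne h1 h2
    simp only [u₁, u₂, v₁, v₂, d9] at this
    have h4 : c₁ χ * (c₁ χ + c₂ χ) = 0 := by push_cast at b3; linarith [d8 χ]
    exact (mul_eq_zero.1 h4).imp id fun h => by omega
  have d11 : ∑ χ, c₁ χ ^ 2 = 4 := by
    have := two_add_le_sum d8 hne (notMem_empty _) (notMem_empty _)
    simp only [u₁, u₂, v₁, v₂, d9, sum_empty] at this
    push_cast at b3
    omega
  have hW : ∀ χ, χ ≠ irrOne G → χ ≠ St → c₁ χ ≠ 0 →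
      c₁ χ = 1 ∧ dg χ = x * (2 * x ^ 2 - 1) := fun χ h1 h2 h => by
    have e1 := (d10 χ h1 h2).resolve_left h
    have e2 := H₁.deg χ fun h' => h (H₁.c_Y χ h')
    have e3 := H₂.deg χ fun h' => h (d5 χ h')
    rw [e1, sub_neg_eq_add, n₂] at e3
    exact deg_arith hx (by simpa [e1] using d7 χ) (dg_pos χ)
      (hd₀ χ h1 h2 fun h' => h (hX₁ χ h').2) (n₁ ▸ e2) e3 (hG ▸ dg_sq_le χ)
  have d12 : ∑ χ, c₁ χ * dg χ = -((2 * x ^ 2 - 1) * (2 * x ^ 2 - 2 * x + 1)) := by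
    have := Fintype.sum_eq_add (f := fun χ => c₁ χ * dg χ - c₁ χ ^ 2 * (x * (2 * x ^ 2 - 1))) _ _ hne
      fun χ h => by
        by_cases h0 : c₁ χ = 0
        · simp [h0]
        · simp [hW χ h.1 h.2 h0]
    rw [sum_sub_distrib, ← sum_mul, d11, u₁, v₁, s, dg_one] at this
    linear_combination this
  have hpos₁ : 0 < (2 * x ^ 2 - 1) * (2 * x ^ 2 - 2 * x + 1) := mul_pos (by linarith) (by linarith)
  have hpos₂ : 0 < (2 * x ^ 2 - 1) * (2 * x ^ 2 + 2 * x + 1) := mul_pos (by linarith) (by linarith)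
  have hY₁ : ∀ θ ∈ Y₁, dg θ = (2 * x ^ 2 - 1) * (2 * x ^ 2 - 2 * x + 1) := fun θ hθ => by
    obtain ⟨ε, hε, h⟩ := b4 b5 d11
    have := h 1 (off_one _) θ hθ
    rw [sum_dg, d12, ← coe_dg] at this
    exact hsgn hε hpos₁ (Or.inr (by exact_mod_cast this))
  have d13 : ∀ χ, 0 ≤ c₂ χ ^ 2 - c₁ χ ^ 2 := fun χ => by
    by_cases h1 : χ = irrOne G
    · simp [h1, v₁, v₂]
    by_cases h2 : χ = St
    · simp [h2, u₁, u₂]
    rcases d10 χ h1 h2 with h | h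
    · simp [h, sq_nonneg]
    · simp [h]
  have d14 : ∑ χ, (c₂ χ ^ 2 - c₁ χ ^ 2) = ∑ χ, c₂ χ ^ 2 - 4 := by rw [sum_sub_distrib, d11]
  have d15 : Y₂ ≠ ∅ → ∀ χ, c₂ χ ^ 2 - c₁ χ ^ 2 = 0 := fun h χ => by
    obtain ⟨-, -, e1, -⟩ := H₂.norm.resolve_left fun h' => h h'.1
    have := single_le_sum (fun χ _ => d13 χ) (mem_univ χ)
    push_cast at e1
    linarith [d13 χ]
  have hY₂ : ∀ θ ∈ Y₂, dg θ = (2 * x ^ 2 - 1) * (2 * x ^ 2 + 2 * x + 1) := fun θ hθ => by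
    have e0 := d15 (ne_empty_of_mem hθ)
    obtain ⟨-, e1, -, e2⟩ := H₂.norm.resolve_left fun h' => by simp [h'.1] at hθ
    obtain ⟨ε, hε, h⟩ := e2 (by omega) (by
      rw [sum_eq_zero fun χ _ => e0 χ] at d14
      push_cast
      omega)
    have e3 := Fintype.sum_eq_add (f := fun χ => c₂ χ * dg χ + c₁ χ ^ 2 * (x * (2 * x ^ 2 - 1)))
      _ _ hne fun χ h => by
        by_cases h0 : c₁ χ = 0
        · have := e0 χ
          simp [h0] at this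
          simp [h0, this]
        · simp [hW χ h.1 h.2 h0, (d10 χ h.1 h.2).resolve_left h0]
    rw [sum_add_distrib, ← sum_mul, d11, u₁, v₁, u₂, v₂, s, dg_one] at e3
    have := h 1 (off_one _) θ hθ
    rw [sum_dg, ← coe_dg] at this
    exact hsgn hε hpos₂ (Or.inr (by
      have h4 : ∑ χ, c₂ χ * dg χ = ε * dg θ := by exact_mod_cast this
      linear_combination h4 - e3))
  have hZ : ∀ χ, c₂ χ ^ 2 - c₁ χ ^ 2 ≠ 0 →
      dg χ = (2 * x ^ 2 - 1) * (2 * x ^ 2 + 2 * x + 1) := fun χ h => by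
    have h1 : χ ≠ irrOne G := fun h1 => h (by simp [h1, v₁, v₂])
    have h2 : χ ≠ St := fun h2 => h (by simp [h2, u₁, u₂])
    have e1 : c₁ χ = 0 := (d10 χ h1 h2).resolve_right fun h' => h (by simp [h'])
    have e2 : c₂ χ ≠ 0 := fun h' => h (by simp [h', e1])
    obtain ⟨-, -, e3⟩ := H₂.norm.resolve_right fun h' => h (d15 (by rintro rfl; simp at h') χ)
    have e4 : x = 2 := by_contra fun h => by zify at e3; linarith [hx3 h]
    have e5 := H₁.deg χ fun h' => e2 (d3 χ h')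
    have e6 := hd₀ χ h1 h2 fun h' => e2 (hX₂ χ h').2
    have e7 := dg_sq_le χ
    have e8 := dg_pos χ
    rw [e1, n₁] at e5
    rw [hG] at e7
    subst e4
    have e9 : dg χ < 182 := lt_of_pow_lt_pow_left₀ 2 (by norm_num) (e7.trans_lt (by norm_num))
    omega
  refine ⟨fun χ => ?_, ?_, ?_, ?_, ?_⟩
  · by_contra hc
    push Not at hc
    obtain ⟨h1, h2, h4, h5, h6, h7⟩ := hc
    have h8 : χ ≠ St := fun h => h2 (h ▸ s)
    have e1 : c₁ χ = 0 := by_contra fun h => h5 (hW χ h1 h8 h).2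
    have e2 : c₂ χ = 0 := by_contra fun h => h7 (hZ χ (by simpa [e1] using h))
    have e3 := H₁.deg χ fun h => h6 (hY₁ χ h)
    have e4 := H₂.deg χ fun h => h7 (hY₂ χ h)
    rw [e1, n₁] at e3
    rw [e2, n₂, sub_zero, ← add_zero (dg χ)] at e4
    exact zero_ne_one (deg_arith hx (by simp) (dg_pos χ) (hd₀ χ h1 h8 fun h => h4 (hX χ h)) e3 e4
      (hG ▸ dg_sq_le χ)).1
  · obtain ⟨θ, hθ⟩ := card_pos.1 (show 0 < Y₀.card by omega)
    exact ⟨θ, hX θ hθ⟩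
  · by_contra hc
    push Not at hc
    rw [Fintype.sum_eq_add _ _ hne fun χ h => by
      rw [show c₁ χ = 0 from by_contra fun h0 => hc χ (hW χ h.1 h.2 h0).2]; rfl, u₁, v₁] at d11
    omega
  · obtain ⟨θ, hθ⟩ := card_pos.1 (show 0 < Y₁.card by omega)
    exact ⟨θ, hY₁ θ hθ⟩
  · rcases H₂.norm with h | h
    · obtain ⟨χ, -, hχ⟩ := exists_ne_zero_of_sum_ne_zero (d14.trans_ne (by rw [h.2.1]; simp))
      exact ⟨χ, hZ χ hχ⟩
    · obtain ⟨θ, hθ⟩ := card_pos.1 (show 0 < Y₂.card by omega)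
      exact ⟨θ, hY₂ θ hθ⟩

end abstract

variable {F : Type*} [Field F] {m : ℕ} [SzF F m]

variable (F m) in
/-- The Steinberg character. -/
noncomputable def stChar : IrrCharacter (Cfsg.Sz F m) :=
  ⟨fun g => (Nat.card (MulAction.fixedBy (Ov F m) g) : ℂ) - 1,
    (Cfsg.Agent.S0157.result (Ov F m) (by
      rw [card_ov]; have := eight_le_card F; nlinarith)).2 inferInstance⟩

theorem stChar_apply (g : Cfsg.Sz F m) :
    (stChar F m : Cfsg.Sz F m → ℂ) g = (MulAction.fixedBy (Ov F m) g).ncard - 1 := rfl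

theorem dg_stChar : dg (stChar F m) = Nat.card F ^ 2 := by
  have := coe_dg (stChar F m)
  rw [stChar_apply, MulAction.fixedBy_one_eq_univ, Set.ncard_univ, card_ov, Nat.cast_succ,
    add_sub_cancel_right] at this
  exact_mod_cast this

theorem stChar_torH {g : Cfsg.Sz F m} (hg : g ∈ torH F m) (h1 : g ≠ 1) :
    (stChar F m : Cfsg.Sz F m → ℂ) g = (1 : ℤ) := by
  have : MulAction.fixedBy (Ov F m) g = {inf, pt 0 0} := Set.ext fun P =>
    ⟨fix_of_mem_torH hg h1, by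
      rintro (rfl | rfl)
      exacts [(mem_torH_iff_fix.1 hg).1, (mem_torH_iff_fix.1 hg).2]⟩
  rw [stChar_apply, this, Set.ncard_pair (inf_ne_pt _ _)]
  norm_num

theorem stChar_fpf {g : Cfsg.Sz F m} (hg : Fpf g) :
    (stChar F m : Cfsg.Sz F m → ℂ) g = (-1 : ℤ) := by
  have : MulAction.fixedBy (Ov F m) g = ∅ := Set.eq_empty_of_forall_notMem hg
  simp [stChar_apply, this]

variable (F m) in
/-- The set of irreducible character degrees of the Suzuki group. -/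
theorem charDegrees_Sz : charDegrees (Cfsg.Sz F m) =
    {1, Nat.card F ^ 2, Nat.card F ^ 2 + 1, 2 ^ m * (Nat.card F - 1),
      (Nat.card F - 1) * (Nat.card F - 2 ^ (m + 1) + 1),
      (Nat.card F - 1) * (Nat.card F + 2 ^ (m + 1) + 1)} := by
  have := Fintype.ofFinite (Cfsg.Sz F m)
  obtain ⟨g₁, g₂, f₁, f₂, n₁, n₂, N₁, N₂, -⟩ := exists_two_tori F m
  have h8 := eight_le_card F
  have hr := two_pow_lt_card (m := m) F
  obtain ⟨c₀, Y₀, H₀⟩ := exists_tor (K := torH F m) (e := 2) (fun k => centralizer_eq_torH)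
    (by rw [card_normalizer_torH, card_torH]) (by rw [card_torH]; omega)
  obtain ⟨c₁, Y₁, H₁⟩ := exists_tor (fun k => f₁.centralizer_eq) N₁ f₁.five_le_card
  obtain ⟨c₂, Y₂, H₂⟩ := exists_tor (fun k => f₂.centralizer_eq) N₂ f₂.five_le_card
  have hq : (Nat.card F : ℤ) = 2 * (2 ^ m) ^ 2 := by rw [card_F F]; push_cast; ring
  have hq1 : ((Nat.card F - 1 : ℕ) : ℤ) = 2 * (2 ^ m) ^ 2 - 1 := by
    rw [Nat.cast_sub (by omega), hq]; rfl
  have hq2 : ((Nat.card F - 2 ^ (m + 1) + 1 : ℕ) : ℤ) = 2 * (2 ^ m) ^ 2 - 2 * 2 ^ m + 1 := by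
    rw [Nat.cast_add, Nat.cast_sub hr.le, hq]; push_cast; ring
  have hq3 : ((Nat.card F + 2 ^ (m + 1) + 1 : ℕ) : ℤ) = 2 * (2 ^ m) ^ 2 + 2 * 2 ^ m + 1 := by
    rw [Nat.cast_add, Nat.cast_add, hq]; push_cast; ring
  have hoff : ∀ {g : Cfsg.Sz F m}, Fpf g → ∀ k ∈ Subgroup.centralizer {g}, Off (torH F m) k := by
    intro g hg k hk j hj h1 hc
    obtain ⟨x, rfl⟩ := isConj_iff.1 hc
    exact hg.of_mem_centralizer hk (by simpa using h1) (x • inf)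
      (by simp [mul_smul, (mem_torH_iff_fix.1 hj).1])
  obtain ⟨H, e1, e2, e3, e4⟩ := degrees_abstract (x := 2 ^ m)
    (le_self_pow₀ one_le_two (by have := one_le_m F; omega))
    (by rw [card_Sz, Nat.cast_mul, hq1]; push_cast; rw [hq]) (not_three_dvd_card_Sz F) H₀ H₁ H₂
    (by rw [card_torH, hq1]) (by rw [n₁, hq3]) (by rw [n₂, hq2]) (hoff f₁) (hoff f₂)
    (fun k hk => off_of_coprime (Nat.Coprime.coprime_dvd_left (Subgroup.orderOf_dvd_natCard _ hk)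
      (by rw [n₁, n₂]; exact (coprime_tori F).symm)))
    (fun k hk => off_of_coprime (Nat.Coprime.coprime_dvd_left (Subgroup.orderOf_dvd_natCard _ hk)
      (by rw [n₁, n₂]; exact coprime_tori F)))
    (stChar F m) (by rw [dg_stChar, hq]) (fun k => stChar_torH)
    (fun k hk h => stChar_fpf (f₁.of_mem_centralizer hk h))
    (fun k hk h => stChar_fpf (f₂.of_mem_centralizer hk h))
  rw [← hq1, ← hq2, ← hq3, ← hq] at H
  rw [← hq] at e1
  rw [← hq1] at e2 e3 e4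
  rw [← hq2] at e3
  rw [← hq3] at e4
  have e0 := dg_stChar (F := F) (m := m)
  simp only [dg] at H e0 e1 e2 e3 e4
  norm_cast at H e0 e1 e2 e3 e4
  ext d
  constructor
  · rintro ⟨χ, rfl⟩
    rcases H χ with rfl | h
    · exact Or.inl (charDegree_of_apply_one (n := 1) (by simp))
    · exact Or.inr h
  · rintro (rfl | rfl | rfl | rfl | rfl | rfl)
    exacts [⟨irrOne _, charDegree_of_apply_one (n := 1) (by simp)⟩, ⟨_, e0⟩, e1, e2, e3, e4]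

omit [SzF F m] in
theorem charDegrees_congr {G H : Type*} [Group G] [Group H] (e : G ≃* H) :
    charDegrees G = charDegrees H := by
  ext d
  constructor
  · rintro ⟨χ, rfl⟩
    exact ⟨⟨_, χ.2.comp_mulEquiv e.symm⟩, charDegree_congr (by simp)⟩
  · rintro ⟨χ, rfl⟩
    exact ⟨⟨_, χ.2.comp_mulEquiv e⟩, charDegree_congr (by simp)⟩

end Cfsg.Agent.Chev.Sz
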