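import Mathlib
import Cfsg.Agent.Chev.RootBNCent

/-!
Every element of a finite group with a split BN-pair is conjugate into the product of all minimal
parabolic subgroups (taken in any order): a trace computation in the zero-Hecke algebra.
-/

set_option autoImplicit false

namespace Cfsg.Agent.Chev

namespace RootBN

variable {Γ : Type*} [Group Γ] {Φ : Type*} {I : Type*} {R : RootBN Γ Φ I}

variable (R) in
/-- The product of the minimal parabolic subgroups along a word. -/
def PW : List I → Set Γ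
  | [] => R.B
  | i :: l => {g | ∃ p ∈ R.P {i}, ∃ y ∈ PW l, g = p * y}

theorem PW_le_G {l : List I} {g : Γ} (h : g ∈ R.PW l) : g ∈ R.G := by
  induction l generalizing g with
  | nil => exact B_le_G h
  | cons i l ih =>
    obtain ⟨p, hp, y, hy, rfl⟩ := h
    exact mul_mem (P_le_G _ hp) (ih hy)

theorem B_mul_mem_PW {l : List I} {b g : Γ} (hb : b ∈ R.B) (h : g ∈ R.PW l) : b * g ∈ R.PW l := by
  cases l with
  | nil => exact mul_mem hb h
  | cons i l =>
    obtain ⟨p, hp, y, hy, rfl⟩ := h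
    exact ⟨b * p, mul_mem (B_le_P _ hb) hp, y, hy, (mul_assoc _ _ _).symm⟩

theorem mul_B_mem_PW {l : List I} {b g : Γ} (h : g ∈ R.PW l) (hb : b ∈ R.B) : g * b ∈ R.PW l := by
  induction l generalizing g with
  | nil => exact mul_mem h hb
  | cons i l ih =>
    obtain ⟨p, hp, y, hy, rfl⟩ := h
    exact ⟨p, hp, _, ih hy, mul_assoc _ _ _⟩

theorem B_mul_mem_PW_iff {l : List I} {b g : Γ} (hb : b ∈ R.B) : b * g ∈ R.PW l ↔ g ∈ R.PW l :=
  ⟨fun h => by simpa using B_mul_mem_PW (inv_mem hb) h, B_mul_mem_PW hb⟩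

theorem mul_B_mem_PW_iff {l : List I} {b g : Γ} (hb : b ∈ R.B) : g * b ∈ R.PW l ↔ g ∈ R.PW l :=
  ⟨fun h => by simpa using mul_B_mem_PW h (inv_mem hb), fun h => mul_B_mem_PW h hb⟩

theorem one_mem_PW (l : List I) : (1 : Γ) ∈ R.PW l := by
  induction l with
  | nil => exact R.B.one_mem
  | cons i l ih => exact ⟨1, one_mem _, 1, ih, (mul_one _).symm⟩

theorem mem_PW_append {l l' : List I} {g : Γ} :
    g ∈ R.PW (l ++ l') ↔ ∃ a ∈ R.PW l, ∃ b ∈ R.PW l', g = a * b := by
  induction l generalizing g with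
  | nil =>
    exact ⟨fun h => ⟨1, R.B.one_mem, g, h, (one_mul _).symm⟩, by
      rintro ⟨a, ha, b, hb, rfl⟩; exact B_mul_mem_PW ha hb⟩
  | cons i l ih =>
    constructor
    · rintro ⟨p, hp, y, hy, rfl⟩
      obtain ⟨a, ha, b, hb, rfl⟩ := ih.1 hy
      exact ⟨p * a, ⟨p, hp, a, ha, rfl⟩, b, hb, (mul_assoc _ _ _).symm⟩
    · rintro ⟨_, ⟨p, hp, y, hy, rfl⟩, b, hb, rfl⟩
      exact ⟨p, hp, _, ih.2 ⟨y, hy, b, hb, rfl⟩, mul_assoc _ _ _⟩

theorem mem_PW_singleton {i : I} {g : Γ} : g ∈ R.PW [i] ↔ g ∈ R.P {i} :=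
  ⟨by rintro ⟨p, hp, y, hy, rfl⟩; exact mul_mem hp (B_le_P _ hy),
    fun h => ⟨g, h, 1, R.B.one_mem, (mul_one _).symm⟩⟩

theorem mem_PW_of_mem {l : List I} {i : I} (hi : i ∈ l) {g : Γ} (hg : g ∈ R.P {i}) : g ∈ R.PW l := by
  obtain ⟨a, b, rfl⟩ := List.append_of_mem hi
  exact mem_PW_append.2 ⟨1, one_mem_PW a, g, ⟨g, hg, 1, one_mem_PW b, (mul_one _).symm⟩,
    (one_mul _).symm⟩

theorem conj_s_inv_Up {i : I} {y : Γ} (hy : y ∈ R.Up (R.s i)) : (R.s i)⁻¹ * y * R.s i ∈ R.U := by
  have := conj_Up (inv_mem (R.s_mem i)) (Up_eq_of_w_eq (w_s_inv (R := R) i) ▸ hy)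
  rwa [inv_inv] at this

variable [Finite Φ]

theorem mem_P_singleton {i : I} {p : Γ} (hp : p ∈ R.P {i}) :
    p ∈ R.B ∨ ∃ x ∈ R.X (R.simple i), ∃ b ∈ R.B, p = x * R.s i * b := by
  obtain ⟨u, hu, n, hn, u', hu', rfl⟩ := bruhat_P hp
  have hN := NS_le_N _ hn
  by_cases hH : n ∈ R.H
  · exact Or.inl (mul_mem (mul_mem (U_le_B hu) (H_le_B hH)) (U_le_B hu'))
  have h1 := (inv_mul_mem_H_iff (R.s_mem i) hN).2 (w_eq_s_of_mem_P hN (NS_le_P _ hn) hH).symm
  obtain ⟨x, hx, y, hy, rfl⟩ := factor_simple i hu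
  refine Or.inr ⟨x, hx, (R.s i)⁻¹ * y * R.s i * ((R.s i)⁻¹ * n) * u',
    mul_mem (mul_mem (U_le_B (conj_s_inv_Up hy)) (H_le_B h1)) (U_le_B hu'), by group⟩

theorem w_eq_or_of_mem_P_mul {j : I} {p n b m : Γ} (hp : p ∈ R.P {j}) (hn : n ∈ R.N) (hb : b ∈ R.B)
    (hm : m ∈ R.N) (e : m = p * n * b) : R.w m = R.w n ∨ R.w m = R.w (R.s j * n) := by
  have hs := R.s_mem j
  rcases mem_P_singleton hp with hp | ⟨x, hx, c, hc, rfl⟩
  · exact Or.inl (w_eq_of_BNB (one_mem _) hp hm hn (one_mem _) hb (by simpa using e))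
  have hxB := U_le_B (X_le_U (R.pos_simple j) hx)
  rcases R.topSub.t_mul_mem j hn (N_le_G hn) hc (B_le_G hc) with ⟨c', hc', d, hd, e'⟩ | ⟨c', hc', d, hd, e'⟩
  · refine Or.inr (w_eq_of_BNB (one_mem _) (mul_mem hxB hc'.1) hm (mul_mem hs hn) (one_mem _)
      (mul_mem hd.1 hb) ?_)
    change R.s j * c * n = c' * (R.s j * n) * d at e'
    rw [e, mul_assoc x, mul_assoc x, e']; group
  · refine Or.inl (w_eq_of_BNB (one_mem _) (mul_mem hxB hc'.1) hm hn (one_mem _)
      (mul_mem hd.1 hb) ?_)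
    change R.s j * c * n = c' * n * d at e'
    rw [e, mul_assoc x, mul_assoc x, e']; group

omit [Finite Φ] in
theorem mem_PW_of_w_eq {l : List I} {n m : Γ} (hn : n ∈ R.N) (hm : m ∈ R.N) (h : R.w n = R.w m)
    (hl : n ∈ R.PW l) : m ∈ R.PW l := by
  simpa using mul_B_mem_PW hl (H_le_B ((inv_mul_mem_H_iff hn hm).2 h))

/-- Products of minimal parabolic subgroups are closed under descents. -/
theorem mem_PW_of_mul_s {l : List I} {i : I} {n : Γ} (hn : n ∈ R.N) (hp : R.pos (R.w n (R.simple i)))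
    (h : n * R.s i ∈ R.PW l) : n ∈ R.PW l := by
  have hs := R.s_mem i
  induction l generalizing n with
  | nil =>
    exfalso
    have h1 := mem_H_of_mem_B_N h (mul_mem hn hs)
    have h2 := w_H_apply h1 (R.neg (R.simple i))
    rw [w_mul_apply hn hs, w_s_neg_simple] at h2
    exact not_pos_neg_simple i (h2 ▸ hp)
  | cons j l ih =>
    obtain ⟨p, hp', y, hy, e⟩ := h
    have hj := R.s_mem j
    obtain ⟨u, hu, m, hm, u', hu', rfl⟩ := bruhat (PW_le_G hy)
    rw [mul_B_mem_PW_iff (U_le_B hu'), B_mul_mem_PW_iff (U_le_B hu)] at hy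
    rcases w_eq_or_of_mem_P_mul (mul_mem hp' (U_le_P _ hu)) hm (U_le_B hu') (mul_mem hn hs)
      (by rw [e]; group) with h1 | h1
    · exact ⟨1, one_mem _, n, ih hn hp (mem_PW_of_w_eq hm (mul_mem hn hs) h1.symm hy), (one_mul _).symm⟩
    have h2 : R.w m = R.w (R.s j * n * R.s i) := by
      rw [mul_assoc, R.w_mul hj (mul_mem hn hs), h1, ← R.w_mul hj (mul_mem hj hm), ← mul_assoc,
        w_H_mul hm (s_mul_s j)]
    have h3 := mem_PW_of_w_eq hm (mul_mem (mul_mem hj hn) hs) h2 hy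
    by_cases h4 : R.pos (R.w (R.s j * n) (R.simple i))
    · exact ⟨(R.s j)⁻¹, inv_mem (s_mem_P rfl), _, ih (mul_mem hj hn) h4 h3, by group⟩
    have h5 := R.topSub.w_mul_t_eq (i := i) (j := j) hn (N_le_G hn)
      (fun r hr => by
        have : r = R.simple i := by simpa [Inv_s] using (show r ∈ R.Inv (R.s i) from hr)
        rwa [this])
      (fun r hr => by
        have : r = R.simple i := by simpa [Inv_s] using (show r ∈ R.Inv (R.s i) from hr)
        rwa [this])
    change R.w n * R.w (R.s i) = R.w (R.s j) * R.w n at h5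
    refine ⟨1, one_mem _, n, mem_PW_of_w_eq (mul_mem (mul_mem hj hn) hs) hn ?_ h3, (one_mul _).symm⟩
    rw [R.w_mul (mul_mem hj hn) hs, R.w_mul hj hn, ← h5, mul_assoc, ← R.w_mul hs hs,
      R.w_H (s_mul_s i), mul_one]

theorem exists_min_rep (i : I) {g : Γ} (hg : g ∈ R.G) : ∃ u ∈ R.U, ∃ n ∈ R.N,
    R.pos (R.w n (R.simple i)) ∧ ∃ p ∈ R.P {i}, g = u * n * p := by
  obtain ⟨u, hu, n, hn, u', hu', rfl⟩ := bruhat hg
  have hs := R.s_mem i
  by_cases h : R.pos (R.w n (R.simple i))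
  · exact ⟨u, hu, n, hn, h, u', U_le_P _ hu', rfl⟩
  · refine ⟨u, hu, n * R.s i, mul_mem hn hs, ?_, (R.s i)⁻¹ * u',
      mul_mem (inv_mem (s_mem_P rfl)) (U_le_P _ hu'), by group⟩
    rwa [w_mul_apply hn hs, R.w_s_simple, R.w_neg hn, R.pos_neg]

theorem mem_PW_replicate {l : List I} (hl : ∀ i, i ∈ l) :
    ∃ k, ∀ g ∈ R.G, g ∈ R.PW (List.replicate k l).flatten := by
  have h1 : ∀ n ∈ R.N, n ∈ R.PW (List.replicate (R.len n) l).flatten := fun n hn => by
    refine simple_induction (P := fun n => n ∈ R.PW (List.replicate (R.len n) l).flatten)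
      (fun h hh => by simpa using B_mul_mem_PW (H_le_B hh) (one_mem_PW _)) (fun n hn i hi ih => ?_) hn
    rw [len_mul hn (R.s_mem i) (fun r hr => by
      rw [Inv_s_inv] at hr; rwa [show r = R.simple i from hr]), len_s, List.replicate_succ',
      List.flatten_concat]
    exact mem_PW_append.2 ⟨n, ih, _, mem_PW_of_mem (hl i) (s_mem_P rfl), rfl⟩
  obtain ⟨m, -, hm⟩ := exists_max_len (R := R) (N0 := R.N)
  refine ⟨R.len m, fun g hg => ?_⟩
  obtain ⟨u, hu, n, hn, u', hu', rfl⟩ := bruhat hg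
  rw [mul_B_mem_PW_iff (U_le_B hu'), B_mul_mem_PW_iff (U_le_B hu)]
  obtain ⟨d, hd⟩ := Nat.exists_eq_add_of_le (hm n hn)
  rw [hd, List.replicate_add, List.flatten_append]
  exact mem_PW_append.2 ⟨n, h1 n hn, 1, one_mem_PW _, (mul_one _).symm⟩

section matrices

variable (R) in
/-- The chambers. -/
abbrev Ch : Type _ := R.G ⧸ R.B.subgroupOf R.G

variable (p : ℕ)

open Classical in
/-- The twisted adjacency matrices. -/
noncomputable def TM (g : R.G) (l : List I) : Matrix R.Ch R.Ch (ZMod p) :=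
  Matrix.of fun c d => if ((c.out⁻¹ * g * d.out : R.G) : Γ) ∈ R.PW l then 1 else 0

omit [Finite Φ] in
theorem exists_out (a : R.G) : ∃ b ∈ R.B, (((a : R.Ch).out : R.G) : Γ) = a * b := by
  obtain ⟨b, hb⟩ := QuotientGroup.mk_out_eq_mul (R.B.subgroupOf R.G) a
  exact ⟨_, b.2, by rw [hb]; rfl⟩

open Classical in
omit [Finite Φ] in
theorem TM_mk (g a b : R.G) (l : List I) : TM p g l (a : R.Ch) (b : R.Ch) =
    if (a : Γ)⁻¹ * g * b ∈ R.PW l then 1 else 0 := by
  obtain ⟨c, hc, e⟩ := exists_out a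
  obtain ⟨d, hd, e'⟩ := exists_out b
  simp only [TM, Matrix.of_apply, Subgroup.coe_mul, Subgroup.coe_inv, e, e']
  rw [show ((a : Γ) * c)⁻¹ * g * (b * d) = c⁻¹ * ((a : Γ)⁻¹ * g * b * d) by group,
    B_mul_mem_PW_iff (inv_mem hc), mul_B_mem_PW_iff hd]

variable [Fintype R.Ch]

omit [Finite Φ] in
theorem TM_mul_nil (g g' : R.G) (l : List I) : TM p g l * TM p g' [] = TM p (g * g') l := by
  classical
  ext c d
  induction c using QuotientGroup.induction_on with | H a => ?_
  induction d using QuotientGroup.induction_on with | H b => ?_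
  rw [Matrix.mul_apply, Finset.sum_eq_single ((g' * b : R.G) : R.Ch)]
  · rw [TM_mk, TM_mk, TM_mk, if_pos (c := _ ∈ R.PW []) (by simpa using one_mem_PW []), mul_one]
    simp only [Subgroup.coe_mul, mul_assoc]
  · intro c _ hc
    induction c using QuotientGroup.induction_on with | H c => ?_
    rw [TM_mk p g', if_neg, mul_zero]
    exact fun h => hc (QuotientGroup.eq.2 (by simpa [Subgroup.mem_subgroupOf, mul_assoc, PW] using h))
  · simp

variable {p} [Fact p.Prime] [Finite R.G] (hU : IsPGroup p R.U)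
include hU

omit [Fintype R.Ch] [Finite Φ] in
theorem card_X_simple (i : I) : (Nat.card (R.X (R.simple i)) : ZMod p) = 0 := by
  have hle := X_le_U (R.pos_simple i)
  have : Finite (R.X (R.simple i)) :=
    Finite.of_injective _ (Subgroup.inclusion_injective (hle.trans U_le_G))
  have : Nontrivial (R.X (R.simple i)) := (Subgroup.nontrivial_iff_ne_bot _).2 (R.X_ne_bot _)
  obtain ⟨k, hk, e⟩ := (hU.to_le hle).nontrivial_iff_card.1 this
  rw [e, ZMod.natCast_eq_zero_iff]
  exact dvd_pow_self _ hk.ne'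

theorem TM_mul_singleton (g : R.G) (l : List I) (i : I) :
    TM p g l * TM p 1 [i] = TM p g (l ++ [i]) := by
  classical
  ext c d
  induction c using QuotientGroup.induction_on with | H a => ?_
  induction d using QuotientGroup.induction_on with | H b => ?_
  have hs := R.s_mem i
  have hXU := X_le_U (R.pos_simple i)
  have : Finite (R.X (R.simple i)) :=
    Finite.of_injective _ (Subgroup.inclusion_injective (hXU.trans U_le_G))
  have := Fintype.ofFinite (R.X (R.simple i))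
  obtain ⟨u, hu, n, hn, hp, q, hq, e⟩ := exists_min_rep i (a⁻¹ * g * b).2
  simp only [Subgroup.coe_mul, Subgroup.coe_inv] at e
  let f : Option (R.X (R.simple i)) → R.G := fun o =>
    b * ⟨q⁻¹ * o.elim 1 fun x => x * R.s i, mul_mem (inv_mem (P_le_G _ hq)) (by
      cases o with
      | none => exact one_mem _
      | some x => exact mul_mem (U_le_G (hXU x.2)) (N_le_G hs))⟩
  have hf : ∀ o, (f o : Γ) = b * (q⁻¹ * o.elim 1 fun x => x * R.s i) := fun _ => rfl
  have hsB : ∀ x ∈ R.X (R.simple i), x * R.s i ∉ R.B := fun x hx h =>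
    R.topSub.t_not_mem_H i (mem_H_of_mem_B_N (b := R.s i) (by
      simpa using mul_mem (inv_mem (U_le_B (hXU hx))) h) hs)
  rw [Matrix.mul_apply, ← Finset.sum_of_injOn (s := Finset.univ) (fun o => (f o : R.Ch))
    (f := fun o => o.elim (if n ∈ R.PW l then 1 else 0) fun _ => if n * R.s i ∈ R.PW l then 1 else 0)]
  · rw [Fintype.sum_option, TM_mk, e]
    simp only [Option.elim, Finset.sum_const, Finset.card_univ, nsmul_eq_mul]
    rw [← Nat.card_eq_fintype_card, card_X_simple hU, zero_mul, add_zero, mul_assoc,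
      B_mul_mem_PW_iff (U_le_B hu)]
    refine if_congr ⟨fun h => mem_PW_append.2 ⟨n, h, q, mem_PW_singleton.2 hq, rfl⟩, fun h => ?_⟩ rfl rfl
    obtain ⟨y, hy, z, hz, e'⟩ := mem_PW_append.1 h
    have h1 : y = n * (q * z⁻¹) := by rw [← mul_assoc, e']; group
    rcases mem_P_singleton (mul_mem hq (inv_mem (mem_PW_singleton.1 hz))) with h2 | ⟨x, hx, c, hc, h2⟩
    · rwa [h1, mul_B_mem_PW_iff h2] at hy
    · rw [h1, h2, show n * (x * R.s i * c) = n * x * n⁻¹ * (n * R.s i * c) by group,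
        B_mul_mem_PW_iff (U_le_B (conj_X_mem_U hn hx hp)), mul_B_mem_PW_iff hc] at hy
      exact mem_PW_of_mul_s hn hp hy
  · intro o _ o' _ h
    have h1 : (o.elim 1 fun x => (x : Γ) * R.s i)⁻¹ * (o'.elim 1 fun x => (x : Γ) * R.s i) ∈ R.B := by
      have := QuotientGroup.eq.1 h
      rw [Subgroup.mem_subgroupOf, Subgroup.coe_mul, Subgroup.coe_inv, hf, hf] at this
      simpa [mul_assoc] using this
    cases o with
    | none =>
      cases o' with
      | none => rfl
      | some x => exact absurd (by simpa using h1) (hsB x x.2)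
    | some x =>
      cases o' with
      | none => exact absurd (by simpa using inv_mem h1) (hsB x x.2)
      | some x' =>
        have h2 := eq_one_of_mem_B_V (b := (R.s i)⁻¹ * ((x : Γ)⁻¹ * x') * R.s i)
          (by simpa [mul_assoc] using h1)
          (X_le_V (not_pos_neg_simple i) (conj_s_inv_X (mul_mem (inv_mem x.2) x'.2)))
        have h3 : (x : Γ)⁻¹ * x' = 1 := by
          rw [← mul_left_inj (R.s i), ← mul_right_inj (R.s i)⁻¹, ← mul_assoc, h2]; simp
        rw [Subtype.ext (inv_mul_eq_one.1 h3)]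
  · exact fun _ _ => Finset.mem_coe.2 (Finset.mem_univ _)
  · intro c _ hc
    induction c using QuotientGroup.induction_on with | H c => ?_
    rw [TM_mk p 1, if_neg, mul_zero]
    intro h
    rw [mem_PW_singleton, Subgroup.coe_one, mul_one] at h
    rcases mem_P_singleton (mul_mem hq (inv_mem h)) with h2 | ⟨x, hx, c', hc', h2⟩
    · refine hc ⟨none, by simp, QuotientGroup.eq.2 ?_⟩
      rw [Subgroup.mem_subgroupOf, Subgroup.coe_mul, Subgroup.coe_inv, hf]
      simpa [mul_assoc] using h2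
    · refine hc ⟨some ⟨x, hx⟩, by simp, QuotientGroup.eq.2 ?_⟩
      rw [Subgroup.mem_subgroupOf, Subgroup.coe_mul, Subgroup.coe_inv, hf]
      have : c' = (x * R.s i)⁻¹ * (q * ((c : Γ)⁻¹ * b)⁻¹) := by rw [h2]; group
      rw [this] at hc'
      simpa [mul_assoc] using hc'
  · intro o _
    rw [TM_mk, TM_mk, hf, show (a : Γ)⁻¹ * g * (b * (q⁻¹ * o.elim 1 fun x => x * R.s i)) =
      u * (n * o.elim 1 fun x => x * R.s i) by rw [← mul_assoc, e]; group,
      B_mul_mem_PW_iff (U_le_B hu), if_pos (c := _ ∈ R.PW [i]), mul_one]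
    · cases o with
      | none => simp
      | some x =>
        refine if_congr ?_ rfl rfl
        change _ ↔ n * ((x : Γ) * R.s i) ∈ _
        rw [show n * ((x : Γ) * R.s i) = n * x * n⁻¹ * (n * R.s i) by group,
          B_mul_mem_PW_iff (U_le_B (conj_X_mem_U hn x.2 hp))]
    · rw [mem_PW_singleton]
      have : (o.elim 1 fun x => (x : Γ) * R.s i) ∈ R.P {i} := by
        cases o with
        | none => exact one_mem _
        | some x => exact mul_mem (U_le_P _ (hXU x.2)) (s_mem_P rfl)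
      simpa [mul_assoc] using mul_mem (inv_mem this) hq

theorem TM_mul (g g' : R.G) (l l' : List I) : TM p g l * TM p g' l' = TM p (g * g') (l ++ l') := by
  induction l' using List.reverseRecOn with
  | nil => rw [TM_mul_nil, List.append_nil]
  | append_singleton l' i ih =>
    rw [← TM_mul_singleton hU, ← Matrix.mul_assoc, ih, TM_mul_singleton hU, List.append_assoc]

theorem TM_pow [DecidableEq R.Ch] (g : R.G) (l : List I) (k : ℕ) :
    TM p g l ^ (k + 1) = TM p (g ^ (k + 1)) (List.replicate (k + 1) l).flatten := by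
  induction k with
  | zero => simp
  | succ k ih => rw [pow_succ, ih, TM_mul hU, ← pow_succ, ← List.flatten_concat, ← List.replicate_succ']

end matrices

/-- Every element is conjugate into the product of the minimal parabolic subgroups. -/
theorem exists_conj_mem_PW {p : ℕ} [Fact p.Prime] [Finite R.G] (hU : IsPGroup p R.U) {l : List I}
    (hl : ∀ i, i ∈ l) {g : Γ} (hg : g ∈ R.G) : ∃ y ∈ R.G, y⁻¹ * g * y ∈ R.PW l := by
  classical
  have := Fintype.ofFinite R.Ch
  obtain ⟨k, hk⟩ := mem_PW_replicate (R := R) hl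
  have h1 : ∀ (a : R.G) (m : ℕ), k ≤ m → TM p a (List.replicate m l).flatten = Matrix.of fun _ _ => 1 :=
    fun a m hm => by
      ext c d
      obtain ⟨j, rfl⟩ := Nat.exists_eq_add_of_le hm
      rw [TM, Matrix.of_apply, Matrix.of_apply, if_pos]
      rw [List.replicate_add, List.flatten_append]
      exact mem_PW_append.2 ⟨_, hk _ (Subtype.property _), 1, one_mem_PW _, (mul_one _).symm⟩
  have h2 : (Fintype.card R.Ch : ZMod p) = 1 := by
    have := TM_mul hU (1 : R.G) 1 (List.replicate k l).flatten (List.replicate k l).flatten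
    rw [← List.flatten_append, ← List.replicate_add, h1 _ _ le_rfl, h1 _ _ (Nat.le_add_right _ _)] at this
    simpa [Matrix.mul_apply] using congrFun (congrFun this ((1 : R.G) : R.Ch)) ((1 : R.G) : R.Ch)
  have h3 : ∀ j, (TM p ⟨g, hg⟩ l ^ p ^ j).trace = (TM p ⟨g, hg⟩ l).trace := fun j => by
    induction j with
    | zero => simp
    | succ j ih => rw [pow_succ, pow_mul, ZMod.trace_pow_card, ZMod.pow_card, ih]
  have h4 : k < p ^ k := Nat.lt_pow_self (Fact.out : p.Prime).one_lt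
  obtain ⟨m, hm⟩ : ∃ m, p ^ k = m + 1 := ⟨p ^ k - 1, by omega⟩
  have h5 := h3 k
  rw [hm, TM_pow hU, h1 _ _ (by omega)] at h5
  by_contra hc
  push Not at hc
  have h6 : (TM p ⟨g, hg⟩ l).trace = 0 := Finset.sum_eq_zero fun c _ => if_neg (hc _ c.out.2)
  rw [h6] at h5
  simp [Matrix.trace, h2] at h5

end RootBN

end Cfsg.Agent.Chev
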