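import Mathlib
import Cfsg.Agent.Cl.CharSL2Conj
import Cfsg.Agent.GT.QuadSL2

/-!
Products of a conjugate of an elliptic element of `GL₂(q)` with a conjugate of its inverse.
-/

set_option autoImplicit false

namespace Cfsg.Agent.Chev.Th

open Cfsg.Agent.Cl.GL2 Cfsg.Agent.GT Matrix
open scoped MatrixGroups

variable {F : Type*} [Field F]

theorem exists_conic [Finite F] {T e : F} (h : ∀ c : F, c ^ 2 - T * c + e ≠ 0) (l m k : F) :
    ∃ a c : F, a ^ 2 + T * a * c + e * c ^ 2 + l * a + m * c + k = 0 := by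
  classical
  have := Fintype.ofFinite F
  obtain ⟨p, hp⟩ := CharP.exists F
  have hp' : p.Prime := CharP.char_is_prime F p
  let X : Fin 3 → MvPolynomial (Fin 3) F := MvPolynomial.X
  let C : F → MvPolynomial (Fin 3) F := MvPolynomial.C
  let f : MvPolynomial (Fin 3) F := C 1 * (X 0 * X 0) + C T * (X 0 * X 1) + C e * (X 1 * X 1) +
    C l * (X 0 * X 2) + C m * (X 1 * X 2) + C k * (X 2 * X 2)
  have h1 : ∀ c i j, (C c * (X i * X j)).IsHomogeneous 2 := fun c i j =>
    ((MvPolynomial.isHomogeneous_X F i).mul (MvPolynomial.isHomogeneous_X F j)).C_mul c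
  have h2 : f.IsHomogeneous 2 :=
    (((((h1 _ _ _).add (h1 _ _ _)).add (h1 _ _ _)).add (h1 _ _ _)).add (h1 _ _ _)).add (h1 _ _ _)
  have h3 := char_dvd_card_solutions p (f := f) (h2.totalDegree_le.trans_lt (by simp))
  have h4 : ∀ x : Fin 3 → F, MvPolynomial.eval x f = x 0 ^ 2 + T * x 0 * x 1 + e * x 1 ^ 2 +
      l * x 0 * x 2 + m * x 1 * x 2 + k * x 2 ^ 2 := fun x => by
    simp only [f, X, C, map_add, map_mul, MvPolynomial.eval_C, MvPolynomial.eval_X]; ring
  have h5 : 1 < Fintype.card {x : Fin 3 → F // MvPolynomial.eval x f = 0} :=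
    hp'.one_lt.trans_le (Nat.le_of_dvd (Fintype.card_pos_iff.2 ⟨⟨0, by rw [h4]; simp⟩⟩) h3)
  obtain ⟨⟨x, hx⟩, hx0⟩ := Fintype.exists_ne_of_one_lt_card h5 ⟨0, by rw [h4]; simp⟩
  rw [h4] at hx
  by_cases h6 : x 2 = 0
  · exfalso
    rw [h6] at hx
    by_cases h7 : x 1 = 0
    · rw [h7] at hx
      refine hx0 (Subtype.ext (funext fun i => ?_))
      fin_cases i
      · simpa using hx
      · exact h7
      · exact h6
    · refine h (-x 0 / x 1) ?_
      field_simp
      linear_combination hx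
  · refine ⟨x 0 / x 2, x 1 / x 2, ?_⟩
    field_simp
    linear_combination hx

/-- `B` is a product of a conjugate of `M` and a conjugate of `M⁻¹`. -/
def InA (M B : GL (Fin 2) F) : Prop :=
  ∃ g g' : GL (Fin 2) F, B = g * M * g⁻¹ * (g' * M⁻¹ * g'⁻¹)

theorem InA.conj {M B B' : GL (Fin 2) F} (h : InA M B) (hc : IsConj B B') : InA M B' := by
  obtain ⟨g, g', rfl⟩ := h
  obtain ⟨c, rfl⟩ := isConj_iff.1 hc
  exact ⟨c * g, c * g', by group⟩

theorem inA_one (M : GL (Fin 2) F) : InA M 1 := ⟨1, 1, by group⟩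

theorem exists_inA_trace [Finite F] {M : GL (Fin 2) F} (hM : IsEll (M : Mat F)) (τ : F) :
    ∃ B : GL (Fin 2) F, InA M B ∧ (B : Mat F).trace = τ ∧ (B : Mat F).det = 1 := by
  set T := (M : Mat F).trace
  set e := (M : Mat F).det
  have he : e ≠ 0 := hM.det_ne_zero
  obtain ⟨a, c, h⟩ := exists_conic (isEll_iff.1 hM) (-T) (-τ * e) e
  change a ^ 2 + T * a * c + e * c ^ 2 + -T * a + -τ * e * c + e = 0 at h
  have hd : a * (T - a) - (a * T + c * e - τ * e) * c = e := by linear_combination -h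
  let y := mkGL a (a * T + c * e - τ * e) c (T - a) (by rwa [hd])
  have h1 : (y : Mat F).trace = T := by simp [y, coe_mkGL, trace_fin_two]
  have h2 : (y : Mat F).det = e := by rw [← hd]; simp [y, coe_mkGL, det_fin_two]
  obtain ⟨g, hg⟩ := isConj_iff.1 (isConj_of_trace_det hM.not_isScal
    (isEll_of_trace_det hM h1.symm h2.symm).not_isScal h1.symm h2.symm)
  obtain ⟨g', hg'⟩ := isConj_iff.1 (isConj_companion hM.not_isScal)
  have h3 : (companion M)⁻¹ = mkGL (T / e) 1 (-1 / e) 0 (by simpa using he) := by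
    refine inv_eq_of_mul_eq_one_right ?_
    rw [gl_ext_iff]
    simp only [companion, Units.val_mul, mul00, mul01, mul10, mul11, mkGL00, mkGL01, mkGL10, mkGL11]
    change 0 * (T / e) + -e * (-1 / e) = 1 ∧ 0 * 1 + -e * 0 = 0 ∧ 1 * (T / e) + T * (-1 / e) = 0 ∧
      1 * 1 + T * 0 = 1
    refine ⟨by field_simp; ring, by ring, by ring, by ring⟩
  refine ⟨y * (companion M)⁻¹, ⟨g, g', by rw [← hg, ← hg']; group⟩, ?_, ?_⟩
  · rw [h3, Units.val_mul, trace_fin_two, mul00, mul11]
    simp [y]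
    field_simp
    ring
  · rw [Units.val_mul, det_mul, h2, h3, coe_mkGL, det_fin_two_of]
    field_simp
    ring

theorem not_isScal_of_trace {B : Mat F} (hd : B.det = 1) (h1 : B.trace ≠ 2) (h2 : B.trace ≠ -2) :
    ¬ IsScal B := fun ⟨a, b, c⟩ => by
  rw [det_fin_two, a, zero_mul, sub_zero, ← c] at hd
  rw [trace_fin_two, ← c] at h1 h2
  rcases mul_self_eq_one_iff.1 hd with h | h
  · exact h1 (by rw [h]; ring)
  · exact h2 (by rw [h]; ring)

theorem inA_of_trace [Finite F] {M B : GL (Fin 2) F} (hM : IsEll (M : Mat F))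
    (hd : (B : Mat F).det = 1) (h1 : (B : Mat F).trace ≠ 2) (h2 : (B : Mat F).trace ≠ -2) :
    InA M B := by
  obtain ⟨B', h, ht, hd'⟩ := exists_inA_trace hM (B : Mat F).trace
  exact h.conj (isConj_of_trace_det (not_isScal_of_trace hd' (ht ▸ h1) (ht ▸ h2))
    (not_isScal_of_trace hd h1 h2) ht (hd'.trans hd.symm))

theorem exists_ne_two (F : Type*) [Field F] : ∃ τ : F, τ ≠ 2 ∧ τ ≠ -2 := by
  by_cases h : (2 : F) = 0
  · exact ⟨1, by simp [h], by simp [h]⟩
  · exact ⟨0, Ne.symm h, by simpa using h⟩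

theorem exists_inA_mul [Finite F] {M : GL (Fin 2) F} (hM : IsEll (M : Mat F)) (A : SL(2, F)) :
    ∃ t, InA M (SpecialLinearGroup.toGL (A * slUp t)) := by
  have hd : ∀ t, ((SpecialLinearGroup.toGL (A * slUp t) : GL (Fin 2) F) : Mat F).det = 1 :=
    fun t => (A * slUp t).det_coe
  have he : ∀ t, ((SpecialLinearGroup.toGL (A * slUp t) : GL (Fin 2) F) : Mat F) =
      !![A 0 0, A 0 0 * t + A 0 1; A 1 0, A 1 0 * t + A 1 1] := fun t => by
    rw [coe_toGL, sl_coe_mul, mat_ext_iff, mul00, mul01, mul10, mul11]; simp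
  have hA := det_entries_sl A
  by_cases h10 : A 1 0 = 0
  · have h0 : A 0 0 * A 1 1 = 1 := by
      change A 0 0 * A 1 1 - A 0 1 * A 1 0 = 1 at hA
      rwa [h10, mul_zero, sub_zero] at hA
    have h00 : A 0 0 ≠ 0 := left_ne_zero_of_mul_eq_one h0
    by_cases h1 : A 0 0 = 1
    · refine ⟨-A 0 1, ?_⟩
      rw [h1, one_mul] at h0
      convert inA_one M
      rw [← Units.val_inj, he, mat_ext_iff]
      simp [h1, h10, h0]
    by_cases h2 : A 0 0 = -1
    · have h3 : A 1 1 = -1 := by rw [h2] at h0; linear_combination -h0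
      obtain ⟨B, hB, ht, hd'⟩ := exists_inA_trace hM (-2)
      by_cases hs : IsScal (B : Mat F)
      · obtain ⟨a, b, c⟩ := hs
        refine ⟨A 0 1, ?_⟩
        convert hB
        rw [det_fin_two, a, zero_mul, sub_zero, ← c] at hd'
        rw [trace_fin_two, ← c] at ht
        have h4 : (B : Mat F) 0 0 = -1 := by
          have : ((B : Mat F) 0 0 + 1) ^ 2 = 0 := by linear_combination hd' + ht
          exact eq_neg_of_add_eq_zero_left (pow_eq_zero_iff two_ne_zero |>.1 this)
        rw [← Units.val_inj, he, mat_ext_iff]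
        simp [h2, h3, h10, a, b, ← c, h4]
      · refine ⟨A 0 1 - 1, hB.conj (isConj_of_trace_det hs ?_ ?_ (hd'.trans (hd _).symm))⟩
        · rw [he]
          simp [IsScal, h2]
        · rw [ht, he]
          simp [h2, h3, h10]
          ring
    refine ⟨0, inA_of_trace hM (hd _) (fun h => h1 ?_) fun h => h2 ?_⟩
    · rw [he, trace_fin_two_of, h10] at h
      have : (A 0 0 - 1) ^ 2 = 0 := by linear_combination A 0 0 * h - h0
      exact sub_eq_zero.1 (pow_eq_zero_iff two_ne_zero |>.1 this)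
    · rw [he, trace_fin_two_of, h10] at h
      have : (A 0 0 + 1) ^ 2 = 0 := by linear_combination A 0 0 * h - h0
      exact eq_neg_of_add_eq_zero_left (pow_eq_zero_iff two_ne_zero |>.1 this)
  · obtain ⟨τ, h1, h2⟩ := exists_ne_two F
    have h3 : ((SpecialLinearGroup.toGL (A * slUp ((τ - A 0 0 - A 1 1) / A 1 0)) : GL (Fin 2) F) :
        Mat F).trace = τ := by
      rw [he, trace_fin_two_of]
      field_simp
      ring
    exact ⟨_, inA_of_trace hM (hd _) (by rwa [h3]) (by rwa [h3])⟩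

/-- The diagonal matrix `diag (c, 1)`. -/
def dg (c : Fˣ) : GL (Fin 2) F := mkGL c 0 0 1 (by simp)

theorem dg_mul (c d : Fˣ) : dg (c * d) = dg c * dg d := by
  simp [gl_ext_iff, dg, mul00, mul01, mul10, mul11]

theorem dg_one : dg (1 : Fˣ) = 1 := by simp [gl_ext_iff, dg]

theorem dg_inv (c : Fˣ) : dg c⁻¹ = (dg c)⁻¹ :=
  eq_inv_of_mul_eq_one_left (by rw [← dg_mul, inv_mul_cancel, dg_one])

theorem det_dg (c : Fˣ) : (dg c : Mat F).det = c := by simp [dg, coe_mkGL]

theorem exists_eq_mul_dg (M : GL (Fin 2) F) : ∃ A : SL(2, F),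
    M = SpecialLinearGroup.toGL A * dg (GeneralLinearGroup.det M) := by
  refine ⟨⟨(M * (dg (GeneralLinearGroup.det M))⁻¹ : GL (Fin 2) F), ?_⟩, ?_⟩
  · rw [Units.val_mul, det_mul, ← dg_inv, det_dg, ← GeneralLinearGroup.val_det_apply, Units.mul_inv]
  · rw [← mul_inv_eq_iff_eq_mul]; exact Units.ext rfl

theorem exists_isEll [Finite F] (c : Fˣ) :
    ∃ M : GL (Fin 2) F, IsEll (M : Mat F) ∧ GeneralLinearGroup.det M = c := by
  classical
  have := Fintype.ofFinite F
  obtain ⟨T, hT⟩ : ∃ T : F, ∀ t : Fˣ, (t : F) + c / t ≠ T := by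
    by_contra h
    push Not at h
    have := Fintype.card_le_of_surjective (fun t : Fˣ => (t : F) + c / t) h
    rw [Fintype.card_units] at this
    have := Fintype.card_pos (α := F)
    omega
  refine ⟨mkGL 0 (-c) 1 T (by simp), isEll_iff.2 fun t h => ?_, Units.ext ?_⟩
  · simp only [cp, coe_mkGL, trace_fin_two_of, det_fin_two_of] at h
    have h0 : t ≠ 0 := by rintro rfl; simp at h
    refine hT (Units.mk0 t h0) ?_
    rw [Units.val_mk0]
    field_simp
    linear_combination h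
  · simp [coe_mkGL]

theorem not_dvd_orderOf [Finite F] (p : ℕ) [hp : Fact p.Prime] [CharP F p] {M : GL (Fin 2) F}
    (hM : IsEll (M : Mat F)) : ¬ p ∣ orderOf M := fun h => by
  have h1 := orderOf_pow_orderOf_div (orderOf_pos M).ne' h
  set N := M ^ (orderOf M / p)
  have h2 : (N : Mat F) ^ p = 1 := by
    rw [← Units.val_pow_eq_pow_val, ← h1, pow_orderOf_eq_one, Units.val_one]
  obtain ⟨h3, h4⟩ := trace_det_of_pow_char p h2
  obtain ⟨a, b, h5⟩ := (comm_iff_of_not_isScal hM.not_isScal (N : Mat F)).1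
    (congrArg Units.val ((Commute.refl M).pow_left _).eq)
  have hb : b ≠ 0 := fun hb => not_isScal_of_orderOf p h1 (by
    rw [h5]; exact (isScal_comb_iff hM.not_isScal a b).2 hb)
  rw [h5, trace_comb] at h3
  rw [h5, det_comb] at h4
  refine isEll_iff.1 hM ((1 - a) / b) ?_
  rw [cp]
  field_simp
  linear_combination h4 - h3

end Cfsg.Agent.Chev.Th
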