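import Mathlib
import Cfsg.Agent.Chev.ThCox
import Cfsg.Agent.Chev.ThGL2
import Cfsg.Agent.Chev.LieBN

/-!
Thompson's conjecture for groups of Lie rank two with a Levi factor of type `SL₂(q)`: the class of an
elliptic element of the Levi factor acting without fixed points on the unipotent radical.
-/

set_option autoImplicit false

namespace Cfsg.Agent.Chev.Th

open Cfsg.Agent.Cl.GL2 Cfsg.Agent.GT Matrix RootBN
open Matrix.SpecialLinearGroup (toGL)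
open scoped MatrixGroups

variable {Γ : Type*} [Group Γ] {F : Type*} [Field F]

theorem exists_twist {Q : Subgroup Γ} [Finite Q] {x : Γ} (hx : ∀ v ∈ Q, x * v * x⁻¹ ∈ Q)
    (hf : ∀ v ∈ Q, x * v = v * x → v = 1) {v : Γ} (hv : v ∈ Q) : ∃ y ∈ Q, v * x = y * x * y⁻¹ := by
  let f : Q → Q := fun y => ⟨y * (x * (y : Γ)⁻¹ * x⁻¹), mul_mem y.2 (hx _ (inv_mem y.2))⟩
  have h : Function.Injective f := fun y z e => by
    have e' : (y : Γ) * (x * (y : Γ)⁻¹ * x⁻¹) = z * (x * (z : Γ)⁻¹ * x⁻¹) := congrArg Subtype.val e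
    have := hf _ (mul_mem (inv_mem z.2) y.2) (by
      calc x * ((z : Γ)⁻¹ * y) = (z : Γ)⁻¹ * (z * (x * (z : Γ)⁻¹ * x⁻¹)) * x * y := by group
        _ = _ := by rw [← e']; group)
    exact Subtype.ext (inv_mul_eq_one.1 this).symm
  obtain ⟨y, hy⟩ := Finite.injective_iff_surjective.1 h ⟨v, hv⟩
  refine ⟨y, y.2, ?_⟩
  rw [← show (y : Γ) * (x * (y : Γ)⁻¹ * x⁻¹) = v from congrArg Subtype.val hy]; group

variable (φ : SL(2, F) →* Γ)

/-- `h` acts on the image of `φ` as `diag (c, 1)`. -/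
def Ch (h : Γ) (c : Fˣ) : Prop := ∀ t, h * φ (slUp t) * h⁻¹ = φ (slUp (c * t)) ∧
  h * φ (slLo t) * h⁻¹ = φ (slLo ((c⁻¹ : Fˣ) * t))

/-- `g` acts on the image of `φ` as `E`. -/
def Cj (g : Γ) (E : GL (Fin 2) F) : Prop :=
  ∀ A A' : SL(2, F), toGL A' = E * toGL A * E⁻¹ → g * φ A * g⁻¹ = φ A'

variable {φ}

theorem cj_of {g : Γ} {E : GL (Fin 2) F}
    (h1 : ∀ t, ∃ A', toGL A' = E * toGL (slUp t) * E⁻¹ ∧ g * φ (slUp t) * g⁻¹ = φ A')
    (h2 : ∀ t, ∃ A', toGL A' = E * toGL (slLo t) * E⁻¹ ∧ g * φ (slLo t) * g⁻¹ = φ A') : Cj φ g E := by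
  let K : Subgroup SL(2, F) :=
    { carrier := {A | ∃ A', toGL A' = E * toGL A * E⁻¹ ∧ g * φ A * g⁻¹ = φ A'}
      one_mem' := ⟨1, by simp, by simp⟩
      mul_mem' := by
        rintro a b ⟨a', h1, h2⟩ ⟨b', h3, h4⟩
        exact ⟨a' * b', by rw [map_mul, map_mul, h1, h3]; group, by rw [map_mul, map_mul, ← h2, ← h4]; group⟩
      inv_mem' := by
        rintro a ⟨a', h1, h2⟩
        exact ⟨a'⁻¹, by rw [map_inv, map_inv, h1]; group, by rw [map_inv, map_inv, ← h2]; group⟩ }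
  intro A A' e
  obtain ⟨A'', h3, h4⟩ : A ∈ K := eq_top_of_slUp_slLo_mem K h1 h2 ▸ Subgroup.mem_top A
  rwa [SpecialLinearGroup.toGL_injective (e.trans h3.symm)]

theorem Ch.cj {h : Γ} {c : Fˣ} (hc : Ch φ h c) : Cj φ h (dg c) := by
  refine cj_of (fun t => ⟨_, ?_, (hc t).1⟩) fun t => ⟨_, ?_, (hc t).2⟩ <;>
  · rw [eq_mul_inv_iff_mul_eq]
    simp [gl_ext_iff, dg, mul00, mul01, mul10, mul11, mul_right_comm _ t]

theorem Ch.mul {h h' : Γ} {c c' : Fˣ} (hc : Ch φ h c) (hc' : Ch φ h' c') : Ch φ (h * h') (c * c') :=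
  fun t => by
    constructor
    · rw [show h * h' * φ (slUp t) * (h * h')⁻¹ = h * (h' * φ (slUp t) * h'⁻¹) * h⁻¹ by group,
        (hc' t).1, (hc _).1, Units.val_mul, mul_assoc]
    · rw [show h * h' * φ (slLo t) * (h * h')⁻¹ = h * (h' * φ (slLo t) * h'⁻¹) * h⁻¹ by group,
        (hc' t).2, (hc _).2, mul_inv, Units.val_mul, mul_assoc]

theorem ch_one : Ch φ 1 1 := fun t => by simp

theorem Ch.inv {h : Γ} {c : Fˣ} (hc : Ch φ h c) : Ch φ h⁻¹ c⁻¹ := fun t => by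
  constructor
  · have := (hc ((c⁻¹ : Fˣ) * t)).1
    rw [Units.mul_inv_cancel_left] at this
    rw [← this]; group
  · have := (hc (c * t)).2
    rw [Units.inv_mul_cancel_left] at this
    rw [← this, inv_inv]; group

variable {Φ : Type*} {I : Type*}

/-- The data used in the proof. -/
structure Data (R : RootBN Γ Φ I) (F : Type*) [Field F] where
  a : I
  b : I
  ne : a ≠ b
  all : ∀ i, i = a ∨ i = b
  φ : SL(2, F) →* Γ
  memX : ∀ g, g ∈ R.X (R.simple b) ↔ ∃ t, g = φ (slUp t)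
  memY : ∀ g, g ∈ R.X (R.neg (R.simple b)) ↔ ∃ t, g = φ (slLo t)
  comm : ∀ h ∈ R.H, ∀ k ∈ R.H, h * k = k * h
  ch : ∀ h ∈ R.H, ∃ c, Ch φ h c
  ch_surj : ∀ c, ∃ h ∈ R.H, Ch φ h c
  m : Γ
  m_mem : m ∈ R.N
  w_m_a : R.w m (R.simple a) = R.neg (R.simple a)
  m_H : ∀ h ∈ R.H, m * h * m⁻¹ = h⁻¹
  m_φ : ∃ c : Fˣ, ∀ t, m * φ (slUp t) * m⁻¹ = φ (slLo (c * t)) ∧
    m * φ (slLo t) * m⁻¹ = φ (slUp ((c⁻¹ : Fˣ) * t))
  tor : ∀ k ∈ R.H, ∃ h ∈ R.H, ∃ x ∈ R.X (R.simple a), ∃ x' ∈ R.X (R.simple a),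
    x * h * R.s a * x' ∈ R.X (R.neg (R.simple a)) ∧ h⁻¹ * k ∈ φ.range
  S : Set Γ
  mem_S : ∀ h ∈ R.H, h ∈ φ.range ∨ h ∈ S
  exists_S : ∃ h ∈ R.H, h ∈ S
  fpf : ∀ h ∈ R.H, h ∈ S → ∀ (c : Fˣ) (A : SL(2, F)), Ch φ h c →
    IsEll ((toGL A * dg c : GL (Fin 2) F) : Mat F) →
    ∀ v ∈ R.Q {b}, φ A * h * v = v * (φ A * h) → v = 1
  cent1 : ∀ h ∈ R.H, (∀ x ∈ R.X (R.simple a), h * x = x * h) → Ch φ h 1 → h = 1
  cent2 : ∀ h ∈ R.H, (∀ x ∈ R.X (R.simple a), h * x = x * h) →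
    (∀ x ∈ R.X (R.simple a), h * (R.s b * x * (R.s b)⁻¹) = R.s b * x * (R.s b)⁻¹ * h) →
    h = 1 ∨ ∃ A : SL(2, F), h = φ A ∧ (A : Mat F).trace ≠ 2 ∧ (A : Mat F).trace ≠ -2
  unip : ∀ u ∈ R.Q {a}, ∃ g ∈ R.G, g * u * g⁻¹ ∈ R.Q {b}

/-- `g` is a product of two conjugates of `x`. -/
def Sq (G : Subgroup Γ) (x g : Γ) : Prop := ∃ u ∈ G, ∃ v ∈ G, g = u * x * u⁻¹ * (v * x * v⁻¹)

theorem Sq.conj {G : Subgroup Γ} {x g y : Γ} (h : Sq G x (y * g * y⁻¹)) (hy : y ∈ G) : Sq G x g := by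
  obtain ⟨u, hu, v, hv, e⟩ := h
  refine ⟨y⁻¹ * u, mul_mem (inv_mem hy) hu, y⁻¹ * v, mul_mem (inv_mem hy) hv, ?_⟩
  calc g = y⁻¹ * (y * g * y⁻¹) * y := by group
    _ = _ := by rw [e]; group

theorem Sq.of_eq {G : Subgroup Γ} {x g g' y : Γ} (h : Sq G x g') (hy : y ∈ G) (e : y * g * y⁻¹ = g') :
    Sq G x g := Sq.conj (e ▸ h) hy

variable {R : RootBN Γ Φ I}

theorem mem_B_of_conj [Finite Φ] {i : I} {g z : Γ} (hg : g ∈ R.P {i}) (hz : z ∈ R.X (R.simple i))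
    (hz1 : z ≠ 1) (h : g⁻¹ * z * g ∈ R.U) : g ∈ R.B := by
  refine (mem_P_singleton hg).elim id ?_
  rintro ⟨x, hx, c, hc, rfl⟩
  have h1 := conj_B_U hc h
  have h2 := conj_s_inv_X (mul_mem (mul_mem (inv_mem hx) hz) hx)
  refine absurd ?_ hz1
  have h3 := eq_one_of_mem_U_V (by simpa [mul_assoc] using h1) (X_le_V (not_pos_neg_simple i) h2)
  calc z = x * R.s i * ((R.s i)⁻¹ * (x⁻¹ * z * x) * R.s i) * (x * R.s i)⁻¹ := by group
    _ = 1 := by rw [h3]; group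

namespace Data

variable (D : Data R F)

/-- `l = φ A * h` corresponds to the matrix `M = A * diag (c, 1)`. -/
def Rep (l : Γ) (M : GL (Fin 2) F) (h : Γ) : Prop :=
  h ∈ R.H ∧ Ch D.φ h (GeneralLinearGroup.det M) ∧
    ∃ A, M = toGL A * dg (GeneralLinearGroup.det M) ∧ l = D.φ A * h

variable {D}

theorem det_mul_dg (A : SL(2, F)) (c : Fˣ) : GeneralLinearGroup.det (toGL A * dg c) = c :=
  Units.ext (by rw [GeneralLinearGroup.val_det_apply, Units.val_mul, det_mul, det_dg, coe_toGL,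
    A.det_coe, one_mul])

theorem rep_mk (A : SL(2, F)) {h : Γ} {c : Fˣ} (hh : h ∈ R.H) (hc : Ch D.φ h c) :
    D.Rep (D.φ A * h) (toGL A * dg c) h :=
  ⟨hh, by rwa [det_mul_dg], A, by rw [det_mul_dg], rfl⟩

theorem rep_φ (A : SL(2, F)) : D.Rep (D.φ A) (toGL A) 1 := by
  simpa [dg_one] using rep_mk (D := D) A R.H.one_mem ch_one

theorem Rep.mul {l l' h h' : Γ} {M M' : GL (Fin 2) F} (r : D.Rep l M h) (r' : D.Rep l' M' h') :
    D.Rep (l * l') (M * M') (h * h') := by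
  obtain ⟨hh, hc, A, e, rfl⟩ := r
  obtain ⟨hh', hc', A', e', rfl⟩ := r'
  obtain ⟨B, hB⟩ := exists_toGL_conj (dg (GeneralLinearGroup.det M)) A'
  refine ⟨mul_mem hh hh', by rw [map_mul]; exact hc.mul hc', A * B, ?_, ?_⟩
  · rw [map_mul, map_mul, hB, dg_mul]
    nth_rw 1 [e, e']
    group
  · rw [map_mul, ← hc.cj _ _ hB]; group

theorem Rep.unique {l l' h : Γ} {M : GL (Fin 2) F} (r : D.Rep l M h) (r' : D.Rep l' M h) : l = l' := by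
  obtain ⟨-, -, A, e, rfl⟩ := r
  obtain ⟨-, -, A', e', rfl⟩ := r'
  rw [SpecialLinearGroup.toGL_injective (mul_right_cancel (e.symm.trans e'))]

theorem exists_rep_of {M : GL (Fin 2) F} {h : Γ} (hh : h ∈ R.H)
    (hc : Ch D.φ h (GeneralLinearGroup.det M)) : ∃ l, D.Rep l M h := by
  obtain ⟨A, e⟩ := exists_eq_mul_dg M
  exact ⟨_, hh, hc, A, e, rfl⟩

theorem exists_rep (M : GL (Fin 2) F) : ∃ l h, D.Rep l M h := by
  obtain ⟨h, hh, hc⟩ := D.ch_surj (GeneralLinearGroup.det M)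
  obtain ⟨l, r⟩ := exists_rep_of hh hc
  exact ⟨l, h, r⟩

theorem Rep.inv {l h : Γ} {M : GL (Fin 2) F} (r : D.Rep l M h) : D.Rep l⁻¹ M⁻¹ h⁻¹ := by
  obtain ⟨l', r'⟩ := exists_rep_of (D := D) (M := M⁻¹) (inv_mem r.1) (by rw [map_inv]; exact r.2.1.inv)
  have h1 := r.mul r'
  have h2 := rep_φ (D := D) 1
  rw [map_one, map_one] at h2
  rw [mul_inv_cancel, mul_inv_cancel] at h1
  rwa [← eq_inv_of_mul_eq_one_right (h1.unique h2)]

theorem Rep.conj {l h g k : Γ} {M E : GL (Fin 2) F} (r : D.Rep l M h) (r' : D.Rep g E k) :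
    D.Rep (g * l * g⁻¹) (E * M * E⁻¹) h := by
  have := (r'.mul r).mul r'.inv
  rwa [D.comm _ r'.1 _ r.1, mul_inv_cancel_right] at this

theorem Rep.pow {l h : Γ} {M : GL (Fin 2) F} (r : D.Rep l M h) (n : ℕ) :
    D.Rep (l ^ n) (M ^ n) (h ^ n) := by
  induction n with
  | zero => simpa using rep_φ (D := D) 1
  | succ n ih => simpa [pow_succ] using ih.mul r

theorem φ_mem_L (A : SL(2, F)) : D.φ A ∈ R.L {D.b} := by
  have := eq_top_of_slUp_slLo_mem ((R.L {D.b}).comap D.φ)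
    (fun t => X_simple_le_L _ ((D.memX _).2 ⟨t, rfl⟩)) fun t => X_neg_le_L _ ((D.memY _).2 ⟨t, rfl⟩)
  exact show A ∈ (R.L {D.b}).comap D.φ from this ▸ Subgroup.mem_top A

theorem Rep.mem_L {l h : Γ} {M : GL (Fin 2) F} (r : D.Rep l M h) : l ∈ R.L {D.b} := by
  obtain ⟨hh, -, A, -, rfl⟩ := r
  exact mul_mem (φ_mem_L A) (H_le_L _ hh)

variable [Finite Φ]

theorem exists_rep_of_mem {l : Γ} (hl : l ∈ R.L {D.b}) : ∃ M h, D.Rep l M h := by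
  let K : Subgroup Γ :=
    { carrier := {l | ∃ M h, D.Rep l M h}
      one_mem' := ⟨_, _, by simpa using rep_φ (D := D) 1⟩
      mul_mem' := fun ⟨_, _, r⟩ ⟨_, _, r'⟩ => ⟨_, _, r.mul r'⟩
      inv_mem' := fun ⟨_, _, r⟩ => ⟨_, _, r.inv⟩ }
  refine (sup_le (fun h hh => ?_) (XS_le fun r hr x hx => ?_) : R.L {D.b} ≤ K) hl
  · obtain ⟨c, hc⟩ := D.ch h hh
    exact ⟨_, _, by simpa using rep_mk (D := D) 1 hh hc⟩
  · by_cases hp : R.pos r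
    · rw [eq_simple_of_supp hp hr, D.memX] at hx
      obtain ⟨t, rfl⟩ := hx
      exact ⟨_, _, rep_φ _⟩
    · rw [← R.neg_neg r, eq_simple_of_supp ((R.pos_neg r).2 hp) (by rwa [R.supp_neg]), D.memY] at hx
      obtain ⟨t, rfl⟩ := hx
      exact ⟨_, _, rep_φ _⟩

theorem conj_L_Q {l v : Γ} {i : I} (hl : l ∈ R.L {i}) (hv : v ∈ R.Q {i}) : l * v * l⁻¹ ∈ R.Q {i} :=
  conj_P_Q (L_le_P _ hl) hv

theorem conj_L_Q' {l v : Γ} {i : I} (hl : l ∈ R.L {i}) (hv : v ∈ R.Q {i}) : l⁻¹ * v * l ∈ R.Q {i} := by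
  simpa using conj_L_Q (inv_mem hl) hv

omit [Finite Φ] in
theorem Xa_le_Q : R.X (R.simple D.a) ≤ R.Q {D.b} := X_simple_le_Q D.ne

omit [Finite Φ] in
theorem exists_cj_m : ∃ c : Fˣ, Cj D.φ D.m (mkGL 0 1 (c : F) 0 (by simp)) := by
  obtain ⟨c, hc⟩ := D.m_φ
  refine ⟨c, cj_of (fun t => ⟨_, ?_, (hc t).1⟩) fun t => ⟨_, ?_, (hc t).2⟩⟩ <;>
  · rw [eq_mul_inv_iff_mul_eq]
    simp [gl_ext_iff, mul00, mul01, mul10, mul11, mul_comm]

omit [Finite Φ] in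
theorem Rep.exists_conj_m {l h : Γ} {M : GL (Fin 2) F} (r : D.Rep l M h) :
    ∃ M' : GL (Fin 2) F, D.Rep (D.m * l * D.m⁻¹) M' h⁻¹ ∧
      (M' : Mat F).trace = ((M⁻¹ : GL (Fin 2) F) : Mat F).trace ∧
      (M' : Mat F).det = ((M⁻¹ : GL (Fin 2) F) : Mat F).det := by
  obtain ⟨hh, hc, A, e, rfl⟩ := r
  obtain ⟨c, hm⟩ := exists_cj_m (D := D)
  obtain ⟨B, hB⟩ := exists_toGL_conj (mkGL 0 1 (c : F) 0 (by simp)) A
  set d := GeneralLinearGroup.det M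
  refine ⟨toGL B * dg d⁻¹, ?_, ?_, ?_⟩
  · convert rep_mk B (inv_mem hh) hc.inv using 1
    rw [← hm _ _ hB, ← D.m_H h hh]; group
  · rw [eq_mul_inv_iff_mul_eq, gl_ext_iff] at hB
    simp only [Units.val_mul, mul00, mul01, mul10, mul11, coe_toGL, mkGL00, mkGL01, mkGL10, mkGL11,
      mul_zero, zero_mul, mul_one, one_mul, zero_add, add_zero] at hB
    rw [e, _root_.mul_inv_rev, ← dg_inv, ← map_inv toGL]
    simp only [trace_fin_two, Units.val_mul, mul00, mul11, dg, mkGL00, mkGL01, mkGL10, mkGL11, coe_toGL,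
      hB.2.1, mul_right_cancel₀ c.ne_zero (hB.2.2.1.trans (mul_comm _ _))]
    rw [show ((A⁻¹ : SL(2, F)) : Mat F) = adjugate (A : Mat F) from rfl, adjugate_fin_two]
    simp [mul_comm, add_comm]
  · rw [← GeneralLinearGroup.val_det_apply, ← GeneralLinearGroup.val_det_apply, det_mul_dg, map_inv]

theorem isEll_inv {M : GL (Fin 2) F} (hM : IsEll (M : Mat F)) : IsEll ((M⁻¹ : GL (Fin 2) F) : Mat F) :=
  fun c v hv e => by
    have h1 : v = c • (M : Mat F).mulVec v := by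
      rw [← mulVec_smul, ← e, mulVec_mulVec, Units.mul_inv, one_mulVec]
    have hc : c ≠ 0 := by rintro rfl; exact hv (by simpa using h1)
    exact hM c⁻¹ v hv (by rw [eq_inv_smul_iff₀ hc, ← h1])

variable [Finite F] [Finite R.G] {x h0 : Γ} {M : GL (Fin 2) F}

omit [Finite Φ] [Finite F] [Finite R.G] in
theorem Rep.fpf (r : D.Rep x M h0) (hS : h0 ∈ D.S) (hM : IsEll (M : Mat F)) :
    ∀ v ∈ R.Q {D.b}, x * v = v * x → v = 1 := by
  obtain ⟨hh, hc, A, e, rfl⟩ := r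
  exact D.fpf _ hh hS _ A hc (e ▸ hM)

omit [Finite F] in
theorem exists_twist_Q {l v : Γ} (hl : l ∈ R.L {D.b}) (hf : ∀ v ∈ R.Q {D.b}, l * v = v * l → v = 1)
    (hv : v ∈ R.Q {D.b}) : ∃ y ∈ R.Q {D.b}, v * l = y * l * y⁻¹ :=
  have : Finite (R.Q {D.b}) :=
    Finite.of_injective _ (Subgroup.inclusion_injective ((Q_le_U _).trans U_le_G))
  exists_twist (fun _ => conj_L_Q hl) hf hv

omit [Finite F] [Finite R.G] in
theorem fpf_conj {l k : Γ} (hk : k ∈ R.L {D.b}) (hf : ∀ v ∈ R.Q {D.b}, l * v = v * l → v = 1) :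
    ∀ v ∈ R.Q {D.b}, k * l⁻¹ * k⁻¹ * v = v * (k * l⁻¹ * k⁻¹) → v = 1 := fun v hv e => by
  have := hf _ (conj_L_Q' hk hv) (by
    calc l * (k⁻¹ * v * k) = l * k⁻¹ * (v * (k * l⁻¹ * k⁻¹)) * k * l := by group
      _ = _ := by rw [← e]; group)
  calc v = k * (k⁻¹ * v * k) * k⁻¹ := by group
    _ = 1 := by rw [this]; group

omit [Finite Φ] [Finite F] [Finite R.G] in
theorem Rep.real (r : D.Rep x M h0) (hM : IsEll (M : Mat F)) :
    ∃ k ∈ R.L {D.b}, D.m * x * D.m⁻¹ = k * x⁻¹ * k⁻¹ := by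
  obtain ⟨M', r', h1, h2⟩ := r.exists_conj_m
  obtain ⟨E, rfl⟩ := isConj_iff.1 (isConj_of_trace_det (isEll_inv hM).not_isScal
    (isEll_of_trace_det (isEll_inv hM) h1.symm h2.symm).not_isScal h1.symm h2.symm)
  obtain ⟨k, _, rk⟩ := exists_rep (D := D) E
  exact ⟨k, rk.mem_L, r'.unique (r.inv.conj rk)⟩

omit [Finite F] [Finite R.G] in
theorem conj_m_L {l : Γ} (hl : l ∈ R.L {D.b}) : D.m * l * D.m⁻¹ ∈ R.L {D.b} := by
  obtain ⟨_, _, r⟩ := exists_rep_of_mem hl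
  obtain ⟨_, r', -⟩ := r.exists_conj_m
  exact r'.mem_L

section main

variable (r : D.Rep x M h0) (hS : h0 ∈ D.S) (hM : IsEll (M : Mat F))
include r hS hM

omit [Finite F] in
theorem sq_of_inA {B : SL(2, F)} (hB : InA M (toGL B)) {v v' : Γ} (hv : v ∈ R.Q {D.b})
    (hv' : D.m * v' * D.m⁻¹ ∈ R.Q {D.b}) : Sq R.G x (v' * D.φ B * v) := by
  obtain ⟨E, E', e⟩ := hB
  obtain ⟨g, _, rg⟩ := exists_rep (D := D) E
  obtain ⟨g', _, rg'⟩ := exists_rep (D := D) E'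
  have h1 := (r.conj rg).mul (r.inv.conj rg')
  rw [mul_inv_cancel, ← e] at h1
  rw [(rep_φ B).unique h1]
  obtain ⟨k, hk, ek⟩ := r.real hM
  have hf := r.fpf hS hM
  have hm := N_le_G D.m_mem
  have hk1 := mul_mem (conj_m_L rg.mem_L) hk
  obtain ⟨y, hy, ey⟩ := exists_twist_Q (mul_mem (mul_mem hk1 (inv_mem r.mem_L)) (inv_mem hk1))
    (fpf_conj hk1 hf) hv'
  have hl := mul_mem (mul_mem rg'.mem_L (inv_mem r.mem_L)) (inv_mem rg'.mem_L)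
  obtain ⟨z, hz, ez⟩ := exists_twist_Q hl (fpf_conj rg'.mem_L hf) (conj_L_Q hl hv)
  have ek' : x⁻¹ = k⁻¹ * (D.m * x * D.m⁻¹) * k := by rw [ek]; group
  refine ⟨D.m⁻¹ * y * D.m * g, mul_mem (mul_mem (mul_mem (inv_mem hm) (U_le_G (Q_le_U _ hy))) hm)
    (L_le_G _ rg.mem_L), z * g' * k⁻¹ * D.m, mul_mem (mul_mem (mul_mem (U_le_G (Q_le_U _ hz))
    (L_le_G _ rg'.mem_L)) (inv_mem (L_le_G _ hk))) hm, ?_⟩
  have e1 : D.m * g * D.m⁻¹ * k * x⁻¹ * (D.m * g * D.m⁻¹ * k)⁻¹ = D.m * (g * x * g⁻¹) * D.m⁻¹ := by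
    rw [ek']; group
  rw [e1] at ey
  calc _ = D.m⁻¹ * (D.m * v' * D.m⁻¹ * (D.m * (g * x * g⁻¹) * D.m⁻¹)) * D.m *
        (g' * x⁻¹ * g'⁻¹ * v * (g' * x⁻¹ * g'⁻¹)⁻¹ * (g' * x⁻¹ * g'⁻¹)) := by group
    _ = _ := by rw [ey, ez, ek']; group

variable (hirr : R.Irred)
include hirr

theorem sq_s {q q' : Γ} (hq : q ∈ R.P {D.b}) (hq' : q' ∈ R.P {D.b}) : Sq R.G x (q * R.s D.a * q') := by
  have hne : R.w (R.s D.a)⁻¹ (R.simple D.b) ≠ R.simple D.b := fun h => by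
    rw [w_s_inv] at h
    obtain ⟨j, hj, j', hj', e⟩ := hirr {D.a} ⟨_, rfl⟩ ⟨D.b, D.ne.symm⟩
    rw [show j = D.a from hj, (D.all j').resolve_left hj'] at e
    exact e (comm_of_w_s_simple h)
  have hX : ∀ z ∈ R.X (R.simple D.b), (R.s D.a)⁻¹ * z * R.s D.a ∈ R.Q {D.b} := fun z hz => by
    refine X_le_Q_singleton ?_ hne (by simpa using R.conj_X (inv_mem (R.s_mem D.a)) hz)
    rw [w_s_inv]
    exact R.pos_w_s _ _ (R.pos_simple _) fun h => D.ne (simple_injective h).symm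
  obtain ⟨v, hv, l, hl, e⟩ := mem_P_iff_QL.1 (mul_mem hq' hq)
  obtain ⟨_, k, hk, hc, A, -, rfl⟩ := exists_rep_of_mem hl
  obtain ⟨h, hh, x1, hx1, x2, hx2, hy, A0, hA0⟩ := D.tor k hk
  obtain ⟨t, ht⟩ := exists_inA_mul hM (A0 * A)
  have hz : D.φ (slUp t) ∈ R.X (R.simple D.b) := (D.memX _).2 ⟨t, rfl⟩
  have hz' : k⁻¹ * D.φ (slUp t) * k ∈ R.X (R.simple D.b) := by simpa using conj_H_X (inv_mem hk) hz
  have hA0' : D.φ A0 = k * h⁻¹ := by rw [hA0, D.comm _ (inv_mem hh) _ hk]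
  have hl' := φ_mem_L (D := D) (A * slUp t * A0)
  have h1 := sq_of_inA r hS hM (B := A * slUp t * A0) (ht.conj (isConj_iff.2 ⟨(toGL A0)⁻¹, by
      simp only [map_mul]; group⟩))
    (mul_mem (conj_L_Q' hl' (mul_mem (mul_mem (inv_mem (Xa_le_Q hx2)) (hX _ (inv_mem hz'))) hv))
      (inv_mem (Xa_le_Q hx1)))
    (Xa_le_Q (by simpa [R.w_neg D.m_mem, D.w_m_a, R.neg_neg] using R.conj_X D.m_mem hy))
  refine h1.of_eq (y := x1 * h * (k⁻¹ * D.φ (slUp t) * k)⁻¹ * q⁻¹) (mul_mem (mul_mem (mul_mem (X_le_G _ hx1)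
    (H_le_G hh)) (inv_mem (X_le_G _ hz'))) (inv_mem (P_le_G _ hq))) ?_
  rw [show q' = v * (D.φ A * k) * q⁻¹ by rw [← e]; group, map_mul, map_mul, hA0']
  group

theorem sq_or {h u : Γ} (hh : h ∈ R.H) (hu : u ∈ R.U) : Sq R.G x (h * u) ∨
    ((∀ z ∈ R.X (R.simple D.a), h * z = z * h) ∧ u ∈ R.Q {D.a}) := by
  have key : ∀ z ∈ R.X (R.simple D.a), ∀ y ∈ R.Q {D.a}, z ≠ 1 → Sq R.G x (h * (z * y)) :=
    fun z hz y hy hz1 => by
    obtain ⟨c, hc, k, hk, d, hd, e⟩ := R.rank_one _ hz hz1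
    have hs := R.s_mem D.a
    refine (sq_s r hS hM hirr (q := R.s D.a * h * (R.s D.a)⁻¹ * c * k)
      (q' := d * (R.s D.a * y * (R.s D.a)⁻¹)) (B_le_P _ (mul_mem (mul_mem (H_le_B (conj_H hs hh))
        (U_le_B (X_le_U (R.pos_simple _) hc))) (H_le_B hk))) (U_le_P _ (mul_mem
        (X_le_U (R.pos_simple _) hd) (conj_Up hs (by rwa [Up_s_eq_Q]))))).of_eq (N_le_G hs) ?_
    calc _ = R.s D.a * h * (R.s D.a)⁻¹ * (R.s D.a * z * (R.s D.a)⁻¹) * (R.s D.a * y * (R.s D.a)⁻¹) := by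
          group
      _ = _ := by rw [e]; group
  obtain ⟨z, hz, y, hy, rfl⟩ := factor_simple D.a hu
  rw [Up_s_eq_Q] at hy
  by_cases hz1 : z = 1
  · subst hz1
    refine or_iff_not_imp_right.2 fun hc => ?_
    rw [one_mul] at hc ⊢
    simp only [hy, and_true, not_forall] at hc
    obtain ⟨z, hz, hc⟩ := hc
    refine (key (h⁻¹ * z * h * z⁻¹) (mul_mem (by simpa using conj_H_X (inv_mem hh) hz) (inv_mem hz))
      (z * y * z⁻¹) (conj_simple_Q (S := {D.a}) rfl hz hy) fun e => hc ?_).of_eq (X_le_G _ hz) (by group)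
    calc h * z = h * (h⁻¹ * z * h * z⁻¹) * z := by rw [e]; group
      _ = _ := by group
  · exact Or.inl (key z hz y hy hz1)

theorem sq_B {g : Γ} (hg : g ∈ R.B) : Sq R.G x g := by
  obtain ⟨u, hu, h, hh, rfl⟩ := mem_B.1 hg
  refine Sq.of_eq (g' := h * u) ?_ (H_le_G hh) (by group)
  refine (sq_or r hS hM hirr hh hu).elim id fun ⟨h1, h2⟩ => ?_
  have key : h = 1 → Sq R.G x (h * u) := by
    rintro rfl
    obtain ⟨g, hg, h3⟩ := D.unip u h2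
    exact (sq_of_inA r hS hM (B := 1) (by simpa using inA_one M) h3 (v' := 1) (by simp)).of_eq hg
      (by simp)
  obtain ⟨c, hc⟩ := D.ch h hh
  by_cases hc1 : c = 1
  · exact key (D.cent1 h hh h1 (hc1 ▸ hc))
  obtain ⟨z, hz, y, hy, rfl⟩ := factor_simple D.b hu
  rw [Up_s_eq_Q] at hy
  obtain ⟨t, rfl⟩ := (D.memX _).1 hz
  have hc2 : (1 - (c⁻¹ : Fˣ) : F) ≠ 0 := fun e => hc1 (by
    rw [sub_eq_zero, eq_comm, Units.val_eq_one, inv_eq_one] at e; exact e)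
  set z := D.φ (slUp (t / (1 - (c⁻¹ : Fˣ))))
  have hz' : z ∈ R.X (R.simple D.b) := (D.memX _).2 ⟨_, rfl⟩
  have hy' := conj_simple_Q (S := {D.b}) rfl hz' hy
  have e : z * (h * (D.φ (slUp t) * y)) * z⁻¹ = h * (z * y * z⁻¹) := by
    have h3 : h⁻¹ * z * h⁻¹⁻¹ * D.φ (slUp t) = z := by
      rw [(hc.inv _).1, ← map_mul, ← slUp_add]
      congr 2
      field_simp
      ring
    calc _ = h * (h⁻¹ * z * h⁻¹⁻¹ * D.φ (slUp t)) * y * z⁻¹ := by group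
      _ = _ := by rw [h3]; group
  have hs := R.s_mem D.b
  rcases sq_or r hS hM hirr (h := (R.s D.b)⁻¹ * h * R.s D.b) (by simpa using conj_H (inv_mem hs) hh)
    (conj_s_inv_Up (by rwa [Up_s_eq_Q] : z * y * z⁻¹ ∈ _)) with h3 | ⟨h3, -⟩
  · refine Sq.of_eq ?_ (X_le_G _ hz') e
    exact h3.of_eq (inv_mem (N_le_G hs)) (by group)
  rcases D.cent2 h hh h1 (fun w hw => by
    calc _ = R.s D.b * ((R.s D.b)⁻¹ * h * R.s D.b * w) * (R.s D.b)⁻¹ := by group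
      _ = _ := by rw [h3 w hw]; group) with h4 | ⟨A, rfl, h4, h5⟩
  · exact key h4
  · refine Sq.of_eq ?_ (X_le_G _ hz') e
    simpa using sq_of_inA r hS hM (inA_of_trace hM A.det_coe h4 h5) hy' (v' := 1) (by simp)

theorem sq_of_not_isEll {v l h : Γ} {M' : GL (Fin 2) F} (hv : v ∈ R.Q {D.b}) (r' : D.Rep l M' h)
    (hE : ¬ IsEll (M' : Mat F)) : Sq R.G x (v * l) := by
  obtain ⟨T, hT, hc⟩ := exists_isConj_upper hE
  obtain ⟨E, rfl⟩ := isConj_iff.1 hc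
  obtain ⟨k, _, rk⟩ := exists_rep (D := D) E
  refine (sq_B r hS hM hirr ?_).conj (L_le_G _ rk.mem_L)
  rw [show k * (v * l) * k⁻¹ = k * v * k⁻¹ * (k * l * k⁻¹) by group]
  refine mul_mem (U_le_B (Q_le_U _ (conj_L_Q rk.mem_L hv))) ?_
  obtain ⟨hh, -, A, e, e'⟩ := r'.conj rk
  rw [e, Units.val_mul, mul10, coe_toGL] at hT
  have h1 : (A : Mat F) 1 0 = 0 := by simpa [dg, M'.det_ne_zero] using hT
  obtain ⟨z, hz, hz1⟩ := exists_mem_X_ne_one (R := R) (R.simple D.b)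
  rw [e']
  refine mul_mem (mem_B_of_conj (L_le_P _ (φ_mem_L A)) hz hz1 ?_) (H_le_B hh)
  obtain ⟨t, rfl⟩ := (D.memX _).1 hz
  refine X_le_U (R.pos_simple D.b) ((D.memX _).2 ⟨(A : Mat F) 1 1 ^ 2 * t, ?_⟩)
  rw [← map_inv, ← map_mul, ← map_mul, mul_assoc, inv_mul_eq_iff_eq_mul.2]
  have h2 := upper_sl A h1
  simp only [sl_ext_iff, sl_coe_mul, mul00, mul01, mul10, mul11, coe_slUp]
  simp [h1]
  linear_combination (-(A : Mat F) 1 1 * t) * h2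

theorem sq_P {g : Γ} (hg : g ∈ R.P {D.b}) : Sq R.G x g := by
  obtain ⟨v, hv, l, hl, rfl⟩ := mem_P_iff_QL.1 hg
  obtain ⟨M', h, r'⟩ := exists_rep_of_mem hl
  rcases D.mem_S h r'.1 with ⟨A0, e⟩ | hh
  · obtain ⟨-, -, A, -, rfl⟩ := r'
    rw [← e, ← map_mul] at hl ⊢
    by_cases h1 : ((A * A0 : SL(2, F)) : Mat F).trace = 2
    · exact sq_of_not_isEll r hS hM hirr hv (rep_φ _) fun hE => isEll_iff.1 hE 1 (by
        rw [cp, coe_toGL, h1, (A * A0).det_coe]; ring)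
    by_cases h2 : ((A * A0 : SL(2, F)) : Mat F).trace = -2
    · exact sq_of_not_isEll r hS hM hirr hv (rep_φ _) fun hE => isEll_iff.1 hE (-1) (by
        rw [cp, coe_toGL, h2, (A * A0).det_coe]; ring)
    convert sq_of_inA r hS hM (B := A * A0) (inA_of_trace hM (A * A0).det_coe h1 h2) (conj_L_Q' hl hv) (v' := 1)
      (by simp) using 1
    group
  refine (em _).elim (fun hE => ?_) (sq_of_not_isEll r hS hM hirr hv r')
  obtain ⟨z, hz, hz1⟩ := exists_mem_X_ne_one (R := R) (R.simple D.a)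
  obtain ⟨y, hy, e⟩ := exists_twist_Q hl (r'.fpf hh hE) hv
  obtain ⟨y', hy', e'⟩ := exists_twist_Q hl (r'.fpf hh hE) (Xa_le_Q hz)
  obtain ⟨c, hc, k, hk, d, hd, e2⟩ := neg_eq (D.w_m_a ▸ R.conj_X D.m_mem hz) (by simpa using hz1)
  refine (sq_s r hS hM hirr (q := c * k) (q' := d * (D.m * l * D.m⁻¹))
    (B_le_P _ (mul_mem (U_le_B (X_le_U (R.pos_simple _) hc)) (H_le_B hk)))
    (mul_mem (U_le_P _ (X_le_U (R.pos_simple _) hd)) (L_le_P _ (conj_m_L hl)))).of_eq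
    (y := D.m * y' * y⁻¹) (mul_mem (mul_mem (N_le_G D.m_mem) (U_le_G (Q_le_U _ hy')))
      (inv_mem (U_le_G (Q_le_U _ hy)))) ?_
  calc _ = D.m * (y' * l * y'⁻¹) * D.m⁻¹ := by rw [e]; group
    _ = _ := by rw [← e', ← mul_assoc (c * k * _), ← e2]; group

theorem sq_G {p : ℕ} [Fact p.Prime] (hU : IsPGroup p R.U) {g : Γ} (hg : g ∈ R.G) : Sq R.G x g := by
  obtain ⟨y, hy, q, hq, q', hq', e⟩ := exists_conj_mem_PW hU (l := [D.a, D.b])
    (fun i => by simpa using D.all i) hg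
  rw [mem_PW_singleton] at hq'
  refine Sq.of_eq ?_ (inv_mem hy) (by rw [inv_inv, e])
  rcases mem_P_singleton hq with h | ⟨z, hz, c, hc, rfl⟩
  · exact sq_P r hS hM hirr (mul_mem (B_le_P _ h) hq')
  · rw [mul_assoc _ c]
    exact sq_s r hS hM hirr (U_le_P _ (X_le_U (R.pos_simple _) hz)) (mul_mem (B_le_P _ hc) hq')

end main

theorem main (D : Data R F) {p : ℕ} [hp : Fact p.Prime] [CharP F p] (hR : R.Lie p) :
    ∃ x : R.G, ¬ p ∣ orderOf x ∧ ∀ g : R.G, ∃ u v : R.G, g = u * x * u⁻¹ * (v * x * v⁻¹) := by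
  obtain ⟨h, hh, hS⟩ := D.exists_S
  obtain ⟨c, hc⟩ := D.ch h hh
  obtain ⟨M, hM, rfl⟩ := exists_isEll c
  obtain ⟨x, r⟩ := exists_rep_of hh hc
  refine ⟨⟨x, L_le_G _ r.mem_L⟩, fun hd => ?_, fun g => ?_⟩
  · have h1 := r.pow (orderOf M * orderOf h)
    have h2 := rep_φ (D := D) 1
    rw [pow_mul M, pow_orderOf_eq_one, one_pow, pow_mul' h, pow_orderOf_eq_one, one_pow] at h1
    rw [map_one, map_one] at h2
    rw [← Subgroup.orderOf_coe] at hd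
    exact (hp.out.dvd_mul.1 (hd.trans (orderOf_dvd_of_pow_eq_one (h1.unique h2)))).elim
      (not_dvd_orderOf p hM) ((Nat.Prime.coprime_iff_not_dvd hp.out).1 (coprime_orderOf hR.pH hh))
  · obtain ⟨u, hu, v, hv, e⟩ := sq_G r hS hM hR.irred hR.pU g.2
    exact ⟨⟨u, hu⟩, ⟨v, hv⟩, Subtype.ext e⟩

end Data

end Cfsg.Agent.Chev.Th
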