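import Mathlib
import Cfsg.Agent.Chev.ThRank2
import Cfsg.Agent.Chev.InvolConj
import Cfsg.Agent.Chev.InvolCent
import Cfsg.Agent.Chev.SimCoef
import Cfsg.Agent.Chev.C2Cent

/-!
Elliptic elements of Levi factors acting without fixed points on unipotent radicals: diagonalisation
over a quadratic extension.
-/

set_option autoImplicit false

namespace Cfsg.Agent.Chev.Th

open Cfsg.Agent.Cl.GL2 Cfsg.Agent.GT Matrix RootBN Cfsg.Lie Cfsg.Lie.ChevalleyDatum
open Matrix.SpecialLinearGroup (toGL)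
open scoped MatrixGroups

theorem exists_quad.{u} {K : Type u} [Field K] [Finite K] {T c : K} (h : ∀ r, r ^ 2 - T * r + c ≠ 0) :
    ∃ (L : Type u) (_ : Field L) (ι : K →+* L) (τ : L →+* L) (μ : Lˣ), (∀ x, τ (ι x) = ι x) ∧
      (μ : L) ^ 2 - ι T * μ + ι c = 0 ∧ μ * τ μ = ι c ∧ τ μ ≠ μ := by
  have : Fact (∀ r, r ^ 2 ≠ -c + T * r) := ⟨fun r e => h r (by linear_combination e)⟩
  have h0 : (QuadraticAlgebra.omega : QuadraticAlgebra K (-c) T) ≠ 0 := fun e => by
    simpa using congrArg QuadraticAlgebra.im e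
  refine ⟨QuadraticAlgebra K (-c) T, inferInstance, algebraMap _ _, starRingEnd _, Units.mk0 _ h0,
    fun x => by ext <;> simp [starRingEnd_apply], by ext <;> simp [sq],
    by ext <;> simp [starRingEnd_apply], fun e => ?_⟩
  have h1 : T = 0 := by simpa [starRingEnd_apply] using congrArg QuadraticAlgebra.re e
  have h2 : (-1 : K) = 1 := by simpa [starRingEnd_apply] using congrArg QuadraticAlgebra.im e
  have := Fintype.ofFinite K
  obtain ⟨d, hd⟩ := FiniteField.isSquare_of_char_two (F := K) (by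
    have : CharP K 2 := CharTwo.of_one_ne_zero_of_two_eq_zero one_ne_zero (by linear_combination -h2)
    exact ringChar.eq K 2) c
  exact h d (by rw [h1, hd]; linear_combination (-d ^ 2) * h2)

variable {Γ : Type*} [Group Γ] {F : Type*} [Field F]

theorem commute_of_gen {f : SL(2, F) →* Γ} {x : Γ} (a : ∀ t, Commute (f (slUp t)) x)
    (b : ∀ t, Commute (f (slLo t)) x) (g : SL(2, F)) : Commute (f g) x := by
  have := eq_top_of_slUp_slLo_mem ((Subgroup.centralizer {x}).comap f)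
    (fun t => Subgroup.mem_centralizer_singleton_iff.2 (a t))
    (fun t => Subgroup.mem_centralizer_singleton_iff.2 (b t))
  exact Subgroup.mem_centralizer_singleton_iff.1 (show g ∈ (Subgroup.centralizer {x}).comap f from
    this ▸ Subgroup.mem_top g)

theorem sl_hom_ext {f g : SL(2, F) →* Γ} (a : ∀ t, f (slUp t) = g (slUp t))
    (b : ∀ t, f (slLo t) = g (slLo t)) (A : SL(2, F)) : f A = g A :=
  show A ∈ f.eqLocus g from eq_top_of_slUp_slLo_mem (f.eqLocus g) a b ▸ Subgroup.mem_top A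

theorem uppS_eq (μ : Fˣ) : uppS μ 0 = slUp (μ : F) * slLo (-(μ : F)⁻¹) * slUp (μ : F) *
    (slUp (-1) * slLo (-(-1)⁻¹) * slUp (-1)) := by
  simp [sl_ext_iff]

theorem exists_conj_diag {φ : SL(2, F) →* Γ} {h : Γ} {c : Fˣ} (hc : Ch φ h c) {A : SL(2, F)} {μ : Fˣ}
    (h0 : (A : Mat F) 1 0 ≠ 0) (h1 : cp ((toGL A * dg c : GL (Fin 2) F) : Mat F) μ = 0)
    (h2 : (μ : F) ^ 2 ≠ c) : ∃ E, φ E * (φ A * h) * (φ E)⁻¹ = φ (uppS μ⁻¹ 0) * h := by
  have hd : ∀ B : SL(2, F), ((toGL B * dg c : GL (Fin 2) F) : Mat F).det = c := fun B => by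
    rw [← GeneralLinearGroup.val_det_apply, Data.det_mul_dg]
  obtain ⟨E, hE⟩ := isConj_iff.1 (isConj_of_trace_det (g := toGL A * dg c)
    (h := toGL (uppS μ⁻¹ 0) * dg c) (fun e => h0 (by simpa [mul10, dg, coe_toGL] using e.2.1))
    (fun e => h2 (by
      have := e.2.2
      simp only [Units.val_mul, mul00, mul11, dg, coe_toGL] at this
      simp at this
      rw [sq, ← eq_inv_mul_iff_mul_eq₀ μ.ne_zero, this])) (by
      rw [cp, hd] at h1
      apply mul_right_cancel₀ μ.ne_zero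
      rw [show ((toGL (uppS μ⁻¹ 0) * dg c : GL (Fin 2) F) : Mat F).trace = (μ : F)⁻¹ * c + μ by
        simp [trace_fin_two, mul00, mul11, dg]]
      field_simp
      linear_combination -h1) (by rw [hd, hd]))
  obtain ⟨B, hB⟩ := exists_eq_mul_dg E⁻¹
  obtain ⟨B', hB'⟩ := exists_toGL_conj (dg c) B
  refine ⟨B⁻¹, ?_⟩
  have h3 : ∀ d : Fˣ, dg d * (toGL (uppS μ⁻¹ 0) * dg c) * (dg d)⁻¹ = toGL (uppS μ⁻¹ 0) * dg c := fun d => by
    rw [mul_inv_eq_iff_eq_mul]
    simp [gl_ext_iff, mul00, mul01, mul10, mul11, dg, mul_comm]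
  have h4 : B⁻¹ * A * B' = uppS μ⁻¹ 0 := SpecialLinearGroup.toGL_injective (by
    rw [← mul_left_inj (dg c), ← h3 (GeneralLinearGroup.det E⁻¹), ← hE, map_mul, map_mul, hB', map_inv,
      show toGL B = E⁻¹ * (dg (GeneralLinearGroup.det E⁻¹))⁻¹ from eq_mul_inv_of_mul_eq hB.symm]
    group)
  rw [← h4, map_mul, map_mul, ← hc.cj _ _ hB', map_inv]
  group

variable {D : ChevalleyDatum} [hG : D.Good] {K L : Type*} [Field K] [Field L]

/-- The value of a weight on a torus element. -/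
def tv {G : Type*} [CommGroup G] (c : D.Nd → G) (v : D.Lat) : G := ∏ i, c i ^ v i

omit hG in
theorem tv_add {G : Type*} [CommGroup G] (c : D.Nd → G) (v w : D.Lat) : tv c (v + w) = tv c v * tv c w := by
  simp [tv, _root_.zpow_add, Finset.prod_mul_distrib]

omit hG in
theorem tv_smul {G : Type*} [CommGroup G] (c : D.Nd → G) (k : ℤ) (v : D.Lat) :
    tv c (k • v) = tv c v ^ k := by
  simp [tv, ← Finset.prod_zpow, ← _root_.zpow_mul, mul_comm]

omit hG in
theorem tv_neg {G : Type*} [CommGroup G] (c : D.Nd → G) (v : D.Lat) : tv c (-v) = (tv c v)⁻¹ := by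
  simp [tv]

omit hG in
theorem tv_mul {G : Type*} [CommGroup G] (c c' : D.Nd → G) (v : D.Lat) :
    tv (c * c') v = tv c v * tv c' v := by
  simp [tv, mul_zpow, Finset.prod_mul_distrib]

omit hG in
theorem tv_map {G G' : Type*} [CommGroup G] [CommGroup G'] (f : G →* G') (c : D.Nd → G) (v : D.Lat) :
    tv (fun i => f (c i)) v = f (tv c v) := by
  simp [tv]

omit hG in
theorem tv_cw {G : Type*} [CommGroup G] (μ : G) (r s : ℕ) :
    tv (fun i => μ ^ D.cw r i) (D.wt s) = μ ^ D.pairing r s := by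
  simp [tv, ← _root_.zpow_mul, pairing_eq_dot, dotProduct, zpow_finsetSum']

theorem torus_conj_X (c : D.Nd → Kˣ) (r : D.Rt) (t : K) :
    D.torusHom K c * D.X K r t * (D.torusHom K c)⁻¹ = D.X K r (tv c (D.wt r) * t) :=
  torusHom_conj_X c r t

theorem tv_eq_one_of_commute {c : D.Nd → Kˣ} {r : D.Rt}
    (h : D.torusHom K c * D.X K r 1 = D.X K r 1 * D.torusHom K c) : tv c (D.wt r) = 1 := by
  have := torus_conj_X c r 1
  rw [h, mul_inv_cancel_right] at this
  exact Units.ext (by simpa using (D.X_injective K r this).symm)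

omit hG in
theorem glMap_torus (f : K →+* L) (c : D.Nd → Kˣ) : GeneralLinearGroup.map f (D.torusHom K c) =
    D.torusHom L fun i => Units.map (f : K →* L) (c i) := by
  rw [torusHom_apply, glMap_charG, torusHom_apply, charG_eq_iff]
  simp

theorem mem_XS_of_commute {c : D.Nd → Kˣ} {u : GL D.Idx K} (hu : u ∈ D.posUnipotent K)
    (h : D.torusHom K c * u = u * D.torusHom K c) :
    u ∈ D.XS K {r | D.IsPosRoot r ∧ tv c (D.wt r) = 1} := by
  classical
  have hl := Finset.nodup_toList {r : D.Rt | D.IsPosRoot r}.toFinset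
  have hlS : ∀ r, r ∈ {r : D.Rt | D.IsPosRoot r}.toFinset.toList ↔ r ∈ {r : D.Rt | D.IsPosRoot r} := by simp
  obtain ⟨t, rfl⟩ := ((D.isModel_X K).toIsAB.relOn _).exists_stProd D.closed_isPos (f := D.ht)
    (fun r hr => (D.isPos_iff_ht r).1 hr) hl hlS (by rwa [st_XS, ← posUnipotent_eq_XS])
  have h1 := map_stProd (x := fun r : D.Rt => D.X K r) (MulAut.conj (D.torusHom K c)).toMonoidHom
    {r : D.Rt | D.IsPosRoot r}.toFinset.toList t
  simp only [MulEquiv.toMonoidHom_eq_coe, MonoidHom.coe_coe, MulAut.conj_apply, h,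
    mul_inv_cancel_right] at h1
  have h3 := (D.isModel_X K).uniq_pos hl (fun r hr => (D.stRoot_pos r).2 ((hlS r).1 hr)) t
    (fun r => tv c (D.wt r) * t r) (by rw [h1]; simp only [stProd, torus_conj_X])
  refine Subgroup.list_prod_mem _ fun g hg => ?_
  obtain ⟨r, hr, rfl⟩ := List.mem_map.1 hg
  by_cases h4 : t r = 0
  · simp only [h4, X_zero]; exact one_mem _
  · exact D.X_mem_XS K (S := {r | D.IsPosRoot r ∧ tv c (D.wt r) = 1})
      ⟨(hlS r).1 hr, Units.ext (mul_right_cancel₀ h4 (by simpa using (h3 r hr).symm))⟩ _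

theorem glMap_mem_XS (f : K →+* L) {S : Set D.Rt} {g : GL D.Idx K} (hg : g ∈ D.XS K S) :
    GeneralLinearGroup.map f g ∈ D.XS L S :=
  (Subgroup.closure_le ((D.XS L S).comap (GeneralLinearGroup.map f))).2 (by
    rintro _ ⟨r, hr, t, rfl⟩
    exact show GeneralLinearGroup.map f _ ∈ D.XS L S from glMap_X (D := D) f r t ▸ D.X_mem_XS L hr _) hg

theorem fpf_of_conj (f : K →+* L) {S : Set D.Nd} {l : GL D.Idx K} {g : GL D.Idx L}
    (hg : g ∈ (D.rootBN L).L S) {c : D.Nd → Lˣ}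
    (e : g * GeneralLinearGroup.map f l * g⁻¹ = D.torusHom L c)
    (hc : ∀ r : D.Rt, D.IsPosRoot r → tv c (D.wt r) = 1 → (D.rootBN L).supp r ⊆ S)
    {v : GL D.Idx K} (hv : v ∈ (D.rootBN K).Q S) (h : l * v = v * l) : v = 1 := by
  have h1 : GeneralLinearGroup.map f v ∈ (D.rootBN L).Q S := by
    rw [RootBN.Q, rootBN_XS] at hv ⊢
    exact glMap_mem_XS f hv
  have h2 := conj_P_Q (L_le_P _ hg) h1
  have h3 := mem_XS_of_commute (c := c) (Q_le_U _ h2) (by
    rw [← e]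
    calc _ = g * GeneralLinearGroup.map f (l * v) * g⁻¹ := by rw [map_mul]; group
      _ = _ := by rw [h, map_mul]; group)
  rw [← rootBN_XS] at h3
  have h4 := eq_one_of_mem_US_Q (RootBN.XS_mono (T := {r | _ ∧ _}) (fun r hr => ⟨hr.1, hc r hr.1 hr.2⟩) h3) h2
  rw [mul_inv_eq_one, mul_eq_left] at h4
  exact Units.ext (Matrix.map_injective f.injective (by
    simpa using congrArg (fun x : GL D.Idx L => (x : Matrix D.Idx D.Idx L)) h4))

variable (D) in
/-- `φ` is the root `SL₂` of `r`. -/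
def IsSl (r : D.Rt) (φ : SL(2, K) →* GL D.Idx K) : Prop :=
  (∀ t, φ (slUp t) = D.X K r t) ∧ ∀ t, φ (slLo t) = D.X K (D.ng r) t

namespace IsSl

variable {r : D.Rt} {φ : SL(2, K) →* GL D.Idx K} (hφ : IsSl D r φ)
include hφ

theorem ch (c : D.Nd → Kˣ) : Ch φ (D.torusHom K c) (tv c (D.wt r)) := fun t => by
  rw [hφ.1, hφ.1, hφ.2, hφ.2, torus_conj_X, torus_conj_X, wt_ng, tv_neg]
  exact ⟨rfl, rfl⟩

theorem eq_of_ch {c : D.Nd → Kˣ} {e : Kˣ} (h : Ch φ (D.torusHom K c) e) : e = tv c (D.wt r) :=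
  Units.ext (by simpa using (D.X_injective K r (((hφ.1 _).symm.trans
    ((h 1).1.symm.trans (hφ.ch c 1).1)).trans (hφ.1 _))))

theorem diag (μ : Kˣ) : φ (uppS μ 0) = D.torusHom K fun i => μ ^ D.cw r i := by
  rw [← hE_eq_torusHom, uppS_eq]
  simp only [map_mul, hφ.1, hφ.2]
  rfl

theorem mem_L {S : Set D.Nd} (h : (D.rootBN K).supp r ⊆ S) (A : SL(2, K)) : φ A ∈ (D.rootBN K).L S := by
  have := eq_top_of_slUp_slLo_mem (((D.rootBN K).L S).comap φ)
    (fun t => X_le_L h (hφ.1 t ▸ D.X_mem_rootSubgroup K _ _)) fun t =>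
      X_le_L (r := D.ng r) (((D.rootBN K).supp_neg r).symm ▸ h) (hφ.2 t ▸ D.X_mem_rootSubgroup K _ _)
  exact show A ∈ ((D.rootBN K).L S).comap φ from this ▸ Subgroup.mem_top A

theorem map (f : K →+* L) {φ' : SL(2, L) →* GL D.Idx L} (hφ' : IsSl D r φ') (A : SL(2, K)) :
    GeneralLinearGroup.map f (φ A) = φ' (SpecialLinearGroup.map f A) :=
  sl_hom_ext (f := (GeneralLinearGroup.map f).comp φ) (g := φ'.comp (SpecialLinearGroup.map f))
    (fun t => by simp [hφ.1, hφ'.1, glMap_X, map_slUp]) (fun t => by simp [hφ.2, hφ'.2, glMap_X, map_slLo]) A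

theorem exists_diag (c : D.Nd → Kˣ) {A : SL(2, K)} {μ : Kˣ} (h0 : (A : Mat K) 1 0 ≠ 0)
    (h1 : (μ : K) ^ 2 - ((A : Mat K) 0 0 * tv c (D.wt r) + (A : Mat K) 1 1) * μ + tv c (D.wt r) = 0)
    (h2 : (μ : K) ^ 2 ≠ tv c (D.wt r)) :
    ∃ E, φ E * (φ A * D.torusHom K c) * (φ E)⁻¹ = D.torusHom K ((fun i => μ⁻¹ ^ D.cw r i) * c) := by
  obtain ⟨E, e⟩ := exists_conj_diag (hφ.ch c) h0 (by
    rw [cp, ← GeneralLinearGroup.val_det_apply, Data.det_mul_dg, ← h1]
    simp [trace_fin_two, mul00, mul11, dg]) h2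
  exact ⟨E, by rw [e, hφ.diag, map_mul]⟩

end IsSl

theorem ell_entries {A : SL(2, F)} {c : Fˣ} (h : IsEll ((toGL A * dg c : GL (Fin 2) F) : Mat F)) :
    (A : Mat F) 1 0 ≠ 0 ∧ ∀ r : F, r ^ 2 - ((A : Mat F) 0 0 * c + (A : Mat F) 1 1) * r + c ≠ 0 :=
  ⟨fun e => h.ne_zero10 (by simp [mul10, dg, e]), fun r e => isEll_iff.1 h r (by
    rw [cp, ← GeneralLinearGroup.val_det_apply, Data.det_mul_dg, ← e]
    simp [trace_fin_two, mul00, mul11, dg])⟩

end Cfsg.Agent.Chev.Th
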