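import Mathlib
import Cfsg.Agent.Chev.TimSpecial

/-!
Sets of abstract root subgroups: the commutator case, central translates, the TI property, lines.
-/

set_option autoImplicit false

open Cfsg Cfsg.Agent.Chev.Tim

variable {G : Type*} [Group G] {S : Set (Subgroup G)} {A B C D E : Subgroup G}

namespace Cfsg.Agent.Chev.Tim

theorem comm_mem {a b : G} (ha : a ∈ A) (hb : b ∈ B) : a * b * a⁻¹ * b⁻¹ ∈ ⁅A, B⁆ :=
  Subgroup.commutator_mem_commutator ha hb

theorem commutator_le_of {N : Subgroup G} (h : ∀ a ∈ A, ∀ b ∈ B, a * b * a⁻¹ * b⁻¹ ∈ N) : ⁅A, B⁆ ≤ N :=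
  Subgroup.commutator_le.2 h

/-- commutators with a join, modulo a subgroup normalised by the join -/
theorem commutator_sup_le {P Q R N : Subgroup G} (hN : ∀ x ∈ P ⊔ Q, conjBy N x = N) (hP : ⁅P, R⁆ ≤ N)
    (hQ : ⁅Q, R⁆ ≤ N) : ⁅P ⊔ Q, R⁆ ≤ N := by
  refine commutator_le_of fun x hx y hy => ?_
  have key : ∀ a ∈ P ⊔ Q, a * y * a⁻¹ * y⁻¹ ∈ N → ∀ x, x * y * x⁻¹ * y⁻¹ ∈ N →
      (a * x) * y * (a * x)⁻¹ * y⁻¹ ∈ N := by
    intro a ha h1 x h2
    have : (a * x) * y * (a * x)⁻¹ * y⁻¹ = (a * (x * y * x⁻¹ * y⁻¹) * a⁻¹) * (a * y * a⁻¹ * y⁻¹) := by group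
    rw [this]
    exact mul_mem (hN a ha ▸ conj_mem_conjBy h2 a) h1
  refine sup_induction (P := fun x => x * y * x⁻¹ * y⁻¹ ∈ N) (by simp) ?_ ?_ x hx
  · intro a ha x _ h
    exact key a (Subgroup.mem_sup_left ha) (hP (comm_mem ha hy)) x h
  · intro a ha x _ h
    exact key a (Subgroup.mem_sup_right ha) (hQ (comm_mem ha hy)) x h

theorem commutator_sup_le' {P Q R N : Subgroup G} (hN : ∀ x ∈ P ⊔ Q, conjBy N x = N) (hP : ⁅R, P⁆ ≤ N)
    (hQ : ⁅R, Q⁆ ≤ N) : ⁅R, P ⊔ Q⁆ ≤ N := by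
  rw [Subgroup.commutator_comm] at hP hQ ⊢
  exact commutator_sup_le hN hP hQ

/-- in a rank one pair with `B` abelian, `⁅A, B⁆` does not centralise `B` -/
theorem not_comm_commutator (h : IsRankOnePair A B) (hB : Comm B B) : ¬ Comm ⁅A, B⁆ B := by
  intro hc
  obtain ⟨a, ha, ha1⟩ := exists_ne_one_of_ne_bot h.left_ne_bot
  obtain ⟨b, hb, -, e⟩ := h.exists_match ha ha1
  have h1 : a⁻¹ * (b * a * b⁻¹) * a ∈ B := by
    rw [← mem_conjBy, ← e]; exact conj_mem_conjBy ha b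
  have h2 : a⁻¹ * b * a⁻¹⁻¹ * b⁻¹ ∈ ⁅A, B⁆ := comm_mem (inv_mem ha) hb
  refine ha1 (h.eq_one_of_commute_left ha fun y hy => ?_)
  have e1 := hB _ h1 y hy
  have e2 := hc _ h2 y hy
  have e3 : a = (a⁻¹ * b * a⁻¹⁻¹ * b⁻¹)⁻¹ * (a⁻¹ * (b * a * b⁻¹) * a) := by group
  have e4 : Commute (a⁻¹ * b * a⁻¹⁻¹ * b⁻¹)⁻¹ y := Commute.inv_left e2
  have e5 : Commute ((a⁻¹ * b * a⁻¹⁻¹ * b⁻¹)⁻¹ * (a⁻¹ * (b * a * b⁻¹) * a)) y := e4.mul_left e1
  rw [← e3] at e5
  exact e5

/-- two rank one groups over the same `B` with a common further unipotent subgroup coincide -/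
theorem unip_eq_of_conj_eq (h : IsRankOnePair A B) (h' : IsRankOnePair C B) {a c : G} (ha : a ∈ A)
    (ha1 : a ≠ 1) (hc : c ∈ C) (e : conjBy B c = conjBy B a) :
    unipotentSubgroups C B = unipotentSubgroups A B := by
  have hne : B ≠ conjBy B a := fun e' => ha1 (h.eq_one_of_left ha e'.symm)
  rw [← h.unip_unip h.right_mem_unip (h.conj_right_mem_unip (Subgroup.mem_sup_left ha)) hne,
    ← h'.unip_unip h'.right_mem_unip (h'.conj_right_mem_unip (Subgroup.mem_sup_left hc)) (e ▸ hne), e]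

/-- `A` has a rank one partner in `S` -/
def HasPartner (S : Set (Subgroup G)) (A : Subgroup G) : Prop := ∃ B ∈ S, IsRankOnePair A B

theorem hasPartner_of_not_isolated (hA : A ∈ S) (h : ¬ IsIsolatedIn (FAdj S) S A) : HasPartner S A := by
  by_contra hc
  refine h ⟨hA, fun B => ⟨fun hB => hc ⟨B, hB.2.1, hB.2.2⟩, fun hB => hc ⟨B, hB.1, hB.2.2.symm⟩⟩⟩

theorem HasPartner.not_isolated (hA : A ∈ S) (h : HasPartner S A) : ¬ IsIsolatedIn (FAdj S) S A := by
  obtain ⟨B, hB, h⟩ := h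
  exact fun hi => (hi.2 B).1 ⟨hA, hB, h⟩

end Cfsg.Agent.Chev.Tim

namespace Cfsg.RootCommutatorCase

theorem mem (h : RootCommutatorCase S A B) : ⁅A, B⁆ ∈ S := h.1

theorem comm_sup (h : RootCommutatorCase S A B) : Comm ⁅A, B⁆ (A ⊔ B) := h.2.1

theorem commL (h : RootCommutatorCase S A B) : Comm ⁅A, B⁆ A := h.comm_sup.mono le_rfl le_sup_left

theorem commR (h : RootCommutatorCase S A B) : Comm ⁅A, B⁆ B := h.comm_sup.mono le_rfl le_sup_right

theorem of_exists (h1 : ⁅A, B⁆ ∈ S) (hL : Comm ⁅A, B⁆ A) (hR : Comm ⁅A, B⁆ B)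
    (h2 : ∀ a ∈ A, a ≠ 1 → ∀ c ∈ ⁅A, B⁆, ∃ b ∈ B, a * b * a⁻¹ * b⁻¹ = c)
    (h3 : ∀ b ∈ B, b ≠ 1 → ∀ c ∈ ⁅A, B⁆, ∃ a ∈ A, a * b * a⁻¹ * b⁻¹ = c) : RootCommutatorCase S A B := by
  refine ⟨h1, hL.sup_right hR, fun a ha ha1 => ?_, fun b hb hb1 => ?_⟩
  · refine le_antisymm ((Subgroup.closure_le _).2 ?_) fun c hc => Subgroup.subset_closure (h2 a ha ha1 c hc)
    rintro _ ⟨b, hb, rfl⟩
    exact comm_mem ha hb
  · refine le_antisymm ((Subgroup.closure_le _).2 ?_) fun c hc => Subgroup.subset_closure (h3 b hb hb1 c hc)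
    rintro _ ⟨a, ha, rfl⟩
    exact comm_mem ha hb

theorem comm_mul_right (h : RootCommutatorCase S A B) {a b b' : G} (ha : a ∈ A) (hb : b ∈ B) (hb' : b' ∈ B) :
    a * (b * b') * a⁻¹ * (b * b')⁻¹ = (a * b * a⁻¹ * b⁻¹) * (a * b' * a⁻¹ * b'⁻¹) := by
  have := h.commR _ (comm_mem ha hb') b hb
  calc a * (b * b') * a⁻¹ * (b * b')⁻¹ = (a * b * a⁻¹ * b⁻¹) * (b * (a * b' * a⁻¹ * b'⁻¹)) * b⁻¹ := by group
    _ = _ := by rw [← this]; group

theorem comm_mul_left (h : RootCommutatorCase S A B) {a a' b : G} (ha : a ∈ A) (ha' : a' ∈ A) (hb : b ∈ B) :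
    (a * a') * b * (a * a')⁻¹ * b⁻¹ = (a' * b * a'⁻¹ * b⁻¹) * (a * b * a⁻¹ * b⁻¹) := by
  have := h.commL _ (comm_mem ha' hb) a ha
  calc (a * a') * b * (a * a')⁻¹ * b⁻¹ = (a * (a' * b * a'⁻¹ * b⁻¹)) * a⁻¹ * (a * b * a⁻¹ * b⁻¹) := by group
    _ = _ := by rw [← this]; group

theorem comm_inv_right (h : RootCommutatorCase S A B) {a b : G} (ha : a ∈ A) (hb : b ∈ B) :
    a * b⁻¹ * a⁻¹ * b⁻¹⁻¹ = (a * b * a⁻¹ * b⁻¹)⁻¹ := by
  have := h.comm_mul_right ha hb (inv_mem hb)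
  rw [eq_inv_iff_mul_eq_one, ← mul_eq_one_comm, ← this]; group

theorem comm_inv_left (h : RootCommutatorCase S A B) {a b : G} (ha : a ∈ A) (hb : b ∈ B) :
    a⁻¹ * b * a⁻¹⁻¹ * b⁻¹ = (a * b * a⁻¹ * b⁻¹)⁻¹ := by
  have := h.comm_mul_left ha (inv_mem ha) hb
  rw [eq_inv_iff_mul_eq_one, ← this]; group

theorem exists_right (h : RootCommutatorCase S A B) {a c : G} (ha : a ∈ A) (ha1 : a ≠ 1) (hc : c ∈ ⁅A, B⁆) :
    ∃ b ∈ B, a * b * a⁻¹ * b⁻¹ = c := by
  rw [← h.2.2.1 a ha ha1] at hc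
  induction hc using Subgroup.closure_induction with
  | mem x hx => exact hx
  | one => exact ⟨1, one_mem _, by group⟩
  | mul x y _ _ hx hy =>
    obtain ⟨b, hb, rfl⟩ := hx
    obtain ⟨b', hb', rfl⟩ := hy
    exact ⟨b * b', mul_mem hb hb', h.comm_mul_right ha hb hb'⟩
  | inv x _ hx =>
    obtain ⟨b, hb, rfl⟩ := hx
    exact ⟨b⁻¹, inv_mem hb, h.comm_inv_right ha hb⟩

theorem exists_left (h : RootCommutatorCase S A B) {b c : G} (hb : b ∈ B) (hb1 : b ≠ 1) (hc : c ∈ ⁅A, B⁆) :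
    ∃ a ∈ A, a * b * a⁻¹ * b⁻¹ = c := by
  rw [← h.2.2.2 b hb hb1] at hc
  induction hc using Subgroup.closure_induction with
  | mem x hx => exact hx
  | one => exact ⟨1, one_mem _, by group⟩
  | mul x y _ _ hx hy =>
    obtain ⟨a, ha, rfl⟩ := hx
    obtain ⟨a', ha', rfl⟩ := hy
    exact ⟨a' * a, mul_mem ha' ha, h.comm_mul_left ha' ha hb⟩
  | inv x _ hx =>
    obtain ⟨a, ha, rfl⟩ := hx
    exact ⟨a⁻¹, inv_mem ha, h.comm_inv_left ha hb⟩

theorem symm (h : RootCommutatorCase S A B) : RootCommutatorCase S B A := by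
  have e := Subgroup.commutator_comm B A
  refine of_exists (e ▸ h.mem) (e ▸ h.commR) (e ▸ h.commL) ?_ ?_
  · intro b hb hb1 c hc
    obtain ⟨a, ha, e'⟩ := h.exists_left hb hb1 (inv_mem (e ▸ hc))
    exact ⟨a, ha, by rw [← inv_inv c, ← e']; group⟩
  · intro a ha ha1 c hc
    obtain ⟨b, hb, e'⟩ := h.exists_right ha ha1 (inv_mem (e ▸ hc))
    exact ⟨b, hb, by rw [← inv_inv c, ← e']; group⟩

theorem not_rankOne (h : RootCommutatorCase S A B) (hB : Comm B B) : ¬ IsRankOnePair A B :=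
  fun h' => not_comm_commutator h' hB h.commR

/-- conjugating `B` by `a ∈ A` stays inside `B ⁅A, B⁆` -/
theorem conjBy_right_le (_h : RootCommutatorCase S A B) {a : G} (ha : a ∈ A) : conjBy B a ≤ ⁅A, B⁆ ⊔ B := by
  intro x hx
  obtain ⟨b, hb, rfl⟩ := mem_conjBy'.1 hx
  have : a * b * a⁻¹ = (a * b * a⁻¹ * b⁻¹) * b := by group
  rw [this]
  exact mul_mem (Subgroup.mem_sup_left (comm_mem ha hb)) (Subgroup.mem_sup_right hb)

theorem conjBy_left_le (h : RootCommutatorCase S A B) {b : G} (hb : b ∈ B) : conjBy A b ≤ A ⊔ ⁅A, B⁆ := by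
  have := h.symm.conjBy_right_le hb
  rwa [Subgroup.commutator_comm, sup_comm] at this

theorem commutator_sup_le (h : RootCommutatorCase S A B) (hA : Comm A A) (hB : Comm B B) :
    ⁅A ⊔ B, A ⊔ B⁆ ≤ ⁅A, B⁆ := by
  have hN : ∀ x ∈ A ⊔ B, conjBy ⁅A, B⁆ x = ⁅A, B⁆ := fun x hx => h.comm_sup.conjBy_eq' hx
  refine Agent.Chev.Tim.commutator_sup_le hN (commutator_sup_le' hN ?_ le_rfl) (commutator_sup_le' hN ?_ ?_)
  · rw [comm_iff.2 hA]; exact bot_le
  · rw [Subgroup.commutator_comm]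
  · rw [comm_iff.2 hB]; exact bot_le

/-- `B` normalises the line `A ⁅A, B⁆` -/
theorem conjBy_line (h : RootCommutatorCase S A B) {b : G} (hb : b ∈ B) :
    conjBy (A ⊔ ⁅A, B⁆) b = A ⊔ ⁅A, B⁆ := by
  have key : ∀ b ∈ B, conjBy (A ⊔ ⁅A, B⁆) b ≤ A ⊔ ⁅A, B⁆ := by
    intro b hb
    rw [conjBy_sup, h.commR.conjBy_eq' hb]
    exact sup_le (h.conjBy_left_le hb) le_sup_right
  refine le_antisymm (key b hb) ?_
  have := conjBy_mono (key b⁻¹ (inv_mem hb)) b
  rwa [conjBy_conjBy_inv] at this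

end Cfsg.RootCommutatorCase

namespace Cfsg.IsRootSubgroupSet

theorem comm_self (hS : IsRootSubgroupSet S) (hA : A ∈ S) : Comm A A := comm_self_iff.2 (hS.commutative A hA)

theorem exists_ne_one (hS : IsRootSubgroupSet S) (hA : A ∈ S) : ∃ a ∈ A, a ≠ 1 :=
  exists_ne_one_of_ne_bot (hS.ne_bot A hA)

theorem cases (hS : IsRootSubgroupSet S) (hA : A ∈ S) (hB : B ∈ S) :
    Comm A B ∨ IsRankOnePair A B ∨ RootCommutatorCase S A B := by
  rw [← comm_iff]; exact hS.pair A hA B hB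

theorem conj_mem_iff (hS : IsRootSubgroupSet S) {g : G} : conjBy A g ∈ S ↔ A ∈ S :=
  ⟨fun h => conjBy_inv_conjBy A g ▸ hS.conj_mem _ h g⁻¹, fun h => hS.conj_mem A h g⟩

theorem unip_mem (hS : IsRootSubgroupSet S) (hA : A ∈ S) (hC : C ∈ unipotentSubgroups A B) : C ∈ S := by
  obtain ⟨x, -, rfl⟩ := hC
  exact hS.conj_mem A hA x

theorem cc_not_comm (hS : IsRootSubgroupSet S) (h : RootCommutatorCase S A B) : ¬ Comm A B :=
  fun hc => hS.ne_bot _ h.mem (comm_iff.2 hc)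

theorem cc_eq_one_left (hS : IsRootSubgroupSet S) (h : RootCommutatorCase S A B) {a : G} (ha : a ∈ A)
    (e : ∀ b ∈ B, a * b = b * a) : a = 1 := by
  by_contra ha1
  obtain ⟨c, hc, hc1⟩ := hS.exists_ne_one h.mem
  obtain ⟨b, hb, rfl⟩ := h.exists_right ha ha1 hc
  exact hc1 (by rw [e b hb]; group)

theorem cc_eq_one_right (hS : IsRootSubgroupSet S) (h : RootCommutatorCase S A B) {b : G} (hb : b ∈ B)
    (e : ∀ a ∈ A, b * a = a * b) : b = 1 :=
  hS.cc_eq_one_left h.symm hb e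

theorem cc_conj (hS : IsRootSubgroupSet S) (h : RootCommutatorCase S A B) (g : G) :
    RootCommutatorCase S (conjBy A g) (conjBy B g) := by
  refine RootCommutatorCase.of_exists ?_ ?_ ?_ ?_ ?_
  · rw [← conjBy_commutator]; exact hS.conj_mem _ h.mem g
  · rw [← conjBy_commutator]; exact h.commL.conj g
  · rw [← conjBy_commutator]; exact h.commR.conj g
  · intro a ha ha1 c hc
    rw [← conjBy_commutator] at hc
    obtain ⟨a', ha', rfl⟩ := mem_conjBy'.1 ha
    obtain ⟨c', hc', rfl⟩ := mem_conjBy'.1 hc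
    obtain ⟨b, hb, rfl⟩ := h.exists_right ha' (by simpa using ha1) hc'
    exact ⟨_, conj_mem_conjBy hb g, by group⟩
  · intro b hb hb1 c hc
    rw [← conjBy_commutator] at hc
    obtain ⟨b', hb', rfl⟩ := mem_conjBy'.1 hb
    obtain ⟨c', hc', rfl⟩ := mem_conjBy'.1 hc
    obtain ⟨a, ha, rfl⟩ := h.exists_left hb' (by simpa using hb1) hc'
    exact ⟨_, conj_mem_conjBy ha g, by group⟩

theorem cc_ne_left (hS : IsRootSubgroupSet S) (h : RootCommutatorCase S A B) : ⁅A, B⁆ ≠ A :=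
  fun e => hS.cc_not_comm h (e ▸ h.commR)

theorem cc_ne_right (hS : IsRootSubgroupSet S) (h : RootCommutatorCase S A B) : ⁅A, B⁆ ≠ B :=
  fun e => hS.cc_not_comm h (e ▸ h.commL).symm

theorem cc_ne (hS : IsRootSubgroupSet S) (hA : A ∈ S) (h : RootCommutatorCase S A B) : A ≠ B :=
  fun e => hS.cc_not_comm h (e ▸ hS.comm_self hA)

theorem cc_not_rankOne (hS : IsRootSubgroupSet S) (hB : B ∈ S) (h : RootCommutatorCase S A B) :
    ¬ IsRankOnePair A B := h.not_rankOne (hS.comm_self hB)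

/-- `⁅A, B⁆ ∈ S` forces the commutator case -/
theorem cc_of_mem (hS : IsRootSubgroupSet S) (hA : A ∈ S) (hB : B ∈ S) (hC : ⁅A, B⁆ ∈ S) :
    RootCommutatorCase S A B := by
  rcases hS.cases hA hB with h | h | h
  · exact absurd (comm_iff.2 h) (hS.ne_bot _ hC)
  swap
  · exact h
  exfalso
  have hle : ⁅A, B⁆ ≤ A ⊔ B := Subgroup.commutator_le_sup A B
  have hn : ∀ x ∈ A ⊔ B, conjBy ⁅A, B⁆ x = ⁅A, B⁆ := by
    refine conjBy_eq_of_mem_sup (fun a ha => ?_) (fun b hb => ?_)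
    · exact conjBy_eq_self_iff.2 (Subgroup.normalizer_commutator_ge_left A B ha)
    · exact conjBy_eq_self_iff.2 (Subgroup.normalizer_commutator_ge_right A B hb)
  have hnc := not_comm_commutator h (hS.comm_self hB)
  rcases h.normal_dichotomy hle hn with e | e
  swap
  · exact hnc (e.mono le_rfl le_sup_right)
  have hAn : ∀ a ∈ A, conjBy ⁅A, B⁆ a = ⁅A, B⁆ := fun a ha => hn a (Subgroup.mem_sup_left ha)
  rcases hS.cases hA hC with h' | h' | h'
  · have : Comm ⁅A, B⁆ (⁅A, B⁆ ⊔ A) := (hS.comm_self hC).sup_right h'.symm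
    exact hnc (this.mono le_rfl (by rw [e]; exact le_sup_right))
  · obtain ⟨a, ha, ha1⟩ := hS.exists_ne_one hA
    exact ha1 (h'.eq_one_of_left ha (hAn a ha))
  · have h1 : ⁅A, B⁆ ≤ ⁅A, ⁅A, B⁆⁆ := by
      refine commutator_le_of fun a ha b hb => ?_
      have hb' : b ∈ ⁅A, B⁆ ⊔ A := by rw [e]; exact Subgroup.mem_sup_right hb
      obtain ⟨c, hc, a', ha', rfl⟩ := (mem_sup_of_normalizes hAn).1 hb'
      have : a * (c * a') * a⁻¹ * (c * a')⁻¹ = a * c * a⁻¹ * c⁻¹ := by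
        have := hS.comm_self hA a⁻¹ (inv_mem ha) a' ha'
        calc a * (c * a') * a⁻¹ * (c * a')⁻¹ = a * c * (a' * a⁻¹) * a'⁻¹ * c⁻¹ := by group
          _ = _ := by rw [← this]; group
      rw [this]
      exact comm_mem ha hc
    refine hnc (h'.comm_sup.mono h1 ?_)
    rw [sup_comm, e]; exact le_sup_right

theorem comm_conj_of_not_rankOne (hS : IsRootSubgroupSet S) (hB : B ∈ S) (hD : D ∈ S)
    (h : ¬ IsRankOnePair B D) {b : G} (hb : b ∈ B) : Comm (conjBy D b) D := by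
  rcases hS.cases hB hD with h' | h' | h'
  · rw [h'.conjBy_eq hb]; exact hS.comm_self hD
  · exact absurd h' h
  · exact (h'.commR.sup_left (hS.comm_self hD)).mono (h'.conjBy_right_le hb) le_rfl

/-- the key recognition lemma -/
theorem rankOne_of_conj_eq (hS : IsRootSubgroupSet S) (hB : B ∈ S) (hC : C ∈ S) (h : IsRankOnePair A B)
    {a c : G} (ha : a ∈ A) (ha1 : a ≠ 1) (hc : c ∈ C) (e : conjBy B c = conjBy B a) :
    IsRankOnePair C B ∧ C ∈ unipotentSubgroups A B := by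
  have h1 : IsRankOnePair C B := by
    by_contra h1
    have := hS.comm_conj_of_not_rankOne hC hB h1 hc
    rw [e] at this
    exact (h.right_conj_pair ha ha1).not_comm this.symm
  exact ⟨h1, unip_eq_of_conj_eq h h1 ha ha1 hc e ▸ IsRankOnePair.left_mem_unip C B⟩

/-- central translates of root elements of a rank one group are not root elements -/
theorem translate (hS : IsRootSubgroupSet S) (hB : B ∈ S) (hC : C ∈ S) (h : IsRankOnePair A B)
    {z a : G} (ha : a ∈ A) (ha1 : a ≠ 1) (hza : z * a = a * z) (hzB : ∀ b ∈ B, z * b = b * z)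
    (hc : z * a ∈ C) : z = 1 := by
  have hzA : ∀ x ∈ A ⊔ B, z * x = x * z := by
    rw [← h.right_sup_conj ha ha1]
    refine commute_of_mem_sup hzB fun y hy => ?_
    obtain ⟨b, hb, rfl⟩ := mem_conjBy'.1 hy
    have h1 : Commute z a := hza
    exact (h1.mul_right (hzB b hb)).mul_right h1.inv_right
  have e : conjBy B (z * a) = conjBy B a := by
    rw [hza]; exact conjBy_mul_of_eq (conjBy_of_commute hzB) a
  obtain ⟨h1, h2⟩ := hS.rankOne_of_conj_eq hB hC h ha ha1 hc e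
  have hza1 : z * a ≠ 1 := by
    intro e'
    rw [e', conjBy_one] at e
    exact ha1 (h.eq_one_of_left ha e.symm)
  have h3 : C = A := by
    refine h.unip_eq_of_conjBy_eq h2 (IsRankOnePair.left_mem_unip A B) hc hza1 ?_
    rw [conjBy_mul_of_mem ha]
    exact conjBy_of_commute fun x hx => hzA x (Subgroup.mem_sup_left hx)
  rw [h3] at hc
  exact h.eq_one_of_commute_left ((mul_mem_cancel_right ha).1 hc) hzB

/-- the TI property -/
theorem ti (hS : IsRootSubgroupSet S) (hA : HasPartner S A) (hB : B ∈ S) {x : G} (hxA : x ∈ A) (hxB : x ∈ B)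
    (hx1 : x ≠ 1) : A = B := by
  obtain ⟨D, hD, h⟩ := hA
  obtain ⟨-, h2⟩ := hS.rankOne_of_conj_eq hD hB h hxA hx1 hxB rfl
  exact h.unip_eq_of_mem (IsRankOnePair.left_mem_unip A D) h2 hxA hxB hx1

theorem hasPartner_conj (hS : IsRootSubgroupSet S) (hA : HasPartner S A) (g : G) :
    HasPartner S (conjBy A g) := by
  obtain ⟨D, hD, h⟩ := hA
  exact ⟨_, hS.conj_mem D hD g, h.conj g⟩

/-- an element commuting with a non-identity element of `A` normalises `A` -/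
theorem conjBy_eq_of_commute (hS : IsRootSubgroupSet S) (hAS : A ∈ S) (hA : HasPartner S A) {a g : G}
    (ha : a ∈ A) (ha1 : a ≠ 1) (e : g * a = a * g) : conjBy A g = A := by
  refine (hS.ti hA (hS.conj_mem A hAS g) ha ?_ ha1).symm
  rw [mem_conjBy, mul_assoc, ← e, inv_mul_cancel_left]; exact ha

/-- injectivity of `b ↦ [a, b]` in the commutator case when `A` has a rank one partner -/
theorem cc_not_commute (hS : IsRootSubgroupSet S) (hAS : A ∈ S) (hA : HasPartner S A)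
    (h : RootCommutatorCase S A B) {a b : G} (ha : a ∈ A) (ha1 : a ≠ 1) (hb : b ∈ B) (e : a * b = b * a) :
    b = 1 := by
  by_contra hb1
  have h1 := hS.conjBy_eq_of_commute hAS hA ha ha1 e.symm
  obtain ⟨c, hc, hc1⟩ := hS.exists_ne_one h.mem
  refine hS.cc_ne_left h (hS.ti hA h.mem ?_ hc hc1).symm
  obtain ⟨x, hx, rfl⟩ := h.exists_left hb hb1 hc
  have : x * b * x⁻¹ * b⁻¹ = x * (b * x⁻¹ * b⁻¹) := by group
  rw [this]
  exact mul_mem hx (h1 ▸ conj_mem_conjBy (inv_mem hx) b)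

theorem cc_inj (hS : IsRootSubgroupSet S) (hAS : A ∈ S) (hA : HasPartner S A)
    (h : RootCommutatorCase S A B) {a b b' : G} (ha : a ∈ A) (ha1 : a ≠ 1) (hb : b ∈ B) (hb' : b' ∈ B)
    (e : a * b * a⁻¹ * b⁻¹ = a * b' * a⁻¹ * b'⁻¹) : b = b' := by
  have := hS.cc_not_commute hAS hA h ha ha1 (mul_mem (inv_mem hb') hb) (by
    calc a * (b'⁻¹ * b) = b'⁻¹ * (a * b' * a⁻¹ * b'⁻¹)⁻¹ * (a * b * a⁻¹ * b⁻¹) * b * a := by group
      _ = _ := by rw [e]; group)
  exact (inv_mul_eq_one.1 this).symm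

/-- of two further points of a line through `A`, one is a rank one partner of any partner of `A` -/
theorem rankOne_or (hS : IsRootSubgroupSet S) (hB : B ∈ S) (hD : D ∈ S) (hE : E ∈ S)
    (h : IsRankOnePair A D) {a b : G} (ha : a ∈ A) (ha1 : a ≠ 1) (hb : b ∈ B)
    (hbA : ∀ x ∈ A, b * x = x * b) (he : a * b ∈ E) : IsRankOnePair B D ∨ IsRankOnePair E D := by
  by_contra hc
  push Not at hc
  have h1 := hS.comm_conj_of_not_rankOne hB hD hc.1 hb
  have h2 := hS.comm_conj_of_not_rankOne hE hD hc.2 he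
  have h3 : IsRankOnePair A (conjBy D b) := by
    have := h.conj b
    rwa [conjBy_of_commute hbA] at this
  rw [← conjBy_conjBy] at h2
  have h4 := h1.sup_left h2
  rw [h3.right_sup_conj ha ha1] at h4
  exact h.not_comm (h4.mono le_sup_left le_rfl)

/-- induction over the generators -/
theorem induction (hS : IsRootSubgroupSet S) {P : G → Prop} (h1 : P 1)
    (hm : ∀ A ∈ S, ∀ a ∈ A, ∀ g, P g → P (a * g)) (g : G) : P g := by
  have hg : g ∈ Subgroup.closure (⋃ A ∈ S, (A : Set G)) := by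
    have : Subgroup.closure (⋃ A ∈ S, (A : Set G)) = ⊤ := by
      rw [← hS.generates]
      simp only [Subgroup.closure_iUnion, Subgroup.closure_eq]
    rw [this]; trivial
  induction hg using Subgroup.closure_induction_left with
  | one => exact h1
  | mul_left y hy z _ ih =>
    simp only [Set.mem_iUnion] at hy
    obtain ⟨A, hA, hy⟩ := hy
    exact hm A hA y hy z ih
  | inv_mul_cancel y hy z _ ih =>
    simp only [Set.mem_iUnion] at hy
    obtain ⟨A, hA, hy⟩ := hy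
    exact hm A hA y⁻¹ (inv_mem hy) z ih

theorem eq_top_of_forall_le (hS : IsRootSubgroupSet S) {U : Subgroup G} (h : ∀ A ∈ S, A ≤ U) : U = ⊤ := by
  rw [eq_top_iff, ← hS.generates]
  exact iSup₂_le h

theorem mem_center_of_forall (hS : IsRootSubgroupSet S) {z : G} (h : ∀ A ∈ S, ∀ a ∈ A, z * a = a * z) :
    z ∈ Subgroup.center G := by
  have : Subgroup.centralizer {z} = ⊤ := hS.eq_top_of_forall_le fun A hA a ha => by
    rw [Subgroup.mem_centralizer_singleton_iff]; exact (h A hA a ha).symm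
  rw [Subgroup.mem_center_iff]
  intro g
  exact Subgroup.mem_centralizer_singleton_iff.1 (this ▸ Subgroup.mem_top g)

/-- a member of `S` inside a rank one group that is not central is one of its unipotent subgroups -/
theorem mem_unip_of_le (hS : IsRootSubgroupSet S) (hA : A ∈ S) (hC : C ∈ S) (h : IsRankOnePair C D)
    (hle : A ≤ C ⊔ D) (hnc : ¬ Comm A (C ⊔ D)) : A ∈ unipotentSubgroups C D := by
  by_cases h1 : ∃ E ∈ unipotentSubgroups C D, IsRankOnePair A E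
  · obtain ⟨E, hE, h1⟩ := h1
    obtain ⟨a, ha, ha1⟩ := hS.exists_ne_one hA
    have hne : E ≠ conjBy E a := fun e' => ha1 (h1.eq_one_of_left ha e'.symm)
    rw [← h.unip_unip hE (IsRankOnePair.conj_mem_unip hE (hle ha)) hne,
      h1.unip_unip h1.right_mem_unip (h1.conj_right_mem_unip (Subgroup.mem_sup_left ha)) hne]
    exact IsRankOnePair.left_mem_unip A E
  push Not at h1
  have key : ∀ E ∈ unipotentSubgroups C D, Comm A E := by
    intro E hE
    have hES := hS.unip_mem hC hE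
    have hn : ∀ a ∈ A, conjBy E a = E := by
      intro a ha
      by_contra hne
      exact (h.unip_pair (IsRankOnePair.conj_mem_unip hE (hle ha)) hE hne).not_comm
        (hS.comm_conj_of_not_rankOne hA hES (h1 E hE) ha)
    rcases hS.cases hA hES with h2 | h2 | h2
    · exact h2
    · exact absurd h2 (h1 E hE)
    exfalso
    have hp : HasPartner S E := by
      by_cases hEC : E = C
      · exact ⟨D, hS.unip_mem hC h.right_mem_unip, hEC ▸ h⟩
      · exact ⟨C, hC, h.unip_pair hE (IsRankOnePair.left_mem_unip C D) hEC⟩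
    obtain ⟨c, hc, hc1⟩ := hS.exists_ne_one h2.mem
    refine hS.cc_ne_right h2 (hS.ti hp h2.mem ?_ hc hc1).symm
    refine commutator_le_of (fun a ha e he => ?_) hc
    exact mul_mem (hn a ha ▸ conj_mem_conjBy he a) (inv_mem he)
  exact absurd ((key C (IsRankOnePair.left_mem_unip C D)).sup_right (key D h.right_mem_unip)) hnc

end Cfsg.IsRootSubgroupSet
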