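import Mathlib
import Cfsg.Agent.Chev.TimRoot

/-!
Lines of abstract root subgroups, the natural module of a rank one group, connectivity.
-/

set_option autoImplicit false

open Cfsg Cfsg.Agent.Chev.Tim

variable {G : Type*} [Group G] {S : Set (Subgroup G)} {A B C D E : Subgroup G}

namespace Cfsg.IsRootSubgroupSet

theorem cc_mul_mem_conj (h : RootCommutatorCase S A B) {a c : G} (ha : a ∈ A) (ha1 : a ≠ 1)
    (hc : c ∈ ⁅A, B⁆) : ∃ b ∈ B, a * c = b * a * b⁻¹ := by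
  obtain ⟨b, hb, e⟩ := h.symm.exists_left ha ha1 (Subgroup.commutator_comm A B ▸ hc)
  exact ⟨b, hb, by rw [← h.commL c hc a ha, ← e]; group⟩

theorem cc_members (hS : IsRootSubgroupSet S) (hA : A ∈ S) (hp : HasPartner S A)
    (h : RootCommutatorCase S A B) (hE : E ∈ S) (hle : E ≤ A ⊔ ⁅A, B⁆) :
    E = ⁅A, B⁆ ∨ ∃ b ∈ B, E = conjBy A b := by
  by_cases h1 : E ≤ ⁅A, B⁆
  · left
    obtain ⟨D, hD, hAD⟩ := hp
    obtain ⟨e, he, he1⟩ := hS.exists_ne_one hE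
    rcases hS.cases hD h.mem with h2 | h2 | h2
    · exfalso
      obtain ⟨a, ha, ha1⟩ := hS.exists_ne_one hA
      obtain ⟨b, hb, e'⟩ := cc_mul_mem_conj h ha ha1 (h1 he)
      refine he1 (hS.translate hD (hS.conj_mem A hA b) hAD ha ha1 (h.commL e (h1 he) a ha)
        (fun d hd => (h2 d hd e (h1 he)).symm) ?_)
      rw [h.commL e (h1 he) a ha, e']
      exact conj_mem_conjBy ha b
    · exact (hS.ti ⟨D, hD, h2.symm⟩ hE (h1 he) he he1).symm
    rcases hS.cases hD hE with h3 | h3 | h3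
    · exact absurd (hS.cc_eq_one_right h2 (h1 he) fun d hd => (h3 d hd e he).symm) he1
    · exact hS.ti ⟨D, hD, h3.symm⟩ h.mem he (h1 he) he1
    refine le_antisymm h1 fun c hc => ?_
    obtain ⟨d, hd, hd1⟩ := hS.exists_ne_one hD
    obtain ⟨d', hd', e1⟩ := h2.exists_left (h1 he) he1 (comm_mem hd hc)
    obtain ⟨e', he', e2⟩ := h3.exists_right hd hd1 (e1 ▸ comm_mem hd' he)
    rw [← hS.cc_inj hD ⟨A, hA, hAD.symm⟩ h2 hd hd1 (h1 he') hc e2]
    exact he'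
  · right
    obtain ⟨e, he, he1⟩ := SetLike.not_le_iff_exists.1 h1
    obtain ⟨a, ha, c, hc, rfl⟩ := h.commL.symm.mem_sup.1 (hle he)
    have ha1 : a ≠ 1 := by rintro rfl; exact he1 (by simpa using hc)
    obtain ⟨b, hb, e'⟩ := cc_mul_mem_conj h ha ha1 hc
    refine ⟨b, hb, (hS.ti (hS.hasPartner_conj hp b) hE (e' ▸ conj_mem_conjBy ha b) he ?_).symm⟩
    rw [e']; simpa using ha1

theorem cc_partition (hS : IsRootSubgroupSet S) (hA : A ∈ S) (hp : HasPartner S A)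
    (h : RootCommutatorCase S A B) : IsSubgroupPartition (A ⊔ ⁅A, B⁆) (membersIn S (A ⊔ ⁅A, B⁆)) := by
  refine ⟨fun C hC => hC.2, fun x hx hx1 => ?_, fun E hE F hF hne => ?_⟩
  · obtain ⟨a, ha, c, hc, rfl⟩ := h.commL.symm.mem_sup.1 hx
    by_cases ha1 : a = 1
    · exact ⟨_, ⟨h.mem, le_sup_right⟩, by simpa [ha1] using hc⟩
    · obtain ⟨b, hb, e'⟩ := cc_mul_mem_conj h ha ha1 hc
      exact ⟨_, ⟨hS.conj_mem A hA b, h.conjBy_left_le hb⟩, e' ▸ conj_mem_conjBy ha b⟩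
  · rw [Subgroup.eq_bot_iff_forall]
    intro x hx
    by_contra hx1
    rcases hS.cc_members hA hp h hE.1 hE.2 with rfl | ⟨b, -, rfl⟩
    · rcases hS.cc_members hA hp h hF.1 hF.2 with rfl | ⟨b, -, rfl⟩
      · exact hne rfl
      · exact hne (hS.ti (hS.hasPartner_conj hp b) hE.1 hx.2 hx.1 hx1).symm
    · exact hne (hS.ti (hS.hasPartner_conj hp b) hF.1 hx.1 hx.2 hx1)

theorem line_symm (hA : A ∈ S) (h : B ∈ linePartners S A) : A ∈ linePartners S B :=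
  ⟨⟨hA, h.1.2.1.symm, by rw [Subgroup.commutator_comm]; exact h.1.2.2⟩, by rw [sup_comm]; exact h.2⟩

theorem cc_line (hS : IsRootSubgroupSet S) (hA : A ∈ S) (hp : HasPartner S A)
    (h : RootCommutatorCase S A B) : ⁅A, B⁆ ∈ linePartners S A :=
  ⟨⟨h.mem, hS.cc_ne_left h, comm_iff.2 h.commL.symm⟩, hS.cc_partition hA hp h⟩

theorem cc_line' (hS : IsRootSubgroupSet S) (hB : B ∈ S) (hp : HasPartner S B)
    (h : RootCommutatorCase S A B) : ⁅A, B⁆ ∈ linePartners S B := by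
  rw [Subgroup.commutator_comm]; exact hS.cc_line hB hp h.symm

theorem line_comm (h : B ∈ linePartners S A) : Comm A B := comm_iff.1 h.1.2.2

theorem line_inf (hA : A ∈ S) (h : B ∈ linePartners S A) {x : G} (hxA : x ∈ A) (hxB : x ∈ B) : x = 1 := by
  have := h.2.2.2 A ⟨hA, le_sup_left⟩ B ⟨h.1.1, le_sup_right⟩ h.1.2.1.symm
  exact (Subgroup.eq_bot_iff_forall _).1 this x ⟨hxA, hxB⟩

theorem line_exists (hA : A ∈ S) (h : B ∈ linePartners S A) {a b : G} (ha : a ∈ A) (hb : b ∈ B)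
    (h1 : a ≠ 1 ∨ b ≠ 1) : ∃ E ∈ S, E ≤ A ⊔ B ∧ a * b ∈ E := by
  have : a * b ≠ 1 := by
    intro e
    have e' : a = b⁻¹ := eq_inv_of_mul_eq_one_left e
    have ha1 : a = 1 := line_inf hA h ha (e' ▸ inv_mem hb)
    rcases h1 with h1 | h1
    · exact h1 ha1
    · exact h1 (by simpa [ha1] using e)
  obtain ⟨E, hE, hx⟩ := h.2.2.1 _ (mul_mem (Subgroup.mem_sup_left ha) (Subgroup.mem_sup_right hb)) this
  exact ⟨E, hE.1, hE.2, hx⟩

theorem line_comm_sup (hS : IsRootSubgroupSet S) (hA : A ∈ S) (h : B ∈ linePartners S A) :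
    Comm (A ⊔ B) (A ⊔ B) :=
  ((hS.comm_self hA).sup_right (line_comm h)).sup_left ((line_comm h).symm.sup_right (hS.comm_self h.1.1))

theorem line_of_sup_eq (hS : IsRootSubgroupSet S) (hA : A ∈ S) (h : B ∈ linePartners S A)
    (hD : D ∈ S) (hne : D ≠ C) (e : C ⊔ D = A ⊔ B) : D ∈ linePartners S C :=
  ⟨⟨hD, hne, comm_iff.2 ((hS.line_comm_sup hA h).mono (e ▸ le_sup_left) (e ▸ le_sup_right))⟩, e ▸ h.2⟩

theorem line_conj (hS : IsRootSubgroupSet S) (h : B ∈ linePartners S A) (g : G) :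
    conjBy B g ∈ linePartners S (conjBy A g) := by
  refine ⟨⟨hS.conj_mem B h.1.1 g, fun e => h.1.2.1 (conjBy_inj.1 e), comm_iff.2 ((line_comm h).conj g)⟩,
    fun C hC => hC.2, fun x hx hx1 => ?_, fun E hE F hF hne => ?_⟩
  · rw [← conjBy_sup] at hx ⊢
    obtain ⟨y, hy, rfl⟩ := mem_conjBy'.1 hx
    obtain ⟨E, hE, hyE⟩ := h.2.2.1 y hy (by simpa using hx1)
    exact ⟨_, ⟨hS.conj_mem E hE.1 g, conjBy_mono hE.2 g⟩, conj_mem_conjBy hyE g⟩
  · rw [← conjBy_sup] at hE hF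
    have key : ∀ E ∈ membersIn S (conjBy (A ⊔ B) g), conjBy E g⁻¹ ∈ membersIn S (A ⊔ B) := by
      intro E hE
      refine ⟨hS.conj_mem E hE.1 _, ?_⟩
      have := conjBy_mono hE.2 g⁻¹
      rwa [conjBy_inv_conjBy] at this
    have := h.2.2.2 _ (key E hE) _ (key F hF) fun e => hne (conjBy_inj.1 e)
    rwa [← conjBy_inf, conjBy_eq_bot_iff] at this

/-- no line joins a member to a member commuting with one of its partners -/
theorem line_not_comm (hS : IsRootSubgroupSet S) (hA : A ∈ S) (h : B ∈ linePartners S A) (hD : D ∈ S)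
    (hAD : IsRankOnePair A D) : ¬ Comm B D := by
  intro hc
  obtain ⟨a, ha, ha1⟩ := hS.exists_ne_one hA
  obtain ⟨b, hb, hb1⟩ := hS.exists_ne_one h.1.1
  obtain ⟨E, hE, -, he⟩ := line_exists hA h ha hb (Or.inl ha1)
  have e := line_comm h a ha b hb
  exact hb1 (hS.translate hD hE hAD ha ha1 e.symm (hc b hb) (e ▸ he))

/-- matching through a common partner: if `A`, `C` commute and `D` is a partner of both -/
theorem tri_comm (hAC : Comm A C) {a c d : G} (e1 : conjBy A d = conjBy D a) (e2 : conjBy C d = conjBy D c) :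
    Comm (conjBy D a) (conjBy D c) := by
  rw [← e1, ← e2]; exact hAC.conj d

theorem tri_match (hAC : Comm A C) (h1 : IsRankOnePair A D) (h2 : IsRankOnePair C D) {a c d : G}
    (hc : c ∈ C) (hd : d ∈ D) (e1 : conjBy A d = conjBy D a) (h : Comm (conjBy D a) (conjBy D c)) :
    conjBy C d = conjBy D c := by
  by_contra hne
  have hu1 := IsRankOnePair.conj_left_mem_unip (A := C) (Subgroup.mem_sup_right hd)
  have hu2 := h2.conj_right_mem_unip (Subgroup.mem_sup_left hc)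
  have h3 : Comm (conjBy A d) (conjBy C d ⊔ conjBy D c) := (hAC.conj d).sup_right (e1 ▸ h)
  rw [h2.unip_sup hu1 hu2 hne] at h3
  have h4 := h1.conj d
  rw [conjBy_of_mem hd] at h4
  exact h4.not_comm (h3.mono le_rfl le_sup_right)

theorem tri_match_inv (hAC : Comm A C) (h1 : IsRankOnePair A D) (h2 : IsRankOnePair C D) {a c d d' : G}
    (ha : a ∈ A) (hc : c ∈ C) (hd' : d' ∈ D) (e1 : conjBy A d = conjBy D a) (e2 : conjBy C d = conjBy D c)
    (e3 : conjBy A d' = conjBy D a⁻¹) : conjBy C d' = conjBy D c⁻¹ := by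
  refine tri_match hAC h1 h2 (inv_mem hc) hd' e3 ?_
  have := (tri_comm hAC e1 e2).conj (a⁻¹ * c⁻¹)
  rw [conjBy_conjBy, conjBy_conjBy, inv_mul_cancel_right] at this
  have e : a⁻¹ * c⁻¹ * a = c⁻¹ := by
    rw [hAC _ (inv_mem ha) _ (inv_mem hc), inv_mul_cancel_right]
  rw [e] at this
  exact this.symm

/-- an invariant relation between commuting members with a common partner is symmetric -/
theorem tri_symm {r : Subgroup G → Subgroup G → Prop} (hr : ∀ P Q g, r P Q → r (conjBy P g) (conjBy Q g))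
    (hAC : Comm A C) (h1 : IsRankOnePair A D) (h2 : IsRankOnePair C D) (h : r A C) : r C A := by
  obtain ⟨d, hd, hd1⟩ := exists_ne_one_of_ne_bot h1.right_ne_bot
  obtain ⟨a, ha, ha1, e1⟩ := h1.exists_match' hd hd1
  obtain ⟨c, hc, -, e2⟩ := h2.exists_match' hd hd1
  obtain ⟨d', hd', -, e3⟩ := h1.exists_match (inv_mem ha) (by simpa using ha1)
  have e4 := tri_match_inv hAC h1 h2 ha hc hd' e1 e2 e3
  have h3 := hr _ _ (a * c) (hr _ _ d' h)
  rw [e3, e4, conjBy_conjBy, conjBy_conjBy, mul_inv_cancel_right, hAC a ha c hc, mul_inv_cancel_right,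
    ← e1, ← e2] at h3
  have h4 := hr _ _ d⁻¹ h3
  rwa [conjBy_inv_conjBy, conjBy_inv_conjBy] at h4

/-- the point `C` of a line through `A` in the commutator case with a partner `D` of `A` -/
theorem cc_back (hS : IsRootSubgroupSet S) (hA : A ∈ S) (hC : C ∈ S) (hD : D ∈ S) (hP : E ∈ S)
    (hAD : IsRankOnePair A D) (hAC : Comm A C) (hCD : RootCommutatorCase S C D) {a₁ c : G} (ha₁ : a₁ ∈ A)
    (ha₁1 : a₁ ≠ 1) (hc : c ∈ C) (hc1 : c ≠ 1) (hp : a₁ * c⁻¹ ∈ E) :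
    RootCommutatorCase S A ⁅C, D⁆ ∧ c ∈ ⁅A, ⁅C, D⁆⁆ := by
  obtain ⟨a, ha, ha1⟩ := hS.exists_ne_one hA
  obtain ⟨d, hd, hd1, e⟩ := hAD.exists_match ha ha1
  have hf : d * c * d⁻¹ * c⁻¹ ∈ ⁅C, D⁆ := Subgroup.commutator_comm D C ▸ comm_mem hd hc
  set f := d * c * d⁻¹ * c⁻¹ with hfd
  have hf1 : f ≠ 1 := by
    intro e'
    refine hc1 (hS.cc_not_commute hD ⟨A, hA, hAD.symm⟩ hCD.symm hd hd1 hc ?_)
    calc d * c = f * (c * d) := by rw [hfd]; group
      _ = c * d := by rw [e', one_mul]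
  -- `z = [a⁻¹, f] c` centralises `D`
  have hz : ∀ y ∈ D, (a⁻¹ * f * a⁻¹⁻¹ * f⁻¹ * c) * y = y * (a⁻¹ * f * a⁻¹⁻¹ * f⁻¹ * c) := by
    intro y hy
    have h1 : Comm (conjBy C d) (conjBy D a) := e ▸ (hAC.conj d).symm
    have h2 := h1 _ (conj_mem_conjBy hc d) _ (conj_mem_conjBy hy a)
    have h3 : Commute (a⁻¹ * (d * c * d⁻¹) * a) y := by
      show _ = _
      calc a⁻¹ * (d * c * d⁻¹) * a * y = a⁻¹ * (d * c * d⁻¹ * (a * y * a⁻¹)) * a := by group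
        _ = _ := by rw [h2]; group
    have h4 : Commute f y := hCD.commR f hf y hy
    have h5 : a⁻¹ * f * a⁻¹⁻¹ * f⁻¹ * c = (a⁻¹ * (d * c * d⁻¹) * a) * f⁻¹ := by
      have e1 := hAC a ha c hc
      have e2 : Commute f c := hCD.commL f hf c hc
      calc a⁻¹ * f * a⁻¹⁻¹ * f⁻¹ * c = a⁻¹ * f * a * (f⁻¹ * c) := by group
        _ = a⁻¹ * f * (a * c) * f⁻¹ := by rw [e2.inv_left.eq]; group
        _ = _ := by rw [e1, hfd]; group
    rw [h5]
    exact h3.mul_left h4.inv_left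
  have hCF : Comm C ⁅C, D⁆ := hCD.commL.symm
  have hAF : RootCommutatorCase S A ⁅C, D⁆ := by
    rcases hS.cases hA hCD.mem with h | h | h
    · exfalso
      have : a⁻¹ * f * a⁻¹⁻¹ * f⁻¹ = 1 := by rw [h _ (inv_mem ha) f hf]; group
      rw [this, one_mul] at hz
      exact hc1 (hS.cc_eq_one_left hCD hc hz)
    · exfalso
      refine hc1 (hS.translate hA (hS.conj_mem C hC d) h.symm hf hf1 (hCF c hc f hf)
        (fun x hx => (hAC x hx c hc).symm) ?_)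
      rw [hCF c hc f hf, hfd, inv_mul_cancel_right]
      exact conj_mem_conjBy hc d
    · exact h
  refine ⟨hAF, ?_⟩
  have hc' : a⁻¹ * f * a⁻¹⁻¹ * f⁻¹ ∈ ⁅A, ⁅C, D⁆⁆ := comm_mem (inv_mem ha) hf
  set c' := a⁻¹ * f * a⁻¹⁻¹ * f⁻¹ with hc'd
  have hPD : IsRankOnePair E D := by
    rcases hS.rankOne_or hC hD hP hAD ha₁ ha₁1 (inv_mem hc)
      (fun x hx => (hAC x hx _ (inv_mem hc)).symm) hp with h | h
    · exact absurd h (hS.cc_not_rankOne hD hCD)
    · exact h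
  have hp1 : a₁ * c⁻¹ ≠ 1 := by
    intro e'
    have : a₁ = c := mul_inv_eq_one.1 e'
    exact hS.cc_not_rankOne hD hCD (hS.ti ⟨D, hD, hAD⟩ hC ha₁ (this ▸ hc) ha₁1 ▸ hAD)
  have k1 : Commute c' a₁ := hAF.commL c' hc' a₁ ha₁
  have k2 : Commute c' c := (hAC.commutator_left hCF.symm) c' hc' c hc
  have k3 : Commute c a₁ := (hAC a₁ ha₁ c hc).symm
  obtain ⟨b, hb, eb⟩ := cc_mul_mem_conj hAF ha₁ ha₁1 hc'
  have := hS.translate hD (hS.conj_mem A hA b) hPD (z := c' * c) hp hp1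
    ((k1.mul_left k3).mul_right (k2.mul_left (Commute.refl c)).inv_right) hz (by
      have : c' * c * (a₁ * c⁻¹) = a₁ * c' := by
        calc c' * c * (a₁ * c⁻¹) = c' * (c * a₁) * c⁻¹ := by group
          _ = a₁ * c' := by rw [k3.eq, ← k1.eq]; group
      rw [this, eb]; exact conj_mem_conjBy ha₁ b)
  rw [eq_inv_of_mul_eq_one_right this]
  exact inv_mem hc'

/-- every member has a rank one partner -/
def AllPartner (S : Set (Subgroup G)) : Prop := ∀ A ∈ S, HasPartner S A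

theorem line_exists_cc (hS : IsRootSubgroupSet S) (hall : AllPartner S) (hA : A ∈ S)
    (h : B ∈ linePartners S A) (hD : D ∈ S) (hAD : IsRankOnePair A D) :
    ∃ C ∈ linePartners S A, A ⊔ C = A ⊔ B ∧ RootCommutatorCase S C D ∧ ⁅A, ⁅C, D⁆⁆ = C := by
  have hB := h.1.1
  have main : ∀ C ∈ linePartners S A, RootCommutatorCase S C D → ⁅A, ⁅C, D⁆⁆ = C := by
    intro C hC hCD
    obtain ⟨a, ha, ha1⟩ := hS.exists_ne_one hA
    obtain ⟨c, hc, hc1⟩ := hS.exists_ne_one hC.1.1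
    obtain ⟨E, hE, -, he⟩ := line_exists hA hC ha (inv_mem hc) (Or.inl ha1)
    obtain ⟨h1, h2⟩ := hS.cc_back hA hC.1.1 hD hE hAD (line_comm hC) hCD ha ha1 hc hc1 he
    exact (hS.ti (hall C hC.1.1) h1.mem hc h2 hc1).symm
  rcases hS.cases hB hD with h1 | h1 | h1
  · exact absurd h1 (hS.line_not_comm hA h hD hAD)
  swap
  · exact ⟨B, h, rfl, h1, main B h h1⟩
  obtain ⟨d, hd, hd1⟩ := hS.exists_ne_one hD
  obtain ⟨a, ha, ha1, e1⟩ := hAD.exists_match' hd hd1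
  obtain ⟨b, hb, hb1, e2⟩ := h1.exists_match' hd hd1
  obtain ⟨C, hC, hCle, hc⟩ := line_exists hA h ha (inv_mem hb) (Or.inl ha1)
  have hab : a * b⁻¹ ≠ 1 := fun e => ha1 (line_inf hA h ha (mul_inv_eq_one.1 e ▸ hb))
  have hAC : Comm A C := (hS.line_comm_sup hA h).mono le_sup_left hCle
  have hnr : ¬ IsRankOnePair C D := by
    intro h2
    have h3 := (tri_comm (line_comm h) e1 e2).conj b⁻¹
    rw [conjBy_inv_conjBy, conjBy_conjBy, ← line_comm h a ha _ (inv_mem hb)] at h3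
    exact (h2.right_conj_pair hc hab).not_comm h3.symm
  have hCD : RootCommutatorCase S C D := by
    rcases hS.cases hC hD with h2 | h2 | h2
    · exfalso
      refine hab (hS.translate hD hA h1 hb hb1 ?_ (h2 _ hc) (by simpa using ha))
      have : Commute a b := line_comm h a ha b hb
      exact this.mul_left (Commute.refl b).inv_left
    · exact absurd h2 hnr
    · exact h2
  -- `c = a b⁻¹`, and `a c⁻¹ = b` is a root element
  obtain ⟨h2, h3⟩ := hS.cc_back hA hC hD hB hAD hAC hCD ha ha1 hc hab (by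
    have : a * (a * b⁻¹)⁻¹ = b := by rw [line_comm h a ha _ (inv_mem hb)]; group
    rw [this]; exact hb)
  have h4 : ⁅A, ⁅C, D⁆⁆ = C := (hS.ti (hall C hC) h2.mem hc h3 hab).symm
  have hCA : C ≠ A := fun e => hnr (e ▸ hAD)
  have h5 : A ⊔ C = A ⊔ B := by
    refine le_antisymm (sup_le le_sup_left hCle) (sup_le le_sup_left ?_)
    have hb' : b⁻¹ ∈ A ⊔ C := by
      have : b⁻¹ = a⁻¹ * (a * b⁻¹) := by group
      rw [this]
      exact mul_mem (Subgroup.mem_sup_left (inv_mem ha)) (Subgroup.mem_sup_right hc)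
    have hl := hS.cc_line hA (hall A hA) h2
    rw [h4] at hl
    obtain ⟨E, hE, hx⟩ := hl.2.2.1 _ hb' (by simpa using hb1)
    rw [hS.ti (hall B hB) hE.1 (inv_mem hb) hx (by simpa using hb1)]
    exact hE.2
  exact ⟨C, hS.line_of_sup_eq hA h hC hCA h5, h5, hCD, h4⟩

/-- on a line `A B` there are a point `C ≠ A` and a member `F` with `⁅A, F⁆ = C`, `A C = A B` -/
theorem line_exists_opp (hS : IsRootSubgroupSet S) (hall : AllPartner S) (hA : A ∈ S)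
    (h : B ∈ linePartners S A) :
    ∃ F ∈ S, RootCommutatorCase S A F ∧ A ⊔ ⁅A, F⁆ = A ⊔ B := by
  obtain ⟨D, hD, hAD⟩ := hall A hA
  obtain ⟨C, hC, e, hCD, e'⟩ := hS.line_exists_cc hall hA h hD hAD
  exact ⟨⁅C, D⁆, hCD.mem, hS.cc_of_mem hA hCD.mem (e'.symm ▸ hC.1.1), by rw [e', e]⟩

theorem cc_move (hS : IsRootSubgroupSet S) (hall : AllPartner S) (hA : A ∈ S) {F : Subgroup G}
    (h : RootCommutatorCase S A F) (hE : E ∈ membersIn S (A ⊔ ⁅A, F⁆)) (hne : E ≠ ⁅A, F⁆) :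
    ∃ f ∈ F, conjBy E f = A ∧ conjBy ⁅A, F⁆ f = ⁅A, F⁆ := by
  rcases hS.cc_members hA (hall A hA) h hE.1 hE.2 with e | ⟨f, hf, rfl⟩
  · exact absurd e hne
  · exact ⟨f⁻¹, inv_mem hf, conjBy_inv_conjBy A f, h.commR.conjBy_eq' (inv_mem hf)⟩

theorem line_two_trans (hS : IsRootSubgroupSet S) (hall : AllPartner S) (hA : A ∈ S)
    (h : B ∈ linePartners S A) :
    ∃ F ∈ S, RootCommutatorCase S A F ∧ A ⊔ ⁅A, F⁆ = A ⊔ B ∧
      ∀ C₁ ∈ membersIn S (A ⊔ B), ∀ C₂ ∈ membersIn S (A ⊔ B), C₁ ≠ C₂ →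
        ∃ x ∈ ⨆ E ∈ normalizingMembers S (A ⊔ B), E, conjBy C₁ x = ⁅A, F⁆ ∧ conjBy C₂ x = A := by
  obtain ⟨F, hF, h1, e1⟩ := hS.line_exists_opp hall hA h
  refine ⟨F, hF, h1, e1, ?_⟩
  set C := ⁅A, F⁆ with hCd
  set K := ⨆ E ∈ normalizingMembers S (A ⊔ B), E with hK
  have hCl : A ∈ linePartners S C := line_symm hA (hS.cc_line hA (hall A hA) h1)
  obtain ⟨F₂, hF₂, h2, e2⟩ := hS.line_exists_opp hall h1.mem hCl
  rw [sup_comm C A, e1] at e2
  have hFK : F ≤ K := by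
    refine le_iSup₂_of_le F ⟨hF, fun f hf => conjBy_eq_self_iff.1 ?_⟩ le_rfl
    rw [← e1]; exact h1.conjBy_line hf
  have hF₂K : F₂ ≤ K := by
    refine le_iSup₂_of_le F₂ ⟨hF₂, fun f hf => conjBy_eq_self_iff.1 ?_⟩ le_rfl
    rw [← e2]; exact h2.conjBy_line hf
  have hKn : K ≤ Subgroup.normalizer ((A ⊔ B : Subgroup G) : Set G) := iSup₂_le fun E hE => hE.2
  have hact : ∀ x ∈ K, ∀ E ∈ membersIn S (A ⊔ B), conjBy E x ∈ membersIn S (A ⊔ B) := fun x hx E hE =>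
    ⟨hS.conj_mem E hE.1 x, conjBy_le_of_eq hE.2 (conjBy_eq_self_iff.2 (hKn hx))⟩
  -- a third point
  obtain ⟨c, hc, hc1⟩ := hS.exists_ne_one h1.mem
  obtain ⟨c₂, hc₂, hc₂1⟩ := hS.exists_ne_one h2.mem
  have hl₂ := hS.cc_line h1.mem (hall C h1.mem) h2
  obtain ⟨P, hP, hPle, hp⟩ := line_exists h1.mem hl₂ hc hc₂ (Or.inl hc1)
  have hPC : P ≠ C := fun e => hc₂1 (line_inf h1.mem hl₂ ((mul_mem_cancel_left hc).1 (by rw [e] at hp; exact hp)) hc₂)
  have hPC₂ : P ≠ ⁅C, F₂⁆ := fun e => hc1 (line_inf h1.mem hl₂ hc ((mul_mem_cancel_right hc₂).1 (e ▸ hp)))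
  obtain ⟨f₁, hf₁, ef₁, -⟩ := hS.cc_move hall hA h1 ⟨hP, by rw [e1, ← e2]; exact hPle⟩ hPC
  obtain ⟨f₂, hf₂, ef₂, -⟩ := hS.cc_move hall h1.mem h2 ⟨hP, hPle⟩ hPC₂
  have trans : ∀ E ∈ membersIn S (A ⊔ B), ∃ x ∈ K, conjBy E x = C := by
    intro E hE
    by_cases hEC : E = C
    · exact ⟨1, one_mem _, by rw [conjBy_one, hEC]⟩
    obtain ⟨f, hf, ef, -⟩ := hS.cc_move hall hA h1 (e1 ▸ hE) hEC
    refine ⟨f₂ * (f₁⁻¹ * f), mul_mem (hF₂K hf₂) (hFK (mul_mem (inv_mem hf₁) hf)), ?_⟩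
    rw [← conjBy_conjBy, ← conjBy_conjBy, ef, ← ef₁, conjBy_inv_conjBy, ef₂]
  intro C₁ hC₁ C₂ hC₂ hne
  obtain ⟨x, hx, ex⟩ := trans C₁ hC₁
  obtain ⟨f, hf, ef, ef'⟩ := hS.cc_move hall hA h1 (e1 ▸ hact x hx C₂ hC₂)
    (fun e => hne (conjBy_inj.1 (ex.trans e.symm)))
  exact ⟨f * x, mul_mem (hFK hf) hx, by rw [← conjBy_conjBy, ex, ef'], by rw [← conjBy_conjBy, ef]⟩

/-- every line partner of `A` is a commutator `⁅A, F⁆` -/
theorem exists_opp (hS : IsRootSubgroupSet S) (hall : AllPartner S) (hA : A ∈ S)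
    (h : B ∈ linePartners S A) : ∃ F ∈ S, RootCommutatorCase S A F ∧ ⁅A, F⁆ = B := by
  obtain ⟨F, hF, h1, -, h2⟩ := hS.line_two_trans hall hA h
  obtain ⟨x, -, e1, e2⟩ := h2 B ⟨h.1.1, le_sup_right⟩ A ⟨hA, le_sup_left⟩ h.1.2.1
  have e3 := conjBy_inv_of_eq e2
  have h3 := hS.cc_conj h1 x⁻¹
  rw [e3] at h3
  refine ⟨_, hS.conj_mem F hF x⁻¹, h3, ?_⟩
  conv_lhs => rw [← e3]
  rw [← conjBy_commutator, ← e1, conjBy_inv_conjBy]

end Cfsg.IsRootSubgroupSet
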