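import Mathlib
import Cfsg.Agent.Chev.TimLine

/-!
Classes of abstract root subgroups: natural modules, connectivity, generation, homomorphic images.
-/

set_option autoImplicit false

open Cfsg Cfsg.Agent.Chev.Tim

variable {G : Type*} [Group G] {S : Set (Subgroup G)} {A B C D E : Subgroup G}

namespace Cfsg.Agent.Chev.Tim

theorem conjBy_centralizer (U : Subgroup G) (g : G) :
    conjBy (Subgroup.centralizer (U : Set G)) g = Subgroup.centralizer (conjBy U g : Set G) := by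
  ext x
  rw [mem_conjBy, Subgroup.mem_centralizer_iff, Subgroup.mem_centralizer_iff]
  constructor
  · intro h y hy
    obtain ⟨u, hu, rfl⟩ := mem_conjBy'.1 hy
    calc g * u * g⁻¹ * x = g * (u * (g⁻¹ * x * g)) * g⁻¹ := by group
      _ = _ := by rw [h u hu]; group
  · intro h u hu
    calc u * (g⁻¹ * x * g) = g⁻¹ * (g * u * g⁻¹ * x) * g := by group
      _ = _ := by rw [h _ (conj_mem_conjBy hu g)]; group

theorem fAdj_symm {Λ : Set (Subgroup G)} (h : FAdj Λ A B) : FAdj Λ B A := ⟨h.2.1, h.1, h.2.2.symm⟩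

theorem fpath_symm {Λ : Set (Subgroup G)} (h : Relation.ReflTransGen (FAdj Λ) A B) :
    Relation.ReflTransGen (FAdj Λ) B A := by
  induction h with
  | refl => exact .refl
  | tail _ h ih => exact .head (fAdj_symm h) ih

theorem exists_conj_of_fpath (h : Relation.ReflTransGen (FAdj S) A B) : ∃ g, B = conjBy A g := by
  induction h with
  | refl => exact ⟨1, (conjBy_one A).symm⟩
  | tail _ h ih =>
    obtain ⟨g, rfl⟩ := ih
    obtain ⟨x, -, e⟩ := h.2.2.right_mem_unip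
    exact ⟨x * g, by rw [e, conjBy_conjBy]⟩

/-- the image of a rank one pair under a homomorphism -/
theorem map_dichotomy {H : Type*} [Group H] (f : G →* H) (h : IsRankOnePair A B) :
    A.map f = B.map f ∨ (IsRankOnePair (A.map f) (B.map f) ∧ (∀ a ∈ A, f a = 1 → a = 1) ∧
      ∀ b ∈ B, f b = 1 → b = 1) := by
  have hn : ∀ x ∈ A ⊔ B, conjBy (f.ker ⊓ (A ⊔ B)) x = f.ker ⊓ (A ⊔ B) := by
    intro x hx
    rw [conjBy_inf, conjBy_of_mem hx, conjBy_eq_self_iff.2 (by rw [Subgroup.normalizer_eq_top]; trivial)]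
  rcases h.normal_dichotomy inf_le_right hn with e | e
  · left
    obtain ⟨x, hx, e'⟩ := h.right_mem_unip
    have h1 : f x ∈ A.map f := by
      rw [← e] at hx
      obtain ⟨n, hn, a, ha, rfl⟩ := (mem_sup_of_normalizes fun a ha => hn a (Subgroup.mem_sup_left ha)).1 hx
      exact ⟨a, ha, by rw [map_mul, hn.1, one_mul]⟩
    rw [e', conjBy_map, conjBy_of_mem h1]
  · right
    have hA : ∀ a ∈ A, f a = 1 → a = 1 := fun a ha h1 =>
      h.eq_one_of_commute_left ha fun b hb => e a ⟨h1, Subgroup.mem_sup_left ha⟩ b (Subgroup.mem_sup_right hb)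
    have hB : ∀ b ∈ B, f b = 1 → b = 1 := fun b hb h1 =>
      h.eq_one_of_commute_right hb fun a ha => e b ⟨h1, Subgroup.mem_sup_right hb⟩ a (Subgroup.mem_sup_left ha)
    refine ⟨IsRankOnePair.of_match ?_ ?_ ?_ ?_ ?_, hA, hB⟩
    · intro e'
      obtain ⟨a, ha, ha1⟩ := exists_ne_one_of_ne_bot h.left_ne_bot
      obtain ⟨b, hb, eb⟩ : f a ∈ B.map f := e' ▸ Subgroup.mem_map_of_mem f ha
      have hz : b⁻¹ * a ∈ f.ker ⊓ (A ⊔ B) :=
        ⟨show f (b⁻¹ * a) = 1 by rw [map_mul, map_inv, eb, inv_mul_cancel],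
          mul_mem (Subgroup.mem_sup_right (inv_mem hb)) (Subgroup.mem_sup_left ha)⟩
      refine ha1 (h.eq_one_of_left ha ?_)
      have : a = (b⁻¹ * a) * b := by
        rw [e _ hz b (Subgroup.mem_sup_right hb)]; group
      rw [this, conjBy_mul_of_mem hb]
      exact conjBy_of_commute fun y hy => e _ hz y (Subgroup.mem_sup_right hy)
    · have := h.nilpotent_left
      exact Group.nilpotent_of_surjective (f.subgroupMap A) (f.subgroupMap_surjective A)
    · have := h.nilpotent_right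
      exact Group.nilpotent_of_surjective (f.subgroupMap B) (f.subgroupMap_surjective B)
    · rintro _ ⟨a, ha, rfl⟩ ha1
      obtain ⟨b, hb, hb1, eb⟩ := h.exists_match ha (by rintro rfl; exact ha1 (map_one f))
      exact ⟨f b, ⟨b, hb, rfl⟩, fun e' => hb1 (hB b hb e'), by rw [← conjBy_map, ← conjBy_map, eb]⟩
    · rintro _ ⟨b, hb, rfl⟩ hb1
      obtain ⟨a, ha, ha1, ea⟩ := h.exists_match' hb (by rintro rfl; exact hb1 (map_one f))
      exact ⟨f a, ⟨a, ha, rfl⟩, fun e' => ha1 (hA a ha e'), by rw [← conjBy_map, ← conjBy_map, ea]⟩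

theorem Comm.map {H : Type*} [Group H] (f : G →* H) (h : Comm A B) : Comm (A.map f) (B.map f) := by
  rintro _ ⟨a, ha, rfl⟩ _ ⟨b, hb, rfl⟩
  rw [← map_mul, h a ha b hb, map_mul]

end Cfsg.Agent.Chev.Tim

namespace Cfsg.IsRootSubgroupSet

/-! ### The natural module -/

theorem nat_rankOne (hS : IsRootSubgroupSet S) (hA : A ∈ S) (hB : B ∈ S) (hD : D ∈ S)
    (h1 : RootCommutatorCase S A B) (h2 : RootCommutatorCase S D ⁅A, B⁆) (e : ⁅D, ⁅A, B⁆⁆ = A) :
    IsRankOnePair B D := by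
  have hAD : Comm A D := e ▸ h2.commL
  rcases hS.cases hB hD with h | h | h
  · exfalso
    exact hS.cc_not_comm h1 (e ▸ h.symm.commutator_left h1.commR)
  · exact h
  exfalso
  have hN : ∀ x ∈ B ⊔ D, conjBy (A ⊔ ⁅A, B⁆) x = A ⊔ ⁅A, B⁆ := by
    refine conjBy_eq_of_mem_sup (fun b hb => h1.conjBy_line hb) fun d hd => ?_
    have := h2.symm.conjBy_line hd
    rwa [Subgroup.commutator_comm _ D, e, sup_comm] at this
  have hnA : ∀ x ∈ ⁅B, D⁆, conjBy A x ≤ A := by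
    intro x hx
    conv_lhs => rw [← e]
    rw [conjBy_commutator, h.commR.conjBy_eq hx]
    refine (Subgroup.commutator_mono le_rfl
      (conjBy_le_of_eq le_sup_right (hN x (Subgroup.commutator_le_sup B D hx)))).trans ?_
    refine commutator_sup_le' (fun y hy => ?_) ?_ e.le
    · exact (((hS.comm_self hA).sup_right h1.commL.symm).conjBy_eq' hy)
    · rw [comm_iff.2 hAD.symm]; exact bot_le
  have hEC : Comm ⁅B, D⁆ ⁅A, B⁆ := by
    have key : ∃ a ∈ A, a ≠ 1 ∧ ∀ x ∈ ⁅B, D⁆, x * a = a * x := by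
      rcases hS.cases hA h.mem with h3 | h3 | h3
      · obtain ⟨a, ha, ha1⟩ := hS.exists_ne_one hA
        exact ⟨a, ha, ha1, fun x hx => (h3 a ha x hx).symm⟩
      · exfalso
        obtain ⟨x, hx, hx1⟩ := hS.exists_ne_one h.mem
        exact (h3.left_conj_pair hx hx1).not_comm ((hS.comm_self hA).mono le_rfl (hnA x hx))
      · obtain ⟨a, ha, ha1⟩ := hS.exists_ne_one h3.mem
        refine ⟨a, commutator_le_of (fun a ha x hx => ?_) ha, ha1, fun x hx => (h3.commR a ha x hx).symm⟩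
        have : a * x * a⁻¹ * x⁻¹ = a * (x * a⁻¹ * x⁻¹) := by group
        rw [this]
        exact mul_mem ha (hnA x hx (conj_mem_conjBy (inv_mem ha) x))
    obtain ⟨a, ha, ha1, hc⟩ := key
    intro x hx c hc'
    obtain ⟨b, hb, rfl⟩ := h1.exists_right ha ha1 hc'
    have k1 : Commute x a := hc x hx
    have k2 : Commute x b := h.commL x hx b hb
    exact ((k1.mul_right k2).mul_right k1.inv_right).mul_right k2.inv_right
  have := Subgroup.commutator_commutator_eq_bot_of_rotate (H₁ := D) (H₂ := ⁅A, B⁆) (H₃ := B)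
    (by rw [comm_iff.2 h1.commR, Subgroup.commutator_bot_left]) (comm_iff.2 hEC)
  rw [e] at this
  exact hS.ne_bot _ h1.mem this

theorem nat_fixed (hS : IsRootSubgroupSet S) (hB : B ∈ S) (hp : HasPartner S B)
    (h1 : RootCommutatorCase S A B) {b x : G} (hb : b ∈ B) (hb1 : b ≠ 1) (hx : x ∈ A ⊔ ⁅A, B⁆)
    (e : b * x = x * b) : x ∈ ⁅A, B⁆ := by
  obtain ⟨a, ha, c, hc, rfl⟩ := h1.commL.symm.mem_sup.1 hx
  have k1 : Commute b (a * c) := e
  have k2 : Commute b c := (h1.commR c hc b hb).symm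
  have k3 : Commute b a := by simpa using k1.mul_right k2.inv_right
  rw [hS.cc_not_commute hB hp h1.symm hb hb1 ha k3, one_mul]
  exact hc

theorem nat_centralizer (hS : IsRootSubgroupSet S) (hB : B ∈ S) (hp : HasPartner S B)
    (h1 : RootCommutatorCase S A B) : (A ⊔ ⁅A, B⁆) ⊓ Subgroup.centralizer (B : Set G) = ⁅A, B⁆ := by
  refine le_antisymm (fun x hx => ?_) (le_inf le_sup_right (comm_iff_le_centralizer.1 h1.commR))
  obtain ⟨b, hb, hb1⟩ := hS.exists_ne_one hB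
  exact hS.nat_fixed hB hp h1 hb hb1 hx.1 (hx.2 b hb)

/-- a rank one group with a natural module in `S` is special -/
theorem nat_special (hS : IsRootSubgroupSet S) (hC : C ∈ S) (hB : B ∈ S) (hA : A ∈ S)
    (h1 : RootCommutatorCase S C B) (h2 : RootCommutatorCase S A ⁅C, B⁆) (e : ⁅A, ⁅C, B⁆⁆ = C) :
    IsSpecialRankOnePair A B := by
  have h := (hS.nat_rankOne hC hB hA h1 h2 e).symm
  refine IsSpecialRankOnePair.of_match_inv h fun a ha ha1 b hb hb1 em => ?_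
  obtain ⟨c, hc, hc1⟩ := hS.exists_ne_one hC
  have hCA : Comm C A := e ▸ h2.commL
  have hf : b * c * b⁻¹ * c⁻¹ ∈ ⁅C, B⁆ := Subgroup.commutator_comm B C ▸ comm_mem hb hc
  set f := b * c * b⁻¹ * c⁻¹ with hfd
  -- `a⁻¹ (b c b⁻¹) a` centralises `B`, hence lies in `⁅C, B⁆`
  have hN : conjBy (C ⊔ ⁅C, B⁆) a⁻¹ = C ⊔ ⁅C, B⁆ := by
    have := h2.symm.conjBy_line (inv_mem ha)
    rwa [Subgroup.commutator_comm _ A, e, sup_comm] at this
  have k1 : a⁻¹ * (b * c * b⁻¹) * a⁻¹⁻¹ ∈ ⁅C, B⁆ := by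
    refine hS.nat_fixed hB ⟨A, hA, h.symm⟩ h1 hb hb1
      (hN ▸ conj_mem_conjBy (h1.conjBy_left_le hb (conj_mem_conjBy hc b)) a⁻¹) ?_
    have := (em ▸ hCA.conj b) _ (conj_mem_conjBy hc b) _ (conj_mem_conjBy hb a)
    calc b * (a⁻¹ * (b * c * b⁻¹) * a⁻¹⁻¹) = a⁻¹ * (a * b * a⁻¹ * (b * c * b⁻¹)) * a := by group
      _ = _ := by rw [← this]; group
  have k2 : a⁻¹ * f * a⁻¹⁻¹ * f⁻¹ ∈ C := e ▸ comm_mem (inv_mem ha) hf
  have kac : Commute a c := (hCA c hc a ha).symm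
  have kfc : Commute f c := h1.commL f hf c hc
  have k3 : a⁻¹ * f * a⁻¹⁻¹ * f⁻¹ * c = a⁻¹ * (b * c * b⁻¹) * a⁻¹⁻¹ * f⁻¹ := by
    calc a⁻¹ * f * a⁻¹⁻¹ * f⁻¹ * c = a⁻¹ * f * a * (f⁻¹ * c) := by group
      _ = a⁻¹ * f * (a * c) * f⁻¹ := by rw [kfc.inv_left.eq]; group
      _ = _ := by rw [kac.eq, hfd]; group
  have k4 : a⁻¹ * f * a⁻¹⁻¹ * f⁻¹ * c = 1 :=
    hS.cc_eq_one_left h1 (mul_mem k2 hc) (h1.commR _ (k3 ▸ mul_mem k1 (inv_mem hf)))
  -- hence `b⁻¹ c b = a⁻¹ f⁻¹ a`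
  have k5 : b⁻¹ * c * b⁻¹⁻¹ = a⁻¹ * f⁻¹ * a⁻¹⁻¹ := by
    have e1 : b⁻¹ * c * b⁻¹⁻¹ * c⁻¹ = f⁻¹ := h1.symm.comm_inv_left hb hc
    have e2 : a⁻¹ * f⁻¹ * a⁻¹⁻¹ * f⁻¹⁻¹ = (a⁻¹ * f * a⁻¹⁻¹ * f⁻¹)⁻¹ := h2.comm_inv_right (inv_mem ha) hf
    have e3 : (a⁻¹ * f * a⁻¹⁻¹ * f⁻¹)⁻¹ = c := inv_eq_of_mul_eq_one_right k4
    calc b⁻¹ * c * b⁻¹⁻¹ = (b⁻¹ * c * b⁻¹⁻¹ * c⁻¹) * c := by group
      _ = c * f⁻¹ := by rw [e1, kfc.inv_left.eq]
      _ = (a⁻¹ * f⁻¹ * a⁻¹⁻¹ * f⁻¹⁻¹) * f⁻¹ := by rw [e2, e3]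
      _ = _ := by group
  by_contra hne
  have hu1 := IsRankOnePair.conj_left_mem_unip (A := A) (Subgroup.mem_sup_right (inv_mem hb))
  have hu2 := h.conj_right_mem_unip (Subgroup.mem_sup_left (inv_mem ha))
  have k6 : ∀ y ∈ conjBy A b⁻¹ ⊔ conjBy B a⁻¹, (b⁻¹ * c * b⁻¹⁻¹) * y = y * (b⁻¹ * c * b⁻¹⁻¹) := by
    refine commute_of_mem_sup ((hCA.conj b⁻¹) _ (conj_mem_conjBy hc _)) ?_
    rw [k5]
    exact (h1.commR.conj a⁻¹) _ (conj_mem_conjBy (inv_mem hf) _)
  rw [h.unip_sup hu1 hu2 hne] at k6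
  have k7 := k6 b (Subgroup.mem_sup_right hb)
  refine hc1 (hS.cc_not_commute hB ⟨A, hA, h.symm⟩ h1.symm hb hb1 hc ?_)
  calc b * c = b * (b * (b⁻¹ * c * b⁻¹⁻¹)) * b⁻¹ := by group
    _ = c * b := by rw [← k7]; group

/-! ### Connectivity of the rank one graph -/

theorem fpath_of_line (hS : IsRootSubgroupSet S) (hA : A ∈ S) (hpA : HasPartner S A) (hpB : HasPartner S B)
    (h : B ∈ linePartners S A) : Relation.ReflTransGen (FAdj S) A B := by
  have hB := h.1.1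
  obtain ⟨D, hD, hAD⟩ := hpA
  obtain ⟨D', hD', hBD'⟩ := hpB
  obtain ⟨a, ha, ha1⟩ := hS.exists_ne_one hA
  obtain ⟨b, hb, hb1⟩ := hS.exists_ne_one hB
  obtain ⟨E, hE, -, he⟩ := line_exists hA h ha hb (Or.inl ha1)
  have hc := line_comm h
  have p1 : Relation.ReflTransGen (FAdj S) A D := .single ⟨hA, hD, hAD⟩
  rcases hS.rankOne_or hB hD hE hAD ha ha1 hb (fun x hx => (hc x hx b hb).symm) he with h1 | h1
  · exact p1.tail ⟨hD, hB, h1.symm⟩
  rcases hS.rankOne_or hA hD' hE hBD' hb hb1 ha (hc a ha) (hc a ha b hb ▸ he) with h2 | h2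
  · exact (Relation.ReflTransGen.single ⟨hA, hD', h2⟩).tail ⟨hD', hB, hBD'.symm⟩
  · exact ((p1.tail ⟨hD, hE, h1.symm⟩).tail ⟨hE, hD', h2⟩).tail ⟨hD', hB, hBD'.symm⟩

theorem fpath_conj (hS : IsRootSubgroupSet S) (hall : AllPartner S) (hA : A ∈ S) (g : G) :
    Relation.ReflTransGen (FAdj S) A (conjBy A g) := by
  have step : ∀ E ∈ S, ∀ B ∈ S, ∀ b ∈ B, Relation.ReflTransGen (FAdj S) E (conjBy E b) := by
    intro E hE B hB b hb
    by_cases hb1 : b = 1
    · rw [hb1, conjBy_one]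
    have hEb := hS.conj_mem E hE b
    rcases hS.cases hE hB with h | h | h
    · rw [h.conjBy_eq' hb]
    · exact .single ⟨hE, hEb, h.left_conj_pair hb hb1⟩
    · refine (hS.fpath_of_line hE (hall E hE) (hall _ h.mem) (hS.cc_line hE (hall E hE) h)).trans ?_
      have h' := hS.line_conj (line_symm hE (hS.cc_line hE (hall E hE) h)) b
      rw [h.commR.conjBy_eq' hb] at h'
      exact hS.fpath_of_line h.mem (hall _ h.mem) (hall _ hEb) h'
  refine hS.induction (P := fun g => Relation.ReflTransGen (FAdj S) A (conjBy A g)) (by rw [conjBy_one]) ?_ g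
  intro B hB b hb g ih
  rw [← conjBy_conjBy]
  exact ih.trans (step _ (hS.conj_mem A hA g) B hB b hb)

theorem allPartner_of_class (hS : IsRootSubgroupSet S) (hc : IsConjClassOfSubgroups S) (hA : A ∈ S)
    (hp : HasPartner S A) : AllPartner S := by
  intro B hB
  obtain ⟨g, rfl⟩ := hc.2 A hA B hB
  exact hS.hasPartner_conj hp g

theorem fconnected (hS : IsRootSubgroupSet S) (hc : IsConjClassOfSubgroups S) (hall : AllPartner S) :
    IsConnectedFamily (FAdj S) S := by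
  intro A hA B hB
  obtain ⟨g, rfl⟩ := hc.2 A hA B hB
  exact hS.fpath_conj hall hA g

theorem allPartner_of_connected (hc : IsConnectedFamily (FAdj S) S) (h2 : ∃ A ∈ S, ∃ B ∈ S, A ≠ B) :
    AllPartner S := by
  intro C hC
  obtain ⟨A, hA, B, hB, hne⟩ := h2
  have : ∃ E ∈ S, E ≠ C := by
    by_cases h : A = C
    · exact ⟨B, hB, h ▸ hne.symm⟩
    · exact ⟨A, hA, h⟩
  obtain ⟨E, hE, hEC⟩ := this
  rcases (hc C hC E hE).cases_head with e | ⟨D, h, -⟩
  · exact absurd e.symm hEC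
  · exact ⟨D, h.2.1, h.2.2⟩

end Cfsg.IsRootSubgroupSet

/-! ### Non-degenerate classes -/

namespace Cfsg.IsRootSubgroupClass

open IsRootSubgroupSet

theorem allPartner (hS : IsRootSubgroupClass S) (hnd : IsNondegenerateRootSet S) : AllPartner S := by
  obtain ⟨A, hA, B, hB, h⟩ := hnd.2.1
  exact hS.1.allPartner_of_class hS.2 hA ⟨B, hB, h⟩

theorem exists_line (hS : IsRootSubgroupClass S) (hnd : IsNondegenerateRootSet S) (hA : A ∈ S) :
    ∃ B, B ∈ linePartners S A := by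
  obtain ⟨A₀, hA₀, B, -, h⟩ := hnd.2.2
  obtain ⟨g, rfl⟩ := hS.2.2 A₀ hA₀ A hA
  exact ⟨_, hS.1.line_conj (hS.1.cc_line hA₀ (hS.allPartner hnd A₀ hA₀) h) g⟩

theorem exists_nat (hS : IsRootSubgroupClass S) (hnd : IsNondegenerateRootSet S) (hA : A ∈ S) (hB : B ∈ S)
    (h : IsRankOnePair A B) : ∃ C ∈ linePartners S A, RootCommutatorCase S C B ∧
      RootCommutatorCase S A ⁅C, B⁆ ∧ ⁅A, ⁅C, B⁆⁆ = C := by
  obtain ⟨E, hE⟩ := hS.exists_line hnd hA
  obtain ⟨C, hC, -, h1, h2⟩ := hS.1.line_exists_cc (hS.allPartner hnd) hA hE hB h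
  exact ⟨C, hC, h1, hS.1.cc_of_mem hA h1.mem (h2.symm ▸ hC.1.1), h2⟩

theorem special (hS : IsRootSubgroupClass S) (hnd : IsNondegenerateRootSet S) (hA : A ∈ S) (hB : B ∈ S)
    (h : IsRankOnePair A B) : IsSpecialRankOnePair A B := by
  obtain ⟨C, hC, h1, h2, h3⟩ := hS.exists_nat hnd hA hB h
  exact hS.1.nat_special hC.1.1 hB hA h1 h2 h3

theorem econnected (hS : IsRootSubgroupClass S) (hnd : IsNondegenerateRootSet S) :
    IsConnectedFamily (EAdj S S) S := by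
  have hall := hS.allPartner hnd
  intro A hA B hB
  have := hS.1.fconnected hS.2 hall A hA B hB
  induction this with
  | refl => exact .refl
  | @tail P Q _ h ih =>
    obtain ⟨C, hC, h1, -, -⟩ := hS.exists_nat hnd h.1 hB h.2.2
    exact (((ih h.1).tail ⟨h.1, hC.1.1, hC⟩).tail ⟨hC.1.1, h1.mem, hS.1.cc_line hC.1.1 (hall C hC.1.1) h1⟩).tail
      ⟨h1.mem, hB, line_symm hB (hS.1.cc_line' hB (hall Q hB) h1)⟩

theorem generated (hS : IsRootSubgroupClass S) (hnd : IsNondegenerateRootSet S) (hA : A ∈ S) (hB : B ∈ S)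
    (h : IsRankOnePair A B) {U : Subgroup G} (hU : ∀ C ∈ linePartners S A, C ≤ U) (hBU : B ≤ U) : U = ⊤ := by
  have hall := hS.allPartner hnd
  have key : ∀ E ∈ linePartners S A, ∃ u ∈ U, E = conjBy A u := by
    intro E hE
    obtain ⟨C, hC, e, h1, h2⟩ := hS.1.line_exists_cc hall hA hE hB h
    have hF : ⁅C, B⁆ ≤ U := (Subgroup.commutator_le_sup C B).trans (sup_le (hU C hC) hBU)
    have h3 := hS.1.cc_of_mem hA h1.mem (h2.symm ▸ hC.1.1)
    have h4 : ∀ P ∈ S, P ≤ A ⊔ C → P ≠ C → ∃ u ∈ U, P = conjBy A u := by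
      intro P hP hle hne
      rcases hS.1.cc_members hA (hall A hA) h3 hP (h2.symm ▸ hle) with e' | ⟨f, hf, e'⟩
      · exact absurd (e'.trans h2) hne
      · exact ⟨f, hF hf, e'⟩
    by_cases hEC : E = C
    swap
    · exact h4 E hE.1.1 (e ▸ le_sup_right) hEC
    subst hEC
    obtain ⟨F, hF', h5, e5⟩ := hS.1.exists_opp hall hC.1.1 (line_symm hA hC)
    have hFl : F ∈ linePartners S A := e5 ▸ line_symm hF' (hS.1.cc_line' hF' (hall F hF') h5)
    obtain ⟨f, hf, hf1⟩ := hS.1.exists_ne_one hF'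
    obtain ⟨u, hu, eu⟩ := h4 (conjBy E f) (hS.1.conj_mem E hC.1.1 f)
      (by have := h5.conjBy_left_le hf; rwa [e5, sup_comm] at this) (by
        intro e'
        obtain ⟨c, hc, hc1⟩ := hS.1.exists_ne_one hA
        obtain ⟨x, hx, ex⟩ := h5.exists_left hf hf1 (e5.symm ▸ hc)
        refine hc1 (line_inf hA hC hc ?_)
        have : c = x * (f * x⁻¹ * f⁻¹) := by rw [← ex]; group
        rw [this]
        exact mul_mem hx (e' ▸ conj_mem_conjBy (inv_mem hx) f))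
    exact ⟨f⁻¹ * u, mul_mem (inv_mem (hU F hFl hf)) hu, by rw [← conjBy_conjBy, ← eu, conjBy_inv_conjBy]⟩
  have hAU : A ≤ U := by
    obtain ⟨E, hE⟩ := hS.exists_line hnd hA
    obtain ⟨u, hu, eu⟩ := key E hE
    have := conjBy_le_of_mem (hU E hE) (inv_mem hu)
    rwa [eu, conjBy_inv_conjBy] at this
  have main : ∀ E, Relation.ReflTransGen (EAdj S S) A E → ∃ u ∈ U, E = conjBy A u := by
    intro E hE
    induction hE with
    | refl => exact ⟨1, one_mem _, (conjBy_one A).symm⟩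
    | tail _ h ih =>
      obtain ⟨u, hu, rfl⟩ := ih
      have := hS.1.line_conj h.2.2 u⁻¹
      rw [conjBy_inv_conjBy] at this
      obtain ⟨v, hv, ev⟩ := key _ this
      exact ⟨u * v, mul_mem hu hv, by rw [← conjBy_conjBy, ← ev, conjBy_conjBy_inv]⟩
  refine hS.1.eq_top_of_forall_le fun E hE => ?_
  obtain ⟨u, hu, rfl⟩ := main E (hS.econnected hnd A hA E hE)
  exact conjBy_le_of_mem hAU hu

end Cfsg.IsRootSubgroupClass
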