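import Mathlib
import Cfsg.Agent.Chev.TimRoot

/-!
Unipotent subgroups of the unit group of an algebra, via the augmentation span; a Baer–Suzuki type theorem.
-/

set_option autoImplicit false

open Cfsg Cfsg.Agent.Chev.Tim

namespace Cfsg.Agent.Chev.Tim

section Alg

variable (k : Type*) [Field k] {A : Type*} [Ring A] [Algebra k A]

/-- the span of the elements `g - 1`, `g ∈ H` -/
def aug (H : Subgroup Aˣ) : Submodule k A := Submodule.span k {x | ∃ g ∈ H, x = (g : A) - 1}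

/-- `H` is unipotent -/
def Unip (H : Subgroup Aˣ) : Prop := ∃ n, aug k H ^ n = ⊥

variable {k}

theorem mem_aug {H : Subgroup Aˣ} {g : Aˣ} (hg : g ∈ H) : (g : A) - 1 ∈ aug k H :=
  Submodule.subset_span ⟨g, hg, rfl⟩

theorem aug_le {H : Subgroup Aˣ} {J : Submodule k A} : aug k H ≤ J ↔ ∀ g ∈ H, (g : A) - 1 ∈ J := by
  rw [aug, Submodule.span_le]
  exact ⟨fun h g hg => h ⟨g, hg, rfl⟩, by rintro h _ ⟨g, hg, rfl⟩; exact h g hg⟩

theorem aug_mono {H K : Subgroup Aˣ} (h : H ≤ K) : aug k H ≤ aug k K :=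
  aug_le.2 fun _ hg => mem_aug (h hg)

theorem aug_mul_le (H : Subgroup Aˣ) : aug k H * aug k H ≤ aug k H := by
  conv_lhs => rw [aug, Submodule.span_mul_span]
  rw [Submodule.span_le]
  rintro _ ⟨_, ⟨g, hg, rfl⟩, _, ⟨h, hh, rfl⟩, rfl⟩
  have : ((g : A) - 1) * (h - 1) = (((g * h : Aˣ) : A) - 1) - (g - 1) - (h - 1) := by
    rw [Units.val_mul]; noncomm_ring
  simp only [this, SetLike.mem_coe]
  exact sub_mem (sub_mem (mem_aug (mul_mem hg hh)) (mem_aug hg)) (mem_aug hh)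

/-- the units congruent to `1` modulo a multiplicatively closed submodule -/
def unitsOf (J : Submodule k A) (hJ : J * J ≤ J) : Subgroup Aˣ where
  carrier := {g | (g : A) - 1 ∈ J ∧ ((g⁻¹ : Aˣ) : A) - 1 ∈ J}
  one_mem' := by simp
  inv_mem' := fun h => ⟨h.2, by simpa using h.1⟩
  mul_mem' := by
    have key : ∀ x y : A, x - 1 ∈ J → y - 1 ∈ J → x * y - 1 ∈ J := by
      intro x y hx hy
      have : x * y - 1 = (x - 1) * (y - 1) + (x - 1) + (y - 1) := by noncomm_ring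
      rw [this]
      exact add_mem (add_mem (hJ (Submodule.mul_mem_mul hx hy)) hx) hy
    rintro g h ⟨h1, h2⟩ ⟨h3, h4⟩
    exact ⟨by rw [Units.val_mul]; exact key _ _ h1 h3, by rw [mul_inv_rev, Units.val_mul]; exact key _ _ h4 h2⟩

theorem le_unitsOf {J : Submodule k A} (hJ : J * J ≤ J) {H : Subgroup Aˣ} : H ≤ unitsOf J hJ ↔ aug k H ≤ J := by
  rw [aug_le]
  exact ⟨fun h g hg => (h hg).1, fun h g hg => ⟨h g hg, h _ (inv_mem hg)⟩⟩

theorem aug_unitsOf_le {J : Submodule k A} (hJ : J * J ≤ J) : aug k (unitsOf J hJ) ≤ J :=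
  (le_unitsOf hJ).1 le_rfl

theorem sub_pow_le {I J : Submodule k A} (h : I ≤ J) (n : ℕ) : I ^ n ≤ J ^ n := pow_le_pow_left' h n

theorem Unip.mono {H K : Subgroup Aˣ} (h : Unip k K) (hle : H ≤ K) : Unip k H := by
  obtain ⟨n, hn⟩ := h
  exact ⟨n, le_bot_iff.1 (hn ▸ sub_pow_le (aug_mono hle) n)⟩

theorem unip_of_le {H : Subgroup Aˣ} {J : Submodule k A} (h : aug k H ≤ J) {n : ℕ} (hn : J ^ n = ⊥) :
    Unip k H := ⟨n, le_bot_iff.1 (hn ▸ sub_pow_le h n)⟩

theorem unip_bot : Unip k (⊥ : Subgroup Aˣ) := by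
  refine ⟨1, ?_⟩
  rw [pow_one, eq_bot_iff, aug_le]
  intro g hg
  rw [Subgroup.mem_bot.1 hg]; simp

theorem pow_succ_le {J : Submodule k A} (hJ : J * J ≤ J) (n : ℕ) : J ^ (n + 1) * J ≤ J ^ (n + 1) := by
  rw [pow_succ, mul_assoc]
  exact mul_le_mul_right hJ _

theorem pow_succ_le' {J : Submodule k A} (hJ : J * J ≤ J) (n : ℕ) : J * J ^ (n + 1) ≤ J ^ (n + 1) := by
  rw [pow_succ', ← mul_assoc]
  exact mul_le_mul_left hJ _

theorem pow_succ_le_self {J : Submodule k A} (hJ : J * J ≤ J) (n : ℕ) : J ^ (n + 1) ≤ J := by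
  induction n with
  | zero => rw [zero_add, pow_one]
  | succ n ih => rw [pow_succ]; exact (mul_le_mul_left ih _).trans hJ

theorem pow_mul_pow_le {J : Submodule k A} (hJ : J * J ≤ J) (n : ℕ) :
    J ^ (n + 1) * J ^ (n + 1) ≤ J ^ (n + 1) :=
  (mul_le_mul_right (pow_succ_le_self hJ n) _).trans (pow_succ_le hJ n)

theorem lcs_le {J : Submodule k A} (hJ : J * J ≤ J) {H : Subgroup Aˣ} (hH : aug k H ≤ J) (n : ℕ) :
    aug k (H.lowerCentralSeries n) ≤ J ^ (n + 1) := by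
  induction n with
  | zero => rwa [zero_add, pow_one]
  | succ n ih =>
    rw [← le_unitsOf (pow_mul_pow_le hJ _), Subgroup.lowerCentralSeries_succ]
    have key : ∀ g h : Aˣ, ((g : A) - 1) * (h - 1) ∈ J ^ (n + 2) → ((h : A) - 1) * (g - 1) ∈ J ^ (n + 2) →
        ((g⁻¹ : Aˣ) : A) - 1 ∈ J → ((h⁻¹ : Aˣ) : A) - 1 ∈ J →
        ((g * h * g⁻¹ * h⁻¹ : Aˣ) : A) - 1 ∈ J ^ (n + 2) := by
      intro g h h1 h2 h3 h4
      have mr : ∀ x y : A, x ∈ J ^ (n + 2) → y - 1 ∈ J → x * y ∈ J ^ (n + 2) := by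
        intro x y hx hy
        have : x * y = x * (y - 1) + x := by noncomm_ring
        rw [this]
        exact add_mem (pow_succ_le hJ _ (Submodule.mul_mem_mul hx hy)) hx
      have : ((g * h * g⁻¹ * h⁻¹ : Aˣ) : A) - 1 =
          (((g : A) - 1) * (h - 1) - ((h : A) - 1) * (g - 1)) * (g⁻¹ : Aˣ) * (h⁻¹ : Aˣ) := by
        have e1 : ((g : A) - 1) * (h - 1) - ((h : A) - 1) * (g - 1) = g * h - h * g := by noncomm_ring
        rw [e1]
        simp [sub_mul, mul_assoc]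
      rw [this]
      exact mr _ _ (mr _ _ (sub_mem h1 h2) h3) h4
    have hle : H.lowerCentralSeries n ≤ H := Subgroup.lowerCentralSeries_le_self _ _
    refine commutator_le_of fun g hg h hh => ?_
    have a1 : ((g : A) - 1) * (h - 1) ∈ J ^ (n + 2) := by
      rw [pow_succ]; exact Submodule.mul_mem_mul (ih (mem_aug hg)) (hH (mem_aug hh))
    have a2 : ((h : A) - 1) * (g - 1) ∈ J ^ (n + 2) := by
      rw [pow_succ']; exact Submodule.mul_mem_mul (hH (mem_aug hh)) (ih (mem_aug hg))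
    have a3 := hH (mem_aug (inv_mem (hle hg)))
    have a4 := hH (mem_aug (inv_mem hh))
    refine ⟨key g h a1 a2 a3 a4, ?_⟩
    have : (g * h * g⁻¹ * h⁻¹)⁻¹ = h * g * h⁻¹ * g⁻¹ := by group
    rw [this]
    exact key h g a2 a1 a4 a3

theorem eq_bot_of_aug {H : Subgroup Aˣ} (h : aug k H = ⊥) : H = ⊥ := by
  rw [Subgroup.eq_bot_iff_forall]
  intro g hg
  have := mem_aug (k := k) hg
  rw [h, Submodule.mem_bot, sub_eq_zero] at this
  exact Units.ext this

theorem Unip.lcs {H : Subgroup Aˣ} (h : Unip k H) : ∃ n, H.lowerCentralSeries n = ⊥ := by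
  obtain ⟨n, hn⟩ := h
  refine ⟨n, eq_bot_of_aug (k := k) (le_bot_iff.1 ((lcs_le (aug_mul_le H) le_rfl n).trans ?_))⟩
  rw [pow_succ, hn, Submodule.bot_mul]

theorem conj_mem_aug {H : Subgroup Aˣ} {g : Aˣ} {x : A} (hx : x ∈ aug k H) :
    g * x * (g⁻¹ : Aˣ) ∈ aug k (conjBy H g) := by
  induction hx using Submodule.span_induction with
  | mem x hx =>
    obtain ⟨h, hh, rfl⟩ := hx
    have := mem_aug (k := k) (conj_mem_conjBy hh g)
    simpa [mul_sub, sub_mul] using this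
  | zero => simp
  | add x y _ _ hx hy => rw [mul_add, add_mul]; exact add_mem hx hy
  | smul c x _ hx => rw [mul_smul_comm, smul_mul_assoc]; exact Submodule.smul_mem _ c hx

/-- a unipotent group normalised by a unipotent group -/
theorem Unip.sup_of_normalizes {P T : Subgroup Aˣ} (hP : Unip k P) (hT : Unip k T)
    (hn : ∀ g ∈ T, conjBy P g = P) : Unip k (P ⊔ T) := by
  obtain ⟨n, hn'⟩ := hP
  obtain ⟨m, hm⟩ := hT
  set J := aug k P with hJ
  set I := aug k T with hI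
  set E : Submodule k A := Submodule.span k {x | ∃ g ∈ T, x = (g : A)} with hE
  have h1E : (1 : Submodule k A) ≤ E := Submodule.one_le.2 (Submodule.subset_span ⟨1, one_mem _, rfl⟩)
  have hIE : I ≤ E := aug_le.2 fun g hg =>
    sub_mem (Submodule.subset_span ⟨g, hg, rfl⟩) (Submodule.one_le.1 h1E)
  have hEE : E * E ≤ E := by
    rw [hE, Submodule.span_mul_span, Submodule.span_le]
    rintro _ ⟨_, ⟨g, hg, rfl⟩, _, ⟨h, hh, rfl⟩, rfl⟩
    exact Submodule.subset_span ⟨g * h, mul_mem hg hh, rfl⟩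
  have hEJ : E * J ≤ J * E := by
    rw [Submodule.mul_le]
    intro x hx y hy
    induction hx using Submodule.span_induction with
    | mem x hx =>
      obtain ⟨g, hg, rfl⟩ := hx
      have : (g : A) * y = (g * y * (g⁻¹ : Aˣ)) * g := by simp
      rw [this]
      refine Submodule.mul_mem_mul ?_ (Submodule.subset_span ⟨g, hg, rfl⟩)
      have := conj_mem_aug (g := g) hy
      rwa [hn g hg] at this
    | zero => simp
    | add x x' _ _ hx hx' => rw [add_mul]; exact add_mem hx hx'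
    | smul c x _ hx => rw [smul_mul_assoc]; exact Submodule.smul_mem _ c hx
  have hEN : E * (J * E) ≤ J * E := by
    rw [← mul_assoc]
    refine (mul_le_mul_left hEJ _).trans ?_
    rw [mul_assoc]; exact mul_le_mul_right hEE _
  have hNE : (J * E) * E ≤ J * E := by rw [mul_assoc]; exact mul_le_mul_right hEE _
  have hNN : (J * E) * (J * E) ≤ J * E := by
    rw [mul_assoc]
    refine (mul_le_mul_right hEN _).trans ?_
    rw [← mul_assoc]; exact mul_le_mul_left (aug_mul_le P) _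
  have hIpow : ∀ i, I ^ i ≤ E := by
    intro i
    induction i with
    | zero => rwa [pow_zero]
    | succ i ih => rw [pow_succ]; exact (mul_le_mul' ih hIE).trans hEE
  have hB : ∀ i, (I ⊔ J * E) ^ i ≤ I ^ i ⊔ J * E := by
    intro i
    induction i with
    | zero => rw [pow_zero, pow_zero]; exact le_sup_left
    | succ i ih =>
      rw [pow_succ, pow_succ]
      refine (mul_le_mul_left ih _).trans ?_
      rw [Submodule.sup_mul, Submodule.mul_sup, Submodule.mul_sup]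
      refine sup_le (sup_le le_sup_left (le_sup_of_le_right ?_)) (le_sup_of_le_right (sup_le ?_ hNN))
      · exact (mul_le_mul_left (hIpow i) _).trans hEN
      · exact (mul_le_mul_right hIE _).trans hNE
  have hN : ∀ i, (J * E) ^ i ≤ J ^ i * E := by
    intro i
    induction i with
    | zero => rwa [pow_zero, pow_zero, one_mul]
    | succ i ih =>
      rw [pow_succ, pow_succ]
      refine (mul_le_mul_left ih _).trans ?_
      rw [mul_assoc, mul_assoc]
      exact mul_le_mul_right hEN _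
  have hBB : (I ⊔ J * E) * (I ⊔ J * E) ≤ I ⊔ J * E := by
    have := hB 2
    rw [pow_two, pow_two] at this
    exact this.trans (sup_le_sup_right (aug_mul_le T) _)
  refine unip_of_le (J := I ⊔ J * E) (n := m * n) ?_ ?_
  · rw [← le_unitsOf hBB]
    refine sup_le ((le_unitsOf hBB).2 (le_sup_of_le_right ?_)) ((le_unitsOf hBB).2 le_sup_left)
    conv_lhs => rw [← mul_one (aug k P)]
    exact mul_le_mul_right h1E _
  · rw [pow_mul, eq_bot_iff]
    have := hB m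
    rw [hm, bot_sup_eq] at this
    refine (sub_pow_le this n).trans ((hN n).trans ?_)
    rw [hn', Submodule.bot_mul]

/-- a member outside `𝒟` normalising the group generated by `𝒟` -/
theorem exists_normalizing {G : Subgroup Aˣ} {W : Set (Subgroup Aˣ)} (hWG : ∀ B ∈ W, B ≤ G)
    (hWc : ∀ B ∈ W, ∀ g ∈ G, conjBy B g ∈ W) {J J₁ : Submodule k A} (hJ : J * J ≤ J) (hJ₁ : J₁ * J₁ ≤ J₁)
    (hle : J ≤ J₁) {n : ℕ} (hn : J₁ ^ n = ⊥) (hex : ∃ B ∈ W, aug k B ≤ J₁ ∧ ¬ aug k B ≤ J) :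
    ∃ B ∈ W, aug k B ≤ J₁ ∧ ¬ aug k B ≤ J ∧ ∀ g ∈ B, ∀ C ∈ W, aug k C ≤ J → aug k (conjBy C g) ≤ J := by
  have key : ∀ i, (∃ B ∈ W, aug k B ≤ J ⊔ J₁ ^ (i + 1) ∧ ¬ aug k B ≤ J) ∨
      ∃ B ∈ W, aug k B ≤ J₁ ∧ ¬ aug k B ≤ J ∧ ∀ g ∈ B, ∀ C ∈ W, aug k C ≤ J → aug k (conjBy C g) ≤ J := by
    intro i
    induction i with
    | zero =>
      obtain ⟨B, hB, h1, h2⟩ := hex
      exact Or.inl ⟨B, hB, by rw [zero_add, pow_one]; exact le_sup_of_le_right h1, h2⟩
    | succ i ih =>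
      rcases ih with ⟨B, hB, h1, h2⟩ | h
      swap
      · exact Or.inr h
      by_cases h3 : ∃ B ∈ W, aug k B ≤ J ⊔ J₁ ^ (i + 1 + 1) ∧ ¬ aug k B ≤ J
      · exact Or.inl h3
      right
      push Not at h3
      refine ⟨B, hB, h1.trans (sup_le hle (pow_succ_le_self hJ₁ i)), h2, fun g hg C hC hCJ => ?_⟩
      refine h3 _ (hWc C hC g (hWG B hB hg)) (aug_le.2 fun x hx => ?_)
      obtain ⟨c, hc, rfl⟩ := mem_conjBy'.1 hx
      have l1 : (J ⊔ J₁ ^ (i + 1)) * (J ⊔ J₁ ^ (i + 1 + 1)) ≤ J ⊔ J₁ ^ (i + 1 + 1) := by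
        rw [Submodule.sup_mul, Submodule.mul_sup, Submodule.mul_sup]
        refine sup_le (sup_le (le_sup_of_le_left hJ) (le_sup_of_le_right ?_))
          (le_sup_of_le_right (sup_le ?_ ?_))
        · exact (mul_le_mul_left hle _).trans (pow_succ_le' hJ₁ _)
        · rw [pow_succ _ (i + 1)]; exact mul_le_mul_right hle _
        · exact (mul_le_mul_left (pow_succ_le_self hJ₁ i) _).trans (pow_succ_le' hJ₁ _)
      have l2 : (J ⊔ J₁ ^ (i + 1 + 1)) * (J ⊔ J₁ ^ (i + 1)) ≤ J ⊔ J₁ ^ (i + 1 + 1) := by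
        rw [Submodule.sup_mul, Submodule.mul_sup, Submodule.mul_sup]
        refine sup_le (sup_le (le_sup_of_le_left hJ) (le_sup_of_le_right ?_))
          (le_sup_of_le_right (sup_le ?_ ?_))
        · rw [pow_succ' _ (i + 1)]; exact mul_le_mul_left hle _
        · exact (mul_le_mul_right hle _).trans (pow_succ_le hJ₁ _)
        · exact (mul_le_mul_right (pow_succ_le_self hJ₁ i) _).trans (pow_succ_le hJ₁ _)
      have m1 : (c : A) - 1 ∈ J ⊔ J₁ ^ (i + 1 + 1) := Submodule.mem_sup_left (hCJ (mem_aug hc))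
      have m2 : (g : A) * (c - 1) ∈ J ⊔ J₁ ^ (i + 1 + 1) := by
        have : (g : A) * (c - 1) = (g - 1) * (c - 1) + (c - 1) := by noncomm_ring
        rw [this]
        exact add_mem (l1 (Submodule.mul_mem_mul (h1 (mem_aug hg)) m1)) m1
      have : ((g * c * g⁻¹ : Aˣ) : A) - 1 =
          (g : A) * (c - 1) * ((g⁻¹ : Aˣ) - 1) + (g : A) * (c - 1) := by
        simp [mul_sub, sub_mul]
      rw [this]
      exact add_mem (l2 (Submodule.mul_mem_mul m2 (h1 (mem_aug (inv_mem hg))))) m2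
  rcases key n with ⟨B, -, h1, h2⟩ | h
  · rw [pow_succ, hn, Submodule.bot_mul, sup_bot_eq] at h1
    exact absurd h1 h2
  · exact h

/-- Baer–Suzuki for unipotent groups -/
theorem unip_iSup [FiniteDimensional k A] {G : Subgroup Aˣ} {W : Set (Subgroup Aˣ)} (hWG : ∀ B ∈ W, B ≤ G)
    (hWW : ∀ B ∈ W, ∀ C ∈ W, Unip k (B ⊔ C)) (hWc : ∀ B ∈ W, ∀ g ∈ G, conjBy B g ∈ W) :
    Unip k (⨆ B ∈ W, B) := by
  -- `P` is generated by the members of `W` it contains
  let Gen : Subgroup Aˣ → Prop := fun P => P ≤ ⨆ B ∈ {B | B ∈ W ∧ B ≤ P}, B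
  have gen_sup : ∀ P Q, Gen P → Gen Q → Gen (P ⊔ Q) := by
    intro P Q hP hQ
    refine sup_le (hP.trans (iSup₂_le fun B hB => le_iSup₂_of_le B ⟨hB.1, le_sup_of_le_left hB.2⟩ le_rfl))
      (hQ.trans (iSup₂_le fun B hB => le_iSup₂_of_le B ⟨hB.1, le_sup_of_le_right hB.2⟩ le_rfl))
  have gen_mem : ∀ B ∈ W, Gen B := fun B hB => le_iSup₂_of_le B ⟨hB, le_rfl⟩ le_rfl
  let cl : Subgroup Aˣ → Subgroup Aˣ := fun P => ⨆ B ∈ {B | B ∈ W ∧ aug k B ≤ aug k P}, B
  have le_cl : ∀ P, ∀ B ∈ W, aug k B ≤ aug k P → B ≤ cl P := fun P B hB h => le_iSup₂_of_le B ⟨hB, h⟩ le_rfl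
  have aug_cl : ∀ P, aug k (cl P) ≤ aug k P := fun P =>
    (le_unitsOf (aug_mul_le P)).1 (iSup₂_le fun B hB => (le_unitsOf _).2 hB.2)
  have le_cl' : ∀ P, Gen P → P ≤ cl P := fun P hP =>
    hP.trans (iSup₂_le fun B hB => le_cl P B hB.1 (aug_mono hB.2))
  have gen_cl : ∀ P, Gen (cl P) := fun P =>
    iSup₂_le fun B hB => le_iSup₂_of_le B ⟨hB.1, le_cl P B hB.1 hB.2⟩ le_rfl
  have unip_cl : ∀ P, Unip k P → Unip k (cl P) := fun P ⟨n, hn⟩ => unip_of_le (aug_cl P) hn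
  have main : ∀ m, ∀ D P Q : Subgroup Aˣ, Module.finrank k A - Module.finrank k (aug k D) = m → Gen D →
      Gen P → Gen Q → D ≤ P → D ≤ Q → Unip k P → Unip k Q → Unip k (P ⊔ Q) := by
    intro m
    induction m using Nat.strong_induction_on with
    | _ m ih =>
    intro D P Q hm hD hP hQ hDP hDQ uP uQ
    by_cases h1 : ∃ B ∈ W, aug k B ≤ aug k P ∧ ¬ aug k B ≤ aug k D
    swap
    · push Not at h1
      refine (unip_cl Q uQ).mono (sup_le (hP.trans (iSup₂_le fun B hB => le_cl Q B hB.1 ?_)) (le_cl' Q hQ))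
      exact (h1 B hB.1 (aug_mono hB.2)).trans (aug_mono hDQ)
    by_cases h2 : ∃ B ∈ W, aug k B ≤ aug k Q ∧ ¬ aug k B ≤ aug k D
    swap
    · push Not at h2
      refine (unip_cl P uP).mono (sup_le (le_cl' P hP) (hQ.trans (iSup₂_le fun B hB => le_cl P B hB.1 ?_)))
      exact (h2 B hB.1 (aug_mono hB.2)).trans (aug_mono hDP)
    obtain ⟨n₁, hn₁⟩ := uP
    obtain ⟨n₂, hn₂⟩ := uQ
    obtain ⟨B₁, hB₁, a1, a2, a3⟩ :=
      exists_normalizing hWG hWc (aug_mul_le D) (aug_mul_le P) (aug_mono hDP) hn₁ h1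
    obtain ⟨B₂, hB₂, b1, b2, b3⟩ :=
      exists_normalizing hWG hWc (aug_mul_le D) (aug_mul_le Q) (aug_mono hDQ) hn₂ h2
    have nrm : ∀ B ∈ W, (∀ g ∈ B, ∀ C ∈ W, aug k C ≤ aug k D → aug k (conjBy C g) ≤ aug k D) →
        ∀ g ∈ B, conjBy (cl D) g = cl D := by
      intro B hB h
      have key : ∀ g ∈ B, conjBy (cl D) g ≤ cl D := by
        intro g hg
        rw [← conjBy_le_conjBy_iff (g := g⁻¹), conjBy_inv_conjBy]
        refine iSup₂_le fun C hC => ?_
        rw [← conjBy_le_conjBy_iff (g := g), conjBy_conjBy_inv]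
        exact le_cl D _ (hWc C hC.1 g (hWG B hB hg)) (h g hg C hC.1 hC.2)
      intro g hg
      refine le_antisymm (key g hg) ?_
      have := conjBy_mono (key g⁻¹ (inv_mem hg)) g
      rwa [conjBy_conjBy_inv] at this
    have uD : Unip k (cl D) := unip_cl D (Unip.mono ⟨n₁, hn₁⟩ hDP)
    have u3 : Unip k (cl D ⊔ (B₁ ⊔ B₂)) :=
      uD.sup_of_normalizes (hWW B₁ hB₁ B₂ hB₂) (conjBy_eq_of_mem_sup (nrm B₁ hB₁ a3) (nrm B₂ hB₂ b3))
    have g3 : Gen (cl D ⊔ (B₁ ⊔ B₂)) := gen_sup _ _ (gen_cl D) (gen_sup _ _ (gen_mem _ hB₁) (gen_mem _ hB₂))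
    have lt : ∀ B, ¬ aug k B ≤ aug k D →
        Module.finrank k A - Module.finrank k (aug k (D ⊔ B)) < m := by
      intro B hB
      have l1 : aug k D < aug k (D ⊔ B) :=
        lt_of_le_of_ne (aug_mono le_sup_left) fun e => hB (e ▸ aug_mono le_sup_right)
      have l2 := Submodule.finrank_lt_finrank_of_lt l1
      have l3 := Submodule.finrank_le (aug k (D ⊔ B))
      omega
    have u4 := ih _ (lt B₁ a2) (D ⊔ B₁) (cl P) (cl D ⊔ (B₁ ⊔ B₂)) rfl (gen_sup _ _ hD (gen_mem _ hB₁))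
      (gen_cl P) g3 (sup_le (hDP.trans (le_cl' P hP)) (le_cl P B₁ hB₁ a1))
      (sup_le (le_sup_of_le_left (le_cl' D hD)) (le_sup_of_le_right le_sup_left)) (unip_cl P ⟨n₁, hn₁⟩) u3
    have u5 := ih _ (lt B₂ b2) (D ⊔ B₂) (cl P ⊔ (cl D ⊔ (B₁ ⊔ B₂))) (cl Q) rfl
      (gen_sup _ _ hD (gen_mem _ hB₂)) (gen_sup _ _ (gen_cl P) g3) (gen_cl Q)
      (le_sup_of_le_right (sup_le (le_sup_of_le_left (le_cl' D hD)) (le_sup_of_le_right le_sup_right)))
      (sup_le (hDQ.trans (le_cl' Q hQ)) (le_cl Q B₂ hB₂ b1)) u4 (unip_cl Q ⟨n₂, hn₂⟩)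
    exact u5.mono (sup_le_sup (le_sup_of_le_left (le_cl' P hP)) (le_cl' Q hQ))
  have fin : ∀ m, ∀ P : Subgroup Aˣ, Module.finrank k A - Module.finrank k (aug k P) = m → Gen P →
      Unip k P → Unip k (⨆ B ∈ W, B) := by
    intro m
    induction m using Nat.strong_induction_on with
    | _ m ih =>
    intro P hm hP uP
    by_cases h : ∃ B ∈ W, ¬ aug k B ≤ aug k P
    · obtain ⟨B, hB, h⟩ := h
      have l1 : aug k P < aug k (P ⊔ B) :=
        lt_of_le_of_ne (aug_mono le_sup_left) fun e => h (e ▸ aug_mono le_sup_right)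
      have l2 := Submodule.finrank_lt_finrank_of_lt l1
      have l3 := Submodule.finrank_le (aug k (P ⊔ B))
      exact ih _ (by omega) (P ⊔ B) rfl (gen_sup _ _ hP (gen_mem B hB))
        (main _ ⊥ P B rfl bot_le hP (gen_mem B hB) bot_le bot_le uP ((hWW B hB B hB).mono le_sup_left))
    · push Not at h
      exact (unip_cl P uP).mono (iSup₂_le fun B hB => le_cl P B hB (h B hB))
  exact fin _ ⊥ rfl bot_le unip_bot

theorem conjBy_iSup_eq {Γ : Type*} [Group Γ] {G : Subgroup Γ} {W : Set (Subgroup Γ)}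
    (hWc : ∀ B ∈ W, ∀ g ∈ G, conjBy B g ∈ W) : ∀ g ∈ G, conjBy (⨆ B ∈ W, B) g = ⨆ B ∈ W, B := by
  have key : ∀ g ∈ G, conjBy (⨆ B ∈ W, B) g ≤ ⨆ B ∈ W, B := by
    intro g hg
    rw [← conjBy_le_conjBy_iff (g := g⁻¹), conjBy_inv_conjBy]
    refine iSup₂_le fun C hC => ?_
    rw [← conjBy_le_conjBy_iff (g := g), conjBy_conjBy_inv]
    exact le_iSup₂_of_le _ (hWc C hC g hg) le_rfl
  intro g hg
  refine le_antisymm (key g hg) ?_
  have := conjBy_mono (key g⁻¹ (inv_mem hg)) g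
  rwa [conjBy_conjBy_inv] at this

theorem Unip.conj {H : Subgroup Aˣ} (h : Unip k H) (g : Aˣ) : Unip k (conjBy H g) := by
  obtain ⟨n, hn⟩ := h
  let f : A →ₐ[k] A := (MulSemiringAction.toAlgHom k A (ConjAct.toConjAct g))
  have hf : ∀ x, f x = g * x * (g⁻¹ : Aˣ) := fun x => rfl
  refine unip_of_le (J := (aug k H).map f.toLinearMap) (n := n) (aug_le.2 fun x hx => ?_) ?_
  · obtain ⟨y, hy, rfl⟩ := mem_conjBy'.1 hx
    exact ⟨y - 1, mem_aug hy, by simp [hf, mul_sub, sub_mul]⟩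
  · rw [← Submodule.map_pow, hn, Submodule.map_bot]

variable (k) in
/-- `G` has no non-trivial unipotent normal subgroup -/
def NoUnip (G : Subgroup Aˣ) : Prop := ∀ N ≤ G, (∀ g ∈ G, conjBy N g = N) → Unip k N → N = ⊥

theorem NoUnip.eq_bot_of_pairs [FiniteDimensional k A] {G : Subgroup Aˣ} (h : NoUnip k G) {B : Subgroup Aˣ}
    (hB : B ≤ G) (hp : ∀ g ∈ G, Unip k (B ⊔ conjBy B g)) : B = ⊥ := by
  have hWc : ∀ C ∈ {C | ∃ g ∈ G, C = conjBy B g}, ∀ g ∈ G, conjBy C g ∈ {C | ∃ g ∈ G, C = conjBy B g} := by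
    rintro _ ⟨x, hx, rfl⟩ g hg
    exact ⟨g * x, mul_mem hg hx, conjBy_conjBy _ _ _⟩
  have hWG : ∀ C ∈ {C | ∃ g ∈ G, C = conjBy B g}, C ≤ G := by
    rintro _ ⟨x, hx, rfl⟩
    exact conjBy_le_of_mem hB hx
  have := h _ (iSup₂_le hWG) (conjBy_iSup_eq hWc) (unip_iSup hWG ?_ hWc)
  · exact le_bot_iff.1 (this ▸ le_iSup₂_of_le B ⟨1, one_mem _, (conjBy_one B).symm⟩ le_rfl)
  · rintro _ ⟨x, hx, rfl⟩ _ ⟨y, hy, rfl⟩
    have := (hp (x⁻¹ * y) (mul_mem (inv_mem hx) hy)).conj x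
    rwa [conjBy_sup, conjBy_conjBy, mul_inv_cancel_left] at this

theorem NoUnip.of_normal [FiniteDimensional k A] {G N : Subgroup Aˣ} (h : NoUnip k G) (hN : N ≤ G)
    (hn : ∀ g ∈ G, conjBy N g = N) : NoUnip k N := by
  intro Q hQ hq hu
  refine h.eq_bot_of_pairs (hQ.trans hN) fun g hg => hu.sup_of_normalizes (hu.conj g) fun x hx => hq x ?_
  exact conjBy_le_of_eq hQ (hn g hg) hx

end Alg

section End

variable {k : Type*} [Field k] {M : Type*} [AddCommGroup M] [Module k M]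

theorem unip_iff {H : Subgroup (LinearMap.GeneralLinearGroup k M)} : IsUnipotentOn H ↔ Unip k H := by
  refine exists_congr fun n => ?_
  rw [aug, Submodule.span_pow, Submodule.span_eq_bot]
  have hl : ∀ l : List (LinearMap.GeneralLinearGroup k M), (l.map fun g => (g : M →ₗ[k] M) - 1) =
      List.map (fun g : LinearMap.GeneralLinearGroup k M => (g : M →ₗ[k] M) - 1) l := by
    intro l
    induction l with
    | nil => rfl
    | cons a l ih => simpa using ih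
  simp only [hl]
  constructor
  · intro h x hx
    obtain ⟨f, rfl⟩ := Set.mem_pow.1 hx
    choose g hg e using fun i => (f i).2
    have := h (List.ofFn g) (by simpa [List.mem_ofFn] using hg) (by simp)
    rw [List.map_ofFn] at this
    rw [← this]
    congr 1
    exact congrArg _ (funext e)
  · intro h l hl' hn
    subst hn
    refine h _ (Set.mem_pow.2 ⟨fun i => ⟨(l.get i : M →ₗ[k] M) - 1, l.get i, hl' _ (List.get_mem l i), rfl⟩, ?_⟩)
    congr 1
    conv_rhs => rw [← List.ofFn_get l, List.map_ofFn]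
    rfl

theorem exists_fixed {J : Submodule k (Module.End k M)} {n : ℕ} (hn : J ^ n = ⊥) {m : M} (hm : m ≠ 0) :
    ∃ v : M, v ≠ 0 ∧ ∀ x ∈ J, x v = 0 := by
  have key : ∀ i, (∃ y ∈ J ^ i, y m ≠ 0) ∨ ∃ v : M, v ≠ 0 ∧ ∀ x ∈ J, x v = 0 := by
    intro i
    induction i with
    | zero => exact Or.inl ⟨1, by rw [pow_zero]; exact Submodule.one_le.1 le_rfl, hm⟩
    | succ i ih =>
      rcases ih with ⟨y, hy, h⟩ | h
      · by_cases h1 : ∀ x ∈ J, x (y m) = 0
        · exact Or.inr ⟨_, h, h1⟩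
        · push Not at h1
          obtain ⟨x, hx, h1⟩ := h1
          exact Or.inl ⟨x * y, by rw [pow_succ']; exact Submodule.mul_mem_mul hx hy, h1⟩
      · exact Or.inr h
  rcases key n with ⟨y, hy, h⟩ | h
  · rw [hn, Submodule.mem_bot] at hy
    simp [hy] at h
  · exact h

theorem noUnip_of_irreducible {G : Subgroup (LinearMap.GeneralLinearGroup k M)} (h : IsIrreducibleFor G) :
    NoUnip k G := by
  intro N _ hn ⟨n, hu⟩
  obtain ⟨m, hm⟩ := h.1
  obtain ⟨v, hv, hfix⟩ := exists_fixed hu hm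
  have mem : ∀ w, w ∈ fixedSubmodule N ↔ ∀ g ∈ N, (g : M →ₗ[k] M) w = w := by
    intro w
    simp [fixedSubmodule, Submodule.mem_iInf, sub_eq_zero]
  rcases h.2 (fixedSubmodule N) (by
    intro g hg w hw
    rw [mem] at hw ⊢
    intro x hx
    rw [← hn g hg] at hx
    obtain ⟨y, hy, rfl⟩ := mem_conjBy'.1 hx
    have : ((g * y * g⁻¹ : LinearMap.GeneralLinearGroup k M) : M →ₗ[k] M) * g = g * y := by simp
    rw [← Module.End.mul_apply, this, Module.End.mul_apply, hw y hy]) with e | e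
  · exfalso
    apply hv
    rw [← Submodule.mem_bot k, ← e, mem]
    intro g hg
    have := hfix _ (mem_aug hg)
    simpa [sub_eq_zero] using this
  · rw [Subgroup.eq_bot_iff_forall]
    intro g hg
    ext w
    exact (mem w).1 (e ▸ Submodule.mem_top) g hg

end End

end Cfsg.Agent.Chev.Tim
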