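import Mathlib
import Cfsg.Agent.Chev.TimUnip
import Cfsg.Agent.GT.QuadSL2

/-!
The algebra generated by two elements of square zero, as a module over `k[z]`, `z = s t + t s`.
-/

set_option autoImplicit false

open Polynomial Cfsg Cfsg.Agent.GT

namespace Cfsg.Agent.Chev.Tim

theorem conjBy_eq_of_commutator_le {Γ : Type*} [Group Γ] {N R : Subgroup Γ} (h : ⁅N, R⁆ ≤ N) :
    ∀ x ∈ R, conjBy N x = N := fun _ hx =>
  conjBy_eq_self_iff.2 (Subgroup.le_normalizer_iff_commutator_le_left.2 h hx)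

/-- Frattini-type property of nilpotent groups -/
theorem le_of_le_sup_commutator {Γ : Type*} [Group Γ] {H K : Subgroup Γ} (hHK : H ≤ K) (h : K ≤ H ⊔ ⁅K, K⁆)
    {n : ℕ} (hn : K.lowerCentralSeries n = ⊥) : K ≤ H := by
  have key : ∀ i, K ≤ H ⊔ K.lowerCentralSeries (i + 1) := by
    intro i
    induction i with
    | zero => exact h
    | succ i ih =>
      have hL : K.lowerCentralSeries (i + 1) ≤ K := Subgroup.lowerCentralSeries_le_self _ _
      have hN : H ⊔ K.lowerCentralSeries (i + 1 + 1) ≤ K :=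
        sup_le hHK (Subgroup.lowerCentralSeries_le_self _ _)
      have h1 : ∀ {P : Subgroup Γ}, P ≤ K → ⁅K.lowerCentralSeries (i + 1), P⁆ ≤
          H ⊔ K.lowerCentralSeries (i + 1 + 1) := fun hP =>
        le_sup_of_le_right (Subgroup.commutator_mono le_rfl hP)
      have hn : ∀ x ∈ H ⊔ K.lowerCentralSeries (i + 1), conjBy (H ⊔ K.lowerCentralSeries (i + 1 + 1)) x =
          H ⊔ K.lowerCentralSeries (i + 1 + 1) :=
        conjBy_eq_of_mem_sup (fun x hx => conjBy_of_mem (Subgroup.mem_sup_left hx))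
          (conjBy_eq_of_commutator_le (by rw [Subgroup.commutator_comm]; exact h1 hN))
      refine h.trans (sup_le le_sup_left ((Subgroup.commutator_mono ih ih).trans ?_))
      refine commutator_sup_le hn (commutator_sup_le' hn ?_ ?_) (h1 (sup_le hHK hL))
      · exact le_sup_of_le_left (Subgroup.commutator_le_self _)
      · rw [Subgroup.commutator_comm]; exact h1 hHK
  have := key n
  rwa [le_bot_iff.1 ((K.lowerCentralSeries_antitone (Nat.le_succ n)).trans hn.le), sup_bot_eq] at this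

variable {k : Type*} [Field k] {A : Type*} [Ring A] [Algebra k A]

/-- `1 + x` is (the value of) an element of `G` -/
def InU (G : Subgroup Aˣ) (x : A) : Prop := ∃ g ∈ G, (g : A) = 1 + x

variable (k) in
/-- the elements of square zero whose scalar family lies in `G` -/
def QQ (G : Subgroup Aˣ) : Set A := {x | x * x = 0 ∧ ∀ c : k, InU G (c • x)}

/-- the unit `1 + x` -/
def uu (x : A) (h : x * x = 0) : Aˣ :=
  ⟨1 + x, 1 - x, by noncomm_ring [h], by noncomm_ring [h]⟩

theorem val_inv_eq {g : Aˣ} {y : A} (h : (g : A) * y = 1) : ((g⁻¹ : Aˣ) : A) = y :=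
  Units.inv_eq_of_mul_eq_one_right h

theorem val_inv_of_sq {g : Aˣ} {x : A} (h : (g : A) = 1 + x) (hx : x * x = 0) : ((g⁻¹ : Aˣ) : A) = 1 - x :=
  val_inv_eq (by rw [h]; noncomm_ring [hx])

namespace InU

variable {G : Subgroup Aˣ} {x y : A}

theorem zero : InU G (0 : A) := ⟨1, one_mem _, by simp⟩

theorem add (hx : InU G x) (hy : InU G y) (h : x * y = 0) : InU G (x + y) := by
  obtain ⟨g, hg, e⟩ := hx
  obtain ⟨g', hg', e'⟩ := hy
  exact ⟨g * g', mul_mem hg hg', by rw [Units.val_mul, e, e']; noncomm_ring [h]⟩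

theorem conj (hx : InU G x) {g : Aˣ} (hg : g ∈ G) : InU G (g * x * (g⁻¹ : Aˣ)) := by
  obtain ⟨h, hh, e⟩ := hx
  exact ⟨g * h * g⁻¹, mul_mem (mul_mem hg hh) (inv_mem hg), by simp [e, mul_add, add_mul]⟩

theorem mono {H : Subgroup Aˣ} (hx : InU G x) (h : G ≤ H) : InU H x := by
  obtain ⟨g, hg, e⟩ := hx
  exact ⟨g, h hg, e⟩

end InU

namespace QQ

variable {G : Subgroup Aˣ} {x y : A}

theorem zero : (0 : A) ∈ QQ k G := ⟨by simp, fun c => by simpa using InU.zero⟩

theorem inU (hx : x ∈ QQ k G) : InU G x := by simpa using hx.2 1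

theorem smul (hx : x ∈ QQ k G) (c : k) : c • x ∈ QQ k G :=
  ⟨by simp [hx.1], fun d => by rw [smul_smul]; exact hx.2 _⟩

theorem neg (hx : x ∈ QQ k G) : -x ∈ QQ k G := by simpa using smul hx (-1)

theorem add (hx : x ∈ QQ k G) (hy : y ∈ QQ k G) (h : x * y = 0) (h' : y * x = 0) : x + y ∈ QQ k G :=
  ⟨by noncomm_ring [hx.1, hy.1, h, h'], fun c => by
    rw [smul_add]; exact (hx.2 c).add (hy.2 c) (by simp [h])⟩

theorem sub (hx : x ∈ QQ k G) (hy : y ∈ QQ k G) (h : x * y = 0) (h' : y * x = 0) : x - y ∈ QQ k G := by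
  rw [sub_eq_add_neg]; exact add hx (neg hy) (by simp [h]) (by simp [h'])

theorem conj (hx : x ∈ QQ k G) {g : Aˣ} (hg : g ∈ G) : g * x * (g⁻¹ : Aˣ) ∈ QQ k G := by
  refine ⟨?_, fun c => ?_⟩
  · calc g * x * (g⁻¹ : Aˣ) * (g * x * (g⁻¹ : Aˣ)) = g * (x * x) * (g⁻¹ : Aˣ) := by simp [mul_assoc]
      _ = 0 := by simp [hx.1]
  · have := (hx.2 c).conj hg
    simpa using this

theorem mono {H : Subgroup Aˣ} (hx : x ∈ QQ k G) (h : G ≤ H) : x ∈ QQ k H :=
  ⟨hx.1, fun c => (hx.2 c).mono h⟩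

/-- the commutator of two quadratic elements generating a group of class at most two -/
theorem comm (hx : x ∈ QQ k G) (hy : y ∈ QQ k G) (h1 : x * y * x = 0) (h2 : y * x * y = 0) :
    x * y - y * x ∈ QQ k G := by
  have h3 : x * (y * x) = 0 := by rw [← mul_assoc, h1]
  have h4 : y * (x * y) = 0 := by rw [← mul_assoc, h2]
  have h5 : ∀ a, x * (x * a) = 0 := fun a => by rw [← mul_assoc, hx.1, zero_mul]
  have h6 : ∀ a, y * (y * a) = 0 := fun a => by rw [← mul_assoc, hy.1, zero_mul]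
  refine ⟨by simp only [mul_sub, sub_mul, mul_assoc, h3, h4, h5, h6, mul_zero, sub_zero], fun c => ?_⟩
  obtain ⟨g, hg, e⟩ := hx.2 c
  obtain ⟨g', hg', e'⟩ := inU hy
  refine ⟨g * g' * g⁻¹ * g'⁻¹, mul_mem (mul_mem (mul_mem hg hg') (inv_mem hg)) (inv_mem hg'), ?_⟩
  simp only [Units.val_mul]
  rw [val_inv_of_sq e (by simp [hx.1]), val_inv_of_sq e' hy.1, e, e']
  simp only [mul_sub, sub_mul, mul_add, add_mul, mul_assoc, smul_mul_assoc, mul_smul_comm, h3, h4,
    hx.1, hy.1, mul_zero, zero_mul, smul_zero, one_mul, mul_one, smul_sub, smul_add]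
  module

end QQ

/-- two elements of square zero and their anticommutator -/
structure QP (s t z : A) : Prop where
  ss : s * s = 0
  tt : t * t = 0
  z_eq : s * t + t * s = z

/-- the element with "matrix" `(a, b; X c, a + X q)` -/
noncomputable def el (s t z : A) (a b c q : k[X]) : A :=
  aeval z a + aeval z b * s + aeval z c * t + aeval z q * (t * s)

namespace QP

variable {s t z : A}

theorem symm (h : QP s t z) : QP t s z := ⟨h.tt, h.ss, by rw [add_comm, h.z_eq]⟩

theorem zs (h : QP s t z) : z * s = s * t * s := by rw [← h.z_eq]; noncomm_ring [h.ss]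

theorem comm_s (h : QP s t z) : Commute z s := by
  show _ = _
  rw [← h.z_eq]
  have : s * (s * t) = 0 := by rw [← mul_assoc, h.ss, zero_mul]
  noncomm_ring [h.ss, this]

theorem comm_t (h : QP s t z) : Commute z t := h.symm.comm_s

theorem aeval_s (h : QP s t z) (p : k[X]) : Commute (aeval z p) s := by
  induction p using Polynomial.induction_on with
  | C a => rw [aeval_C]; exact Algebra.commutes a s
  | add p q hp hq => rw [map_add]; exact hp.add_left hq
  | monomial n a ih => rw [pow_succ, ← mul_assoc, map_mul, aeval_X]; exact ih.mul_left h.comm_s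

theorem aeval_t (h : QP s t z) (p : k[X]) : Commute (aeval z p) t := h.symm.aeval_s p

theorem el_mul (h : QP s t z) (a b c q a' b' c' q' : k[X]) :
    el s t z a b c q * el s t z a' b' c' q' =
      el s t z (a * a' + X * b * c') (a * b' + b * a' + X * b * q') (a * c' + c * a' + X * q * c')
        (a * q' + q * a' + X * q * q' + c * b' - b * c') := by
  let _ : Module k[X] A := Module.compHom A (aeval z : k[X] →ₐ[k] A).toRingHom
  have sm : ∀ (p : k[X]) (x : A), aeval z p * x = p • x := fun p x => rfl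
  have sm1 : ∀ p : k[X], aeval z p = p • (1 : A) := fun p => (mul_one _).symm
  have mm : ∀ (p p' : k[X]) (x y : A), Commute (aeval z p') x → (p • x) * (p' • y) = (p * p') • (x * y) := by
    intro p p' x y hc
    rw [← sm, ← sm, ← sm, map_mul, mul_assoc, mul_assoc, ← mul_assoc x, ← hc.eq, mul_assoc]
  have w1 : s * t = (X : k[X]) • (1 : A) - t * s := by rw [← sm1, aeval_X, ← h.z_eq]; abel
  have w2 : s * (t * s) = (X : k[X]) • s := by rw [← sm, aeval_X, h.zs, mul_assoc]
  have w3 : t * (t * s) = 0 := by rw [← mul_assoc, h.tt, zero_mul]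
  have w4 : t * s * s = 0 := by rw [mul_assoc, h.ss, mul_zero]
  have w5 : t * s * t = (X : k[X]) • t := by rw [← sm, aeval_X, h.symm.zs]
  have w6 : t * s * (t * s) = (X : k[X]) • (t * s) := by
    rw [← mul_assoc, ← sm, aeval_X, ← mul_assoc z, h.symm.zs]
  have c1 : ∀ p : k[X], Commute (aeval z p) (1 : A) := fun p => Commute.one_right _
  have c2 : ∀ p : k[X], Commute (aeval z p) (t * s) := fun p => (h.aeval_t p).mul_right (h.aeval_s p)
  have he : ∀ a b c q : k[X], el s t z a b c q = a • (1 : A) + b • s + c • t + q • (t * s) := by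
    intro a b c q
    rw [el, ← sm1, ← sm, ← sm, ← sm]
  simp only [he, mul_add, add_mul]
  simp only [mm _ _ _ _ (c1 _), mm _ _ _ _ (h.aeval_s _), mm _ _ _ _ (h.aeval_t _), mm _ _ _ _ (c2 _),
    one_mul, mul_one, w1, w2, w3, w4, w5, w6, h.ss, h.tt]
  module

theorem el_one : el s t z (1 : k[X]) 0 0 0 = 1 := by simp [el]

theorem el_s (p : k[X]) : el s t z 1 p 0 0 = 1 + aeval z p * s := by simp [el]

theorem el_t (p : k[X]) : el s t z 1 0 p 0 = 1 + aeval z p * t := by simp [el]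

theorem el_s' (p : k[X]) : el s t z 0 p 0 0 = aeval z p * s := by simp [el]

theorem comm_el (h : QP s t z) (p a b c q : k[X]) : Commute (aeval z p) (el s t z a b c q) := by
  have c0 : ∀ r : k[X], Commute (aeval z p) (aeval z r) := fun r => (Commute.all p r).map _
  exact (((c0 a).add_right ((c0 b).mul_right (h.aeval_s p))).add_right
    ((c0 c).mul_right (h.aeval_t p))).add_right ((c0 q).mul_right ((h.aeval_t p).mul_right (h.aeval_s p)))

theorem aeval_mul_el (p a b c q : k[X]) :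
    aeval z p * el s t z a b c q = el s t z (p * a) (p * b) (p * c) (p * q) := by
  simp only [el, mul_add, map_mul, mul_assoc]

theorem val_inv_el (h : QP s t z) {g : Aˣ} {a b c q : k[X]} (hg : (g : A) = el s t z a b c q)
    (hd : a * (a + X * q) - X * b * c = 1) : ((g⁻¹ : Aˣ) : A) = el s t z (a + X * q) (-b) (-c) (-q) := by
  refine val_inv_eq ?_
  rw [hg, h.el_mul, ← el_one (k := k) (s := s) (t := t) (z := z)]
  congr 1
  · linear_combination hd
  · ring
  · ring
  · ring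

theorem conj_el (h : QP s t z) {g : Aˣ} {a b c q : k[X]} (hg : (g : A) = el s t z a b c q)
    (hd : a * (a + X * q) - X * b * c = 1) :
    g * s * (g⁻¹ : Aˣ) = el s t z (-(X * a * c)) (a ^ 2) (-(X * c ^ 2)) (2 * a * c) := by
  have : g * s * (g⁻¹ : Aˣ) = g * el s t z (0 : k[X]) 1 0 0 * (g⁻¹ : Aˣ) := by simp [el]
  rw [this, h.val_inv_el hg hd, hg, h.el_mul, h.el_mul]
  congr 1 <;> ring

theorem s_mul_el (h : QP s t z) (a b c q : k[X]) :
    s * el s t z a b c q = el s t z (X * c) (a + X * q) 0 (-c) := by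
  have : s * el s t z a b c q = el s t z (0 : k[X]) 1 0 0 * el s t z a b c q := by simp [el]
  rw [this, h.el_mul]
  congr 1 <;> ring

theorem el_mul_s (h : QP s t z) (a b c q : k[X]) : el s t z a b c q * s = el s t z 0 a 0 c := by
  have : el s t z a b c q * s = el s t z a b c q * el s t z (0 : k[X]) 1 0 0 := by simp [el]
  rw [this, h.el_mul]
  congr 1 <;> ring

theorem conj_el_mul (h : QP s t z) {g : Aˣ} {a b c q : k[X]} (hg : (g : A) = el s t z a b c q)
    (hd : a * (a + X * q) - X * b * c = 1) {e : A} (hc : aeval z c * e = 0) (hs : Commute e s)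
    (ht : Commute e t) (p : k[X]) :
    g * (aeval z p * s) * (g⁻¹ : Aˣ) * e = aeval z (a ^ 2 * p) * s * e := by
  have h1 : (g : A) * (aeval z p * s) * (g⁻¹ : Aˣ) = aeval z p * (g * s * (g⁻¹ : Aˣ)) := by
    rw [← mul_assoc, ← mul_assoc, ← mul_assoc, hg, (h.comm_el p a b c q).eq]
  have h2 : ∀ (r : k[X]) (x : A), Commute e x → aeval z (r * c) * x * e = 0 := by
    intro r x hx
    rw [mul_assoc, ← hx.eq, ← mul_assoc, map_mul, mul_assoc _ _ e, hc, mul_zero, zero_mul]
  rw [h1, h.conj_el hg hd, aeval_mul_el, el, add_mul, add_mul, add_mul]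
  have e1 := h2 (p * -(X * a)) 1 (Commute.one_right e)
  have e2 := h2 (p * -(X * c)) t ht
  have e3 := h2 (p * (2 * a)) (t * s) (ht.mul_right hs)
  rw [show p * -(X * a * c) = p * -(X * a) * c by ring, show p * -(X * c ^ 2) = p * -(X * c) * c by ring,
    show p * (2 * a * c) = p * (2 * a) * c by ring, e2, e3, mul_comm p (a ^ 2)]
  rw [mul_one] at e1
  rw [e1]; simp

variable (k s t z) in
/-- the non-unital algebra generated by `s`, `t` over `k[z]` -/
def JJ : Submodule k A where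
  carrier := {x | ∃ a b c q : k[X], x = el s t z (X * a) b c q}
  zero_mem' := ⟨0, 0, 0, 0, by simp [el]⟩
  add_mem' := by
    rintro _ _ ⟨a, b, c, q, rfl⟩ ⟨a', b', c', q', rfl⟩
    refine ⟨a + a', b + b', c + c', q + q', ?_⟩
    simp only [el, mul_add, add_mul, map_add]; abel
  smul_mem' := by
    rintro r _ ⟨a, b, c, q, rfl⟩
    refine ⟨C r * a, C r * b, C r * c, C r * q, ?_⟩
    rw [Algebra.smul_def, ← aeval_C z, aeval_mul_el]
    congr 1; ring

theorem JJ_mul (h : QP s t z) : JJ k s t z * JJ k s t z ≤ JJ k s t z := by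
  rw [Submodule.mul_le]
  rintro _ ⟨a, b, c, q, rfl⟩ _ ⟨a', b', c', q', rfl⟩
  rw [h.el_mul]
  exact ⟨X * a * a' + b * c', _, _, _, by congr 1; ring⟩

theorem JJ_pow (h : QP s t z) (m : ℕ) : ∀ x ∈ JJ k s t z ^ (2 * m + 1), ∃ v ∈ JJ k s t z, x = z ^ m * v := by
  induction m with
  | zero => intro x hx; exact ⟨x, by simpa using hx, by simp⟩
  | succ m ih =>
    let T : Submodule k A := (JJ k s t z).map (LinearMap.mulLeft k (z ^ (m + 1)))
    have : JJ k s t z ^ (2 * (m + 1) + 1) ≤ T := by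
      rw [show 2 * (m + 1) + 1 = 2 * m + 1 + 1 + 1 by ring, pow_succ, pow_succ, Submodule.mul_le]
      intro x hx w hw
      refine Submodule.mul_induction_on hx (fun x hx y hy => ?_) fun x y hx hy => ?_
      · obtain ⟨_, ⟨a, b, c, q, rfl⟩, rfl⟩ := ih x hx
        obtain ⟨a', b', c', q', rfl⟩ := hy
        obtain ⟨a'', b'', c'', q'', rfl⟩ := hw
        refine ⟨el s t z (X * ((X * a * a' + b * c') * a'' + (a * b' + b * a' + b * q') * c''))
          ((X * a * a' + b * c') * b'' + X * (a * b' + b * a' + b * q') * a'' +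
            X * (a * b' + b * a' + b * q') * q'')
          ((X * a * a' + b * c') * c'' + X * (a * c' + c * a' + q * c') * a'' +
            (X * (a * q' + q * a' + q * q') + c * b' - b * c') * c'')
          ((X * a * a' + b * c') * q'' + (X * (a * q' + q * a' + q * q') + c * b' - b * c') * (a'' + q'') +
            (a * c' + c * a' + q * c') * b'' - (a * b' + b * a' + b * q') * c''), ⟨_, _, _, _, rfl⟩, ?_⟩
        rw [LinearMap.mulLeft_apply, mul_assoc (z ^ m), mul_assoc (z ^ m), h.el_mul, h.el_mul, pow_succ,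
          mul_assoc]
        congr 1
        have hz : ∀ y, z * y = aeval z (X : k[X]) * y := fun y => by rw [aeval_X]
        rw [hz, aeval_mul_el]
        congr 1 <;> ring
      · rw [add_mul]; exact add_mem hx hy
    intro x hx
    obtain ⟨v, hv, e⟩ := this hx
    exact ⟨v, hv, e.symm⟩

theorem sub_one_mem_JJ {g : A} {a b c q : k[X]} (hg : g = el s t z a b c q) (ha : X ∣ a - 1) :
    g - 1 ∈ JJ k s t z := by
  obtain ⟨a', ha'⟩ := ha
  refine ⟨a', b, c, q, ?_⟩
  rw [hg, ← ha']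
  simp only [el, map_sub, map_one]; abel

theorem exists_inv (hz : IsNilpotent z) {p : k[X]} (hp : p.coeff 0 ≠ 0) :
    ∃ w : k[X], aeval z (w * p) = 1 := by
  obtain ⟨n, hn⟩ := hz
  have : IsCoprime (X ^ n) p := by
    refine IsCoprime.pow_left ((irreducible_X.coprime_iff_not_dvd).2 ?_)
    rwa [X_dvd_iff]
  obtain ⟨u, w, e⟩ := this
  refine ⟨w, ?_⟩
  have := congrArg (aeval z) e
  rwa [map_add, map_mul, map_pow, aeval_X, hn, mul_zero, zero_add, map_one] at this

theorem mem_commutator (h : QP s t z) (h2 : (2 : k) ≠ 0) (hz : IsNilpotent z) {K : Subgroup Aˣ}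
    (hs : ∀ p : k[X], InU K (aeval z p * s)) (ht : ∀ p : k[X], InU K (aeval z p * t)) (p : k[X]) :
    InU ⁅K, K⁆ (aeval z (X * p) * s) := by
  obtain ⟨w, hw⟩ := exists_inv hz (p := (1 + X : k[X])) (by simp)
  obtain ⟨w', hw'⟩ := exists_inv hz (p := (2 + X : k[X])) (by simpa using h2)
  obtain ⟨g₁, hg₁, e₁⟩ := ht (-w)
  obtain ⟨g₂, hg₂, e₂⟩ := hs 1
  obtain ⟨g₃, hg₃, e₃⟩ := ht 1
  obtain ⟨x, hx, ex⟩ := hs (w' * p)
  have hg : ((g₁ * g₂ * g₃ : Aˣ) : A) = el s t z (1 + X) 1 (1 - w * (1 + X)) (-1 - w) := by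
    rw [Units.val_mul, Units.val_mul, e₁, e₂, e₃, ← el_t, ← el_s, ← el_t, h.el_mul, h.el_mul]
    congr 1 <;> ring
  have := h.conj_el_mul hg (by ring) (e := 1) (by simp [map_sub, hw]) (Commute.one_left _) (Commute.one_left _)
    (w' * p)
  rw [mul_one, mul_one] at this
  have sq : ∀ r r' : k[X], aeval z r * s * (aeval z r' * s) = 0 := fun r r' => by
    rw [mul_assoc, ← mul_assoc s, ← (h.aeval_s r').eq, mul_assoc, h.ss, mul_zero, mul_zero]
  refine ⟨_, comm_mem (mul_mem (mul_mem hg₁ hg₂) hg₃) hx, ?_⟩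
  rw [Units.val_mul, Units.val_mul, Units.val_mul, val_inv_of_sq ex (sq _ _), ex, mul_add, add_mul, this,
    mul_one, Units.mul_inv, add_mul, one_mul, mul_sub, mul_one, sq]
  have e : aeval z ((1 + X) ^ 2 * (w' * p)) = aeval z (w' * p) + aeval z (X * p) := by
    have : aeval z (X * p) = aeval z (w' * (2 + X)) * aeval z (X * p) := by rw [hw', one_mul]
    rw [this, ← map_mul, ← map_add]
    congr 1; ring
  rw [e, add_mul]; abel

/-- the unipotent case -/
theorem mem_QQ_of_nilpotent (h : QP s t z) (h2 : (2 : k) ≠ 0) (hz : IsNilpotent z) {G : Subgroup Aˣ}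
    (hs : s ∈ QQ k G) (ht : t ∈ QQ k G) : z * s ∈ QQ k G := by
  let K : Subgroup Aˣ := Subgroup.closure
    ({g | ∃ p : k[X], (g : A) = 1 + aeval z p * s} ∪ {g | ∃ p : k[X], (g : A) = 1 + aeval z p * t})
  have sq : ∀ {s t : A}, QP s t z → ∀ r r' : k[X], aeval z r * s * (aeval z r' * s) = 0 :=
    fun h r r' => by rw [mul_assoc, ← mul_assoc _ (aeval z r'), ← (h.aeval_s r').eq, mul_assoc, h.ss, mul_zero,
      mul_zero]
  have Ks : ∀ p : k[X], InU K (aeval z p * s) := fun p =>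
    ⟨uu _ (sq h p p), Subgroup.subset_closure (Or.inl ⟨p, rfl⟩), rfl⟩
  have Kt : ∀ p : k[X], InU K (aeval z p * t) := fun p =>
    ⟨uu _ (sq h.symm p p), Subgroup.subset_closure (Or.inr ⟨p, rfl⟩), rfl⟩
  have step : ∀ {s t : A}, QP s t z → s ∈ QQ k G → (∀ p : k[X], InU K (aeval z p * s)) →
      (∀ p : k[X], InU K (aeval z p * t)) → ∀ (g : Aˣ) (p : k[X]), (g : A) = 1 + aeval z p * s →
      g ∈ (G ⊓ K) ⊔ ⁅K, K⁆ := by
    intro s t h hs Ks Kt g p e
    obtain ⟨g₁, hg₁, e₁⟩ := hs.2 (p.coeff 0)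
    obtain ⟨g₁', hg₁', e₁'⟩ := Ks (C (p.coeff 0))
    have e₁'' : g₁ = g₁' := Units.ext (by rw [e₁, e₁', aeval_C, Algebra.smul_def])
    obtain ⟨g₂, hg₂, e₂⟩ := h.mem_commutator h2 hz Ks Kt p.divX
    have : g = g₁ * g₂ := by
      apply Units.ext
      rw [Units.val_mul, e₁'', e₁', e₂, e, add_mul, mul_add, mul_add, sq h]
      conv_lhs => rw [← X_mul_divX_add p, map_add, add_mul]
      simp only [one_mul, mul_one]; abel
    rw [this]
    exact mul_mem (Subgroup.mem_sup_left ⟨hg₁, e₁'' ▸ hg₁'⟩) (Subgroup.mem_sup_right hg₂)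
  have h1 : K ≤ (G ⊓ K) ⊔ ⁅K, K⁆ := by
    refine (Subgroup.closure_le _).2 ?_
    rintro g (⟨p, e⟩ | ⟨p, e⟩)
    · exact step h hs Ks Kt g p e
    · exact step h.symm ht Kt Ks g p e
  have h3 : aug k K ≤ JJ k s t z := by
    rw [← le_unitsOf h.JJ_mul]
    refine (Subgroup.closure_le _).2 ?_
    rintro g (⟨p, e⟩ | ⟨p, e⟩)
    · exact ⟨sub_one_mem_JJ (e.trans (el_s p).symm) (by simp),
        sub_one_mem_JJ (a := 1) (b := -p) (c := 0) (q := 0)
          (by rw [val_inv_of_sq e (sq h p p), el_s, map_neg, neg_mul, sub_eq_add_neg]) (by simp)⟩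
    · exact ⟨sub_one_mem_JJ (e.trans (el_t p).symm) (by simp),
        sub_one_mem_JJ (a := 1) (b := 0) (c := -p) (q := 0)
          (by rw [val_inv_of_sq e (sq h.symm p p), el_t, map_neg, neg_mul, sub_eq_add_neg]) (by simp)⟩
  obtain ⟨n, hn⟩ := hz
  have h4 : JJ k s t z ^ (2 * n + 1) = ⊥ := by
    rw [eq_bot_iff]
    intro x hx
    obtain ⟨v, -, rfl⟩ := h.JJ_pow n x hx
    simp [hn]
  obtain ⟨m, hm⟩ := (unip_of_le h3 h4).lcs
  have h5 := le_of_le_sup_commutator inf_le_right h1 hm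
  refine ⟨by simpa using sq h X X, fun c => ?_⟩
  have := (Ks (C c * X)).mono (h5.trans inf_le_left)
  simpa [Algebra.smul_def, mul_assoc] using this

variable (s t z) in
/-- pairs of an element of `G` and its image in `SL₂(K)` -/
def repSub (h : QP s t z) (G : Subgroup Aˣ) {K : Type*} [Field K] [Algebra k K] (ζ : K) :
    Subgroup (Aˣ × Matrix.SpecialLinearGroup (Fin 2) K) where
  carrier := {x | x.1 ∈ G ∧ ∃ a b c q : k[X], (x.1 : A) = el s t z a b c q ∧
    a * (a + X * q) - X * b * c = 1 ∧ X ∣ a - 1 ∧ x.2 0 0 = aeval ζ a ∧ x.2 0 1 = aeval ζ b ∧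
    x.2 1 0 = aeval ζ (X * c) ∧ x.2 1 1 = aeval ζ (a + X * q)}
  one_mem' := ⟨one_mem _, 1, 0, 0, 0, by simp [el], by simp, by simp, by simp, by simp, by simp, by simp⟩
  mul_mem' := by
    rintro x y ⟨hx, a, b, c, q, e, d, o, m1, m2, m3, m4⟩ ⟨hy, a', b', c', q', e', d', o', n1, n2, n3, n4⟩
    refine ⟨mul_mem hx hy, _, _, _, _, by rw [Prod.fst_mul, Units.val_mul, e, e', h.el_mul], ?_, ?_, ?_, ?_,
      ?_, ?_⟩
    · linear_combination (a' * (a' + X * q') - X * b' * c') * d + d'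
    · obtain ⟨u, hu⟩ := o
      obtain ⟨u', hu'⟩ := o'
      exact ⟨u * a' + u' + b * c', by linear_combination a' * hu + hu'⟩
    all_goals
      simp only [Prod.snd_mul, Matrix.SpecialLinearGroup.coe_mul, Matrix.mul_apply, Fin.sum_univ_two, m1, m2,
        m3, m4, n1, n2, n3, n4, ← map_mul, ← map_add]
      congr 1; ring
  inv_mem' := by
    rintro x ⟨hx, a, b, c, q, e, d, o, m1, m2, m3, m4⟩
    refine ⟨inv_mem hx, _, _, _, _, h.val_inv_el e d, by linear_combination d, ?_, ?_, ?_, ?_, ?_⟩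
    · obtain ⟨u, hu⟩ := o
      exact ⟨u + q, by linear_combination hu⟩
    all_goals
      simp [Matrix.SpecialLinearGroup.coe_inv, Matrix.adjugate_fin_two, m1, m2, m3, m4]

theorem mem_repSub_s (h : QP s t z) {G : Subgroup Aˣ} {K : Type*} [Field K] [Algebra k K] (ζ : K) {g : Aˣ}
    (hg : g ∈ G) {p : k[X]} (e : (g : A) = 1 + aeval z p * s) :
    (g, slUp (aeval ζ p)) ∈ repSub (k := k) s t z h G ζ :=
  ⟨hg, 1, p, 0, 0, by rw [el_s]; exact e, by simp, by simp, by simp [slUp], by simp [slUp], by simp [slUp],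
    by simp [slUp]⟩

theorem mem_repSub_t (h : QP s t z) {G : Subgroup Aˣ} {K : Type*} [Field K] [Algebra k K] (ζ : K) {g : Aˣ}
    (hg : g ∈ G) {p : k[X]} (e : (g : A) = 1 + aeval z p * t) :
    (g, slLo (aeval ζ p * ζ)) ∈ repSub (k := k) s t z h G ζ :=
  ⟨hg, 1, 0, p, 0, by rw [el_t]; exact e, by simp, by simp, by simp [slLo], by simp [slLo],
    by simp [slLo, mul_comm], by simp [slLo]⟩

end QP

end Cfsg.Agent.Chev.Tim
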