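import Mathlib
import Cfsg.Agent.GT.QuadSL2
import Cfsg.Agent.S0801

/-!
Generation of `SL₂(k(ζ))` by the matrices `x(c)`, `y(c ζ)`, `c ∈ k`.
-/

set_option autoImplicit false

open Polynomial Cfsg.Agent.GT

namespace Cfsg.Agent.Chev.Tim

section Euclid

/-- first step of the Stieltjes fraction algorithm -/
noncomputable def sfC {R : Type*} [CommRing R] (n : ℕ) (A C : R[X]) : R[X] :=
  Polynomial.C (A.coeff (n + 1)) * C - Polynomial.C (C.coeff (n + 1)) * A

/-- second step of the Stieltjes fraction algorithm -/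
noncomputable def sfA {R : Type*} [CommRing R] (n : ℕ) (A C : R[X]) : R[X] :=
  Polynomial.C ((sfC n A C).coeff n) * A - Polynomial.C (A.coeff (n + 1)) * (X * sfC n A C)

/-- the product of the leading coefficients met by the algorithm -/
noncomputable def sfDisc {R : Type*} [CommRing R] : ℕ → R[X] → R[X] → R
  | 0, A, _ => A.coeff 0
  | n + 1, A, C => A.coeff (n + 1) * (sfC n A C).coeff n * sfDisc n (sfA n A C) (sfC n A C)

theorem sfC_map {R S : Type*} [CommRing R] [CommRing S] (f : R →+* S) (n : ℕ) (A C : R[X]) :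
    (sfC n A C).map f = sfC n (A.map f) (C.map f) := by
  simp [sfC, Polynomial.map_sub, Polynomial.map_mul]

theorem sfA_map {R S : Type*} [CommRing R] [CommRing S] (f : R →+* S) (n : ℕ) (A C : R[X]) :
    (sfA n A C).map f = sfA n (A.map f) (C.map f) := by
  simp [sfA, Polynomial.map_sub, Polynomial.map_mul, ← sfC_map]

theorem sfDisc_map {R S : Type*} [CommRing R] [CommRing S] (f : R →+* S) (n : ℕ) : ∀ A C : R[X],
    f (sfDisc n A C) = sfDisc n (A.map f) (C.map f) := by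
  induction n with
  | zero => intro A C; simp [sfDisc]
  | succ n ih => intro A C; simp only [sfDisc, map_mul, ih, ← sfC_map, ← sfA_map, coeff_map]

theorem sfC_natDegree {R : Type*} [CommRing R] {n : ℕ} {A C : R[X]} (hA : A.natDegree ≤ n + 1)
    (hC : C.natDegree ≤ n + 1) : (sfC n A C).natDegree ≤ n := by
  rw [natDegree_le_iff_coeff_eq_zero] at *
  intro i hi
  simp only [sfC, coeff_sub, coeff_C_mul]
  rcases Nat.eq_or_lt_of_le (Nat.succ_le_of_lt hi) with e | e
  · rw [← e]; ring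
  · rw [hA i e, hC i e]; ring

theorem sfA_natDegree {R : Type*} [CommRing R] {n : ℕ} {A C : R[X]} (hA : A.natDegree ≤ n + 1)
    (hC : C.natDegree ≤ n + 1) : (sfA n A C).natDegree ≤ n := by
  have h := sfC_natDegree hA hC
  rw [natDegree_le_iff_coeff_eq_zero] at *
  intro i hi
  obtain ⟨j, rfl⟩ : ∃ j, i = j + 1 := ⟨i - 1, by omega⟩
  simp only [sfA, coeff_sub, coeff_C_mul, coeff_X_mul]
  rcases Nat.eq_or_lt_of_le (Nat.le_of_lt_succ hi) with e | e
  · rw [← e]; ring
  · rw [hA _ (by omega), h j e]; ring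

theorem exists_sfDisc_ne_zero (k : Type*) [Field k] (n : ℕ) : ∃ A C : k[X], A.natDegree ≤ n ∧
    C.natDegree ≤ n ∧ C.coeff n = 1 ∧ sfDisc n A C ≠ 0 := by
  induction n with
  | zero => exact ⟨1, 1, by simp, by simp, by simp, by simp [sfDisc]⟩
  | succ n ih =>
    obtain ⟨A, C, hA, hC, h1, h2⟩ := ih
    have a0 : A.coeff (n + 1) = 0 := coeff_eq_zero_of_natDegree_lt (by omega)
    have c0 : C.coeff (n + 1) = 0 := coeff_eq_zero_of_natDegree_lt (by omega)
    have e1 : (A + X * C).coeff (n + 1) = 1 := by simp [a0, h1, coeff_X_mul]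
    have e2 : (C + (A + X * C)).coeff (n + 1) = 1 := by rw [coeff_add, c0, e1, zero_add]
    have e3 : sfC n (A + X * C) (C + (A + X * C)) = C := by simp [sfC, e1, e2]
    have e4 : sfA n (A + X * C) (C + (A + X * C)) = A := by simp [sfA, e3, e1, h1]
    have d1 : (A + X * C).natDegree ≤ n + 1 := by
      refine (natDegree_add_le _ _).trans (max_le (by omega) ?_)
      exact natDegree_mul_le.trans (by have := natDegree_X_le (R := k); omega)
    refine ⟨A + X * C, C + (A + X * C), d1, (natDegree_add_le _ _).trans (max_le (by omega) d1), e2, ?_⟩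
    simp only [sfDisc, e1, e3, e4, h1, one_mul]
    exact h2

variable {k K : Type*} [Field k] [Field K] [Algebra k K]

theorem col_of_sfDisc {ζ : K} {L : Subgroup (Matrix.SpecialLinearGroup (Fin 2) K)}
    (hx : ∀ c : k, slUp (algebraMap k K c) ∈ L) (hy : ∀ c : k, slLo (algebraMap k K c * ζ) ∈ L) (n : ℕ) :
    ∀ A C : k[X], A.natDegree ≤ n → C.natDegree ≤ n → sfDisc n A C ≠ 0 → ∀ ν : k, ν ≠ 0 →
      ∃ κ : k, κ ≠ 0 ∧ ∃ g ∈ L, g 0 0 = algebraMap k K κ * aeval ζ A ∧
        g 1 0 = algebraMap k K κ * (algebraMap k K ν * ζ * aeval ζ C) := by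
  induction n with
  | zero =>
    intro A C hA hC h ν _
    rw [eq_C_of_natDegree_le_zero hA, eq_C_of_natDegree_le_zero hC]
    simp only [sfDisc] at h
    have h' : algebraMap k K (A.coeff 0) ≠ 0 := by simpa using h
    refine ⟨(A.coeff 0)⁻¹, inv_ne_zero h, _, hy ((A.coeff 0)⁻¹ * ν * C.coeff 0), ?_, ?_⟩
    · simp [slLo, inv_mul_cancel₀ h']
    · simp [slLo]; ring
  | succ n ih =>
    intro A C hA hC h ν hν
    simp only [sfDisc, ne_eq, mul_eq_zero, not_or] at h
    obtain ⟨⟨ha, hc⟩, hd⟩ := h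
    set a := A.coeff (n + 1) with ha'
    set c := (sfC n A C).coeff n with hc'
    have ha'' : algebraMap k K a ≠ 0 := by simpa using ha
    have hc'' : algebraMap k K c ≠ 0 := by simpa using hc
    have hν' : algebraMap k K ν ≠ 0 := by simpa using hν
    obtain ⟨κ, hκ, g, hg, e0, e1⟩ := ih _ _ (sfA_natDegree hA hC) (sfC_natDegree hA hC) hd (ν / a * c)
      (mul_ne_zero (div_ne_zero hν ha) hc)
    refine ⟨κ * c, mul_ne_zero hκ hc, slLo (algebraMap k K (ν * C.coeff (n + 1) / a) * ζ) *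
      (slUp (algebraMap k K (a / (ν / a * c))) * g), mul_mem (hy _) (mul_mem (hx _) hg), ?_, ?_⟩
    · simp only [Matrix.SpecialLinearGroup.coe_mul, coe_slLo, coe_slUp, Matrix.mul_apply, Fin.sum_univ_two,
        e0, e1]
      simp [sfA, ← ha', ← hc']
      field_simp
      ring
    · simp only [Matrix.SpecialLinearGroup.coe_mul, coe_slLo, coe_slUp, Matrix.mul_apply, Fin.sum_univ_two,
        e0, e1]
      simp only [sfA, ← ha', ← hc']
      simp [sfC, ← ha']
      field_simp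
      ring

theorem exists_borel [Infinite k] {ζ : K} (N : ℕ) (hN : ∀ x : K, ∃ p : k[X], p.natDegree ≤ N ∧ aeval ζ p = x)
    {L : Subgroup (Matrix.SpecialLinearGroup (Fin 2) K)}
    (hx : ∀ c : k, slUp (algebraMap k K c) ∈ L) (hy : ∀ c : k, slLo (algebraMap k K c * ζ) ∈ L)
    (a : K) : ∃ κ : k, κ ≠ 0 ∧ ∃ g ∈ L, g 0 0 = algebraMap k K κ * a ∧ g 1 0 = 0 ∨ a = 0 := by
  by_cases ha : a = 0
  · exact ⟨1, one_ne_zero, 1, one_mem _, Or.inr ha⟩
  obtain ⟨A₁, C₁, hA₁, hC₁, -, h₁⟩ := exists_sfDisc_ne_zero k N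
  obtain ⟨A₂, hA₂, eA₂⟩ := hN (a⁻¹ * aeval ζ A₁)
  obtain ⟨C₂, hC₂, eC₂⟩ := hN (a⁻¹ * aeval ζ C₁)
  obtain ⟨A₃, hA₃, eA₃⟩ := hN (a * aeval ζ A₁)
  obtain ⟨C₃, hC₃, eC₃⟩ := hN (a * aeval ζ C₁)
  let ln : k[X] → k[X] → k[X][X] := fun P Q => P.map C + C X * (Q - P).map C
  have ln_ev : ∀ P Q τ, (ln P Q).map (evalRingHom τ) = P + C τ * (Q - P) := by
    intro P Q τ
    have : (evalRingHom τ).comp C = RingHom.id k := by ext; simp
    simp [ln, Polynomial.map_map, this]
  have ev : ∀ P Q P' Q' τ, (sfDisc N (ln P Q) (ln P' Q')).eval τ =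
      sfDisc N (P + C τ * (Q - P)) (P' + C τ * (Q' - P')) := by
    intro P Q P' Q' τ
    rw [← ln_ev, ← ln_ev, ← sfDisc_map]; rfl
  have n1 : sfDisc N (ln A₁ A₂) (ln C₁ C₂) ≠ 0 := by
    intro e
    have := ev A₁ A₂ C₁ C₂ 0
    rw [e] at this
    simp at this
    exact h₁ this.symm
  have n2 : sfDisc N (ln A₃ A₁) (ln C₃ C₁) ≠ 0 := by
    intro e
    have := ev A₃ A₁ C₃ C₁ 1
    rw [e] at this
    simp at this
    exact h₁ this.symm
  obtain ⟨τ, hτ⟩ := exists_eval_ne_zero_of_natDegree_lt_card _ (mul_ne_zero n1 n2)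
    (Cardinal.natCast_lt_aleph0.trans_le (Cardinal.aleph0_le_mk k))
  rw [eval_mul, ev, ev] at hτ
  have dg : ∀ P Q : k[X], P.natDegree ≤ N → Q.natDegree ≤ N → (P + C τ * (Q - P)).natDegree ≤ N := by
    intro P Q hP hQ
    exact (natDegree_add_le _ _).trans (max_le hP ((natDegree_C_mul_le _ _).trans
      ((natDegree_sub_le _ _).trans (max_le hQ hP))))
  obtain ⟨κ₁, hκ₁, g₁, hg₁, a0, a1⟩ := col_of_sfDisc hx hy N _ _ (dg _ _ hA₁ hA₂) (dg _ _ hC₁ hC₂)
    (left_ne_zero_of_mul hτ) 1 one_ne_zero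
  obtain ⟨κ₂, hκ₂, g₂, hg₂, b0, b1⟩ := col_of_sfDisc hx hy N _ _ (dg _ _ hA₃ hA₁) (dg _ _ hC₃ hC₁)
    (right_ne_zero_of_mul hτ) 1 one_ne_zero
  have hκ₁' : algebraMap k K κ₁ ≠ 0 := by simpa using hκ₁
  simp only [map_add, map_mul, map_sub, aeval_C, eA₂, eC₂, eA₃, eC₃, map_one] at a0 a1 b0 b1
  have c0 : g₂ 0 0 = algebraMap k K (κ₂ / κ₁) * a * g₁ 0 0 := by
    rw [a0, b0, map_div₀]; field_simp
  have c1 : g₂ 1 0 = algebraMap k K (κ₂ / κ₁) * a * g₁ 1 0 := by
    rw [a1, b1, map_div₀]; field_simp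
  have hd := g₁.det_coe
  rw [Matrix.det_fin_two] at hd
  refine ⟨κ₂ / κ₁, div_ne_zero hκ₂ hκ₁, g₁⁻¹ * g₂, mul_mem (inv_mem hg₁) hg₂, Or.inl ⟨?_, ?_⟩⟩
  · simp only [Matrix.SpecialLinearGroup.coe_mul, Matrix.SpecialLinearGroup.coe_inv, Matrix.adjugate_fin_two,
      Matrix.mul_apply, Fin.sum_univ_two, c0, c1]
    simp
    linear_combination (algebraMap k K κ₂ / algebraMap k K κ₁ * a) * hd
  · simp only [Matrix.SpecialLinearGroup.coe_mul, Matrix.SpecialLinearGroup.coe_inv, Matrix.adjugate_fin_two,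
      Matrix.mul_apply, Fin.sum_univ_two, c0, c1]
    simp
    ring

end Euclid

variable {k K : Type*} [Field k] [Field K] [Algebra k K]

theorem conj_slUp_of_borel (g : Matrix.SpecialLinearGroup (Fin 2) K) (h : g 1 0 = 0) (r : K) :
    g * slUp r * g⁻¹ = slUp (g 0 0 ^ 2 * r) := by
  have hd := g.det_coe
  rw [Matrix.det_fin_two, h] at hd
  rw [mul_inv_eq_iff_eq_mul]
  ext i j
  fin_cases i <;> fin_cases j <;> simp [Matrix.mul_apply, Fin.sum_univ_two, h]
  linear_combination (-(g 0 0 * r)) * hd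

theorem eq_top_of_slUp_mem {L : Subgroup (Matrix.SpecialLinearGroup (Fin 2) K)} (hx : ∀ r, slUp r ∈ L)
    {ζ : K} (hζ : ζ ≠ 0) (hy : slLo ζ ∈ L) : L = ⊤ := by
  refine eq_top_of_slUp_slLo_mem L hx fun r => ?_
  have : slLo r = (slUp (-ζ⁻¹) * slLo ζ * slUp (-ζ⁻¹)) * slUp (-(r / ζ ^ 2)) *
      (slUp (-ζ⁻¹) * slLo ζ * slUp (-ζ⁻¹))⁻¹ := by
    rw [eq_mul_inv_iff_mul_eq]
    ext i j
    fin_cases i <;> fin_cases j <;> simp [Matrix.mul_apply, Fin.sum_univ_two, hζ]
    field_simp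
  rw [this]
  have := mul_mem (mul_mem (hx (-ζ⁻¹)) hy) (hx (-ζ⁻¹))
  exact mul_mem (mul_mem this (hx _)) (inv_mem this)

theorem sl2_gen_infinite [Infinite k] (h2 : (2 : k) ≠ 0) {ζ : K} (hζ : ζ ≠ 0) (N : ℕ)
    (hN : ∀ x : K, ∃ p : k[X], p.natDegree ≤ N ∧ aeval ζ p = x)
    {L : Subgroup (Matrix.SpecialLinearGroup (Fin 2) K)}
    (hx : ∀ c : k, slUp (algebraMap k K c) ∈ L) (hy : ∀ c : k, slLo (algebraMap k K c * ζ) ∈ L) : L = ⊤ := by
  have sq : ∀ (a : K) (c : k), slUp (algebraMap k K c * a ^ 2) ∈ L := by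
    intro a c
    obtain ⟨κ, hκ, g, hg, h | h⟩ := exists_borel N hN hx hy a
    · have hκ' : algebraMap k K κ ≠ 0 := by simpa using hκ
      have := mul_mem (mul_mem hg (hx (c / κ ^ 2))) (inv_mem hg)
      rw [conj_slUp_of_borel g h.2, h.1] at this
      convert this using 2
      simp only [map_div₀, map_pow]
      field_simp
    · simp [h]
  refine eq_top_of_slUp_mem (fun r => ?_) hζ (by simpa using hy 1)
  have h2' : (2 : K) ≠ 0 := by
    rw [← map_ofNat (algebraMap k K) 2]; exact (_root_.map_ne_zero _).2 h2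
  have h4 : (4 : K) ≠ 0 := by
    rw [show (4 : K) = 2 * 2 by norm_num]; exact mul_ne_zero h2' h2'
  have := mul_mem (sq (r + 1) 4⁻¹) (sq (r - 1) (-4⁻¹))
  rw [← slUp_add] at this
  convert this using 2
  simp only [map_neg, map_inv₀, map_ofNat]
  field_simp
  ring

theorem dickson_inv [Finite K] (h2 : (2 : K) ≠ 0) {L : Subgroup (Matrix.SpecialLinearGroup (Fin 2) K)}
    (hy : slLo 1 ∈ L) {u : K} (hu : u ≠ 0) (hu2 : u ^ 2 ≠ -1) (hx : slUp u ∈ L) :
    slUp 1 ∈ L ∧ slUp u⁻¹ ∈ L := by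
  let F := Subfield.closure ({u} : Set K)
  let _ : Fintype F := Fintype.ofFinite F
  let lam : F := ⟨u, Subfield.subset_closure rfl⟩
  have hgen : Subfield.closure ({lam} : Set F) = ⊤ := by
    rw [eq_top_iff]
    intro r _
    have : (r : K) ∈ (Subfield.closure ({lam} : Set F)).map F.subtype := by
      rw [RingHom.map_field_closure, Set.image_singleton]; exact r.2
    obtain ⟨r', hr', e⟩ := this
    rwa [← Subtype.ext e]
  have key : ∀ r : F, slUp (r : K) ∈ L := by
    intro r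
    rcases S0801.result (F := F) (fun e => h2 (congrArg Subtype.val e)) lam
      (fun e => hu (congrArg Subtype.val e)) hgen with h | h
    · have : (⊤ : Subgroup _) ≤ L.comap (Matrix.SpecialLinearGroup.map F.subtype) := by
        rw [← h.1, Subgroup.closure_le]
        rintro g (e | e)
        · have : g = slLo 1 := Subtype.ext e
          rw [this, SetLike.mem_coe, Subgroup.mem_comap, map_slLo]; exact hy
        · have : g = slUp lam := Subtype.ext e
          rw [this, SetLike.mem_coe, Subgroup.mem_comap, map_slUp]; exact hx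
      have := this (Subgroup.mem_top (slUp r))
      rwa [Subgroup.mem_comap, map_slUp] at this
    · exact absurd (by simpa using congrArg Subtype.val h.2.1) hu2
  exact ⟨key 1, key lam⁻¹⟩

theorem sl2_gen_finite [Finite K] (h2 : (2 : k) ≠ 0) (h3 : 3 < ENat.card k) {ζ : K} (hζ : ζ ≠ 0)
    (hN : ∀ x : K, ∃ p : k[X], aeval ζ p = x) {L : Subgroup (Matrix.SpecialLinearGroup (Fin 2) K)}
    (hx : ∀ c : k, slUp (algebraMap k K c * ζ) ∈ L) (hy : ∀ c : k, slLo (algebraMap k K c) ∈ L) : L = ⊤ := by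
  have h2' : (2 : K) ≠ 0 := by
    rw [← map_ofNat (algebraMap k K) 2]; exact (_root_.map_ne_zero _).2 h2
  have hy1 : slLo 1 ∈ L := by simpa using hy 1
  have hex : ∃ c : k, c ≠ 0 ∧ (algebraMap k K c * ζ) ^ 2 ≠ -1 := by
    by_contra hc
    push Not at hc
    have h1 := hc 1 one_ne_zero
    have hsub : (Set.univ : Set k) ⊆ {0, 1, -1} := by
      intro c _
      by_cases h0 : c = 0
      · exact Or.inl h0
      · have := hc c h0
        rw [map_one, one_mul] at h1
        rw [mul_pow, h1, ← map_pow] at this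
        have h4 : c ^ 2 = 1 := (algebraMap k K).injective (by rw [map_one]; linear_combination -this)
        exact Or.inr (sq_eq_one_iff.1 h4)
    have := (Set.encard_le_encard hsub).trans ((Set.encard_insert_le _ _).trans
      (add_le_add_left (Set.encard_insert_le _ _) 1))
    rw [Set.encard_univ, Set.encard_singleton] at this
    exact absurd (h3.trans_le this) (by norm_num)
  obtain ⟨c, hc, hc2⟩ := hex
  have hx1 := (dickson_inv h2' hy1 (mul_ne_zero (by simpa using hc) hζ) hc2 (hx c)).1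
  have hinv : ∀ u, slUp u ∈ L → slUp u⁻¹ ∈ L := by
    intro u hu
    by_cases h0 : u = 0
    · simp [h0]
    by_cases h1 : u ^ 2 = -1
    · have : u⁻¹ = -u := by field_simp; linear_combination h1
      rw [this, slUp_neg]; exact inv_mem hu
    · exact (dickson_inv h2' hy1 h0 h1 hu).2
  have hk : ∀ c : k, slUp (algebraMap k K c) ∈ L := by
    intro c
    have hw := mul_mem (mul_mem hx1 (inv_mem hy1)) hx1
    have := mul_mem (mul_mem hw (hy (-c))) (inv_mem hw)
    convert this using 1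
    rw [eq_mul_inv_iff_mul_eq, ← slLo_neg]
    ext i j
    fin_cases i <;> fin_cases j <;> simp [Matrix.mul_apply, Fin.sum_univ_two]
  have hadd : ∀ u v, slUp u ∈ L → slUp v ∈ L → slUp (u + v) ∈ L := fun u v hu hv =>
    slUp_add u v ▸ mul_mem hu hv
  have hsub : ∀ u v, slUp u ∈ L → slUp v ∈ L → slUp (u - v) ∈ L := fun u v hu hv => by
    rw [sub_eq_add_neg]; exact hadd _ _ hu (slUp_neg v ▸ inv_mem hv)
  have hsq : ∀ u, slUp u ∈ L → slUp (u ^ 2) ∈ L := by
    intro u hu
    by_cases h0 : u = 0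
    · simp [h0]
    by_cases h1 : 1 - u = 0
    · have : u = 1 := by linear_combination -h1
      simpa [this] using hx1
    have := hsub _ _ hu (hinv _ (hadd _ _ (hinv _ hu) (hinv _ (hsub _ _ hx1 hu))))
    convert this using 2
    field_simp
    ring
  have hmul2 : ∀ u v, slUp u ∈ L → slUp v ∈ L → slUp (2 * u * v) ∈ L := by
    intro u v hu hv
    have := hsub _ _ (hsub _ _ (hsq _ (hadd _ _ hu hv)) (hsq _ hu)) (hsq _ hv)
    convert this using 2
    ring
  have hmul : ∀ u v, slUp u ∈ L → slUp v ∈ L → slUp (u * v) ∈ L := by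
    intro u v hu hv
    have := hmul2 _ _ hu (hmul2 _ _ (hk (2⁻¹ * 2⁻¹)) hv)
    convert this using 2
    simp only [map_mul, map_inv₀, map_ofNat]
    field_simp
  refine eq_top_of_slUp_mem (fun r => ?_) one_ne_zero hy1
  obtain ⟨p, rfl⟩ := hN r
  induction p using Polynomial.induction_on with
  | C a => simpa using hk a
  | add p q hp hq => rw [map_add]; exact hadd _ _ hp hq
  | monomial n a ih =>
    rw [pow_succ, ← mul_assoc, map_mul, aeval_X]
    exact hmul _ _ ih (by simpa using hx 1)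

theorem sl2_gen (h2 : (2 : k) ≠ 0) (h3 : 3 < ENat.card k) {ζ : K} (hζ : ζ ≠ 0) (hint : IsIntegral k ζ)
    (hN : ∀ x : K, ∃ p : k[X], aeval ζ p = x) {L : Subgroup (Matrix.SpecialLinearGroup (Fin 2) K)}
    (hx : ∀ c : k, slUp (algebraMap k K c) ∈ L) (hy : ∀ c : k, slLo (algebraMap k K c * ζ) ∈ L) : L = ⊤ := by
  have hN' : ∀ x : K, ∃ p : k[X], p.natDegree ≤ (minpoly k ζ).natDegree ∧ aeval ζ p = x := by
    intro x
    obtain ⟨p, rfl⟩ := hN x
    exact ⟨p %ₘ minpoly k ζ, natDegree_modByMonic_le p (minpoly.monic hint),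
      aeval_modByMonic_eq_self_of_root (minpoly.aeval k ζ)⟩
  rcases finite_or_infinite k with hk | hk
  swap
  · exact sl2_gen_infinite h2 hζ _ hN' hx hy
  have : Finite K := by
    have hfin : Module.Finite k (Algebra.adjoin k ({ζ} : Set K)) :=
      Algebra.finite_adjoin_simple_of_isIntegral hint
    have := Module.finite_of_finite k (M := Algebra.adjoin k ({ζ} : Set K))
    refine Finite.of_surjective (Subtype.val : Algebra.adjoin k ({ζ} : Set K) → K) fun x => ?_
    obtain ⟨p, rfl⟩ := hN x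
    exact ⟨⟨_, aeval_mem_adjoin_singleton k ζ⟩, rfl⟩
  let w : Matrix.SpecialLinearGroup (Fin 2) K := slUp 1 * slLo (-1) * slUp 1
  have := sl2_gen_finite h2 h3 hζ hN (L := L.comap (MulAut.conj w).toMonoidHom) (fun c => ?_) (fun c => ?_)
  · rw [eq_top_iff]
    intro g _
    have h := this ▸ Subgroup.mem_top (w⁻¹ * g * w)
    simpa [mul_assoc] using h
  · have := hy (-c)
    rw [Subgroup.mem_comap]
    convert this using 1
    show w * _ * w⁻¹ = _
    rw [mul_inv_eq_iff_eq_mul]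
    ext i j
    fin_cases i <;> fin_cases j <;> simp [w, Matrix.mul_apply, Fin.sum_univ_two]
  · have := hx (-c)
    rw [Subgroup.mem_comap]
    convert this using 1
    show w * _ * w⁻¹ = _
    rw [mul_inv_eq_iff_eq_mul]
    ext i j
    fin_cases i <;> fin_cases j <;> simp [w, Matrix.mul_apply, Fin.sum_univ_two]

theorem two_ne_zero_of_ringChar (h : ringChar k ≠ 2) : (2 : k) ≠ 0 := Ring.two_ne_zero h

theorem three_lt_card (h2 : ringChar k ≠ 2) (h3 : Nat.card k ≠ 3) : 3 < ENat.card k := by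
  rcases finite_or_infinite k with hk | hk
  · let _ := Fintype.ofFinite k
    rw [ENat.card_eq_coe_natCard]
    have h1 : 1 < Nat.card k := Finite.one_lt_card
    have h4 : Nat.card k ≠ 2 := by
      intro e
      have := FiniteField.odd_card_of_char_ne_two h2
      rw [← Nat.card_eq_fintype_card, e] at this
      omega
    exact_mod_cast (by omega : 3 < Nat.card k)
  · rw [ENat.card_eq_top_of_infinite]; exact ENat.natCast_lt_top 3

end Cfsg.Agent.Chev.Tim
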