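import Mathlib
import Cfsg.Agent.Chev.TimEl
import Cfsg.Agent.Chev.TimGen

/-!
Pairs of quadratic elements, one of them of minimal rank: the basic dichotomy.
-/

set_option autoImplicit false

open Polynomial Cfsg Cfsg.Agent.GT Module

namespace Cfsg.Agent.Chev.Tim

variable {k : Type*} [Field k] {M : Type*} [AddCommGroup M] [Module k M]

/-- the rank of an endomorphism -/
noncomputable def rk (x : End k M) : ℕ := finrank k (LinearMap.range x)

variable [FiniteDimensional k M] {a b s t x y z : End k M}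

theorem rk_eq_zero : rk x = 0 ↔ x = 0 := by
  rw [rk, Submodule.finrank_eq_zero, LinearMap.range_eq_bot]

theorem rk_le_of_range_le (h : LinearMap.range x ≤ LinearMap.range y) : rk x ≤ rk y :=
  Submodule.finrank_mono h

omit [FiniteDimensional k M] in
theorem range_mul_le (x y : End k M) : LinearMap.range (x * y) ≤ LinearMap.range x :=
  LinearMap.range_comp_le_range y x

omit [FiniteDimensional k M] in
theorem ker_le_mul (x y : End k M) : LinearMap.ker y ≤ LinearMap.ker (x * y) :=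
  LinearMap.ker_le_ker_comp y x

theorem rk_mul_le_left (x y : End k M) : rk (x * y) ≤ rk x := rk_le_of_range_le (range_mul_le x y)

theorem rk_mul_add (a s : End k M) :
    rk (a * s) + finrank k (LinearMap.range s ⊓ LinearMap.ker a : Submodule k M) = rk s := by
  have := LinearMap.finrank_range_add_finrank_ker (a.domRestrict (LinearMap.range s))
  rw [LinearMap.range_domRestrict, LinearMap.ker_domRestrict, ← Submodule.finrank_map_subtype_eq,
    Submodule.map_comap_subtype] at this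
  rw [rk, Module.End.mul_eq_comp, LinearMap.range_comp]
  exact this

theorem rk_mul_le_right (x y : End k M) : rk (x * y) ≤ rk y := by
  have := rk_mul_add x y; omega

theorem rk_add_rk_le (h : a * (s * b) = 0) : rk (a * s) + rk (s * b) ≤ rk s := by
  rw [← rk_mul_add a s]
  refine Nat.add_le_add_left (Submodule.finrank_mono (le_inf (range_mul_le s b) ?_)) _
  rwa [LinearMap.range_le_ker_iff]

theorem rk_mul_lt {v : M} (hv : v ∈ LinearMap.range s) (hv0 : v ≠ 0) (ha : a v = 0) : rk (a * s) < rk s := by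
  rw [← rk_mul_add a s]
  refine Nat.lt_add_of_pos_right (Nat.pos_of_ne_zero fun e => hv0 ?_)
  rw [Submodule.finrank_eq_zero] at e
  exact (Submodule.eq_bot_iff _).1 e v ⟨hv, ha⟩

theorem mul_eq_zero_of_rk_le (h : rk s ≤ rk (a * s)) (h' : a * (s * b) = 0) : s * b = 0 := by
  have := rk_add_rk_le h'
  exact rk_eq_zero.1 (by omega)

theorem rk_add_le (x y : End k M) : rk (x + y) ≤ rk x + rk y :=
  (Submodule.finrank_mono (LinearMap.range_add_le x y)).trans
    (Submodule.finrank_add_le_finrank_add_finrank _ _)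

omit [FiniteDimensional k M] in
theorem rk_neg (x : End k M) : rk (-x) = rk x := by rw [rk, rk, LinearMap.range_neg]

theorem rk_sub_le (x y : End k M) : rk (x - y) ≤ rk x + rk y := by
  rw [sub_eq_add_neg, ← rk_neg y]; exact rk_add_le _ _

theorem rk_conj (g : (End k M)ˣ) (x : End k M) : rk ((g : End k M) * x * ((g⁻¹ : (End k M)ˣ) : End k M)) = rk x := by
  have key : ∀ (g : (End k M)ˣ) (x : End k M), rk ((g : End k M) * x * ((g⁻¹ : (End k M)ˣ) : End k M)) ≤ rk x := fun g x =>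
    (rk_mul_le_left _ _).trans (rk_mul_le_right _ _)
  refine le_antisymm (key g x) ?_
  simpa [mul_assoc] using key g⁻¹ ((g : End k M) * x * ((g⁻¹ : (End k M)ˣ) : End k M))

theorem rk_mul_lt_of_nilpotent (hz : IsNilpotent z) (hc : Commute z s) (hs : s ≠ 0) : rk (z * s) < rk s := by
  by_contra h
  obtain ⟨n, hn⟩ := hz
  have : ∀ i, s * z ^ i = 0 → s = 0 := by
    intro i
    induction i with
    | zero => simp
    | succ i ih =>
      intro h'
      refine ih (mul_eq_zero_of_rk_le (not_lt.1 h) ?_)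
      rw [← mul_assoc, hc.eq, mul_assoc, ← pow_succ', h']
  exact hs (this n (by rw [hn, mul_zero]))

theorem rk_add_ker (x : End k M) : rk x + finrank k (LinearMap.ker x) = finrank k M :=
  LinearMap.finrank_range_add_finrank_ker x

/-- the quadratic elements of minimal rank -/
def LL (G : Subgroup (End k M)ˣ) : Set (End k M) :=
  {s | s ∈ QQ k G ∧ s ≠ 0 ∧ ∀ x ∈ QQ k G, x ≠ 0 → rk s ≤ rk x}

variable {G : Subgroup (End k M)ˣ}

omit [FiniteDimensional k M] in
theorem LL.eq_zero (hs : s ∈ LL G) (hx : x ∈ QQ k G) (h : rk x < rk s) : x = 0 := by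
  by_contra h0
  exact absurd (hs.2.2 x hx h0) (not_le.2 h)

omit [FiniteDimensional k M] in
theorem LL.of_le (hs : s ∈ LL G) (hx : x ∈ QQ k G) (h0 : x ≠ 0) (h : rk x ≤ rk s) : x ∈ LL G :=
  ⟨hx, h0, fun y hy hy0 => h.trans (hs.2.2 y hy hy0)⟩

omit [FiniteDimensional k M] in
theorem LL.rk_eq (hs : s ∈ LL G) (ht : t ∈ LL G) : rk s = rk t :=
  le_antisymm (hs.2.2 t ht.1 ht.2.1) (ht.2.2 s hs.1 hs.2.1)

theorem LL.conj (hs : s ∈ LL G) {g : (End k M)ˣ} (hg : g ∈ G) :
    (g : End k M) * s * (g⁻¹ : (End k M)ˣ) ∈ LL G :=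
  LL.of_le hs (QQ.conj hs.1 hg) (fun e => hs.2.1 (by simpa using e)) (rk_conj g s).le

omit [FiniteDimensional k M] in
theorem LL.neg (hs : s ∈ LL G) : -s ∈ LL G :=
  LL.of_le hs (QQ.neg hs.1) (neg_ne_zero.2 hs.2.1) (rk_neg s).le

theorem LL.of_nilpotent (h2 : (2 : k) ≠ 0) (hs : s ∈ LL G) (ht : t ∈ QQ k G)
    (hz : IsNilpotent (s * t + t * s)) : s * t * s = 0 := by
  have h : QP s t (s * t + t * s) := ⟨hs.1.1, ht.1, rfl⟩
  rw [← h.zs]
  exact LL.eq_zero hs (h.mem_QQ_of_nilpotent h2 hz hs.1 ht) (rk_mul_lt_of_nilpotent hz h.comm_s hs.2.1)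

theorem LL.u_symm (h2 : (2 : k) ≠ 0) (hs : s ∈ QQ k G) (ht : t ∈ LL G) (h : s * t * s = 0) : t * s * t = 0 := by
  refine LL.of_nilpotent h2 ht hs ⟨3, ?_⟩
  have h1 : ∀ a, s * (s * a) = 0 := fun a => by rw [← mul_assoc, hs.1, zero_mul]
  have h3 : ∀ a, t * (t * a) = 0 := fun a => by rw [← mul_assoc, ht.1.1, zero_mul]
  have h4 : ∀ a, s * (t * (s * a)) = 0 := fun a => by rw [← mul_assoc, ← mul_assoc, h, zero_mul]
  have h5 : s * (t * s) = 0 := by rw [← mul_assoc, h]
  simp only [pow_succ, pow_zero, one_mul, mul_add, add_mul, mul_assoc, h1, h3, h4, h5, mul_zero, add_zero,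
    zero_mul]

theorem LL.u_indep (hs : s ∈ LL G) (ht : t ∈ LL G) (h1 : s * t * s = 0) (h2 : t * s * t = 0)
    (h0 : s * t - t * s ≠ 0) : rk (s * t) + rk (t * s) = rk s ∧ s * t - t * s ∈ LL G ∧
      LinearMap.range (s * t) ⊓ LinearMap.range (t * s) = ⊥ := by
  have hq := QQ.comm hs.1 ht.1 h1 h2
  have a1 := hs.2.2 _ hq h0
  have a2 : rk (t * s) + rk (s * t) ≤ rk s := rk_add_rk_le (by rw [← mul_assoc, h2])
  have a3 : rk (s * t - t * s) ≤ finrank k (LinearMap.range (s * t) ⊔ LinearMap.range (t * s) : Submodule k M) := by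
    refine Submodule.finrank_mono ?_
    rintro _ ⟨v, rfl⟩
    exact sub_mem (Submodule.mem_sup_left ⟨v, rfl⟩) (Submodule.mem_sup_right ⟨v, rfl⟩)
  have a4 := Submodule.finrank_sup_add_finrank_inf_eq (LinearMap.range (s * t)) (LinearMap.range (t * s))
  change _ = rk (s * t) + rk (t * s) at a4
  exact ⟨by omega, LL.of_le hs hq h0 (by omega), Submodule.finrank_eq_zero.1 (by omega)⟩

theorem exists_fitting (z : End k M) : ∃ (n : ℕ) (w : k[X]), z ^ n * (1 - aeval z (X * w)) = 0 ∧
    aeval z (X * w) * aeval z (X * w) = aeval z (X * w) ∧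
    (¬ IsNilpotent z → ∃ f : k[X], Irreducible f ∧ IsCoprime X f ∧ ∃ v, v ≠ 0 ∧ aeval z f v = 0) := by
  have hint : IsIntegral k z := IsIntegral.of_finite k z
  obtain ⟨g, hg, hXg⟩ := exists_eq_pow_rootMultiplicity_mul_and_not_dvd (minpoly k z) (minpoly.ne_zero hint) 0
  simp only [map_zero, sub_zero] at hg hXg
  set m := rootMultiplicity 0 (minpoly k z)
  have hc : IsCoprime X g := (irreducible_X.coprime_iff_not_dvd).2 hXg
  obtain ⟨u, v, e⟩ := hc.pow_left (m := m + 1)
  have h0 : aeval z (X ^ m * g) = 0 := by rw [← hg]; exact minpoly.aeval k z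
  have e1 : 1 - aeval z (X * (u * X ^ m)) = aeval z (v * g) := by
    rw [← map_one (aeval z : k[X] →ₐ[k] End k M), ← map_sub, ← e]; congr 1; ring
  have e2 : z ^ m * (1 - aeval z (X * (u * X ^ m))) = 0 := by
    rw [e1, ← aeval_X_pow (R := k), ← map_mul, show X ^ m * (v * g) = v * (X ^ m * g) by ring, map_mul, h0,
      mul_zero]
  refine ⟨m, u * X ^ m, e2, ?_, fun hz => ?_⟩
  · have : aeval z (X * (u * X ^ m)) * (1 - aeval z (X * (u * X ^ m))) = 0 := by
      conv_lhs => enter [1]; rw [← mul_assoc, map_mul, aeval_X_pow]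
      rw [mul_assoc, e2, mul_zero]
    rw [mul_sub, mul_one, sub_eq_zero] at this
    exact this.symm
  · have hg0 : g ≠ 0 := by rintro rfl; exact hXg (dvd_zero _)
    have hu : ¬ IsUnit g := by
      intro hu
      obtain ⟨g', hg'⟩ := hu.exists_right_inv
      refine hz ⟨m, ?_⟩
      rw [← aeval_X_pow (R := k), ← mul_one (X ^ m), ← hg', ← mul_assoc, map_mul, h0, zero_mul]
    obtain ⟨f, hf, g', rfl⟩ := WfDvdMonoid.exists_irreducible_factor hu hg0
    refine ⟨f, hf, hc.of_mul_right_left, ?_⟩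
    by_contra hv
    push Not at hv
    have h1 : aeval z (X ^ m * g') = 0 := by
      ext v
      by_contra h
      refine hv _ h ?_
      rw [← Module.End.mul_apply, ← map_mul, show f * (X ^ m * g') = X ^ m * (f * g') by ring, h0]; rfl
    have h2 := minpoly.dvd k z h1
    rw [hg, show X ^ m * (f * g') = (X ^ m * g') * f by ring] at h2
    have h3 : X ^ m * g' ≠ 0 := mul_ne_zero (pow_ne_zero _ X_ne_zero) (right_ne_zero_of_mul hg0)
    conv_rhs at h2 => rw [← mul_one (X ^ m * g')]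
    exact hf.not_isUnit (isUnit_of_dvd_one ((mul_dvd_mul_iff_left h3).1 h2))

omit [FiniteDimensional k M] in
theorem eq_zero_of_coprime {p f : k[X]} (h : IsCoprime p f) {v : M} (hp : aeval z p v = 0)
    (hf : aeval z f v = 0) : v = 0 := by
  obtain ⟨u, w, e⟩ := h
  have := congrArg (fun r => aeval z r v) e
  simpa [hp, hf] using this.symm

/-- elements mapping to the Borel subgroup of the residue field are triangular -/
theorem borel (h2 : (2 : k) ≠ 0) (hs : s ∈ LL G) (h : QP s t z)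
    (ih : ∀ t' ∈ QQ k G, rk (s * t' * s) < rk (s * t * s) → s * t' * s = 0) {w f : k[X]}
    (he : aeval z (X * w) * aeval z (X * w) = aeval z (X * w)) {v : M} (hv0 : v ≠ 0)
    (hv : v ∈ LinearMap.range (z * s)) (hf : aeval z f v = 0) {g : (End k M)ˣ} (hg : g ∈ G) {a b c q : k[X]}
    (e : (g : End k M) = el s t z a b c q) (hd : a * (a + X * q) - X * b * c = 1) (hc : f ∣ c) :
    aeval z c * aeval z (X * w) = 0 := by
  set e₁ := aeval z (X * w) with he₁
  have hs' := LL.conj hs hg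
  have e' := h.conj_el e hd
  set s' := (g : End k M) * s * (g⁻¹ : (End k M)ˣ)
  have cc : ∀ p r : k[X], Commute (aeval z p) (aeval z r) := fun p r => (Commute.all p r).map _
  have ces : Commute e₁ s := h.aeval_s _
  have m1 : s * s' = el s t z (X * -(X * c ^ 2)) (-(X * a * c) + X * (2 * a * c)) 0 (-(-(X * c ^ 2))) := by
    rw [e', h.s_mul_el]
  have m2 : s' * s = el s t z 0 (-(X * a * c)) 0 (-(X * c ^ 2)) := by rw [e', h.el_mul_s]
  have m3 : s * s' * s = aeval z (-(X * c ^ 2)) * (z * s) := by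
    rw [m1, h.el_mul_s, QP.el_s', mul_comm X, map_mul, aeval_X, mul_assoc]
  have u1 : s * s' * s = 0 := by
    refine ih s' hs'.1 ?_
    rw [m3, ← h.zs]
    refine rk_mul_lt hv hv0 ?_
    obtain ⟨c', rfl⟩ := hc
    rw [show -(X * (f * c') ^ 2) = -(X * f * c' ^ 2) * f by ring, map_mul, Module.End.mul_apply, hf, map_zero]
  have u2 : s' * s * s' = 0 := LL.u_symm h2 hs.1 hs' u1
  -- an element of `k[z]` killing `z s` kills `e₁`
  have kill : ∀ p : k[X], aeval z (X * p) * e₁ * s = 0 → aeval z p * e₁ = 0 := by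
    intro p hp
    have k1 : aeval z p * e₁ * s = 0 := by
      rw [← he, ← mul_assoc, he₁, ← map_mul, show p * (X * w) = w * (X * p) by ring, map_mul, mul_assoc,
        mul_assoc, ← mul_assoc _ _ s, hp, mul_zero]
    have k2 : aeval z p * e₁ * z = 0 := by
      have : aeval z p * e₁ * z = aeval z p * e₁ * (s * t + t * s) := by rw [h.z_eq]
      rw [this, mul_add, ← mul_assoc, k1, zero_mul, zero_add, ← mul_assoc,
        ((h.aeval_t p).mul_left (h.aeval_t _)).eq, mul_assoc, k1, mul_zero]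
    rw [← he, ← mul_assoc]
    conv_lhs => enter [2]; rw [he₁, map_mul, aeval_X]
    rw [← mul_assoc, k2, zero_mul]
  have c2 : aeval z (c ^ 2) * e₁ = 0 := by
    refine kill _ ?_
    have : aeval z (X * (X * c ^ 2)) * e₁ * s = 0 := by
      have : aeval z (X * (X * c ^ 2)) * s = 0 := by
        rw [← neg_eq_zero, ← u1, m3, map_neg, neg_mul, mul_comm X (X * c ^ 2), map_mul _ _ X,
          aeval_X, mul_assoc]
      rw [mul_assoc, ces.eq, ← mul_assoc, this, zero_mul]
    rw [kill _ this, zero_mul]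
  have c3 : ∀ (p : k[X]) (x : End k M), Commute e₁ x → aeval z (p * c ^ 2) * x * e₁ = 0 := by
    intro p x hx
    rw [mul_assoc, ← hx.eq, ← mul_assoc, map_mul, mul_assoc _ _ e₁, c2, mul_zero, zero_mul]
  have cts : Commute e₁ (t * s) := (h.aeval_t _).mul_right ces
  have y1 : s * s' * e₁ = aeval z (X * a * c) * s * e₁ := by
    rw [m1, el, add_mul, add_mul, add_mul, neg_neg, c3 X _ cts, show X * -(X * c ^ 2) = -(X * X) * c ^ 2 by ring,
      show -(X * a * c) + X * (2 * a * c) = X * a * c by ring]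
    have := c3 (-(X * X)) 1 (Commute.one_right _)
    rw [mul_one] at this
    rw [this]; simp
  have y2 : s' * s * e₁ = -(aeval z (X * a * c) * s * e₁) := by
    rw [m2, el, add_mul, add_mul, add_mul, show -(X * c ^ 2) = -X * c ^ 2 by ring, c3 (-X) _ cts]
    simp
  have y0 : aeval z (X * a * c) * s * e₁ = 0 := by
    by_cases h0 : s * s' - s' * s = 0
    · have : (2 : k) • (aeval z (X * a * c) * s * e₁) = 0 := by
        rw [two_smul]
        have := congrArg (· * e₁) h0
        simp only [sub_mul, y1, y2, zero_mul, sub_neg_eq_add] at this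
        exact this
      exact (smul_eq_zero.1 this).resolve_left h2
    · rw [← LinearMap.range_eq_bot, eq_bot_iff, ← (LL.u_indep hs hs' u1 u2 h0).2.2]
      refine le_inf (y1 ▸ range_mul_le _ _) ?_
      rw [← LinearMap.range_neg, ← y2]; exact range_mul_le _ _
  refine kill _ ?_
  have : X * c = (a + X * q) * (X * a * c) - X * X * b * c ^ 2 := by linear_combination (-(X * c)) * hd
  rw [mul_assoc, ces.eq, ← mul_assoc, this, map_sub, sub_mul, sub_mul, c3 _ _ ces, map_mul, mul_assoc,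
    mul_assoc, ← mul_assoc _ s, y0, mul_zero, sub_zero]

theorem dichotomy_aux (h2 : (2 : k) ≠ 0) (h3 : 3 < ENat.card k) (hs : s ∈ LL G) (ht : t ∈ QQ k G)
    (h : QP s t z) (h0 : s * t * s ≠ 0)
    (ih : ∀ t' ∈ QQ k G, rk (s * t' * s) < rk (s * t * s) → s * t' * s = 0) :
    ∃ f : k[X], Irreducible f ∧ IsCoprime X f ∧ aeval z f * s = 0 ∧ ∀ p : k[X], aeval z p * s ∈ QQ k G := by
  obtain ⟨n, w, hn, he, hex⟩ := exists_fitting z
  obtain ⟨f, hf, hXf, v₀, hv₀, hfv₀⟩ := hex fun hz => h0 (LL.of_nilpotent h2 hs ht (h.z_eq ▸ hz))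
  have borel' := fun {v} hv0 hv hfv {g} hg {a b c q} => borel (v := v) (f := f) h2 hs h ih he hv0 hv hfv
    (g := g) hg (a := a) (b := b) (c := c) (q := q)
  set e := aeval z (X * w) with he₁
  have ces : Commute e s := h.aeval_s _
  have cet : Commute e t := h.aeval_t _
  have cc : ∀ p r : k[X], Commute (aeval z p) (aeval z r) := fun p r => (Commute.all p r).map _
  have zinj : ∀ v, aeval z f v = 0 → z v = 0 → v = 0 := fun v h1 h2 =>
    eq_zero_of_coprime hXf (by simpa using h2) h1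
  obtain ⟨v, hv0, hv, hfv⟩ : ∃ v, v ≠ 0 ∧ v ∈ LinearMap.range (z * s) ∧ aeval z f v = 0 := by
    have key : ∀ u, aeval z f u = 0 → s u ≠ 0 →
        ∃ v, v ≠ 0 ∧ v ∈ LinearMap.range (z * s) ∧ aeval z f v = 0 := by
      intro u hu hsu
      have h1 : aeval z f (s u) = 0 := by
        rw [← Module.End.mul_apply, (h.aeval_s f).eq, Module.End.mul_apply, hu, map_zero]
      refine ⟨z (s u), fun e => hsu (zinj _ h1 e), ⟨u, rfl⟩, ?_⟩
      have := (cc f X).eq
      rw [aeval_X] at this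
      rw [← Module.End.mul_apply, this, Module.End.mul_apply, h1, map_zero]
    by_cases h1 : s v₀ = 0
    · refine key (t v₀) (by rw [← Module.End.mul_apply, (h.aeval_t f).eq, Module.End.mul_apply, hfv₀, map_zero])
        fun h4 => hv₀ (zinj _ hfv₀ ?_)
      rw [← h.z_eq]; simp [h1, h4]
    · exact key v₀ hfv₀ h1
  have hvs : v ∈ LinearMap.range s := by
    rw [h.comm_s.eq] at hv; exact range_mul_le _ _ hv
  have hev : e v = v := by
    have := eq_zero_of_coprime (z := z) (hXf.pow_left (m := n)) (v := (1 - e) v)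
      (by rw [aeval_X_pow, ← Module.End.mul_apply, hn]; rfl)
      (by rw [← Module.End.mul_apply, ((Commute.one_right _).sub_right (cc f _)).eq, Module.End.mul_apply, hfv,
        map_zero])
    rw [LinearMap.sub_apply, sub_eq_zero] at this
    exact this.symm
  have inj : ∀ p : k[X], ¬ f ∣ p → aeval z p v ≠ 0 := fun p hp h1 =>
    hv0 (eq_zero_of_coprime (hf.coprime_iff_not_dvd.2 hp).symm h1 hfv)
  have := Fact.mk hf
  let K := AdjoinRoot f
  let ζ : K := AdjoinRoot.root f
  have hK : ∀ p : k[X], aeval ζ p = 0 ↔ f ∣ p := fun p => by rw [AdjoinRoot.aeval_eq, AdjoinRoot.mk_eq_zero]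
  have hfX : ¬ f ∣ X := hf.coprime_iff_not_dvd.1 hXf.symm
  have hζ : ζ ≠ 0 := fun e => hfX ((hK X).1 (by simpa using e))
  have hfc : ∀ c : k[X], aeval ζ (X * c) = 0 → f ∣ c := fun c hc =>
    (hf.prime.dvd_or_dvd ((hK _).1 hc)).resolve_left hfX
  set Γ := QP.repSub (k := k) s t z h G ζ with hΓ
  have hΓtop : Γ.map (MonoidHom.snd _ _) = ⊤ := by
    refine sl2_gen h2 h3 hζ (AdjoinRoot.isIntegral_root hf.ne_zero)
      (fun x => by obtain ⟨p, hp⟩ := AdjoinRoot.mk_surjective x; exact ⟨p, (AdjoinRoot.aeval_eq p).trans hp⟩)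
      (fun c => ?_) fun c => ?_
    · obtain ⟨g, hg, e⟩ := hs.1.2 c
      exact ⟨_, h.mem_repSub_s ζ hg (p := C c) (by rw [e, aeval_C, Algebra.smul_def]), by simp⟩
    · obtain ⟨g, hg, e⟩ := ht.2 c
      exact ⟨_, h.mem_repSub_t ζ hg (p := C c) (by rw [e, aeval_C, Algebra.smul_def]), by simp⟩
  obtain ⟨α, hα0, hα1⟩ : ∃ α : k, α ≠ 0 ∧ α ^ 2 ≠ 1 := by
    by_contra hc
    push Not at hc
    have hsub : (Set.univ : Set k) ⊆ {0, 1, -1} := by
      intro c _
      by_cases h0 : c = 0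
      · exact Or.inl h0
      · exact Or.inr (sq_eq_one_iff.1 (hc c h0))
    have := (Set.encard_le_encard hsub).trans ((Set.encard_insert_le _ _).trans
      (add_le_add_left (Set.encard_insert_le _ _) 1))
    rw [Set.encard_univ, Set.encard_singleton] at this
    exact absurd (h3.trans_le this) (by norm_num)
  have hα0' : algebraMap k K α ≠ 0 := by simpa using hα0
  have hα1' : algebraMap k K α ^ 2 ≠ 1 := fun e => hα1 ((algebraMap k K).injective (by simpa using e))
  let dg : ∀ x : K, x ≠ 0 → Matrix.SpecialLinearGroup (Fin 2) K := fun x hx =>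
    ⟨!![x, 0; 0, x⁻¹], by simp [Matrix.det_fin_two, hx]⟩
  -- `s` vanishes on the nilpotent part
  have hse : s * e = s := by
    have t1 : ∀ i, (⊤ : Subgroup (Matrix.SpecialLinearGroup (Fin 2) K)).lowerCentralSeries i = ⊤ := by
      intro i
      induction i with
      | zero => rfl
      | succ i ih => rw [Subgroup.lowerCentralSeries_succ, ih]; exact Matrix.SL2.commutator_eq_top hα0' hα1'
    have t2 : dg _ hα0' ∈ (Γ.lowerCentralSeries (2 * n)).map (MonoidHom.snd _ _) := by
      rw [Subgroup.map_lowerCentralSeries, hΓtop, t1]; trivial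
    obtain ⟨⟨g, m⟩, hgm, rfl : m = _⟩ := t2
    obtain ⟨hg, a, b, c, q, eg, hd, -, m1, -, m3, -⟩ := Subgroup.lowerCentralSeries_le_self _ _ hgm
    have t3 : aug k (Γ.map (MonoidHom.fst _ _)) ≤ QP.JJ k s t z := by
      rw [aug_le]
      rintro _ ⟨x, ⟨-, a, b, c, q, eg, -, o, -⟩, rfl⟩
      exact QP.sub_one_mem_JJ eg o
    have t4 : g ∈ (Γ.map (MonoidHom.fst _ _)).lowerCentralSeries (2 * n) := by
      rw [← Subgroup.map_lowerCentralSeries]; exact ⟨_, hgm, rfl⟩
    have t5 : ∀ g ∈ (Γ.map (MonoidHom.fst _ _)).lowerCentralSeries (2 * n),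
        (g : End k M) * (1 - e) = 1 - e := by
      intro g hg
      obtain ⟨_, ⟨a, b, c, q, rfl⟩, e'⟩ := h.JJ_pow n _ (lcs_le h.JJ_mul t3 _ (mem_aug hg))
      rw [← sub_eq_zero, ← sub_one_mul, e', mul_assoc,
        ← ((Commute.one_left _).sub_left (h.comm_el (X * w) _ b c q)).eq, ← mul_assoc, hn, zero_mul]
    have c1 : Commute (1 - e) s := (Commute.one_left _).sub_left ces
    have t6 : (g : End k M) * s * (g⁻¹ : (End k M)ˣ) * (1 - e) = s * (1 - e) := by
      rw [mul_assoc, t5 _ (inv_mem t4), mul_assoc, ← c1.eq, ← mul_assoc, t5 _ t4]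
    have t7 := h.conj_el_mul eg hd (borel' hv0 hv hfv hg eg hd (hfc c (by simpa [dg] using m3.symm))) ces cet 1
    simp only [map_one, one_mul, mul_one] at t7
    set s' := (g : End k M) * s * (g⁻¹ : (End k M)ˣ)
    have t8 : s' - s = aeval z (a ^ 2 - 1) * s * e := by
      have : s' = s' * e + s' * (1 - e) := by noncomm_ring
      rw [this, t6, t7, map_sub, map_one]; noncomm_ring
    have t9 : aeval z (a ^ 2 - 1) * s * e = s * (aeval z (a ^ 2 - 1) * e) := by
      rw [(h.aeval_s _).eq, mul_assoc]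
    have t10 : aeval z (a ^ 2 - 1) * s * e = aeval z (a ^ 2 - 1) * e * s := by
      rw [mul_assoc, ← ces.eq, mul_assoc]
    have hq : s' - s ∈ QQ k G := by
      refine QQ.sub (QQ.conj hs.1 hg) hs.1 ?_ ?_
      · rw [← sub_add_cancel s' s, t8, t10, add_mul, mul_assoc, h.ss, mul_zero, zero_add]
      · rw [← sub_add_cancel s' s, t8, t9, mul_add, ← mul_assoc, h.ss, zero_mul, zero_add]
    have hne : s' - s ≠ 0 := by
      intro e0
      obtain ⟨u, rfl⟩ := hvs
      refine inj (a ^ 2 - 1) (fun hd' => hα1' ?_) ?_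
      · have := (hK _).2 hd'
        rw [map_sub, map_pow, ← m1, map_one, sub_eq_zero] at this
        simpa [dg] using this
      · rw [← hev, ← Module.End.mul_apply, ← Module.End.mul_apply, ← t10, ← t8, e0]; rfl
    have t11 : rk s ≤ rk (e * s) := by
      refine (hs.2.2 _ hq hne).trans ?_
      rw [t8, t10, mul_assoc]; exact rk_mul_le_right _ _
    have t12 : s * (1 - e) = 0 := mul_eq_zero_of_rk_le t11 (by
      rw [← mul_assoc, ces.eq, mul_assoc, mul_sub, mul_one, he, sub_self, mul_zero])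
    rw [mul_sub, mul_one, sub_eq_zero] at t12
    exact t12.symm
  have hes : e * s = s := ces.eq.trans hse
  have conj : ∀ g ∈ G, ∀ a b c q : k[X], (g : End k M) = el s t z a b c q →
      a * (a + X * q) - X * b * c = 1 → f ∣ c → ∀ p : k[X], aeval z p * s ∈ QQ k G →
      aeval z (a ^ 2 * p) * s ∈ QQ k G := by
    intro g hg a b c q eg hd hc p hp
    have t1 := h.conj_el_mul eg hd (borel' hv0 hv hfv hg eg hd hc) ces cet p
    have t2 : Commute e ((g⁻¹ : (End k M)ˣ) : End k M) := by rw [h.val_inv_el eg hd]; exact h.comm_el _ _ _ _ _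
    rw [mul_assoc _ s, hse, mul_assoc, ← t2.eq, ← mul_assoc, mul_assoc _ _ e, mul_assoc _ s, hse] at t1
    exact t1 ▸ QQ.conj hp hg
  have sq : ∀ r r' : k[X], aeval z r * s * (aeval z r' * s) = 0 := fun r r' => by
    rw [mul_assoc, ← mul_assoc s, ← (h.aeval_s r').eq, mul_assoc, h.ss, mul_zero, mul_zero]
  let S₁ : k[X] → Prop := fun p => ∀ r : k[X], aeval z r * s ∈ QQ k G → aeval z (p * r) * s ∈ QQ k G
  have Sadd : ∀ p p' : k[X], aeval z p * s ∈ QQ k G → aeval z p' * s ∈ QQ k G →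
      aeval z (p + p') * s ∈ QQ k G := fun p p' hp hp' => by
    rw [map_add, add_mul]; exact QQ.add hp hp' (sq _ _) (sq _ _)
  have Ssm : ∀ (c : k) (p : k[X]), aeval z p * s ∈ QQ k G → aeval z (C c * p) * s ∈ QQ k G :=
    fun c p hp => by rw [map_mul, aeval_C, mul_assoc, ← Algebra.smul_def]; exact QQ.smul hp c
  have S1 : aeval z (1 : k[X]) * s ∈ QQ k G := by simpa using hs.1
  have Sf : ∀ p : k[X], aeval z p * s ∈ QQ k G → f ∣ p → aeval z p * s = 0 := by
    rintro _ hp ⟨p', rfl⟩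
    refine LL.eq_zero hs hp (rk_mul_lt hvs hv0 ?_)
    rw [mul_comm, map_mul, Module.End.mul_apply, hfv, map_zero]
  have hsq : ∀ x : K, ∃ p, S₁ p ∧ aeval ζ p = x ^ 2 := by
    intro x
    by_cases hx : x = 0
    · exact ⟨0, fun r _ => by simpa using QQ.zero, by simp [hx]⟩
    obtain ⟨⟨g, m⟩, hgm, rfl : m = _⟩ : dg x hx ∈ Γ.map (MonoidHom.snd _ _) := hΓtop ▸ Subgroup.mem_top _
    obtain ⟨hg, a, b, c, q, eg, hd, -, m1, -, m3, -⟩ := hgm
    exact ⟨a ^ 2, conj g hg a b c q eg hd (hfc c (by simpa [dg] using m3.symm)),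
      by rw [map_pow, ← m1]; simp [dg]⟩
  have hall : ∀ x : K, ∃ p, S₁ p ∧ aeval ζ p = x := by
    intro x
    obtain ⟨p₁, a1, b1⟩ := hsq (x + 1)
    obtain ⟨p₂, a2, b2⟩ := hsq (x - 1)
    refine ⟨C 4⁻¹ * p₁ + C (-4⁻¹) * p₂, fun r hr => ?_, ?_⟩
    · rw [add_mul, mul_assoc, mul_assoc]
      exact Sadd _ _ (Ssm _ _ (a1 r hr)) (Ssm _ _ (a2 r hr))
    · have h2' : (2 : K) ≠ 0 := by
        rw [← map_ofNat (algebraMap k K) 2]; exact (_root_.map_ne_zero _).2 h2
      have h4 : (4 : K) ≠ 0 := by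
        rw [show (4 : K) = 2 * 2 by norm_num]; exact mul_ne_zero h2' h2'
      simp only [map_add, map_mul, aeval_C, b1, b2, map_neg, map_inv₀, map_ofNat]
      linear_combination x * mul_inv_cancel₀ h4
  obtain ⟨r, hr, er⟩ := hall ζ⁻¹
  obtain ⟨r', hr', er'⟩ := hall ζ
  have k1 : aeval z (1 - r * X) * s = 0 := by
    obtain ⟨g₁, hg₁, e₁⟩ := ht.2 (-2⁻¹)
    obtain ⟨g₂, hg₂, e₂⟩ := QQ.inU (hr 1 S1)
    obtain ⟨g₃, hg₃, e₃⟩ := QQ.inU ht
    have hh : (C 2⁻¹ : k[X]) * 2 = 1 := by rw [← map_ofNat C 2, ← map_mul, inv_mul_cancel₀ h2, map_one]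
    have eg : ((g₁ * g₂ * g₃ : (End k M)ˣ) : End k M) =
        el s t z (1 + X * r) r (C 2⁻¹ * (1 - r * X)) (-r - C 2⁻¹ * r) := by
      have e₁' : (g₁ : End k M) = el s t z 1 0 (C (-2⁻¹ : k)) 0 := by
        rw [QP.el_t, e₁, aeval_C, Algebra.smul_def]
      have e₂' : (g₂ : End k M) = el s t z 1 r 0 0 := by rw [QP.el_s, e₂, mul_one]
      have e₃' : (g₃ : End k M) = el s t z (1 : k[X]) 0 1 0 := by rw [QP.el_t, e₃, map_one, one_mul]
      rw [Units.val_mul, Units.val_mul, e₁', e₂', e₃', h.el_mul, h.el_mul, map_neg]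
      congr 1
      · ring
      · ring
      · linear_combination (-1 : k[X]) * hh
      · ring
    have := borel' hv0 hv hfv (mul_mem (mul_mem hg₁ hg₂) hg₃) eg (by linear_combination (-(X * r)) * hh)
      (Dvd.dvd.mul_left ((hK _).1 (by simp [er, hζ])) _)
    have e2 : aeval z (1 - r * X) = aeval z (2 : k[X]) * aeval z (C (2⁻¹ : k) * (1 - r * X)) := by
      rw [← map_mul]; congr 1; linear_combination (r * X - 1) * hh
    rw [← hes, ← mul_assoc, e2, mul_assoc (aeval z 2), this, mul_zero, zero_mul]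
  have k2 : aeval z (r' * r - 1) * s = 0 := by
    refine Sf _ ?_ ((hK _).1 (by simp [er, er', hζ]))
    have := Sadd _ _ (hr' _ (hr 1 S1)) (Ssm (-1) _ S1)
    simpa [sub_eq_add_neg] using this
  have k3 : ∀ p : k[X], aeval z (X * p) * s = aeval z (r' * p) * s := by
    intro p
    have : X * p = r' * p + (-(r' * p) * (1 - r * X) + -(X * p) * (r' * r - 1)) := by ring
    rw [this, map_add, add_mul, map_add, add_mul, map_mul _ _ (1 - r * X), map_mul _ _ (r' * r - 1), mul_assoc,
      mul_assoc, k1, k2, mul_zero, mul_zero, add_zero, add_zero]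
  have fin : ∀ p : k[X], aeval z p * s ∈ QQ k G := by
    intro p
    induction p using Polynomial.induction_on with
    | C a => simpa using Ssm a 1 S1
    | add p q hp hq => exact Sadd p q hp hq
    | monomial n a ih => rw [pow_succ, ← mul_assoc, mul_comm _ X, k3]; exact hr' _ ih
  exact ⟨f, hf, hXf, Sf f (fin f) dvd_rfl, fin⟩

/-- the basic dichotomy -/
theorem dichotomy (h2 : (2 : k) ≠ 0) (h3 : 3 < ENat.card k) (hs : s ∈ LL G) (ht : t ∈ QQ k G)
    (h : QP s t z) (h0 : s * t * s ≠ 0) :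
    ∃ f : k[X], Irreducible f ∧ IsCoprime X f ∧ aeval z f * s = 0 ∧ ∀ p : k[X], aeval z p * s ∈ QQ k G := by
  have key : ∀ m, ∀ t ∈ QQ k G, rk (s * t * s) = m → s * t * s = 0 ∨ rk s ≤ rk (s * t * s) := by
    intro m
    induction m using Nat.strong_induction_on with
    | _ m ih =>
    intro t ht hm
    by_cases h0 : s * t * s = 0
    · exact Or.inl h0
    right
    have h : QP s t (s * t + t * s) := ⟨hs.1.1, ht.1, rfl⟩
    obtain ⟨f, -, ⟨u, v, e⟩, h4, -⟩ := dichotomy_aux h2 h3 hs ht h h0 fun t' ht' hlt =>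
      (ih _ (hm ▸ hlt) t' ht' rfl).resolve_right (not_le.2 (hlt.trans_le (rk_mul_le_right _ _)))
    have : s = aeval (s * t + t * s) u * (s * t * s) := by
      have := congrArg (fun r => aeval (s * t + t * s) r * s) e
      simp only [map_add, map_mul, aeval_X, add_mul _ _ s, mul_assoc, h4, mul_zero, add_zero, map_one,
        one_mul] at this
      rw [← h.zs, add_mul, mul_assoc, mul_assoc, this]
    conv_lhs => rw [this]
    exact rk_mul_le_right _ _
  exact dichotomy_aux h2 h3 hs ht h h0 fun t' ht' hlt =>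
    (key _ t' ht' rfl).resolve_right (not_le.2 (hlt.trans_le (rk_mul_le_right _ _)))

end Cfsg.Agent.Chev.Tim
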