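import Mathlib
import Cfsg.Agent.Chev.TimQuad
import Cfsg.Agent.Chev.TimSL2

/-!
Types of quadratic elements, the subgroups `E(σ)`, opposite pairs.
-/

set_option autoImplicit false

open Polynomial Cfsg Cfsg.Agent.GT Module

namespace Cfsg.Agent.Chev.Tim

section Ring

variable {A : Type*} [Ring A] {a x y r s t : A}

/-- `x` factors through `r` on both sides -/
def Pre (x r : A) : Prop := (∃ a, x = a * r) ∧ ∃ b, x = r * b

namespace Pre

theorem refl (x : A) : Pre x x := ⟨⟨1, by simp⟩, 1, by simp⟩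

theorem trans (h : Pre x y) (h' : Pre y r) : Pre x r := by
  obtain ⟨⟨a, ha⟩, b, hb⟩ := h
  obtain ⟨⟨a', ha'⟩, b', hb'⟩ := h'
  exact ⟨⟨a * a', by rw [ha, ha', mul_assoc]⟩, b' * b, by rw [hb, hb', mul_assoc]⟩

theorem zero (r : A) : Pre 0 r := ⟨⟨0, by simp⟩, 0, by simp⟩

theorem add (h : Pre x r) (h' : Pre y r) : Pre (x + y) r := by
  obtain ⟨⟨a, ha⟩, b, hb⟩ := h
  obtain ⟨⟨a', ha'⟩, b', hb'⟩ := h'
  exact ⟨⟨a + a', by rw [add_mul, ← ha, ← ha']⟩, b + b', by rw [mul_add, ← hb, ← hb']⟩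

theorem neg (h : Pre x r) : Pre (-x) r := by
  obtain ⟨⟨a, ha⟩, b, hb⟩ := h
  exact ⟨⟨-a, by rw [neg_mul, ← ha]⟩, -b, by rw [mul_neg, ← hb]⟩

theorem neg_right (h : Pre x r) : Pre x (-r) := by
  obtain ⟨⟨a, ha⟩, b, hb⟩ := h
  exact ⟨⟨-a, by rw [neg_mul_neg, ← ha]⟩, -b, by rw [neg_mul_neg, ← hb]⟩

theorem sub (h : Pre x r) (h' : Pre y r) : Pre (x - y) r := by
  rw [sub_eq_add_neg]; exact h.add h'.neg

theorem smul {k : Type*} [Field k] [Algebra k A] (h : Pre x r) (c : k) : Pre (c • x) r := by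
  obtain ⟨⟨a, ha⟩, b, hb⟩ := h
  exact ⟨⟨c • a, by rw [smul_mul_assoc, ← ha]⟩, c • b, by rw [mul_smul_comm, ← hb]⟩

theorem mul_zero (h : Pre x r) (h0 : r * y = 0) : x * y = 0 := by
  obtain ⟨a, ha⟩ := h.1
  rw [ha, mul_assoc, h0, MulZeroClass.mul_zero]

theorem zero_mul (h : Pre x r) (h0 : y * r = 0) : y * x = 0 := by
  obtain ⟨a, ha⟩ := h.2
  rw [ha, ← mul_assoc, h0, MulZeroClass.zero_mul]

theorem mul_eq (h : Pre x r) (h0 : r * y = r) : x * y = x := by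
  obtain ⟨a, ha⟩ := h.1
  rw [ha, mul_assoc, h0]

theorem eq_mul (h : Pre x r) (h0 : y * r = r) : y * x = x := by
  obtain ⟨a, ha⟩ := h.2
  rw [ha, ← mul_assoc, h0]

theorem mul_pre (h : Pre x r) (h' : Pre y r) (hr : r * r = 0) : x * y = 0 := h.mul_zero (h'.zero_mul hr)

theorem eq_zero (h : Pre x 0) : x = 0 := by
  obtain ⟨a, ha⟩ := h.1
  rw [ha, MulZeroClass.mul_zero]

theorem conj (h : Pre x r) (g : Aˣ) : Pre (g * x * (g⁻¹ : Aˣ)) (g * r * (g⁻¹ : Aˣ)) := by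
  obtain ⟨⟨a, ha⟩, b, hb⟩ := h
  exact ⟨⟨g * a * (g⁻¹ : Aˣ), by rw [ha]; simp [mul_assoc]⟩, g * b * (g⁻¹ : Aˣ), by rw [hb]; simp [mul_assoc]⟩

theorem of_commute (h : Commute a r) : Pre (a * r) r := ⟨⟨a, rfl⟩, a, h.eq⟩

theorem sandwich (a r : A) : Pre (r * a * r) r := ⟨⟨r * a, rfl⟩, a * r, mul_assoc _ _ _⟩

end Pre

/-- opposite elements -/
def Opp (s t : A) : Prop := s * t * s = s ∧ t * s * t = t

theorem Opp.symm (h : Opp s t) : Opp t s := ⟨h.2, h.1⟩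

theorem Opp.neg (h : Opp s t) : Opp (-s) (-t) := ⟨by simp [h.1], by simp [h.2]⟩

variable (k : Type*) [Field k] [Algebra k A] {G : Subgroup Aˣ}

/-- the subgroup `E(s)` -/
def EE (G : Subgroup Aˣ) (s : A) : Subgroup Aˣ :=
  Subgroup.closure {g | ∃ x ∈ QQ k G, Pre x s ∧ (g : A) = 1 + x}

variable {k}

theorem val_uu (h : x * x = 0) : (uu x h : A) = 1 + x := rfl

theorem val_inv_uu (h : x * x = 0) : (((uu x h)⁻¹ : Aˣ) : A) = 1 - x := rfl

theorem QQ.mem_of_eq (hx : x ∈ QQ k G) {g : Aˣ} (e : (g : A) = 1 + x) : g ∈ G := by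
  obtain ⟨g', hg', e'⟩ := QQ.inU hx
  rwa [show g = g' from Units.ext (e.trans e'.symm)]

theorem QQ.uu_mem (hx : x ∈ QQ k G) : uu x hx.1 ∈ G := QQ.mem_of_eq hx rfl

theorem mem_EE_of (hx : x ∈ QQ k G) (h : Pre x s) {g : Aˣ} (e : (g : A) = 1 + x) : g ∈ EE k G s :=
  Subgroup.subset_closure ⟨x, hx, h, e⟩

theorem uu_mem_EE (hx : x ∈ QQ k G) (h : Pre x s) : uu x hx.1 ∈ EE k G s := mem_EE_of hx h rfl

theorem mem_EE (hs : s * s = 0) {g : Aˣ} : g ∈ EE k G s ↔ ∃ x ∈ QQ k G, Pre x s ∧ (g : A) = 1 + x := by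
  refine ⟨fun hg => ?_, fun h => Subgroup.subset_closure h⟩
  induction hg using Subgroup.closure_induction with
  | mem g hg => exact hg
  | one => exact ⟨0, QQ.zero, Pre.zero s, by simp⟩
  | mul g h _ _ hg hh =>
    obtain ⟨x, hx, px, ex⟩ := hg
    obtain ⟨y, hy, py, ey⟩ := hh
    have h1 := px.mul_pre py hs
    exact ⟨x + y, QQ.add hx hy h1 (py.mul_pre px hs), px.add py, by
      rw [Units.val_mul, ex, ey]; noncomm_ring [h1]⟩
  | inv g _ hg =>
    obtain ⟨x, hx, px, ex⟩ := hg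
    exact ⟨-x, QQ.neg hx, px.neg, by rw [val_inv_of_sq ex hx.1, sub_eq_add_neg]⟩

theorem EE_le : EE k G s ≤ G := by
  refine (Subgroup.closure_le _).2 ?_
  rintro g ⟨x, hx, -, e⟩
  exact QQ.mem_of_eq hx e

theorem EE_mono (h : Pre s t) : EE k G s ≤ EE k G t :=
  Subgroup.closure_mono fun _ ⟨x, hx, px, e⟩ => ⟨x, hx, px.trans h, e⟩

theorem EE_eq (h : Pre s t) (h' : Pre t s) : EE k G s = EE k G t := le_antisymm (EE_mono h) (EE_mono h')

theorem EE_neg : EE k G (-s) = EE k G s := EE_eq (Pre.refl s).neg (Pre.refl s).neg_right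

theorem EE_conj {g : Aˣ} (hg : g ∈ G) : conjBy (EE k G s) g = EE k G (g * s * (g⁻¹ : Aˣ)) := by
  have key : ∀ (s : A) (g : Aˣ), g ∈ G → conjBy (EE k G s) g ≤ EE k G (g * s * (g⁻¹ : Aˣ)) := by
    intro s g hg
    rw [Subgroup.map_le_iff_le_comap]
    refine (Subgroup.closure_le _).2 ?_
    rintro h ⟨x, hx, px, e⟩
    exact mem_EE_of (QQ.conj hx hg) (px.conj g) (by simp [e, mul_add, add_mul])
  refine le_antisymm (key s g hg) ?_
  have := key (g * s * (g⁻¹ : Aˣ)) g⁻¹ (inv_mem hg)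
  rw [← conjBy_le_conjBy_iff (g := g⁻¹), conjBy_inv_conjBy]
  simpa [mul_assoc] using this

theorem comm_EE (h : ∀ x ∈ QQ k G, Pre x s → ∀ y ∈ QQ k G, Pre y t → x * y = y * x) (hs : s * s = 0)
    (ht : t * t = 0) : Comm (EE k G s) (EE k G t) := by
  intro g hg g' hg'
  obtain ⟨x, hx, px, e⟩ := (mem_EE hs).1 hg
  obtain ⟨y, hy, py, e'⟩ := (mem_EE ht).1 hg'
  apply Units.ext
  rw [Units.val_mul, Units.val_mul, e, e']
  noncomm_ring [h x hx px y hy py]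

theorem EE_comm (hs : s * s = 0) : Comm (EE k G s) (EE k G s) :=
  comm_EE (fun _ _ px _ _ py => by rw [px.mul_pre py hs, py.mul_pre px hs]) hs hs

theorem pre_of_EE_le (hs : s ∈ QQ k G) (ht : t * t = 0) (h : EE k G s ≤ EE k G t) : Pre s t := by
  obtain ⟨x, -, px, e⟩ := (mem_EE ht).1 (h (uu_mem_EE hs (Pre.refl s)))
  rw [val_uu] at e
  rwa [add_left_cancel e]

theorem uu_ne_one (h : x * x = 0) (h0 : x ≠ 0) : uu x h ≠ 1 := fun e => h0 (by
  have := congrArg Units.val e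
  rwa [val_uu, Units.val_one, add_eq_left] at this)

theorem EE_ne_bot (hs : s ∈ QQ k G) (h0 : s ≠ 0) : EE k G s ≠ ⊥ := fun e =>
  uu_ne_one hs.1 h0 (Subgroup.mem_bot.1 (e ▸ uu_mem_EE hs (Pre.refl s)))

theorem val_conj_of_eq {g : Aˣ} (e : (g : A) = 1 + x) (hx : x * x = 0) (y : A) :
    g * y * (g⁻¹ : Aˣ) = y + (x * y - y * x) - x * y * x := by
  rw [val_inv_of_sq e hx, e]; noncomm_ring

theorem val_comm_of_eq {g h : Aˣ} (e : (g : A) = 1 + x) (e' : (h : A) = 1 + y) (hx : x * x = 0)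
    (hy : y * y = 0) (h1 : x * y * x = 0) (h2 : y * x * y = 0) :
    ((g * h * g⁻¹ * h⁻¹ : Aˣ) : A) = 1 + (x * y - y * x) := by
  have h3 : (g : A) * h * (g⁻¹ : Aˣ) = 1 + (y + (x * y - y * x)) := by
    rw [e', mul_add, add_mul, val_conj_of_eq e hx y, h1]; simp
  rw [Units.val_mul, Units.val_mul, Units.val_mul, h3, val_inv_of_sq e' hy]
  have h4 : x * y * y = 0 := by rw [mul_assoc, hy, mul_zero]
  noncomm_ring [hy, h2, h4]

/-- `k`-span of the quadratic elements of the types below `s` and `t` has cube zero -/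
theorem unip_EE_sup (hs : s * s = 0) (ht : t * t = 0)
    (h : ∀ x ∈ QQ k G, Pre x s → ∀ y ∈ QQ k G, Pre y t → s * y * s = 0 ∧ t * x * t = 0) :
    Unip k (EE k G s ⊔ EE k G t) := by
  let S : Set A := {x | x ∈ QQ k G ∧ (Pre x s ∨ Pre x t)}
  let J : Submodule k A := Submodule.span k S
  have h3 : J * J * J = ⊥ := by
    rw [Submodule.span_mul_span, Submodule.span_mul_span, Submodule.span_eq_bot]
    rintro _ ⟨_, ⟨x, ⟨hx, px⟩, y, ⟨hy, py⟩, rfl⟩, w, ⟨hw, pw⟩, rfl⟩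
    show x * y * w = 0
    rcases px with px | px <;> rcases py with py | py
    · rw [px.mul_pre py hs, zero_mul]
    · rcases pw with pw | pw
      · rw [mul_assoc]; refine px.mul_zero ?_
        rw [← mul_assoc]; exact pw.zero_mul (h x hx px y hy py).1
      · rw [mul_assoc, py.mul_pre pw ht, mul_zero]
    · rcases pw with pw | pw
      · rw [mul_assoc, py.mul_pre pw hs, mul_zero]
      · rw [mul_assoc]; refine px.mul_zero ?_
        rw [← mul_assoc]; exact pw.zero_mul (h y hy py x hx px).2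
    · rw [px.mul_pre py ht, zero_mul]
  have h4 : (J ⊔ J * J) * (J ⊔ J * J) ≤ J * J := by
    rw [Submodule.sup_mul, Submodule.mul_sup, Submodule.mul_sup, h3, ← mul_assoc, h3, ← mul_assoc, h3,
      Submodule.bot_mul]
    simp
  have h5 : (J ⊔ J * J) * (J ⊔ J * J) ≤ J ⊔ J * J := h4.trans le_sup_right
  refine unip_of_le (J := J ⊔ J * J) (n := 3) ?_ ?_
  · rw [← le_unitsOf h5]
    have key : ∀ r : A, r * r = 0 → (∀ x, Pre x r → Pre x s ∨ Pre x t) → EE k G r ≤ unitsOf _ h5 := by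
      intro r hr hp
      rw [le_unitsOf, aug_le]
      intro g hg
      obtain ⟨x, hx, px, e⟩ := (mem_EE hr).1 hg
      rw [e, add_sub_cancel_left]
      exact Submodule.mem_sup_left (Submodule.subset_span ⟨hx, hp x px⟩)
    exact sup_le (key s hs fun _ => Or.inl) (key t ht fun _ => Or.inr)
  · rw [eq_bot_iff, pow_succ, pow_two]
    refine (mul_le_mul_left h4 _).trans ?_
    rw [Submodule.mul_sup, h3, ← mul_assoc, h3, Submodule.bot_mul, sup_idem]

end Ring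

variable {k : Type*} [Field k] {M : Type*} [AddCommGroup M] [Module k M]

theorem exists_inner_inv (r : End k M) : ∃ g : End k M, r * g * r = r := by
  obtain ⟨a, ha⟩ := LinearMap.exists_rightInverse_of_surjective r.rangeRestrict
    (LinearMap.range_rangeRestrict r)
  obtain ⟨b, hb⟩ := LinearMap.exists_leftInverse_of_injective (LinearMap.range r).subtype
    (Submodule.ker_subtype _)
  refine ⟨a ∘ₗ b, LinearMap.ext fun v => ?_⟩
  have h1 := LinearMap.congr_fun hb ⟨r v, v, rfl⟩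
  have h2 := congrArg Subtype.val (LinearMap.congr_fun ha ⟨r v, v, rfl⟩)
  simp only [LinearMap.comp_apply, Submodule.subtype_apply, LinearMap.id_apply] at h1 h2
  simpa [h1] using h2

theorem pre_iff {x r : End k M} :
    Pre x r ↔ LinearMap.ker r ≤ LinearMap.ker x ∧ LinearMap.range x ≤ LinearMap.range r := by
  constructor
  · rintro ⟨⟨a, ha⟩, b, hb⟩
    exact ⟨ha ▸ ker_le_mul a r, hb ▸ range_mul_le r b⟩
  · rintro ⟨h1, h2⟩
    obtain ⟨g, hg⟩ := exists_inner_inv r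
    refine ⟨⟨x * g, LinearMap.ext fun v => ?_⟩, g * x, LinearMap.ext fun v => ?_⟩
    · have : v - g (r v) ∈ LinearMap.ker r := by
        rw [LinearMap.mem_ker, map_sub, sub_eq_zero]; exact (LinearMap.congr_fun hg v).symm
      have := h1 this
      rwa [LinearMap.mem_ker, map_sub, sub_eq_zero] at this
    · obtain ⟨u, hu⟩ := h2 ⟨v, rfl⟩
      rw [Module.End.mul_apply, Module.End.mul_apply, ← hu]
      exact (LinearMap.congr_fun hg u).symm

variable [FiniteDimensional k M] {G : Subgroup (End k M)ˣ} {s t x y z r : End k M}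

theorem Pre.rk_le (h : Pre x r) : rk x ≤ rk r := rk_le_of_range_le (pre_iff.1 h).2

theorem Pre.symm_of_rk (h : Pre x r) (h' : rk r ≤ rk x) : Pre r x := by
  rw [pre_iff] at *
  have h1 := rk_add_ker x
  have h2 := rk_add_ker r
  exact ⟨(Submodule.eq_of_le_of_finrank_le h.1 (by omega)).ge, (Submodule.eq_of_le_of_finrank_le h.2 h').ge⟩

theorem LL.pre_symm (hs : s ∈ LL G) (hx : x ∈ QQ k G) (h0 : x ≠ 0) (h : Pre x s) : Pre s x :=
  h.symm_of_rk (hs.2.2 x hx h0)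

theorem LL.of_pre (hs : s ∈ LL G) (hx : x ∈ QQ k G) (h0 : x ≠ 0) (h : Pre x s) : x ∈ LL G :=
  LL.of_le hs hx h0 h.rk_le

theorem LL.EE_eq (hs : s ∈ LL G) (hx : x ∈ QQ k G) (h0 : x ≠ 0) (h : Pre x s) : EE k G x = EE k G s :=
  Tim.EE_eq h (LL.pre_symm hs hx h0 h)

theorem LL.mem_EE (hs : s ∈ LL G) {g : (End k M)ˣ} (hg : g ∈ EE k G s) (h1 : g ≠ 1) :
    ∃ x ∈ LL G, Pre x s ∧ Pre s x ∧ (g : End k M) = 1 + x := by
  obtain ⟨x, hx, px, e⟩ := (Tim.mem_EE hs.1.1).1 hg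
  have h0 : x ≠ 0 := by rintro rfl; exact h1 (Units.ext (by simpa using e))
  exact ⟨x, LL.of_pre hs hx h0 px, px, LL.pre_symm hs hx h0 px, e⟩

/-- splitting off the part of `t` opposite to `s` -/
theorem LL.split (h2 : (2 : k) ≠ 0) (h3 : 3 < ENat.card k) (hs : s ∈ LL G) (ht : t ∈ QQ k G)
    (h0 : s * t * s ≠ 0) : ∃ t₁ ∈ LL G, Pre t₁ t ∧ t - t₁ ∈ QQ k G ∧ rk (t - t₁) < rk t ∧
      s * (t - t₁) = 0 ∧ (t - t₁) * s = 0 ∧ ∃ t' ∈ LL G, Pre t' t ∧ Opp s t' := by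
  have h : QP s t (s * t + t * s) := ⟨hs.1.1, ht.1, rfl⟩
  set z := s * t + t * s with hz
  obtain ⟨f, -, ⟨u, v, e⟩, hf, hp⟩ := dichotomy h2 h3 hs ht h h0
  have cc : ∀ p r : k[X], Commute (aeval z p) (aeval z r) := fun p r => (Commute.all p r).map _
  have hf' : ∀ p : k[X], aeval z (p * f) * s = 0 := fun p => by rw [map_mul, mul_assoc, hf, mul_zero]
  have hfz : ∀ p : k[X], aeval z (p * f * X) = 0 := fun p => by
    rw [map_mul, aeval_X]
    conv_lhs => enter [2]; rw [hz]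
    rw [mul_add, ← mul_assoc, hf', ← mul_assoc, (h.aeval_t _).eq, mul_assoc, hf']; simp
  have es : aeval z (u * X) * s = s := by
    rw [show u * X = 1 - v * f by rw [← e]; ring, map_sub, sub_mul, hf']; simp
  have hq : ∀ p : k[X], ∃ g ∈ G, (g : End k M) * (aeval z (-p) * s) * (g⁻¹ : (End k M)ˣ) = aeval z (p * X) * t := by
    intro p
    obtain ⟨g₁, hg₁, e₁⟩ := QQ.inU (hp (-u))
    obtain ⟨g₂, hg₂, e₂⟩ := QQ.inU ht
    have eg : ((g₁ * g₂ : (End k M)ˣ) : End k M) = el s t z (v * f) (-u) 1 u := by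
      have e₂' : (g₂ : End k M) = el s t z (1 : k[X]) 0 1 0 := by rw [QP.el_t, e₂, map_one, one_mul]
      rw [Units.val_mul, e₁, e₂', ← QP.el_s, h.el_mul]
      congr 1
      · linear_combination -e
      all_goals ring
    refine ⟨g₁ * g₂, mul_mem hg₁ hg₂, ?_⟩
    have h1 : ((g₁ * g₂ : (End k M)ˣ) : End k M) * (aeval z (-p) * s) * ((g₁ * g₂)⁻¹ : (End k M)ˣ) =
        aeval z (-p) * ((g₁ * g₂ : (End k M)ˣ) * s * ((g₁ * g₂)⁻¹ : (End k M)ˣ)) := by
      rw [← mul_assoc, ← mul_assoc, ← mul_assoc, eg, (h.comm_el _ _ _ _ _).eq]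
    rw [h1, h.conj_el eg (by linear_combination (v * f + 1) * e), QP.aeval_mul_el, el,
      show -p * -(X * (v * f) * 1) = p * v * f * X by ring, hfz, show -p * (v * f) ^ 2 = -p * v * v * f * f by ring,
      hf', ← mul_assoc, show -p * (2 * (v * f) * 1) = -p * 2 * v * f by ring, (h.aeval_t (-p * 2 * v * f)).eq,
      mul_assoc t, hf', show -p * -(X * 1 ^ 2) = p * X by ring]
    simp
  have hq' : ∀ p : k[X], aeval z (p * X) * t ∈ QQ k G ∧ rk (aeval z (p * X) * t) ≤ rk s := fun p => by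
    obtain ⟨g, hg, e⟩ := hq p
    rw [← e, rk_conj]
    exact ⟨QQ.conj (hp _) hg, rk_mul_le_right _ _⟩
  have sts : ∀ p : k[X], s * (aeval z p * t) * s = aeval z (p * X) * s := fun p => by
    rw [← mul_assoc, ← (h.aeval_s p).eq, map_mul, aeval_X, mul_assoc _ z, h.zs]; simp only [mul_assoc]
  have ee : aeval z (u * X) * aeval z (u * X) = aeval z (u * X) := by
    rw [← map_mul, show u * X * (u * X) = u * X - u * v * f * X by linear_combination (u * X) * e, map_sub, hfz,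
      sub_zero]
  have o1 : s * (aeval z (u * u * X) * t) * s = s := by
    rw [sts, show u * u * X * X = u * X * (u * X) by ring, map_mul, ee, es]
  have n1 : aeval z (u * u * X) * t ≠ 0 := fun e => hs.2.1 (by rw [← o1, e]; simp)
  have n2 : aeval z (u * X) * t ≠ 0 := fun e => n1 (by rw [mul_assoc u, map_mul, mul_assoc, e, mul_zero])
  have e1 : t - aeval z (u * X) * t = (1 - aeval z (u * X)) * t := by rw [sub_mul, one_mul]
  have c1 : Commute (1 - aeval z (u * X)) t := (Commute.one_left _).sub_left (h.aeval_t _)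
  have c2 : Commute (1 - aeval z (u * X)) s := (Commute.one_left _).sub_left (h.aeval_s _)
  have z1 : (1 - aeval z (u * X)) * s = 0 := by rw [sub_mul, es, one_mul, sub_self]
  refine ⟨_, LL.of_le hs (hq' u).1 n2 (hq' u).2, Pre.of_commute (h.aeval_t _), ?_, ?_, ?_, ?_, _,
    LL.of_le hs (hq' _).1 n1 (hq' _).2, Pre.of_commute (h.aeval_t _), o1, ?_⟩
  · refine QQ.sub ht (hq' u).1 ?_ ?_
    · rw [(h.aeval_t _).eq, ← mul_assoc, h.tt, zero_mul]
    · rw [mul_assoc, h.tt, mul_zero]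
  · obtain ⟨w, hw⟩ : ∃ w, (aeval z (u * X) * t) w ≠ 0 := by
      by_contra hc
      push Not at hc
      exact n2 (LinearMap.ext hc)
    rw [e1]
    refine rk_mul_lt (v := (aeval z (u * X) * t) w) ?_ hw ?_
    · rw [(h.aeval_t _).eq]; exact ⟨_, rfl⟩
    · rw [← Module.End.mul_apply, ← mul_assoc, sub_mul, ee, one_mul, sub_self, zero_mul]; rfl
  · rw [e1, ← mul_assoc, ← c2.eq, z1, zero_mul]
  · rw [e1, c1.eq, mul_assoc, z1, mul_zero]
  · have : aeval z (u * u * X) * t * s * (aeval z (u * u * X) * t) =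
        aeval z (u * u * X) * aeval z (u * u * X) * (z * t) := by
      rw [h.symm.zs, mul_assoc _ t s, mul_assoc, ← mul_assoc (t * s),
        ← ((h.aeval_t _).mul_right (h.aeval_s _)).eq]
      simp only [mul_assoc]
    rw [this, ← mul_assoc]
    congr 1
    conv_lhs => enter [2]; rw [← aeval_X (R := k) z]
    rw [← map_mul, ← map_mul, show u * u * X * (u * u * X) * X = u * (u * X) * (u * X * (u * X)) by ring, map_mul,
      map_mul _ (u * X), ee, map_mul, mul_assoc, ee, ← map_mul, mul_assoc]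

theorem LL.exists_opp (h2 : (2 : k) ≠ 0) (h3 : 3 < ENat.card k) (hs : s ∈ LL G) (ht : t ∈ QQ k G)
    (h0 : s * t * s ≠ 0) : ∃ t' ∈ LL G, Pre t' t ∧ Opp s t' := by
  obtain ⟨_, -, -, -, -, -, -, h⟩ := LL.split h2 h3 hs ht h0
  exact h

/-- the relation `s t s = 0` depends only on the types -/
theorem LL.u_of_pre (h2 : (2 : k) ≠ 0) (h3 : 3 < ENat.card k) (hs : s ∈ LL G) (ht : t ∈ LL G)
    (h : s * t * s = 0) (hy : y ∈ QQ k G) (py : Pre y t) : s * y * s = 0 := by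
  by_contra h0
  obtain ⟨t', ht', p', o⟩ := LL.exists_opp h2 h3 hs hy h0
  have p1 := p'.trans py
  obtain ⟨b, hb⟩ := (LL.pre_symm ht ht'.1 ht'.2.1 p1).2
  have h1 : t * s = 0 := by
    rw [hb, ← o.2, mul_assoc, mul_assoc, mul_assoc, ← mul_assoc t' b, ← hb, ← mul_assoc s, h, mul_zero]
  exact hs.2.1 (by rw [← o.1, mul_assoc, p1.mul_zero h1, mul_zero])

theorem LL.u_pre (h2 : (2 : k) ≠ 0) (h3 : 3 < ENat.card k) (hs : s ∈ LL G) (ht : t ∈ LL G)
    (h : s * t * s = 0) (hx : x ∈ QQ k G) (px : Pre x s) (hy : y ∈ QQ k G) (py : Pre y t) :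
    s * y * s = 0 ∧ t * x * t = 0 :=
  ⟨LL.u_of_pre h2 h3 hs ht h hy py, LL.u_of_pre h2 h3 ht hs (LL.u_symm h2 hs.1 ht h) hx px⟩

theorem LL.unip (h2 : (2 : k) ≠ 0) (h3 : 3 < ENat.card k) (hs : s ∈ LL G) (ht : t ∈ LL G)
    (h : s * t * s = 0) : Unip k (EE k G s ⊔ EE k G t) :=
  unip_EE_sup hs.1.1 ht.1.1 fun _ hx px _ hy py => LL.u_pre h2 h3 hs ht h hx px hy py

theorem LL.exists_opp_of_noUnip (h2 : (2 : k) ≠ 0) (h3 : 3 < ENat.card k) (hG : NoUnip k G) (hs : s ∈ LL G) :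
    ∃ t ∈ LL G, Opp s t := by
  by_contra hc
  refine EE_ne_bot hs.1 hs.2.1 (hG.eq_bot_of_pairs EE_le fun g hg => ?_)
  rw [EE_conj hg]
  refine LL.unip h2 h3 hs (LL.conj hs hg) ?_
  by_contra h0
  obtain ⟨t, ht, -, o⟩ := LL.exists_opp h2 h3 hs (LL.conj hs hg).1 h0
  exact hc ⟨t, ht, o⟩

theorem Opp.match {A : Type*} [Ring A] [Algebra k A] {G : Subgroup Aˣ} {s t : A} (o : Opp s t)
    (hs : s ∈ QQ k G) (ht : t ∈ QQ k G) {a b : Aˣ} (ea : (a : A) = 1 + s) (eb : (b : A) = 1 + t) :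
    conjBy (EE k G s) b = conjBy (EE k G t) a := by
  rw [EE_conj (QQ.mem_of_eq hs ea), EE_conj (QQ.mem_of_eq ht eb), ← EE_neg, val_conj_of_eq ea hs.1,
    val_conj_of_eq eb ht.1, o.1, o.2]
  congr 1; abel

theorem LL.exists_match (h2 : (2 : k) ≠ 0) (h3 : 3 < ENat.card k) (hs : s ∈ LL G) (ht : t ∈ LL G)
    (h : s * t * s ≠ 0) {a : (End k M)ˣ} (ha : a ∈ EE k G s) (ha1 : a ≠ 1) :
    ∃ b ∈ EE k G t, b ≠ 1 ∧ conjBy (EE k G s) b = conjBy (EE k G t) a ∧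
      conjBy (EE k G s) b⁻¹ = conjBy (EE k G t) a⁻¹ := by
  obtain ⟨x, hx, px, px', e⟩ := LL.mem_EE hs ha ha1
  obtain ⟨y, hy, py, o⟩ := LL.exists_opp h2 h3 hx ht.1 fun h0 => h (px'.zero_mul (by
    rw [mul_assoc]; exact px'.mul_zero (by rw [← mul_assoc, h0])))
  refine ⟨_, uu_mem_EE hy.1 py, uu_ne_one _ hy.2.1, ?_, ?_⟩
  · rw [← LL.EE_eq hs hx.1 hx.2.1 px, ← LL.EE_eq ht hy.1 hy.2.1 py]
    exact o.match hx.1 hy.1 e rfl
  · rw [← LL.EE_eq hs hx.1 hx.2.1 px, ← LL.EE_eq ht hy.1 hy.2.1 py, ← EE_neg (s := x), ← EE_neg (s := y)]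
    exact o.neg.match (QQ.neg hx.1) (QQ.neg hy.1) (by rw [val_inv_of_sq e hx.1.1, sub_eq_add_neg])
      (by rw [val_inv_uu, sub_eq_add_neg])

theorem LL.special (h2 : (2 : k) ≠ 0) (h3 : 3 < ENat.card k) (hs : s ∈ LL G) (ht : t ∈ LL G)
    (h : s * t * s ≠ 0) : IsSpecialRankOnePair (EE k G s) (EE k G t) := by
  have h' : t * s * t ≠ 0 := fun e => h (LL.u_symm h2 ht.1 hs e)
  have hp : IsRankOnePair (EE k G s) (EE k G t) := by
    refine IsRankOnePair.of_match (fun e => h ?_) (isNilpotent_of_comm (EE_comm hs.1.1))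
      (isNilpotent_of_comm (EE_comm ht.1.1)) (fun a ha ha1 => ?_) fun b hb hb1 => ?_
    · rw [(pre_of_EE_le hs.1 ht.1.1 e.le).mul_zero ht.1.1, zero_mul]
    · obtain ⟨b, hb, hb1, e, -⟩ := LL.exists_match h2 h3 hs ht h ha ha1
      exact ⟨b, hb, hb1, e⟩
    · obtain ⟨a, ha, ha1, e, -⟩ := LL.exists_match h2 h3 ht hs h' hb hb1
      exact ⟨a, ha, ha1, e.symm⟩
  refine IsSpecialRankOnePair.of_match_inv hp fun a ha ha1 b hb hb1 e => ?_
  obtain ⟨b', hb', -, e1, e2⟩ := LL.exists_match h2 h3 hs ht h ha ha1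
  rwa [hp.eq_of_conjBy_left_eq hb hb' (e.trans e1.symm)]

/-! ### Dictionary -/

omit [FiniteDimensional k M] in
theorem mem_quadraticElements {σ : (End k M)ˣ} :
    σ ∈ quadraticElements G ↔ (σ : End k M) - 1 ∈ QQ k G ∧ (σ : End k M) - 1 ≠ 0 := by
  constructor
  · rintro ⟨-, ⟨h1, h0⟩, h⟩
    exact ⟨⟨h1, fun c => ⟨uu (c • ((σ : End k M) - 1)) (by simp [h1]), h ⟨c, rfl⟩, rfl⟩⟩, h0⟩
  · rintro ⟨h, h0⟩
    exact ⟨QQ.mem_of_eq h (by simp), ⟨h.1, h0⟩, fun τ ⟨c, e⟩ => QQ.mem_of_eq (QQ.smul h c) e⟩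

omit [FiniteDimensional k M] in
theorem mem_minimal {σ : (End k M)ˣ} : σ ∈ minimalQuadraticElements G ↔ (σ : End k M) - 1 ∈ LL G := by
  rw [minimalQuadraticElements, Set.mem_ofPred_eq, mem_quadraticElements, LL, Set.mem_ofPred_eq, and_assoc]
  refine and_congr_right fun _ => and_congr_right fun _ => ⟨fun h x hx h0 => ?_, fun h τ hτ => ?_⟩
  · have := h (uu x hx.1) (mem_quadraticElements.2 (by simpa [val_uu] using ⟨hx, h0⟩))
    have e : (uu x hx.1 : End k M) - 1 = x := by simp [val_uu]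
    rw [← e]; exact this
  · exact h _ (mem_quadraticElements.1 hτ).1 (mem_quadraticElements.1 hτ).2

theorem mem_sameActionClass {σ τ : (End k M)ˣ} (hσ : (σ : End k M) - 1 ∈ LL G) :
    τ ∈ sameActionClass G σ ↔ τ ∈ EE k G ((σ : End k M) - 1) ∧ τ ≠ 1 := by
  constructor
  · rintro ⟨h, h1, h2⟩
    rw [mem_minimal] at h
    exact ⟨mem_EE_of h.1 (pre_iff.2 ⟨h1.ge, h2.le⟩) (by simp), by rintro rfl; exact h.2.1 (by simp)⟩
  · rintro ⟨h, h1⟩
    obtain ⟨x, hx, p1, p2, e⟩ := LL.mem_EE hσ h h1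
    have : (τ : End k M) - 1 = x := by rw [e, add_sub_cancel_left]
    rw [pre_iff] at p1 p2
    exact ⟨mem_minimal.2 (this ▸ hx), this ▸ le_antisymm p2.1 p1.1, this ▸ le_antisymm p1.2 p2.2⟩

theorem sameActionSubgroup_eq {σ : (End k M)ˣ} (hσ : (σ : End k M) - 1 ∈ LL G) :
    sameActionSubgroup G σ = EE k G ((σ : End k M) - 1) := by
  refine le_antisymm ((Subgroup.closure_le _).2 fun τ hτ => ((mem_sameActionClass hσ).1 hτ).1) fun τ hτ => ?_
  by_cases h1 : τ = 1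
  · exact h1 ▸ one_mem _
  · exact Subgroup.subset_closure ((mem_sameActionClass hσ).2 ⟨hτ, h1⟩)

theorem mem_qrs {A : Subgroup (End k M)ˣ} : A ∈ quadraticRootSubgroups G ↔ ∃ s ∈ LL G, A = EE k G s := by
  constructor
  · rintro ⟨σ, hσ, rfl⟩
    exact ⟨_, mem_minimal.1 hσ, sameActionSubgroup_eq (mem_minimal.1 hσ)⟩
  · rintro ⟨s, hs, rfl⟩
    have : (uu s hs.1.1 : End k M) - 1 = s := by simp [val_uu]
    exact ⟨uu s hs.1.1, mem_minimal.2 (this.symm ▸ hs), by rw [sameActionSubgroup_eq (this.symm ▸ hs), this]⟩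

end Cfsg.Agent.Chev.Tim
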