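import Mathlib
import Cfsg.Agent.Chev.TimPair
import Cfsg.Agent.Chev.TimRoot

/-!
Quadratic pairs: two root subgroups generating a unipotent group.
-/

set_option autoImplicit false

open Cfsg Cfsg.Agent.GT Module

namespace Cfsg.Agent.Chev.Tim

variable {k : Type*} [Field k] {M : Type*} [AddCommGroup M] [Module k M]
  {G : Subgroup (End k M)ˣ} {s t x y w γ δ : End k M}

/-- the endomorphisms acting trivially on the flag attached to `γ` -/
def TT (γ : End k M) : Submodule k (End k M) where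
  carrier := {x | x * γ = 0 ∧ γ * x = 0 ∧ ∀ v, γ v = 0 → x v ∈ LinearMap.range γ}
  zero_mem' := ⟨zero_mul _, mul_zero _, fun _ _ => zero_mem _⟩
  add_mem' := fun hx hy => ⟨by rw [add_mul, hx.1, hy.1, add_zero], by rw [mul_add, hx.2.1, hy.2.1, add_zero],
    fun v hv => add_mem (hx.2.2 v hv) (hy.2.2 v hv)⟩
  smul_mem' := fun c x hx => ⟨by rw [smul_mul_assoc, hx.1, smul_zero], by rw [mul_smul_comm, hx.2.1, smul_zero],
    fun v hv => Submodule.smul_mem _ c (hx.2.2 v hv)⟩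

theorem TT_neg : TT (-γ) = TT γ := by
  ext x
  change (_ ∧ _ ∧ _) ↔ (_ ∧ _ ∧ _)
  simp

theorem TT_pre (hx : x ∈ TT γ) (hy : y ∈ TT γ) : Pre (x * y) γ := by
  rw [pre_iff]
  constructor
  · intro v hv
    obtain ⟨u, hu⟩ := hy.2.2 v hv
    rw [LinearMap.mem_ker, Module.End.mul_apply, ← hu]
    exact LinearMap.congr_fun hx.1 u
  · rintro _ ⟨v, rfl⟩
    exact hx.2.2 _ (LinearMap.congr_fun hy.2.1 v)

theorem TT_triple (hx : x ∈ TT γ) (hy : y ∈ TT γ) (hw : w ∈ TT γ) : x * y * w = 0 :=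
  (TT_pre hx hy).mul_zero hw.2.1

theorem Pre.mem_TT (h : Pre x γ) (hγ : γ * γ = 0) : x ∈ TT γ :=
  ⟨h.mul_zero hγ, h.zero_mul hγ, fun v hv => by rw [(pre_iff.1 h).1 hv]; exact zero_mem _⟩

theorem TT_mul (hγ : γ * γ = 0) : TT γ * TT γ ≤ TT γ :=
  Submodule.mul_le.2 fun _ hx _ hy => (TT_pre hx hy).mem_TT hγ

theorem sub_one_mem_TT (hγ : γ * γ = 0) {P Q : Subgroup (End k M)ˣ} (hP : ∀ g ∈ P, (g : End k M) - 1 ∈ TT γ)
    (hQ : ∀ g ∈ Q, (g : End k M) - 1 ∈ TT γ) : ∀ g ∈ P ⊔ Q, (g : End k M) - 1 ∈ TT γ := by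
  have hJ := TT_mul hγ
  generalize TT γ = J at *
  exact aug_le.1 ((le_unitsOf hJ).1 (sup_le ((le_unitsOf hJ).2 (aug_le.2 hP)) ((le_unitsOf hJ).2 (aug_le.2 hQ))))

theorem TT_decomp (hx : x ∈ TT γ) (h : γ * δ * γ = γ) : x = γ * δ * x + x * δ * γ - γ * δ * x * δ * γ := by
  have : (1 - γ * δ) * x * (1 - δ * γ) = 0 := by
    ext v
    obtain ⟨u, hu⟩ := hx.2.2 ((1 - δ * γ) v) (by
      rw [← Module.End.mul_apply, mul_sub, ← mul_assoc, h, mul_one, sub_self]; rfl)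
    rw [Module.End.mul_apply, Module.End.mul_apply, ← hu, ← Module.End.mul_apply, sub_mul, h, one_mul, sub_self]
    rfl
  rw [← sub_eq_zero, ← this]; noncomm_ring

theorem fixedSubmodule_EE (hγ : γ ∈ QQ k G) : fixedSubmodule (EE k G γ) = LinearMap.ker γ := by
  refine le_antisymm (iInf₂_le_of_le _ (uu_mem_EE hγ (Pre.refl γ)) (by rw [val_uu, add_sub_cancel_left]))
    (le_iInf₂ fun g hg => ?_)
  obtain ⟨x, -, px, e⟩ := (mem_EE hγ.1).1 hg
  rw [e, add_sub_cancel_left]; exact (pre_iff.1 px).1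

theorem commutatorSubmodule_EE (hγ : γ ∈ QQ k G) : commutatorSubmodule (EE k G γ) = LinearMap.range γ := by
  refine le_antisymm (iSup₂_le fun g hg => ?_)
    (le_iSup₂_of_le _ (uu_mem_EE hγ (Pre.refl γ)) (by rw [val_uu, add_sub_cancel_left]))
  obtain ⟨x, -, px, e⟩ := (mem_EE hγ.1).1 hg
  rw [e, add_sub_cancel_left]; exact (pre_iff.1 px).2

theorem comm_EE_of_TT (hγ : γ * γ = 0) {g : (End k M)ˣ} (hg : (g : End k M) - 1 ∈ TT γ) :
    ∀ a ∈ EE k G γ, g * a = a * g := by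
  intro a ha
  obtain ⟨x, -, px, e⟩ := (mem_EE hγ).1 ha
  apply Units.ext
  have h1 := px.mul_zero hg.2.1
  have h2 := px.zero_mul hg.1
  rw [mul_sub, mul_one, sub_eq_zero] at h1
  rw [sub_mul, one_mul, sub_eq_zero] at h2
  rw [Units.val_mul, Units.val_mul, e, mul_add, add_mul, h1, h2, mul_one, one_mul]

theorem mem_core_of_TT (hγ : γ ∈ QQ k G) {g : (End k M)ˣ} (hG : g ∈ G) (hg : (g : End k M) - 1 ∈ TT γ) :
    g ∈ quadraticUnipotentCore G (EE k G γ) := by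
  refine ⟨hG, conjBy_eq_self_iff.1 (conjBy_of_commute (comm_EE_of_TT hγ.1 hg)), ?_⟩
  rw [fixedSubmodule_EE hγ, commutatorSubmodule_EE hγ]
  refine ⟨fun m => LinearMap.congr_fun hg.2.1 m, fun m hm => hg.2.2 m hm, ?_⟩
  rintro _ ⟨m, rfl⟩
  exact sub_eq_zero.1 (LinearMap.congr_fun hg.1 m)

theorem Opp.exists_inv {A : Type*} [Ring A] [Algebra k A] {G : Subgroup Aˣ} {s t : A} (o : Opp s t)
    (hs : s ∈ QQ k G) (ht : t ∈ QQ k G) : ∃ i ∈ G, (i : A) = 1 - (s * t + t * s) - (s * t + t * s) ∧ i⁻¹ = i := by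
  set e := s * t + t * s with he
  have es : e * s = s := by rw [he, add_mul, o.1, mul_assoc, hs.1]; simp
  have se : s * e = s := by rw [he, mul_add, ← mul_assoc, ← mul_assoc, o.1, hs.1]; simp
  have et : e * t = t := by rw [he, add_mul, o.2, mul_assoc, ht.1]; simp
  have te : t * e = t := by rw [he, mul_add, ← mul_assoc, ← mul_assoc, o.2, ht.1]; simp
  have ee : e * e = e := by
    conv_lhs => enter [2]; rw [he]
    rw [mul_add, ← mul_assoc, ← mul_assoc, es, et]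
  have hn : ((uu s hs.1 * (uu t ht.1)⁻¹ * uu s hs.1 : Aˣ) : A) = 1 - e + s - t := by
    rw [Units.val_mul, Units.val_mul, val_uu, val_inv_uu, he]
    have := o.1
    noncomm_ring [hs.1, this]
  have hnG : uu s hs.1 * (uu t ht.1)⁻¹ * uu s hs.1 ∈ G :=
    mul_mem (mul_mem (QQ.uu_mem hs) (inv_mem (QQ.uu_mem ht))) (QQ.uu_mem hs)
  set n := uu s hs.1 * (uu t ht.1)⁻¹ * uu s hs.1
  have hi : ((n * n : Aˣ) : A) = 1 - e - e := by
    rw [Units.val_mul, hn]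
    have : (s - t) * (s - t) = -e := by rw [he]; noncomm_ring [hs.1, ht.1]
    calc _ = (1 - e) * (1 - e) + (1 - e) * (s - t) + (s - t) * (1 - e) + (s - t) * (s - t) := by noncomm_ring
      _ = _ := by rw [this]; noncomm_ring [ee, es, se, et, te]
  refine ⟨n * n, mul_mem hnG hnG, hi, Units.ext (by rw [val_inv_eq (y := 1 - e - e), hi]; rw [hi]; noncomm_ring [ee])⟩

variable [FiniteDimensional k M]

theorem purify (h2 : (2 : k) ≠ 0) (hγ : γ ∈ QQ k G) (hδ : δ ∈ QQ k G) (o : Opp γ δ) (hx : x ∈ QQ k G)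
    (tx : x ∈ TT γ) : ∃ C ∈ QQ k G, Pre C γ ∧ x - C ∈ QQ k G ∧ rk (x - C) ≤ rk x ∧ δ * (x - C) * δ = 0 := by
  obtain ⟨i, hi, ei, ei'⟩ := o.exists_inv hγ hδ
  have d := TT_decomp tx o.1
  set C := γ * δ * x * δ * γ with hC
  have pC : Pre C γ := by rw [hC, mul_assoc γ, mul_assoc γ]; exact Pre.sandwich _ _
  set e := γ * δ + δ * γ with he
  have ex : e * x = γ * δ * x := by rw [he, add_mul, mul_assoc δ, tx.2.1]; simp
  have xe : x * e = x * δ * γ := by rw [he, mul_add, ← mul_assoc, tx.1]; simp [mul_assoc]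
  have exe : e * x * e = C := by rw [mul_assoc, xe, ← mul_assoc, ← mul_assoc, ex]
  have d' : e * x + x * e = x + C := by rw [ex, xe, ← sub_eq_iff_eq_add, ← d]
  have h1 : (i : End k M) * x * (i⁻¹ : (End k M)ˣ) = C + C - x := by
    rw [ei', ei]
    calc _ = x - (e * x + x * e) - (e * x + x * e) + (e * x * e + e * x * e + e * x * e + e * x * e) := by
          noncomm_ring
      _ = _ := by rw [d', exe]; abel
  have xC : x * C = 0 := pC.zero_mul tx.1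
  have Cx : C * x = 0 := pC.mul_zero tx.2.1
  have hC2 : C + C ∈ QQ k G := by
    have := QQ.add (h1 ▸ QQ.conj hx hi) hx (by rw [sub_mul, add_mul, Cx, hx.1]; simp)
      (by rw [mul_sub, mul_add, xC, hx.1]; simp)
    rwa [sub_add_cancel] at this
  have hC1 : C ∈ QQ k G := by
    have := QQ.smul hC2 2⁻¹
    rwa [← two_smul k, smul_smul, inv_mul_cancel₀ h2, one_smul] at this
  refine ⟨C, hC1, pC, QQ.sub hx hC1 xC Cx, ?_, ?_⟩
  · have h3 : x - C = (1 - e) * x + x * (1 - e) := by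
      calc _ = x + x - (x + C) := by abel
        _ = _ := by rw [← d']; noncomm_ring
    rw [h3]
    refine (rk_add_le _ _).trans (rk_add_rk_le ?_)
    calc _ = x + e * x * e - (e * x + x * e) := by noncomm_ring
      _ = 0 := by rw [exe, d', sub_self]
  · calc _ = δ * x * δ - δ * γ * δ * x * (δ * γ * δ) := by rw [hC]; noncomm_ring
      _ = 0 := by rw [o.2, sub_self]

variable (G) in
/-- a non-commuting unipotent pair -/
def UP (s t : End k M) : Prop := s ∈ LL G ∧ t ∈ LL G ∧ s * t * s = 0 ∧ t * s * t = 0 ∧ s * t - t * s ≠ 0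

namespace UP

omit [FiniteDimensional k M] in
theorem symm (h : UP G s t) : UP G t s :=
  ⟨h.2.1, h.1, h.2.2.2.1, h.2.2.1, fun e => h.2.2.2.2 (by rw [← neg_sub, e, neg_zero])⟩

theorem mem (h : UP G s t) : s * t - t * s ∈ LL G := (LL.u_indep h.1 h.2.1 h.2.2.1 h.2.2.2.1 h.2.2.2.2).2.1

theorem range_mul (h : UP G s t) : LinearMap.range (s * t) = LinearMap.range s ⊓ LinearMap.ker t := by
  have h1 := (LL.u_indep h.1 h.2.1 h.2.2.1 h.2.2.2.1 h.2.2.2.2).1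
  have h2 := rk_mul_add t s
  refine Submodule.eq_of_le_of_finrank_le (le_inf (range_mul_le _ _) ?_) (by change _ ≤ rk _; omega)
  rw [LinearMap.range_le_ker_iff]
  exact (mul_assoc t s t).symm.trans h.2.2.2.1

theorem ker_mul (h : UP G s t) : LinearMap.ker (t * s) = LinearMap.ker s ⊔ LinearMap.range t := by
  have h1 := (LL.u_indep h.1 h.2.1 h.2.2.1 h.2.2.2.1 h.2.2.2.2).1
  have h2 := rk_mul_add s t
  have h3 := rk_add_ker (t * s)
  have h4 := rk_add_ker s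
  have h5 := Submodule.finrank_sup_add_finrank_inf_eq (LinearMap.ker s) (LinearMap.range t)
  have h6 := LL.rk_eq h.1 h.2.1
  rw [inf_comm] at h5
  change _ = _ + rk t at h5
  refine (Submodule.eq_of_le_of_finrank_le (sup_le (ker_le_mul _ _) ?_) (by omega)).symm
  rw [LinearMap.range_le_ker_iff]
  exact h.2.2.2.1

theorem range_le (h : UP G s t) : LinearMap.range (s * t) ≤ LinearMap.range (s * t - t * s) := by
  obtain ⟨h1, h2, h3⟩ := LL.u_indep h.1 h.2.1 h.2.2.1 h.2.2.2.1 h.2.2.2.2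
  have h4 := Submodule.finrank_sup_add_finrank_inf_eq (LinearMap.range (s * t)) (LinearMap.range (t * s))
  have h5 := LL.rk_eq h.1 h2
  change _ = rk _ + rk _ at h4
  refine le_sup_left.trans (Submodule.eq_of_le_of_finrank_le (S₂ := _ ⊔ LinearMap.range (t * s)) ?_
    (by change _ ≤ rk _; omega)).ge
  rintro _ ⟨v, rfl⟩
  exact sub_mem (Submodule.mem_sup_left ⟨v, rfl⟩) (Submodule.mem_sup_right ⟨v, rfl⟩)

theorem ker_le (h : UP G s t) : LinearMap.ker (s * t - t * s) ≤ LinearMap.ker (t * s) := by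
  intro v hv
  rw [LinearMap.mem_ker, LinearMap.sub_apply, sub_eq_zero] at hv
  have h3 := (LL.u_indep h.1 h.2.1 h.2.2.1 h.2.2.2.1 h.2.2.2.2).2.2
  exact (Submodule.eq_bot_iff _).1 h3 _ ⟨⟨v, hv⟩, ⟨v, rfl⟩⟩

theorem range_inf (h : UP G s t) : LinearMap.range s ⊓ LinearMap.range t = ⊥ := by
  rw [eq_bot_iff, ← (LL.u_indep h.1 h.2.1 h.2.2.1 h.2.2.2.1 h.2.2.2.2).2.2, h.range_mul, h.symm.range_mul]
  exact le_inf (inf_le_inf_left _ (LinearMap.range_le_ker_iff.2 h.2.1.1.1))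
    (le_inf inf_le_right (inf_le_left.trans (LinearMap.range_le_ker_iff.2 h.1.1.1)))

variable (h2 : (2 : k) ≠ 0) (h3 : 3 < ENat.card k)
include h2 h3

theorem mem_TT (h : UP G s t) (hx : x ∈ QQ k G) (px : Pre x s) : x ∈ TT (s * t - t * s) := by
  refine ⟨px.mul_zero ?_, px.zero_mul ?_, fun v hv => ?_⟩
  · rw [mul_sub, ← mul_assoc, ← mul_assoc, h.1.1.1, h.2.2.1]; simp
  · rw [sub_mul, mul_assoc t, h.1.1.1, h.2.2.1]; simp
  · have := h.ker_le hv
    rw [h.ker_mul, Submodule.mem_sup] at this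
    obtain ⟨n, hn, _, ⟨u, rfl⟩, rfl⟩ := this
    rw [map_add, (pre_iff.1 px).1 hn, zero_add]
    refine h.range_le ?_
    rw [h.range_mul]
    exact ⟨(pre_iff.1 px).2 ⟨_, rfl⟩,
      LinearMap.congr_fun (LL.u_of_pre h2 h3 h.2.1 h.1 h.2.2.2.1 hx px) u⟩

theorem mem_TT' (h : UP G s t) (hy : y ∈ QQ k G) (py : Pre y t) : y ∈ TT (s * t - t * s) := by
  rw [← TT_neg, neg_sub]; exact h.symm.mem_TT h2 h3 hy py

theorem comm_mem (h : UP G s t) (hx : x ∈ QQ k G) (px : Pre x s) (hy : y ∈ QQ k G) (py : Pre y t) :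
    x * y * x = 0 ∧ y * x * y = 0 ∧ x * y - y * x ∈ QQ k G ∧ Pre (x * y - y * x) (s * t - t * s) := by
  have tx := h.mem_TT h2 h3 hx px
  have ty := h.mem_TT' h2 h3 hy py
  exact ⟨TT_triple tx ty tx, TT_triple ty tx ty, QQ.comm hx hy (TT_triple tx ty tx) (TT_triple ty tx ty),
    (TT_pre tx ty).sub (TT_pre ty tx)⟩

theorem of_pre (h : UP G s t) (hx : x ∈ LL G) (px : Pre x s) (hy : y ∈ LL G) (py : Pre y t) : UP G x y := by
  obtain ⟨a1, a2, -⟩ := h.comm_mem h2 h3 hx.1 px hy.1 py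
  refine ⟨hx, hy, a1, a2, fun e => h.2.2.2.2 ?_⟩
  rw [sub_eq_zero] at e
  have e1 : x * y = 0 := by
    rw [← LinearMap.range_eq_bot, eq_bot_iff, ← h.range_inf]
    exact le_inf ((range_mul_le _ _).trans (pre_iff.1 px).2) (e ▸ (range_mul_le _ _).trans (pre_iff.1 py).2)
  have px' := LL.pre_symm h.1 hx.1 hx.2.1 px
  have py' := LL.pre_symm h.2.1 hy.1 hy.2.1 py
  rw [py'.zero_mul (px'.mul_zero e1), px'.zero_mul (py'.mul_zero (e ▸ e1)), sub_self]

theorem surj_pure (h : UP G s t) (hγ : s * t - t * s = γ) (hδ : δ ∈ LL G) (o : Opp γ δ) (ps : δ * s * δ = 0)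
    (pt : δ * t * δ = 0) (hw : w ∈ QQ k G) (pw : Pre w γ) : ∃ y ∈ QQ k G, Pre y t ∧ s * y - y * s = w := by
  by_cases hw0 : w = 0
  · exact ⟨0, QQ.zero, Pre.zero _, by simp [hw0]⟩
  have hγL : γ ∈ LL G := hγ ▸ h.mem
  have ts : s ∈ TT γ := hγ ▸ h.mem_TT h2 h3 h.1.1 (Pre.refl s)
  have tt : t ∈ TT γ := hγ ▸ h.mem_TT' h2 h3 h.2.1.1 (Pre.refl t)
  have pw' := LL.pre_symm hγL hw hw0 pw
  obtain ⟨μ, hμ, pμ, o'⟩ := LL.exists_opp h2 h3 (LL.of_pre hγL hw hw0 pw) hδ.1 fun e => hγL.2.1 (by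
    rw [← o.1]; exact pw'.zero_mul (by rw [mul_assoc]; exact pw'.mul_zero (by rw [← mul_assoc, e])))
  have sμ : s * μ * s = 0 := LL.u_of_pre h2 h3 h.1 hδ (LL.u_symm h2 hδ.1 h.1 ps) hμ.1 pμ
  have tδ : t * δ * t = 0 := LL.u_symm h2 hδ.1 h.2.1 pt
  have tμ : t * μ * t = 0 := LL.u_of_pre h2 h3 h.2.1 hδ tδ hμ.1 pμ
  have e1 : γ * (δ * t - t * δ) - (δ * t - t * δ) * γ = t := by
    calc _ = γ * δ * t + t * δ * γ - γ * (δ * t * δ) * γ - γ * t * δ - δ * (t * γ) := by rw [pt]; noncomm_ring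
      _ = _ := by rw [tt.1, tt.2.1]; conv_rhs => rw [TT_decomp tt o.1]
                  noncomm_ring
  have u1 : UP G δ t := ⟨hδ, h.2.1, pt, tδ, fun e => h.2.1.2.1 (by rw [← e1, e]; simp)⟩
  have e2 : γ * (δ * t - t * δ) * γ = 0 := by
    calc _ = γ * δ * (t * γ) - γ * t * δ * γ := by noncomm_ring
      _ = 0 := by rw [tt.1, tt.2.1]; simp
  have u2 : UP G γ (δ * t - t * δ) := ⟨hγL, u1.mem, e2, LL.u_symm h2 hγL.1 u1.mem e2, e1.symm ▸ h.2.1.2.1⟩
  obtain ⟨-, -, a1, a2⟩ := u2.comm_mem h2 h3 hw pw u1.mem.1 (Pre.refl _)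
  rw [e1] at a2
  refine ⟨_, a1, a2, ?_⟩
  have P : Pre (s * t) w := (TT_pre ts tt).trans pw'
  have b1 : δ * γ * μ = μ := pμ.eq_mul o.2
  have b2 : μ * (γ * δ) = μ := pμ.mul_eq (by rw [← mul_assoc, o.2])
  have b3 : μ * (s * t) * δ = δ * (s * t) * μ := by
    calc _ = δ * γ * μ * (s * t) * δ := by rw [b1]
      _ = δ * (s * t) * μ * (s * t) * δ - δ * t * (s * μ * s) * t * δ := by rw [← hγ]; noncomm_ring
      _ = δ * (s * t) * μ * (s * t) * δ - δ * s * (t * μ * t) * s * δ := by rw [sμ, tμ]; simp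
      _ = δ * (s * t) * (μ * (γ * δ)) := by rw [← hγ]; noncomm_ring
      _ = _ := by rw [b2]
  have b4 : s * t * δ * w = w * δ * (s * t) := by
    calc _ = w * μ * (s * t) * δ * w := by rw [P.eq_mul o'.1]
      _ = w * (μ * (s * t) * δ) * w := by noncomm_ring
      _ = w * δ * (s * t * (μ * w)) := by rw [b3]; noncomm_ring
      _ = _ := by rw [P.mul_eq (by rw [← mul_assoc, o'.1])]
  calc _ = s * w * (δ * t - t * δ) + (δ * t - t * δ) * (w * s) - s * δ * (t * w) + w * t * δ * s +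
        (s * t * δ * w - w * δ * (s * t)) + w * (δ * (s * t - t * s)) := by noncomm_ring
    _ = w := by
      rw [pw.zero_mul ts.1, pw.mul_zero ts.2.1, pw.zero_mul tt.1, pw.mul_zero tt.2.1, b4, hγ,
        pw.mul_eq (y := δ * γ) (by rw [← mul_assoc, o.1])]
      simp

theorem surj (hG : NoUnip k G) (h : UP G s t) (hw : w ∈ QQ k G) (pw : Pre w (s * t - t * s)) :
    ∃ y ∈ QQ k G, Pre y t ∧ s * y - y * s = w := by
  obtain ⟨δ, hδ, o⟩ := LL.exists_opp_of_noUnip h2 h3 hG h.mem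
  have hγL := h.mem
  have ts := h.mem_TT h2 h3 h.1.1 (Pre.refl s)
  have tt := h.mem_TT' h2 h3 h.2.1.1 (Pre.refl t)
  set γ := s * t - t * s with hγ
  obtain ⟨C, hC, pC, a1, a2, a3⟩ := purify h2 hγL.1 hδ.1 o h.1.1 ts
  obtain ⟨D, hD, pD, b1, b2, b3⟩ := purify h2 hγL.1 hδ.1 o h.2.1.1 tt
  have ts' : s - C ∈ TT γ := sub_mem ts (pC.mem_TT hγL.1.1)
  have tt' : t - D ∈ TT γ := sub_mem tt (pD.mem_TT hγL.1.1)
  have e1 : (s - C) * (t - D) - (t - D) * (s - C) = γ := by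
    rw [sub_mul s, sub_mul t, pC.mul_zero tt'.2.1, pD.mul_zero ts'.2.1, mul_sub s, mul_sub t, pC.zero_mul tt.1,
      pD.zero_mul ts.1]
    simp [hγ]
  have n1 : s - C ≠ 0 := fun e => hγL.2.1 (by rw [← e1, e]; simp)
  have n2 : t - D ≠ 0 := fun e => hγL.2.1 (by rw [← e1, e]; simp)
  have u : UP G (s - C) (t - D) := ⟨LL.of_le h.1 a1 n1 a2, LL.of_le h.2.1 b1 n2 b2, TT_triple ts' tt' ts',
    TT_triple tt' ts' tt', e1.symm ▸ hγL.2.1⟩
  obtain ⟨x, hx, px, ex⟩ := u.symm.surj_pure h2 h3 (γ := -γ) (δ := -δ) (w := -D) (by rw [← e1, neg_sub])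
    (LL.neg hδ) o.neg (by simpa using b3) (by simpa using a3) (QQ.neg hD) pD.neg.neg_right
  obtain ⟨y, hy, py, ey⟩ := u.surj_pure h2 h3 e1 hδ o a3 b3 hw pw
  have tx : x ∈ TT γ := e1 ▸ u.mem_TT h2 h3 hx px
  have ty : y ∈ TT γ := e1 ▸ u.mem_TT' h2 h3 hy py
  refine ⟨_, QQ.conj hy (QQ.uu_mem hx), ?_, ?_⟩
  · have := py.conj (uu x hx.1)
    rwa [val_conj_of_eq (val_uu hx.1) hx.1 (t - D), TT_triple tx tt' tx, ← neg_sub ((t - D) * x), ex, neg_neg,
      sub_add_cancel, sub_zero] at this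
  · have p := (TT_pre tx ty).sub (TT_pre ty tx)
    rw [val_conj_of_eq (val_uu hx.1) hx.1, TT_triple tx ty tx, sub_zero, mul_add, add_mul, p.zero_mul ts.1,
      p.mul_zero ts.2.1, ← ey, sub_mul, mul_sub, pC.mul_zero ty.2.1, pC.zero_mul ty.1]
    simp

theorem le_TT (h : UP G s t) : ∀ g ∈ EE k G s ⊔ EE k G t, (g : End k M) - 1 ∈ TT (s * t - t * s) := by
  have hγ : (s * t - t * s) * (s * t - t * s) = 0 := h.mem.1.1
  refine sub_one_mem_TT hγ (fun g hg => ?_) fun g hg => ?_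
  · obtain ⟨x, hx, px, e⟩ := (mem_EE h.1.1.1).1 hg
    rw [e, add_sub_cancel_left]; exact h.mem_TT h2 h3 hx px
  · obtain ⟨x, hx, px, e⟩ := (mem_EE h.2.1.1.1).1 hg
    rw [e, add_sub_cancel_left]; exact h.mem_TT' h2 h3 hx px

theorem commutator_le (h : UP G s t) : ⁅EE k G s, EE k G t⁆ ≤ EE k G (s * t - t * s) := by
  refine commutator_le_of fun a ha b hb => ?_
  obtain ⟨x, hx, px, e⟩ := (mem_EE h.1.1.1).1 ha
  obtain ⟨y, hy, py, e'⟩ := (mem_EE h.2.1.1.1).1 hb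
  obtain ⟨a1, a2, a3, a4⟩ := h.comm_mem h2 h3 hx px hy py
  exact mem_EE_of a3 a4 (val_comm_of_eq e e' hx.1 hy.1 a1 a2)

theorem exists_comm (hG : NoUnip k G) (h : UP G s t) {a c : (End k M)ˣ} (ha : a ∈ EE k G s) (ha1 : a ≠ 1)
    (hc : c ∈ EE k G (s * t - t * s)) : ∃ b ∈ EE k G t, a * b * a⁻¹ * b⁻¹ = c := by
  obtain ⟨x, hx, px, -, e⟩ := LL.mem_EE h.1 ha ha1
  have u := h.of_pre h2 h3 hx px h.2.1 (Pre.refl t)
  rw [← LL.EE_eq h.mem u.mem.1 u.mem.2.1 (h.comm_mem h2 h3 hx.1 px h.2.1.1 (Pre.refl t)).2.2.2] at hc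
  obtain ⟨w, hw, pw, ew⟩ := (mem_EE u.mem.1.1).1 hc
  obtain ⟨y, hy, py, ey⟩ := u.surj h2 h3 hG hw pw
  obtain ⟨a1, a2, -⟩ := h.comm_mem h2 h3 hx.1 px hy py
  exact ⟨_, uu_mem_EE hy py, Units.ext (by rw [val_comm_of_eq e (val_uu hy.1) hx.1.1 hy.1 a1 a2, ey, ew])⟩

theorem commutator_eq (hG : NoUnip k G) (h : UP G s t) : ⁅EE k G s, EE k G t⁆ = EE k G (s * t - t * s) := by
  refine le_antisymm (h.commutator_le h2 h3) fun c hc => ?_
  have ha := uu_mem_EE h.1.1 (Pre.refl s)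
  obtain ⟨b, hb, rfl⟩ := h.exists_comm h2 h3 hG ha (uu_ne_one _ h.1.2.1) hc
  exact Tim.comm_mem ha hb

theorem cc (hG : NoUnip k G) (h : UP G s t) :
    RootCommutatorCase (quadraticRootSubgroups G) (EE k G s) (EE k G t) := by
  have hc : Comm (EE k G s ⊔ EE k G t) (EE k G (s * t - t * s)) := fun g hg =>
    comm_EE_of_TT h.mem.1.1 (h.le_TT h2 h3 g hg)
  have e := h.commutator_eq h2 h3 hG
  refine RootCommutatorCase.of_exists (e ▸ mem_qrs.2 ⟨_, h.mem, rfl⟩) (e ▸ hc.symm.mono le_rfl le_sup_left)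
    (e ▸ hc.symm.mono le_rfl le_sup_right) (fun a ha ha1 c hc => h.exists_comm h2 h3 hG ha ha1 (e ▸ hc))
    fun b hb hb1 c hc => ?_
  obtain ⟨a, ha, e'⟩ := h.symm.exists_comm h2 h3 hG hb hb1 (c := c⁻¹)
    (by rw [← neg_sub, EE_neg, ← e]; exact inv_mem hc)
  exact ⟨a, ha, by rw [← inv_inv c, ← e']; group⟩

theorem subset_core (hG : NoUnip k G) (h : UP G s t) :
    ((EE k G s ⊔ EE k G t : Subgroup (End k M)ˣ) : Set (End k M)ˣ) ⊆
      quadraticUnipotentCore G ⁅EE k G s, EE k G t⁆ := by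
  rw [h.commutator_eq h2 h3 hG]
  exact fun g hg => mem_core_of_TT h.mem.1 (sup_le EE_le EE_le hg) (h.le_TT h2 h3 g hg)

end UP

variable (h2 : (2 : k) ≠ 0) (h3 : 3 < ENat.card k)
include h2 h3

theorem LL.comm_EE (hs : s ∈ LL G) (ht : t ∈ LL G) (h : s * t = t * s) : Comm (EE k G s) (EE k G t) := by
  have h0 : s * t * s = 0 := by rw [h, mul_assoc, hs.1.1, mul_zero]
  refine Tim.comm_EE (fun x hx px y hy py => ?_) hs.1.1 ht.1.1
  by_contra hc
  have hx0 : x ≠ 0 := by rintro rfl; simp at hc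
  have hy0 : y ≠ 0 := by rintro rfl; simp at hc
  obtain ⟨a1, a2⟩ := LL.u_pre h2 h3 hs ht h0 hx px hy py
  have u : UP G x y := ⟨LL.of_pre hs hx hx0 px, LL.of_pre ht hy hy0 py,
    px.zero_mul (by rw [mul_assoc]; exact px.mul_zero (by rw [← mul_assoc, a1])),
    py.zero_mul (by rw [mul_assoc]; exact py.mul_zero (by rw [← mul_assoc, a2])), sub_ne_zero.2 hc⟩
  exact (u.of_pre h2 h3 hs (LL.pre_symm hs hx hx0 px) ht (LL.pre_symm ht hy hy0 py)).2.2.2.2 (sub_eq_zero.2 h)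

omit h3 in
theorem LL.cases (hs : s ∈ LL G) (ht : t ∈ LL G) : s * t = t * s ∨ s * t * s ≠ 0 ∨ UP G s t := by
  by_cases h : s * t = t * s
  · exact Or.inl h
  by_cases h0 : s * t * s = 0
  · exact Or.inr (Or.inr ⟨hs, ht, h0, LL.u_symm h2 hs.1 ht h0, sub_ne_zero.2 h⟩)
  · exact Or.inr (Or.inl h0)

theorem LL.not_unip (hs : s ∈ LL G) (ht : t ∈ LL G) (h : s * t * s ≠ 0) : ¬ Unip k (EE k G s ⊔ EE k G t) := by
  rintro ⟨n, hn⟩
  obtain ⟨y, hy, py, o⟩ := LL.exists_opp h2 h3 hs ht.1 h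
  have m1 := mem_aug (k := k) (Subgroup.mem_sup_left (T := EE k G t) (uu_mem_EE hs.1 (Pre.refl s)))
  have m2 := mem_aug (k := k) (Subgroup.mem_sup_right (S := EE k G s) (uu_mem_EE hy.1 py))
  rw [val_uu, add_sub_cancel_left] at m1 m2
  have m3 := Submodule.pow_mem_pow _ (aug_mul_le _ (Submodule.mul_mem_mul m1 m2)) n
  rw [hn, Submodule.mem_bot] at m3
  have e : IsIdempotentElem (s * y) := by rw [IsIdempotentElem, ← mul_assoc, o.1]
  have := e.pow_succ_eq n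
  rw [pow_succ, m3, zero_mul] at this
  exact hs.2.1 (by rw [← o.1, ← this, zero_mul])

end Cfsg.Agent.Chev.Tim
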