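import Mathlib
import Cfsg.Agent.Chev.TimComm
import Cfsg.Agent.Chev.TimClass
import Cfsg.Agent.GT.Quasisimple

/-!
Quadratic pairs: the set of root subgroups, its components, and the decomposition of the group.
-/

set_option autoImplicit false

open Cfsg Cfsg.Agent.GT Module

namespace Cfsg.Agent.Chev.Tim

section Transport

variable {Γ : Type*} [Group Γ]

theorem rankOne_of_map {H : Type*} [Group H] (f : H →* Γ) (hf : Function.Injective f) {A B : Subgroup H}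
    (h : IsRankOnePair (A.map f) (B.map f)) : IsRankOnePair A B := by
  have nil : ∀ A : Subgroup H, Group.IsNilpotent (A.map f) → Group.IsNilpotent A := fun A hA =>
    Group.nilpotent_of_mulEquiv (A.equivMapOfInjective f hf).symm
  have key : ∀ {A B : Subgroup H}, IsRankOnePair (A.map f) (B.map f) → ∀ a ∈ A, a ≠ 1 →
      ∃ b ∈ B, b ≠ 1 ∧ conjBy A b = conjBy B a := by
    intro A B h a ha ha1
    obtain ⟨_, ⟨b, hb, rfl⟩, hb1, e⟩ := h.exists_match ⟨a, ha, rfl⟩ fun e => ha1 (hf (e.trans (map_one f).symm))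
    rw [← conjBy_map, ← conjBy_map] at e
    exact ⟨b, hb, by rintro rfl; exact hb1 (map_one f), Subgroup.map_injective hf e⟩
  refine IsRankOnePair.of_match (fun e => h.ne (by rw [e])) (nil A h.nilpotent_left) (nil B h.nilpotent_right)
    (key h) fun b hb hb1 => ?_
  obtain ⟨a, ha, ha1, e⟩ := key h.symm b hb hb1
  exact ⟨a, ha, ha1, e.symm⟩

theorem conjBy_subgroupOf {H : Subgroup Γ} (A : Subgroup Γ) (g : H) :
    conjBy (A.subgroupOf H) g = (conjBy A g).subgroupOf H := by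
  ext x
  rw [mem_conjBy, Subgroup.mem_subgroupOf, Subgroup.mem_subgroupOf, mem_conjBy]
  rfl

theorem rootSet_subgroupOf {S : Set (Subgroup Γ)} {H : Subgroup Γ} (hH : H = ⨆ B ∈ S, B)
    (h1 : ∀ A ∈ S, Comm A A) (h2 : ∀ A ∈ S, A ≠ ⊥) (h3 : ∀ A ∈ S, ∀ g ∈ H, conjBy A g ∈ S)
    (h4 : ∀ A ∈ S, ∀ B ∈ S, Comm A B ∨ IsRankOnePair A B ∨ RootCommutatorCase S A B) :
    IsRootSubgroupSet ((fun A : Subgroup Γ => A.subgroupOf H) '' S) := by
  have le : ∀ A ∈ S, A ≤ H := fun A hA => hH ▸ le_iSup₂_of_le A hA le_rfl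
  have m : ∀ A ∈ S, (A.subgroupOf H).map H.subtype = A := fun A hA => Subgroup.map_subgroupOf_eq_of_le (le A hA)
  have cm : ∀ A B : Subgroup Γ, Comm A B → Comm (A.subgroupOf H) (B.subgroupOf H) :=
    fun A B h a ha b hb => Subtype.ext (h a ha b hb)
  refine ⟨?_, ?_, ?_, ?_, ?_⟩
  · rintro _ ⟨A, hA, rfl⟩
    exact comm_self_iff.1 (cm A A (h1 A hA))
  · rintro _ ⟨A, hA, rfl⟩ e
    exact h2 A hA (by rw [← m A hA]; simp only at e; rw [e, Subgroup.map_bot])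
  · rw [eq_top_iff, ← Subgroup.map_le_map_iff_of_injective H.subtype_injective, ← MonoidHom.range_eq_map,
      Subgroup.range_subtype]
    refine hH.le.trans (iSup₂_le fun A hA => ?_)
    rw [← m A hA]
    exact Subgroup.map_mono (le_iSup₂_of_le _ ⟨A, hA, rfl⟩ le_rfl)
  · rintro _ ⟨A, hA, rfl⟩ g
    exact ⟨_, h3 A hA g g.2, (conjBy_subgroupOf A g).symm⟩
  · rintro _ ⟨A, hA, rfl⟩ _ ⟨B, hB, rfl⟩
    rcases h4 A hA B hB with h | h | h
    · exact Or.inl (comm_iff.2 (cm A B h))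
    · exact Or.inr (Or.inl (rankOne_of_map H.subtype H.subtype_injective (by rwa [m A hA, m B hB])))
    · have e : ⁅A.subgroupOf H, B.subgroupOf H⁆ = ⁅A, B⁆.subgroupOf H :=
        Subgroup.map_injective H.subtype_injective (by rw [Subgroup.map_commutator, m A hA, m B hB, m _ h.mem])
      refine Or.inr (Or.inr (RootCommutatorCase.of_exists ⟨_, h.mem, e.symm⟩ (e ▸ cm _ _ h.commL)
        (e ▸ cm _ _ h.commR) (fun a ha ha1 c hc => ?_) fun b hb hb1 c hc => ?_))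
      · rw [e] at hc
        obtain ⟨b, hb, e'⟩ := h.exists_right ha (fun e => ha1 (Subtype.ext e)) hc
        exact ⟨⟨b, le B hB hb⟩, hb, Subtype.ext e'⟩
      · rw [e] at hc
        obtain ⟨a, ha, e'⟩ := h.exists_left hb (fun e => hb1 (Subtype.ext e)) hc
        exact ⟨⟨a, le A hA ha⟩, ha, Subtype.ext e'⟩

theorem comm_iSup {S : Set (Subgroup Γ)} {B : Subgroup Γ} (h : ∀ A ∈ S, Comm A B) : Comm (⨆ A ∈ S, A) B :=
  comm_iff_le_centralizer.2 (iSup₂_le fun A hA => comm_iff_le_centralizer.1 (h A hA))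

end Transport

theorem Opp.psl2 {k : Type*} [Field k] {A : Type*} [Ring A] [Algebra k A] {G : Subgroup Aˣ} {s t : A}
    (o : Opp s t) (hs : s ∈ QQ k G) (ht : t ∈ QQ k G) (h0 : s ≠ 0) :
    ∃ A₀ B₀ : Subgroup Aˣ, A₀ ≤ EE k G s ∧ B₀ ≤ EE k G t ∧ IsPSL2PairOver k A₀ B₀ := by
  have h1 : ∀ a, s * (s * a) = 0 := fun a => by rw [← mul_assoc, hs.1, zero_mul]
  have h2 : ∀ a, t * (t * a) = 0 := fun a => by rw [← mul_assoc, ht.1, zero_mul]
  have h5 : s * (t * s) = s := by rw [← mul_assoc, o.1]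
  have h6 : t * (s * t) = t := by rw [← mul_assoc, o.2]
  let ψ : Matrix.SpecialLinearGroup (Fin 2) k →* A :=
    { toFun := fun m => 1 - s * t - t * s + m 0 0 • (s * t) + m 0 1 • s + m 1 0 • t + m 1 1 • (t * s)
      map_one' := by simp; abel
      map_mul' := fun m n => by
        simp only [Matrix.SpecialLinearGroup.coe_mul, Matrix.mul_apply, Fin.sum_univ_two, mul_add, add_mul,
          mul_sub, sub_mul, smul_mul_assoc, mul_smul_comm, mul_assoc, h1, h2, h5, h6, hs.1, ht.1, mul_zero,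
          smul_zero, one_mul, mul_one]
        module }
  have e1 : ∀ c, (ψ.toHomUnits (slUp c) : A) = 1 + c • s := fun c => by
    rw [MonoidHom.coe_toHomUnits]; simp [ψ, slUp]; abel
  have e2 : ∀ c, (ψ.toHomUnits (slLo c) : A) = 1 + c • t := fun c => by
    rw [MonoidHom.coe_toHomUnits]; simp [ψ, slLo]; abel
  refine ⟨_, _, ?_, ?_, ψ.toHomUnits, ?_, sl2_ker_le_center _ (s := 1) (t := 1) fun e => h0 ?_, rfl, rfl⟩
  · rintro _ ⟨g, hg, rfl⟩
    obtain ⟨c, rfl⟩ := mem_upperUnipotentSL2.1 hg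
    exact mem_EE_of (QQ.smul hs c) ((Pre.refl s).smul c) (e1 c)
  · rintro _ ⟨g, hg, rfl⟩
    obtain ⟨c, rfl⟩ := mem_lowerUnipotentSL2.1 hg
    exact mem_EE_of (QQ.smul ht c) ((Pre.refl t).smul c) (e2 c)
  · rw [← Subgroup.map_sup, upper_sup_lower, MonoidHom.range_eq_map]
  · have := congrArg Units.val e
    rw [Units.val_mul, Units.val_mul, e1, e2, one_smul, one_smul, ← sub_eq_zero] at this
    have e3 : s * t = t * s := by rw [← sub_eq_zero, ← this]; noncomm_ring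
    rw [← o.1, e3, mul_assoc, hs.1, mul_zero]

variable {k : Type*} [Field k] {M : Type*} [AddCommGroup M] [Module k M]
  {G : Subgroup (End k M)ˣ} {s t x y r : End k M} {A B C : Subgroup (End k M)ˣ}

theorem exists_good (h2 : (2 : k) ≠ 0) {u v u' v' : M} (h : u ≠ 0 ∨ v ≠ 0) (h' : u' ≠ 0 ∨ v' ≠ 0) :
    ∃ c : k, u + c • v ≠ 0 ∧ u' + c • v' ≠ 0 := by
  have key : ∀ u v : M, u ≠ 0 ∨ v ≠ 0 → ∀ c c' : k, c - c' ≠ 0 → u + c • v = 0 → u + c' • v ≠ 0 := by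
    intro u v h c c' hc e e'
    have : (c - c') • v = 0 := by rw [sub_smul, ← add_sub_add_left_eq_sub _ _ u, e, e', sub_self]
    have hv := (smul_eq_zero.1 this).resolve_left hc
    rw [hv, smul_zero, add_zero] at e
    exact h.elim (fun h => h e) fun h => h hv
  have a1 : (1 : k) - -1 ≠ 0 := by rwa [sub_neg_eq_add, one_add_one_eq_two]
  by_cases e1 : u + (1 : k) • v = 0
  · by_cases e2 : u' + (0 : k) • v' = 0
    · exact ⟨-1, key u v h 1 (-1) a1 e1, key u' v' h' 0 (-1) (by simp) e2⟩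
    · exact ⟨0, key u v h 1 0 (by simp) e1, e2⟩
  · by_cases e2 : u' + (1 : k) • v' = 0
    · by_cases e3 : u + (0 : k) • v = 0
      · exact ⟨-1, key u v h 0 (-1) (by simp) e3, key u' v' h' 1 (-1) a1 e2⟩
      · exact ⟨0, e3, key u' v' h' 1 0 (by simp) e2⟩
    · exact ⟨1, e1, e2⟩

theorem three_lt_card_EE (h3 : 3 < ENat.card k) (hs : s ∈ QQ k G) (h0 : s ≠ 0) : 3 < ENat.card (EE k G s) := by
  refine h3.trans_le (ENat.card_le_card_of_injective
    (f := fun c : k => (⟨_, uu_mem_EE (QQ.smul hs c) ((Pre.refl s).smul c)⟩ : EE k G s)) fun c c' e => ?_)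
  have := congrArg (fun g : EE k G s => ((g : (End k M)ˣ) : End k M)) e
  exact smul_left_injective k h0 (add_left_cancel this)

variable (G) in
/-- paths in the graph of rank one pairs -/
abbrev FP (A B : Subgroup (End k M)ˣ) : Prop := Relation.ReflTransGen (FAdj (quadraticRootSubgroups G)) A B

variable (G) in
/-- the connected component -/
abbrev Cp (A : Subgroup (End k M)ˣ) : Set (Subgroup (End k M)ˣ) :=
  componentOf (FAdj (quadraticRootSubgroups G)) (quadraticRootSubgroups G) A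

variable [FiniteDimensional k M]

theorem qrs_le (hA : A ∈ quadraticRootSubgroups G) : A ≤ G := by
  obtain ⟨s, -, rfl⟩ := mem_qrs.1 hA; exact EE_le

theorem qrs_comm (hA : A ∈ quadraticRootSubgroups G) : Comm A A := by
  obtain ⟨s, hs, rfl⟩ := mem_qrs.1 hA; exact EE_comm hs.1.1

theorem qrs_ne_bot (hA : A ∈ quadraticRootSubgroups G) : A ≠ ⊥ := by
  obtain ⟨s, hs, rfl⟩ := mem_qrs.1 hA; exact EE_ne_bot hs.1 hs.2.1

theorem qrs_conj (hA : A ∈ quadraticRootSubgroups G) {g : (End k M)ˣ} (hg : g ∈ G) :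
    conjBy A g ∈ quadraticRootSubgroups G := by
  obtain ⟨s, hs, rfl⟩ := mem_qrs.1 hA
  exact mem_qrs.2 ⟨_, LL.conj hs hg, EE_conj hg⟩

theorem noUnip_qrs (hG : NoUnip k G) : NoUnip k (⨆ A ∈ quadraticRootSubgroups G, A) :=
  hG.of_normal (iSup₂_le fun _ => qrs_le) (conjBy_iSup_eq fun _ hA _ => qrs_conj hA)

variable (h2 : (2 : k) ≠ 0) (h3 : 3 < ENat.card k)
include h2 h3

theorem LL.fAdj (hs : s ∈ LL G) (ht : t ∈ LL G) (h : s * t * s ≠ 0) :
    FAdj (quadraticRootSubgroups G) (EE k G s) (EE k G t) :=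
  ⟨mem_qrs.2 ⟨s, hs, rfl⟩, mem_qrs.2 ⟨t, ht, rfl⟩, (LL.special h2 h3 hs ht h).1⟩

variable (hG : NoUnip k G)
include hG

theorem qrs_cases (hA : A ∈ quadraticRootSubgroups G) (hB : B ∈ quadraticRootSubgroups G) :
    Comm A B ∨ IsRankOnePair A B ∨ RootCommutatorCase (quadraticRootSubgroups G) A B := by
  obtain ⟨s, hs, rfl⟩ := mem_qrs.1 hA
  obtain ⟨t, ht, rfl⟩ := mem_qrs.1 hB
  exact (LL.cases h2 hs ht).imp (LL.comm_EE h2 h3 hs ht)
    (Or.imp (fun h => (LL.special h2 h3 hs ht h).1) (UP.cc h2 h3 hG))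

theorem qrs_opp (hA : A ∈ quadraticRootSubgroups G) (hB : B ∈ quadraticRootSubgroups G) (h : IsRankOnePair A B) :
    ∃ s ∈ LL G, ∃ t ∈ LL G, A = EE k G s ∧ B = EE k G t ∧ Opp s t := by
  obtain ⟨s, hs, rfl⟩ := mem_qrs.1 hA
  obtain ⟨t, ht, rfl⟩ := mem_qrs.1 hB
  rcases LL.cases h2 hs ht with h' | h' | h'
  · exact absurd (LL.comm_EE h2 h3 hs ht h') h.not_comm
  · obtain ⟨y, hy, py, o⟩ := LL.exists_opp h2 h3 hs ht.1 h'
    exact ⟨s, hs, y, hy, rfl, (LL.EE_eq ht hy.1 hy.2.1 py).symm, o⟩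
  · exact absurd h ((h'.cc h2 h3 hG).not_rankOne (EE_comm ht.1.1))

theorem qrs_partner (hA : A ∈ quadraticRootSubgroups G) : HasPartner (quadraticRootSubgroups G) A := by
  obtain ⟨s, hs, rfl⟩ := mem_qrs.1 hA
  obtain ⟨t, ht, o⟩ := LL.exists_opp_of_noUnip h2 h3 hG hs
  exact ⟨_, mem_qrs.2 ⟨t, ht, rfl⟩, (LL.special h2 h3 hs ht (o.1.symm ▸ hs.2.1)).1⟩

theorem qrs_psl2 (hA : A ∈ quadraticRootSubgroups G) (hB : B ∈ quadraticRootSubgroups G) (h : IsRankOnePair A B) :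
    ∃ A₀ B₀ : Subgroup (End k M)ˣ, A₀ ≤ A ∧ B₀ ≤ B ∧ IsPSL2PairOver k A₀ B₀ := by
  obtain ⟨s, hs, t, ht, rfl, rfl, o⟩ := qrs_opp h2 h3 hG hA hB h
  exact o.psl2 hs.1 ht.1 hs.2.1

theorem qrs_perfect (hA : A ∈ quadraticRootSubgroups G) (hB : B ∈ quadraticRootSubgroups G)
    (h : IsRankOnePair A B) : ⁅A ⊔ B, A ⊔ B⁆ = A ⊔ B := by
  obtain ⟨s, hs, t, ht, rfl, rfl, o⟩ := qrs_opp h2 h3 hG hA hB h
  exact (LL.special h2 h3 hs ht (o.1.symm ▸ hs.2.1)).perfect (EE_comm hs.1.1) (three_lt_card_EE h3 hs.1 hs.2.1)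

theorem UP.fpath (h : UP G s t) : FP G (EE k G s) (EE k G (s * t - t * s)) := by
  obtain ⟨δ, hδ, o⟩ := LL.exists_opp_of_noUnip h2 h3 hG h.mem
  obtain ⟨δ', hδ', o'⟩ := LL.exists_opp_of_noUnip h2 h3 hG h.1
  obtain ⟨c, e1, e2⟩ := exists_good h2 (u := δ * s * δ) (v := δ * (s * t - t * s) * δ) (u' := δ' * s * δ')
    (v' := δ' * (s * t - t * s) * δ') (Or.inr (o.2.symm ▸ hδ.2.1)) (Or.inl (o'.2.symm ▸ hδ'.2.1))
  have hq := QQ.smul h.2.1.1 (-c)
  have m := LL.conj h.1 (QQ.uu_mem hq)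
  have e : (uu _ hq.1 : End k M) * s * ((uu _ hq.1)⁻¹ : (End k M)ˣ) = s + c • (s * t - t * s) := by
    rw [val_conj_of_eq (val_uu hq.1) hq.1]
    simp only [smul_mul_assoc, mul_smul_comm, h.2.2.2.1, smul_zero, sub_zero]
    module
  rw [e] at m
  refine ((Relation.ReflTransGen.single (LL.fAdj h2 h3 h.1 hδ' (o'.1.symm ▸ h.1.2.1))).tail
    (LL.fAdj h2 h3 hδ' m ?_)).trans (.head (fAdj_symm (LL.fAdj h2 h3 hδ m ?_))
    (.single (LL.fAdj h2 h3 hδ h.mem (o.2.symm ▸ hδ.2.1))))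
  · rwa [mul_add, add_mul, mul_smul_comm, smul_mul_assoc]
  · rwa [mul_add, add_mul, mul_smul_comm, smul_mul_assoc]

theorem fpath_cc (hA : A ∈ quadraticRootSubgroups G) (hB : B ∈ quadraticRootSubgroups G)
    (h : RootCommutatorCase (quadraticRootSubgroups G) A B) : FP G A ⁅A, B⁆ := by
  obtain ⟨s, hs, rfl⟩ := mem_qrs.1 hA
  obtain ⟨t, ht, rfl⟩ := mem_qrs.1 hB
  rcases LL.cases h2 hs ht with h' | h' | h'
  · exact absurd (comm_iff.2 (LL.comm_EE h2 h3 hs ht h')) (qrs_ne_bot h.mem)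
  · exact absurd (LL.special h2 h3 hs ht h').1 (h.not_rankOne (EE_comm ht.1.1))
  · rw [h'.commutator_eq h2 h3 hG]; exact h'.fpath h2 h3 hG

theorem comm_or_fpath (hA : A ∈ quadraticRootSubgroups G) (hB : B ∈ quadraticRootSubgroups G) :
    Comm A B ∨ FP G A B := by
  rcases qrs_cases h2 h3 hG hA hB with h | h | h
  · exact Or.inl h
  · exact Or.inr (.single ⟨hA, hB, h⟩)
  · refine Or.inr ((fpath_cc h2 h3 hG hA hB h).trans (fpath_symm ?_))
    rw [Subgroup.commutator_comm]; exact fpath_cc h2 h3 hG hB hA h.symm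

theorem fpath_conj (hA : A ∈ quadraticRootSubgroups G) {g : (End k M)ˣ}
    (hg : g ∈ ⨆ B ∈ quadraticRootSubgroups G, B) : FP G A (conjBy A g) := by
  rw [iSup_subtype'] at hg
  refine Subgroup.iSup_induction _ (C := fun g => g ∈ G ∧ ∀ A ∈ quadraticRootSubgroups G, FP G A (conjBy A g)) hg
    ?_ ⟨one_mem _, fun A _ => (conjBy_one A).symm ▸ .refl⟩ ?_ |>.2 A hA
  · rintro ⟨B, hB⟩ b (hb : b ∈ B)
    refine ⟨qrs_le hB hb, fun A hA => ?_⟩
    rcases comm_or_fpath h2 h3 hG hA hB with h | h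
    · rw [h.conjBy_eq' hb]
    · rcases comm_or_fpath h2 h3 hG (qrs_conj hA (qrs_le hB hb)) hB with h' | h'
      · rw [← conjBy_of_mem hb, comm_conj_iff] at h'
        rw [h'.conjBy_eq' hb]
      · exact h.trans (fpath_symm h')
  · rintro x y ⟨hx, hx'⟩ ⟨hy, hy'⟩
    refine ⟨mul_mem hx hy, fun A hA => (hy' A hA).trans ?_⟩
    rw [← conjBy_conjBy]; exact hx' _ (qrs_conj hA hy)

omit h2 h3 hG [FiniteDimensional k M] in
theorem cp_le : (⨆ B ∈ Cp G A, B) ≤ ⨆ B ∈ quadraticRootSubgroups G, B :=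
  iSup₂_le fun B hB => le_iSup₂_of_le B hB.1 le_rfl

theorem cp_conj (hB : B ∈ Cp G A) {g : (End k M)ˣ} (hg : g ∈ ⨆ B ∈ quadraticRootSubgroups G, B) :
    conjBy B g ∈ Cp G A :=
  ⟨qrs_conj hB.1 (iSup₂_le (fun _ => qrs_le) hg), hB.2.trans (fpath_conj h2 h3 hG hB.1 hg)⟩

omit h2 h3 hG [FiniteDimensional k M] in
theorem cp_exists_conj (hB : B ∈ Cp G A) : ∃ g ∈ ⨆ B ∈ Cp G A, B, B = conjBy A g := by
  obtain ⟨-, h⟩ := hB
  induction h with
  | refl => exact ⟨1, one_mem _, (conjBy_one A).symm⟩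
  | @tail B C p h ih =>
    obtain ⟨g, hg, rfl⟩ := ih
    obtain ⟨x, hx, e, -⟩ := h.2.2.exists_swap
    have le : ∀ B ∈ Cp G A, B ≤ ⨆ B ∈ Cp G A, B := fun B hB => le_iSup₂_of_le B hB le_rfl
    exact ⟨x * g, mul_mem (sup_le (le _ ⟨h.1, p⟩) (le _ ⟨h.2.1, p.tail h⟩) hx) hg, by rw [← conjBy_conjBy, e]⟩

theorem cp_class (hA : A ∈ quadraticRootSubgroups G) :
    IsRootSubgroupClass ((fun B : Subgroup (End k M)ˣ => B.subgroupOf (⨆ B ∈ Cp G A, B)) '' Cp G A) := by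
  refine ⟨rootSet_subgroupOf rfl (fun B hB => qrs_comm hB.1) (fun B hB => qrs_ne_bot hB.1)
    (fun B hB g hg => cp_conj h2 h3 hG hB (cp_le hg)) fun B hB C hC => ?_, ⟨_, A, ⟨hA, .refl⟩, rfl⟩, ?_⟩
  · exact (qrs_cases h2 h3 hG hB.1 hC.1).imp_right (Or.imp_right fun h =>
      ⟨⟨h.mem, hB.2.trans (fpath_cc h2 h3 hG hB.1 hC.1 h)⟩, h.2⟩)
  · rintro _ ⟨B, hB, rfl⟩ _ ⟨C, hC, rfl⟩
    obtain ⟨g, hg, rfl⟩ := cp_exists_conj hB
    obtain ⟨g', hg', rfl⟩ := cp_exists_conj hC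
    refine ⟨⟨g' * g⁻¹, mul_mem hg' (inv_mem hg)⟩, ?_⟩
    rw [conjBy_subgroupOf, conjBy_conjBy, inv_mul_cancel_right]

theorem cp_quasisimple (hA : A ∈ quadraticRootSubgroups G) : IsQuasisimple (⨆ B ∈ Cp G A, B : Subgroup _) := by
  set H := ⨆ B ∈ Cp G A, B with hH
  have le : ∀ B ∈ Cp G A, B ≤ H := fun B hB => le_iSup₂_of_le B hB le_rfl
  have hN : NoUnip k H := (noUnip_qrs hG).of_normal cp_le (conjBy_iSup_eq fun B hB g => cp_conj h2 h3 hG hB)
  have part : ∀ B ∈ Cp G A, ∃ C ∈ Cp G A, IsRankOnePair B C := fun B hB => by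
    obtain ⟨C, hC, h⟩ := qrs_partner h2 h3 hG hB.1
    exact ⟨C, ⟨hC, hB.2.tail ⟨hB.1, hC, h⟩⟩, h⟩
  refine isQuasisimple_of_normal_le_centralizer (le_antisymm (Subgroup.commutator_le_self _) (iSup₂_le fun B hB => ?_))
    (fun e => qrs_ne_bot hA (le_bot_iff.1 (e ▸ le A ⟨hA, .refl⟩))) fun N hNH hn => ?_
  · obtain ⟨C, hC, h⟩ := part B hB
    refine le_sup_left.trans ((qrs_perfect h2 h3 hG hB.1 hC.1 h).ge.trans ?_)
    exact Subgroup.commutator_mono (sup_le (le B hB) (le C hC)) (sup_le (le B hB) (le C hC))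
  have hn' : ∀ g ∈ H, conjBy N g = N := fun g hg => conjBy_eq_self_iff.2 (hn hg)
  have k1 : ∀ B ∈ Cp G A, ¬ B ≤ N := by
    intro B hB h
    refine hNH.not_ge (iSup₂_le fun C hC => ?_)
    obtain ⟨g, hg, rfl⟩ := cp_exists_conj hB
    obtain ⟨g', hg', rfl⟩ := cp_exists_conj hC
    have := conjBy_le_of_eq h (hn' _ (mul_mem hg' (inv_mem hg)))
    rwa [conjBy_conjBy, inv_mul_cancel_right] at this
  have k2 : ∀ B ∈ Cp G A, ⁅N ⊔ B, N ⊔ B⁆ ≤ N := by
    intro B hB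
    have hn2 : ∀ x ∈ N ⊔ B, conjBy N x = N := fun x hx => hn' x (sup_le hNH.le (le B hB) hx)
    have hc : ⁅N, N ⊔ B⁆ ≤ N :=
      Subgroup.le_normalizer_iff_commutator_le_left.1 fun x hx => conjBy_eq_self_iff.1 (hn2 x hx)
    refine commutator_sup_le hn2 hc (commutator_sup_le' hn2 ?_ ?_)
    · rw [Subgroup.commutator_comm]; exact (Subgroup.commutator_mono le_rfl le_sup_right).trans hc
    · rw [comm_iff.2 (qrs_comm hB.1)]; exact bot_le
  rw [← comm_iff_le_centralizer]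
  refine (comm_iSup fun B hB => ?_).symm
  have k3 : ∀ n ∈ N, Comm B (conjBy B n) := by
    intro n hn
    have hC := cp_conj h2 h3 hG hB (cp_le (hNH.le hn))
    have hle : conjBy B n ≤ N ⊔ B := conjBy_le_of_mem le_sup_right (Subgroup.mem_sup_left hn)
    rcases qrs_cases h2 h3 hG hB.1 hC.1 with h | h | h
    · exact h
    · refine absurd (le_sup_left.trans ((qrs_perfect h2 h3 hG hB.1 hC.1 h).ge.trans ?_)) (k1 B hB)
      exact (Subgroup.commutator_mono (sup_le le_sup_right hle) (sup_le le_sup_right hle)).trans (k2 B hB)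
    · exact absurd ((Subgroup.commutator_mono le_sup_right hle).trans (k2 B hB))
        (k1 _ ⟨h.mem, hB.2.trans (fpath_cc h2 h3 hG hB.1 hC.1 h)⟩)
  let W : Set (Subgroup (End k M)ˣ) := {C | ∃ n ∈ N, C = conjBy B n}
  have hWc : ∀ C ∈ W, ∀ g ∈ N, conjBy C g ∈ W := by
    rintro _ ⟨n, hn, rfl⟩ g hg
    exact ⟨g * n, mul_mem hg hn, conjBy_conjBy _ _ _⟩
  have hu : Unip k (⨆ C ∈ W, C) := by
    refine unip_iSup (G := N ⊔ B) ?_ ?_ ?_
    · rintro _ ⟨n, hn, rfl⟩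
      exact conjBy_le_of_mem le_sup_right (Subgroup.mem_sup_left hn)
    · rintro _ ⟨n, hn, rfl⟩ _ ⟨m, hm, rfl⟩
      have h := (k3 _ (mul_mem (inv_mem hn) hm)).conj n
      rw [conjBy_conjBy, mul_inv_cancel_left] at h
      obtain ⟨s, hs, e⟩ := mem_qrs.1 (cp_conj h2 h3 hG hB (cp_le (hNH.le hn))).1
      obtain ⟨t, ht, e'⟩ := mem_qrs.1 (cp_conj h2 h3 hG hB (cp_le (hNH.le hm))).1
      rw [e, e'] at h ⊢
      refine LL.unip h2 h3 hs ht ?_
      by_contra h0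
      exact (LL.special h2 h3 hs ht h0).1.not_comm h
    · intro C hC g hg
      obtain ⟨n, hn, b, hb, rfl⟩ := (mem_sup_of_normalizes fun b hb => hn' b (le B hB hb)).1 hg
      rw [← conjBy_conjBy]
      refine hWc _ ?_ n hn
      obtain ⟨m, hm, rfl⟩ := hC
      rw [(k3 m hm).conjBy_eq hb]
      exact ⟨m, hm, rfl⟩
  have hb := hN.of_normal hNH.le hn' (N ⊓ ⨆ C ∈ W, C) inf_le_left
    (fun g hg => by rw [conjBy_inf, conjBy_of_mem hg, conjBy_iSup_eq hWc g hg]) (hu.mono inf_le_right)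
  intro b hb' n hn
  have : n * b * n⁻¹ * b⁻¹ ∈ N ⊓ ⨆ C ∈ W, C := by
    have le' : ∀ C ∈ W, C ≤ ⨆ C ∈ W, C := fun B hB => le_iSup₂_of_le B hB le_rfl
    refine ⟨?_, mul_mem (le' _ ⟨n, hn, rfl⟩ (conj_mem_conjBy hb' n))
      (le' B ⟨1, one_mem _, (conjBy_one B).symm⟩ (inv_mem hb'))⟩
    exact k2 B hB (comm_mem (Subgroup.mem_sup_left hn) (Subgroup.mem_sup_right hb'))
  rw [hb, Subgroup.mem_bot] at this
  calc b * n = (n * b * n⁻¹ * b⁻¹) * (b * n) := by rw [this, one_mul]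
    _ = n * b := by group

omit h2 h3 hG [FiniteDimensional k M] in
theorem cp_eq (h : FP G A B) : Cp G A = Cp G B :=
  Set.ext fun _ => and_congr_right fun _ => ⟨fun h' => (fpath_symm h).trans h', fun h' => h.trans h'⟩

theorem cp_comm (h : Cp G A ≠ Cp G B) : Comm (⨆ C ∈ Cp G A, C) (⨆ C ∈ Cp G B, C) :=
  comm_iSup fun _ hC => (comm_iSup fun _ hD => ((comm_or_fpath h2 h3 hG hC.1 hD.1).resolve_right fun p =>
    h (cp_eq ((hC.2.trans p).trans (fpath_symm hD.2)))).symm).symm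

theorem cp_finite : (Cp G '' quadraticRootSubgroups G).Finite := by
  have : ∀ P : Cp G '' quadraticRootSubgroups G, ∃ s ∈ LL G, ∃ t ∈ LL G, Opp s t ∧ Cp G (EE k G s) = P := by
    rintro ⟨_, A, hA, rfl⟩
    obtain ⟨s, hs, rfl⟩ := mem_qrs.1 hA
    obtain ⟨t, ht, o⟩ := LL.exists_opp_of_noUnip h2 h3 hG hs
    exact ⟨s, hs, t, ht, o, rfl⟩
  choose s hs t ht o e using this
  have li : LinearIndependent k s := by
    rw [linearIndependent_iff']
    intro F c hc j hj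
    have h1 := congrArg (fun x => t j * x * t j) hc
    simp only [Finset.mul_sum, Finset.sum_mul, mul_smul_comm, smul_mul_assoc, mul_zero, zero_mul] at h1
    rw [Finset.sum_eq_single j, (o j).2] at h1
    · exact (smul_eq_zero.1 h1).resolve_right (ht j).2.1
    · intro i _ hij
      rw [smul_eq_zero]
      refine Or.inr (by_contra fun h0 => hij (Subtype.ext ?_))
      rw [← e i, ← e j]
      exact (cp_eq (.head (LL.fAdj h2 h3 (hs j) (ht j) ((o j).1.symm ▸ (hs j).2.1))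
        (.single (LL.fAdj h2 h3 (ht j) (hs i) h0)))).symm
    · exact fun h => absurd hj h
  exact li.finite

end Cfsg.Agent.Chev.Tim
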