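import Mathlib
import Cfsg.Agent.Chev.TimSig

/-!
Quadratic pairs: decomposition of quadratic elements and of the group.
-/

set_option autoImplicit false

open Cfsg Cfsg.Agent.GT Module

namespace Cfsg.Agent.Chev.Tim

variable {k : Type*} [Field k] {M : Type*} [AddCommGroup M] [Module k M]
  {G : Subgroup (End k M)ˣ} {s t x y r : End k M}

variable (G) in
/-- the quadratic elements unipotent against all minimal ones -/
def RR : Set (End k M) := {r | r ∈ QQ k G ∧ ∀ s ∈ LL G, s * r * s = 0}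

theorem RR.smul (hr : r ∈ RR G) (c : k) : c • r ∈ RR G :=
  ⟨QQ.smul hr.1 c, fun s hs => by rw [mul_smul_comm, smul_mul_assoc, hr.2 s hs, smul_zero]⟩

variable [FiniteDimensional k M]

theorem RR.conj (hr : r ∈ RR G) {g : (End k M)ˣ} (hg : g ∈ G) : (g : End k M) * r * (g⁻¹ : (End k M)ˣ) ∈ RR G := by
  refine ⟨QQ.conj hr.1 hg, fun s hs => ?_⟩
  have := congrArg (fun x => (g : End k M) * x * (g⁻¹ : (End k M)ˣ)) (hr.2 _ (LL.conj hs (inv_mem hg)))
  simpa [mul_assoc] using this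

variable (h2 : (2 : k) ≠ 0) (h3 : 3 < ENat.card k)
include h2 h3

theorem RR.eq_zero (hG : NoUnip k G) (hr : r ∈ RR G) (hs : s ∈ LL G) (h : rk r ≤ rk s) : r = 0 := by
  by_contra h0
  obtain ⟨t, ht, o⟩ := LL.exists_opp_of_noUnip h2 h3 hG (LL.of_le hs hr.1 h0 h)
  exact ht.2.1 (o.2.symm.trans (hr.2 t ht))

theorem RR.comm (hG : NoUnip k G) (hr : r ∈ RR G) (hs : s ∈ LL G) : r * s = s * r := by
  have srs := hr.2 s hs
  have half : ∀ x, x + x ∈ QQ k G → x ∈ QQ k G := fun x hx => by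
    have := QQ.smul hx 2⁻¹
    rwa [← two_smul k, smul_smul, inv_mul_cancel₀ h2, one_smul] at this
  have a1 : ∀ a, s * (s * a) = 0 := fun a => by rw [← mul_assoc, hs.1.1, zero_mul]
  have a2 : ∀ a, r * (r * a) = 0 := fun a => by rw [← mul_assoc, hr.1.1, zero_mul]
  have a3 : ∀ a, s * (r * (s * a)) = 0 := fun a => by rw [← mul_assoc, ← mul_assoc, srs, zero_mul]
  have a4 : s * (r * s) = 0 := by rw [← mul_assoc, srs]
  have m1 := QQ.conj hs.1 (QQ.uu_mem hr.1)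
  have m2 := QQ.conj hs.1 (QQ.uu_mem (QQ.neg hr.1))
  rw [val_conj_of_eq (val_uu _) hr.1.1] at m1
  rw [val_conj_of_eq (val_uu _) (QQ.neg hr.1).1] at m2
  have hν : r * s - s * r ∈ QQ k G := half _ (by
    convert QQ.sub m1 m2 ?_ ?_ using 1
    · noncomm_ring
    all_goals
      simp only [mul_add, add_mul, mul_sub, sub_mul, mul_neg, neg_mul, mul_assoc, a1, a2, a3, a4, hs.1.1,
        mul_zero, neg_zero, add_zero, sub_zero, neg_neg])
  have hw : r * s * r ∈ QQ k G := by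
    have m3 := QQ.sub hs.1 m1 (by simp only [mul_add, mul_sub, mul_assoc, a1, a3, a4, hs.1.1]; simp)
      (by simp only [add_mul, sub_mul, mul_assoc, a4, hs.1.1]; simp)
    convert QQ.add m3 hν ?_ ?_ using 1
    · abel
    all_goals
      simp only [mul_add, add_mul, mul_sub, sub_mul, mul_assoc, a1, a2, a3, a4, hs.1.1,
        mul_zero, add_zero, sub_zero]
  have hν' : r * s - s * r ∈ RR G := ⟨hν, fun t ht => by
    have := (RR.conj hr (QQ.uu_mem hs.1)).2 t ht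
    rw [val_conj_of_eq (val_uu _) hs.1.1, srs, sub_zero, mul_add, add_mul, hr.2 t ht, zero_add] at this
    rw [← neg_sub, mul_neg, neg_mul, this, neg_zero]⟩
  have hw' : r * s * r ∈ RR G := ⟨hw, fun t ht => by
    have := (RR.conj hν' (QQ.uu_mem hr.1)).2 t ht
    have e : r * s - s * r + (r * (r * s - s * r) - (r * s - s * r) * r) - r * (r * s - s * r) * r =
        r * s - s * r - (2 : k) • (r * s * r) := by
      simp only [two_smul, mul_sub, sub_mul, mul_assoc, a2, hr.1.1, mul_zero, zero_mul]; abel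
    rw [val_conj_of_eq (val_uu _) hr.1.1, e, mul_sub, sub_mul, hν'.2 t ht, mul_smul_comm, smul_mul_assoc, zero_sub,
      neg_eq_zero] at this
    exact (smul_eq_zero.1 this).resolve_left h2⟩
  have w0 := RR.eq_zero h2 h3 hG hw' hs ((rk_mul_le_left _ _).trans (rk_mul_le_right _ _))
  exact sub_eq_zero.1 (RR.eq_zero h2 h3 hG hν' hs ((rk_sub_le _ _).trans (rk_add_rk_le (by rw [← mul_assoc, w0]))))

theorem RR.comm_qrs (hG : NoUnip k G) (hr : r ∈ RR G) {g : (End k M)ˣ} (e : (g : End k M) = 1 + r) :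
    g ∈ Subgroup.centralizer ((⨆ A ∈ quadraticRootSubgroups G, A : Subgroup (End k M)ˣ) : Set (End k M)ˣ) := by
  have : Comm (⨆ A ∈ quadraticRootSubgroups G, A) (Subgroup.zpowers g) := by
    refine comm_iSup fun A hA => (comm_iff_le_centralizer.2 ?_).symm
    rw [Subgroup.zpowers_le]
    intro a ha
    obtain ⟨s, hs, rfl⟩ := mem_qrs.1 hA
    by_cases h1 : a = 1
    · simp [h1]
    obtain ⟨x, hx, -, -, ex⟩ := LL.mem_EE hs ha h1
    apply Units.ext
    rw [Units.val_mul, Units.val_mul, e, ex]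
    noncomm_ring [RR.comm h2 h3 hG hr hx]
  exact fun a ha => this a ha g (Subgroup.mem_zpowers g)

theorem QQ.mem_closure (hr : r ∈ QQ k G) : r ∈ AddSubmonoid.closure {x | Pre x r ∧ (x ∈ LL G ∨ x ∈ RR G)} := by
  induction hn : rk r using Nat.strong_induction_on generalizing r with
  | _ n ih =>
  by_cases h : ∀ s ∈ LL G, s * r * s = 0
  · exact AddSubmonoid.subset_closure ⟨Pre.refl r, Or.inr ⟨hr, h⟩⟩
  push Not at h
  obtain ⟨s, hs, h0⟩ := h
  obtain ⟨t, ht, p, a1, a2, -⟩ := LL.split h2 h3 hs hr h0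
  have := add_mem (AddSubmonoid.subset_closure (s := {x | Pre x r ∧ (x ∈ LL G ∨ x ∈ RR G)}) ⟨p, Or.inl ht⟩)
    (AddSubmonoid.closure_mono (t := {x | Pre x r ∧ (x ∈ LL G ∨ x ∈ RR G)}) (fun x hx => ⟨hx.1.trans ((Pre.refl r).sub p), hx.2⟩) (ih _ (hn ▸ a2) a1 rfl))
  rwa [add_sub_cancel] at this

omit h2 h3 [FiniteDimensional k M] in
theorem inU_of_closure (hr : r * r = 0) {S : Set (End k M)} (hS : ∀ x ∈ S, Pre x r ∧ InU G x)
    (hx : x ∈ AddSubmonoid.closure S) : Pre x r ∧ InU G x := by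
  induction hx using AddSubmonoid.closure_induction with
  | mem x hx => exact hS x hx
  | zero => exact ⟨Pre.zero r, InU.zero⟩
  | add x y _ _ hx hy => exact ⟨hx.1.add hy.1, hx.2.add hy.2 (hx.1.mul_pre hy.1 hr)⟩

omit h2 h3 [FiniteDimensional k M] in
theorem qq_of_closure (hr : r * r = 0) {S : Set (End k M)} (hS : ∀ x ∈ S, Pre x r ∧ x ∈ QQ k G)
    (hx : x ∈ AddSubmonoid.closure S) : Pre x r ∧ x ∈ QQ k G := by
  induction hx using AddSubmonoid.closure_induction with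
  | mem x hx => exact hS x hx
  | zero => exact ⟨Pre.zero r, QQ.zero⟩
  | add x y _ _ hx hy => exact ⟨hx.1.add hy.1, QQ.add hx.2 hy.2 (hx.1.mul_pre hy.1 hr) (hy.1.mul_pre hx.1 hr)⟩

omit h2 h3 [FiniteDimensional k M] in
theorem QQ.of_EE_le {F : Subgroup (End k M)ˣ} (h : EE k G s ≤ F) (hx : x ∈ QQ k G) (px : Pre x s) : x ∈ QQ k F :=
  ⟨hx.1, fun c => ⟨_, h (uu_mem_EE (QQ.smul hx c) (px.smul c)), rfl⟩⟩

theorem exists_factors (n : ℕ) : ∀ G : Subgroup (End k M)ˣ, NoUnip k G →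
    (∀ x ∈ QQ k G, x ≠ 0 → finrank k M < rk x + n) → ∃ 𝒢 : Set (Subgroup (End k M)ˣ), 𝒢.Finite ∧
      (∀ F ∈ 𝒢, F ≤ G ∧ IsQuasisimple F ∧ F ≤ Subgroup.closure (quadraticElements F)) ∧
      (∀ F ∈ 𝒢, ∀ F' ∈ 𝒢, F ≠ F' → Comm F F') ∧
      ∀ r ∈ QQ k G, r ∈ AddSubmonoid.closure {x | Pre x r ∧ ∃ F ∈ 𝒢, x ∈ QQ k F} := by
  induction n with
  | zero =>
    intro G _ h
    refine ⟨∅, Set.finite_empty, by simp, by simp, fun r hr => ?_⟩
    by_cases h0 : r = 0
    · exact h0 ▸ zero_mem _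
    · exact absurd (h r hr h0) (not_lt.2 (Submodule.finrank_le _))
  | succ n ih =>
    intro G hG h
    let G' : Subgroup (End k M)ˣ := Subgroup.closure {g | ∃ r ∈ RR G, (g : End k M) = 1 + r}
    have le1 : G' ≤ G := (Subgroup.closure_le _).2 fun g ⟨r, hr, e⟩ => QQ.mem_of_eq hr.1 e
    have c1 : Comm G' (⨆ A ∈ quadraticRootSubgroups G, A) :=
      comm_iff_le_centralizer.2 ((Subgroup.closure_le _).2 fun g ⟨r, hr, e⟩ => RR.comm_qrs h2 h3 hG hr e)
    have n1 : ∀ g ∈ G, conjBy G' g = G' := by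
      have key : ∀ g ∈ G, conjBy G' g ≤ G' := by
        intro g hg
        rw [Subgroup.map_le_iff_le_comap]
        refine (Subgroup.closure_le _).2 ?_
        rintro x ⟨r, hr, e⟩
        exact Subgroup.subset_closure ⟨_, RR.conj hr hg, by simp [e, mul_add, add_mul]⟩
      intro g hg
      refine le_antisymm (key g hg) ?_
      have := conjBy_mono (key g⁻¹ (inv_mem hg)) g
      rwa [conjBy_conjBy_inv] at this
    obtain ⟨𝒢, f1, f2, f3, f4⟩ := ih G' (hG.of_normal le1 n1) fun x hx h0 => by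
      obtain ⟨s, ⟨hs, hs0⟩, hmin⟩ := (measure rk).wf.has_min {y | y ∈ QQ k G ∧ y ≠ 0} ⟨x, QQ.mono hx le1, h0⟩
      have hsL : s ∈ LL G := ⟨hs, hs0, fun y hy hy0 => not_lt.1 (hmin y ⟨hy, hy0⟩)⟩
      have := h s hs hs0
      suffices rk s < rk x by omega
      by_contra hc
      have hxL := LL.of_le hsL (QQ.mono hx le1) h0 (not_lt.1 hc)
      obtain ⟨t, ht, o⟩ := LL.exists_opp_of_noUnip h2 h3 hG hxL
      have := congrArg Units.val (c1 _ (QQ.uu_mem hx) _
        (le_iSup₂_of_le (f := fun A (_ : A ∈ quadraticRootSubgroups G) => A) _ (mem_qrs.2 ⟨t, ht, rfl⟩) le_rfl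
          (uu_mem_EE ht.1 (Pre.refl t))))
      rw [Units.val_mul, Units.val_mul, val_uu, val_uu, ← sub_eq_zero] at this
      have e : x * t = t * x := by rw [← sub_eq_zero, ← this]; noncomm_ring
      exact h0 (by rw [← o.1, e, mul_assoc, hx.1, mul_zero])
    have le2 : ∀ {A}, ∀ B ∈ Cp G A, B ≤ ⨆ B ∈ Cp G A, B := fun B hB => le_iSup₂_of_le B hB le_rfl
    refine ⟨𝒢 ∪ (fun P => ⨆ B ∈ P, B) '' (Cp G '' quadraticRootSubgroups G),
      f1.union ((cp_finite h2 h3 hG).image _), ?_, ?_, fun r hr => ?_⟩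
    · rintro F (hF | ⟨_, ⟨A, hA, rfl⟩, rfl⟩)
      · exact ⟨(f2 F hF).1.trans le1, (f2 F hF).2⟩
      · refine ⟨iSup₂_le fun B hB => qrs_le hB.1, cp_quasisimple h2 h3 hG hA, iSup₂_le fun B hB g hg => ?_⟩
        obtain ⟨s, hs, rfl⟩ := mem_qrs.1 hB.1
        by_cases h1 : g = 1
        · exact h1 ▸ one_mem _
        obtain ⟨x, hx, px, -, e⟩ := LL.mem_EE hs hg h1
        refine Subgroup.subset_closure (mem_quadraticElements.2 ?_)
        rw [e, add_sub_cancel_left]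
        exact ⟨QQ.of_EE_le (le2 _ hB) hx.1 px, hx.2.1⟩
    · rintro F (hF | ⟨_, ⟨A, hA, rfl⟩, rfl⟩) F' (hF' | ⟨_, ⟨B, hB, rfl⟩, rfl⟩) hne
      · exact f3 F hF F' hF' hne
      · exact c1.mono (f2 F hF).1 cp_le
      · exact (c1.mono (f2 F' hF').1 cp_le).symm
      · exact cp_comm h2 h3 hG fun e => hne (by rw [e])
    · refine (AddSubmonoid.closure_le.2 ?_) (QQ.mem_closure h2 h3 hr)
      rintro x ⟨px, hx | hx⟩
      · have m := mem_qrs.2 ⟨x, hx, rfl⟩
        exact AddSubmonoid.subset_closure ⟨px, _, Or.inr ⟨_, ⟨_, m, rfl⟩, rfl⟩,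
          QQ.of_EE_le (le2 _ ⟨m, .refl⟩) hx.1 (Pre.refl x)⟩
      · refine AddSubmonoid.closure_mono ?_
          (f4 x ⟨hx.1.1, fun c => ⟨_, Subgroup.subset_closure ⟨_, RR.smul hx c, val_uu (RR.smul hx c).1.1⟩, rfl⟩⟩)
        exact fun y ⟨py, F, hF, hy⟩ => ⟨py.trans px, F, Or.inl hF, hy⟩

end Cfsg.Agent.Chev.Tim
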