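import Mathlib
import Cfsg.Agent.Chev.ThCox
import Cfsg.Agent.Chev.RootBNCent

/-!
The opposite root datum; fixed point free torus elements; conjugation into the big cell.
-/

set_option autoImplicit false

namespace Cfsg.Agent.Chev.RootBN

variable {Γ : Type*} [Group Γ] {Φ : Type*} {I : Type*} {R : RootBN Γ Φ I}

theorem iSup_X_neg (S : Set Φ) : ⨆ r ∈ S, R.X (R.neg r) = R.XS {r | R.neg r ∈ S} :=
  le_antisymm (iSup₂_le fun r hr => X_le_XS (by simpa [R.neg_neg] using hr)) (XS_le fun r hr => by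
    simpa [R.neg_neg] using le_iSup₂ (f := fun r (_ : r ∈ S) => R.X (R.neg r)) (R.neg r) hr)

variable [Finite Φ]

theorem exists_w_n0_simple (i : I) : ∃ j, R.w R.n0 (R.simple i) = R.neg (R.simple j) := by
  obtain ⟨j, -, e⟩ := w_nS_simple (R := R) (S := Set.univ) (Set.mem_univ i)
  exact ⟨j, by rw [← e, w_eq_of_Inv_eq n0_mem (nS_mem_N Set.univ) (by rw [Inv_n0, Inv_nS]; simp)]⟩

variable (R) in
/-- The opposite datum. -/
noncomputable def op : RootBN Γ Φ I where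
  G := R.G
  U := R.V
  V := R.U
  H := R.H
  N := R.N
  X r := R.X (R.neg r)
  pos := R.pos
  neg := R.neg
  simple := R.simple
  supp := R.supp
  s := R.s
  w := R.w
  G_eq := le_antisymm (by
    rw [R.G_eq]
    refine sup_le (fun u hu => ?_) le_sup_right
    have h0 : R.n0 ∈ R.V ⊔ R.N := Subgroup.mem_sup_right n0_mem
    simpa [mul_assoc] using mul_mem (mul_mem (inv_mem h0) (Subgroup.mem_sup_left (n0_conj_mem_V.2 hu))) h0)
    (sup_le V_le_G N_le_G)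
  U_eq := by rw [iSup_X_neg, V_eq_XS]; simp [R.pos_neg]
  V_eq := by rw [iSup_X_neg, U_eq_XS]; simp [R.pos_neg]
  neg_neg := R.neg_neg
  pos_neg := R.pos_neg
  w_mul := R.w_mul
  w_neg := R.w_neg
  conj_X hn _ _ hx := by rw [← R.w_neg hn]; exact R.conj_X hn hx
  H_le_N := R.H_le_N
  w_H := R.w_H
  s_mem := R.s_mem
  pos_simple := R.pos_simple
  w_s_simple := R.w_s_simple
  pos_w_s := R.pos_w_s
  descent := R.descent
  lin := R.lin
  supp_neg := R.supp_neg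
  supp_simple := R.supp_simple
  supp_w_s := R.supp_w_s
  X_ne_bot _ := R.X_ne_bot _
  UV_N hu hv h := by
    have := R.UV_N (inv_mem hv) (inv_mem hu) (by simpa using inv_mem h)
    exact ⟨inv_eq_one.1 this.2, inv_eq_one.1 this.1⟩
  norm_simple := fun i {x y} hx hy => by
    obtain ⟨j, e⟩ := exists_w_n0_simple (R := R) i
    have e' : R.w R.n0 (R.neg (R.simple i)) = R.simple j := by rw [R.w_neg n0_mem, e, R.neg_neg]
    rw [iSup_X_neg] at hy ⊢
    have h1 := R.norm_simple j (e' ▸ R.conj_X n0_mem hx) (conj_XS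
      (T := {r | R.pos r ∧ r ≠ R.simple j}) n0_mem (fun r hr => ⟨(pos_w_n0 r).2 ((R.pos_neg r).1 hr.1),
        fun h => hr.2 (by rw [(R.w R.n0).injective (h.trans e'.symm), R.neg_neg])⟩) hy)
    have h2 := conj_XS (T := {r | R.neg r ∈ {r | R.pos r ∧ r ≠ R.simple i}}) (inv_mem n0_mem)
      (fun r hr => ⟨(R.pos_neg _).2 fun h => (pos_w_n0_inv r).1 h hr.1, fun h => hr.2 (by
        rw [← e', ← h, R.neg_neg, w_apply_inv n0_mem])⟩) h1
    simpa [mul_assoc] using h2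
  rank_one := fun i {y} hy hy1 => by
    obtain ⟨a, ha, h, hh, b, hb, e⟩ := R.rank_one i (conj_s_inv_X_neg hy) fun h =>
      hy1 (conj_eq_one_iff.1 (show (R.s i)⁻¹ * y * (R.s i)⁻¹⁻¹ = 1 by rwa [inv_inv]))
    refine ⟨_, conj_s_X ha, _, conj_H (R.s_mem i) hh, _, conj_s_X hb, ?_⟩
    calc _ = R.s i * (R.s i * ((R.s i)⁻¹ * y * R.s i) * (R.s i)⁻¹) * (R.s i)⁻¹ := by group
      _ = _ := by rw [e]; group

theorem op_X (r : Φ) : R.op.X r = R.X (R.neg r) := rfl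

theorem op_L (S : Set I) : R.op.L S = R.L S := by
  rw [L, L, XS, show R.op.X = fun r => R.X (R.neg r) from rfl, iSup_X_neg]
  simp only [Set.mem_ofPred_eq, show R.op.supp = R.supp from rfl, R.supp_neg]
  rfl

theorem conj_L_Q {S : Set I} {l v : Γ} (hl : l ∈ R.L S) (hv : v ∈ R.Q S) : l * v * l⁻¹ ∈ R.Q S :=
  conj_P_Q (L_le_P _ hl) hv

theorem conj_L_Q_op {S : Set I} {l v : Γ} (hl : l ∈ R.L S) (hv : v ∈ R.op.Q S) :
    l * v * l⁻¹ ∈ R.op.Q S := conj_L_Q (op_L (R := R) S ▸ hl) hv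

theorem eq_one_of_commute_Um {n : Γ} (hn : n ∈ R.N) : ∀ h ∈ R.H,
    (∀ r ∈ R.Inv n, ∀ x ∈ R.X r, h * x = x * h → x = 1) → ∀ u ∈ R.Um n, h * u = u * h → u = 1 := by
  refine simple_induction (P := fun n => ∀ h ∈ R.H,
    (∀ r ∈ R.Inv n, ∀ x ∈ R.X r, h * x = x * h → x = 1) → ∀ u ∈ R.Um n, h * u = u * h → u = 1)
    (fun k hk h _ _ u hu _ => by rwa [Um_H hk] at hu) (fun n hn i hi ih h hh hf u hu e => ?_) hn
  have hs := R.s_mem i
  have hI := Inv_mul hn hs (by simpa [Inv_s_inv] using hi)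
  obtain ⟨x, hx, y, hy, rfl⟩ := factor_simple i (Um_le_U _ hu)
  have h1 : x⁻¹ * (h * x * h⁻¹) = 1 := eq_one_of_mem_Um_Up hs
    (by rw [Um_s]; exact mul_mem (inv_mem hx) (conj_H_X hh hx)) (by
      rw [show x⁻¹ * (h * x * h⁻¹) = x⁻¹ * (h * (x * y)) * h⁻¹ * (h * y * h⁻¹)⁻¹ by group, e]
      simpa [mul_assoc] using mul_mem hy (inv_mem (conj_H_XS hh hy)))
  obtain rfl := hf _ (by rw [hI, Inv_s]; exact Or.inl rfl) x hx (by
    rw [inv_mul_eq_one, eq_mul_inv_iff_mul_eq] at h1; exact h1.symm)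
  rw [one_mul] at hu e ⊢
  refine conj_eq_one_iff.1 (ih _ (conj_H hs hh) (fun r hr x hx e => ?_) (R.s i * y * (R.s i)⁻¹)
    ((mem_Um_iff hn).2 ⟨conj_Up hs hy, by
      simpa [mul_assoc] using conj_Um (mul_mem hn hs) hu⟩) (by
    calc _ = R.s i * (h * y) * (R.s i)⁻¹ := by group
      _ = _ := by rw [e]; group))
  refine conj_eq_one_iff.1 (hf _ (by rw [hI]; exact Or.inr ⟨r, hr, rfl⟩) _ (R.conj_X (inv_mem hs) hx) ?_)
  calc _ = (R.s i)⁻¹ * (R.s i * h * (R.s i)⁻¹ * x) * R.s i := by group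
    _ = _ := by rw [e]; group

theorem eq_one_of_commute_Q {S : Set I} {h : Γ} (hh : h ∈ R.H)
    (hf : ∀ r, ¬ R.supp r ⊆ S → ∀ x ∈ R.X r, h * x = x * h → x = 1) :
    ∀ u ∈ R.Q S, h * u = u * h → u = 1 := by
  rw [← Up_nS, Up_eq_Um (nS_mem_N S)]
  refine eq_one_of_commute_Um (mul_mem n0_mem (nS_mem_N S)) h hh fun r hr => hf r fun h1 => hr.2 ?_
  rw [w_mul_apply n0_mem (nS_mem_N S), pos_w_n0]
  exact (show r ∈ R.Inv (R.nS S) by rw [Inv_nS]; exact ⟨hr.1, h1⟩).2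

theorem commute_X_neg {i j : I} (h : i ≠ j) {x y : Γ} (hx : x ∈ R.X (R.simple i))
    (hy : y ∈ R.X (R.neg (R.simple j))) : x * y = y * x := by
  have h1 : x ∈ R.Q {j} := X_simple_le_Q (S := {j}) h hx
  have h2 : y ∈ R.op.Q {i} := X_simple_le_Q (R := R.op) (S := {i}) h.symm hy
  have := eq_one_of_mem_U_V (u := x * y * x⁻¹ * y⁻¹)
    (by simpa [mul_assoc] using Q_le_U _ (mul_mem h1 (conj_L_Q (X_neg_le_L j hy) (inv_mem h1))))
    (Q_le_U (R := R.op) _ (mul_mem (conj_L_Q_op (X_simple_le_L i hx) h2) (inv_mem h2)))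
  rwa [mul_inv_eq_one, mul_inv_eq_iff_eq_mul] at this

theorem exists_XYB {i : I} {p : Γ} (hp : p ∈ R.P {i}) : ∃ x ∈ R.X (R.simple i),
    ∃ y ∈ R.X (R.neg (R.simple i)), ∃ b ∈ R.B, p = x * y * b := by
  rcases mem_P_singleton hp with h | ⟨x, hx, b, hb, rfl⟩
  · exact ⟨1, one_mem _, 1, one_mem _, p, h, by simp⟩
  obtain ⟨y, hy, hy1⟩ := exists_mem_X_ne_one (R := R) (R.neg (R.simple i))
  obtain ⟨a, ha, h, hh, c, hc, e⟩ := neg_eq hy hy1
  refine ⟨_, mul_mem hx (conj_H_X (inv_mem hh) (inv_mem ha)), _, conj_H_X (inv_mem hh) hy,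
    h⁻¹ * c⁻¹ * b, mul_mem (mul_mem (H_le_B (inv_mem hh)) (U_le_B (X_le_U (R.pos_simple i) (inv_mem hc)))) hb,
    by rw [e]; group⟩

/-- Elements of a product of distinct minimal parabolic subgroups. -/
theorem exists_of_mem_PW {l : List I} (hl : l.Nodup) {g : Γ} (hg : g ∈ R.PW l) :
    ∃ u ∈ R.U, ∃ v ∈ ⨆ i ∈ l, R.X (R.neg (R.simple i)), ∃ b ∈ R.B,
      g = u * v * b ∧ (v = 1 ∨ ∃ i, v ∉ R.op.Q {i}) := by
  induction l using List.reverseRecOn generalizing g with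
  | nil => exact ⟨1, one_mem _, 1, one_mem _, g, hg, by simp, Or.inl rfl⟩
  | append_singleton l i ih =>
    obtain ⟨g, hg', p, hp, rfl⟩ := mem_PW_append.1 hg
    have hi : ∀ j ∈ l, i ≠ j := fun j hj e => (List.nodup_append.1 hl).2.2 j hj i (by simp) e.symm
    obtain ⟨u, hu, v, hv, b, hb, rfl, hv'⟩ := ih hl.of_append_left hg'
    obtain ⟨x, hx, y, hy, c, hc, e⟩ := exists_XYB (mul_mem (B_le_P _ hb) (mem_PW_singleton.1 hp))
    have h1 : v * x = x * v := Subgroup.mem_centralizer_singleton_iff.1 ((iSup₂_le fun j hj z hz =>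
      Subgroup.mem_centralizer_singleton_iff.2 (commute_X_neg (hi j hj) hx hz).symm :
        _ ≤ Subgroup.centralizer {x}) hv)
    refine ⟨u * x, mul_mem hu (X_le_U (R.pos_simple i) hx), v * y, mul_mem ((iSup₂_le fun j hj =>
      le_iSup₂_of_le j (by simp [hj]) le_rfl : _ ≤ ⨆ j ∈ l ++ [i], R.X (R.neg (R.simple j))) hv)
      ((le_iSup₂_of_le i (by simp) le_rfl : _ ≤ ⨆ j ∈ l ++ [i], R.X (R.neg (R.simple j))) hy), c, hc,
      by rw [mul_assoc _ b, e, ← mul_assoc, ← mul_assoc, mul_assoc u, h1]; group, ?_⟩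
    by_cases hy1 : y = 1
    · rwa [hy1, mul_one]
    refine Or.inr ⟨i, fun h => hy1 (eq_one_of_mem_X_Q (R := R.op) hy ?_)⟩
    exact (mul_mem_cancel_left ((iSup₂_le fun j hj => X_simple_le_Q (R := R.op) (S := {i}) (hi j hj).symm :
      _ ≤ R.op.Q {i}) hv)).1 h

theorem exists_conj_not_mem_Q {u : Γ} (hu : u ∈ R.U) (h1 : u ≠ 1) :
    ∃ n ∈ R.N, n * u * n⁻¹ ∈ R.U ∧ ∃ i, n * u * n⁻¹ ∉ R.Q {i} := by
  by_contra! h
  have key : ∀ a ∈ R.NS Set.univ, ∀ n ∈ R.N, n * u * n⁻¹ ∈ R.U → a * n * u * (a * n)⁻¹ ∈ R.U := by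
    intro a ha
    refine NS_induction (p := fun a => ∀ n ∈ R.N, n * u * n⁻¹ ∈ R.U → a * n * u * (a * n)⁻¹ ∈ R.U)
      (fun k hk n _ hn => ?_) (fun i _ n hn hn' => ?_) (fun a _ b hb ha' hb' n hn hn' => ?_) ha
    · simpa [mul_assoc] using conj_H_U hk hn
    · have := h n hn hn' i
      rw [← Up_s_eq_Q] at this
      simpa [mul_assoc] using conj_Up (R.s_mem i) this
    · simpa [mul_assoc] using ha' _ (mul_mem hb hn) (hb' n hn hn')
  exact h1 (eq_one_of_mem_U_V hu (n0_conj_mem_U.1 (by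
    simpa using key R.n0 (NS_univ (R := R) ▸ n0_mem) 1 (one_mem _) (by simpa using hu))))

end Cfsg.Agent.Chev.RootBN
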