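import Mathlib
import Cfsg.Agent.Chev.StData
import Cfsg.Agent.Chev.RootBNInst

/-!
# The commutator subgroup of `U` contains the root subgroups of the non-simple positive roots
-/

set_option autoImplicit false

namespace Cfsg.Lie.ChevalleyDatum

open Cfsg.Agent.Chev
open scoped commutatorElement

variable (D : ChevalleyDatum) [hG : D.Good] (F : Type*) [Field F]

/-- `[U, U]` contains the root subgroups of the non-simple positive roots. -/
def UComm : Prop := ∀ r : D.Rt, D.IsPosRoot r → (∀ i, r ≠ D.sr i) → ∀ t,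
  D.X F r t ∈ ⁅D.posUnipotent F, D.posUnipotent F⁆

variable {D F}

theorem X_mem_posUnipotent {r : D.Rt} (hr : D.IsPosRoot r) (t : F) :
    D.X F r t ∈ D.posUnipotent F := D.posUnipotent_eq_XS F ▸ D.X_mem_XS F hr t

theorem wordG_mem_commutator {a b : ℕ} (ha : D.IsPosRoot a) (hb : D.IsPosRoot b) (h : b ≠ a)
    (t u : F) : D.wordG F (D.commWord F a b t u) ∈ ⁅D.posUnipotent F, D.posUnipotent F⁆ := by
  lift a to D.Rt using ha.1
  lift b to D.Rt using hb.1
  have h1 := D.X_comm F (r := a) (s := b) (fun e => h (congrArg Fin.val e))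
    (fun e => (D.isPos_ng a).1 (e ▸ hb) ha) t u
  rw [← inv_mul_eq_iff_eq_mul] at h1
  rw [← h1]
  convert Subgroup.commutator_mem_commutator (inv_mem (X_mem_posUnipotent hb u))
    (inv_mem (X_mem_posUnipotent ha t)) using 1
  group

theorem commutatorElement_mul_comm' {G : Type*} [Group G] (a b : G) : ⁅a, b⁆ * (b * a) = a * b := by
  group

theorem unit_cast {C : ℤ} (hC : C ∈ [1, -1]) (t : F) : (C : F) * (C * t) = t := by
  simp only [List.mem_cons, List.not_mem_nil, or_false] at hC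
  rcases hC with rfl | rfl <;> simp

theorem X_mem_commutator_one {a b r : ℕ} {C : ℤ} (ha : D.IsPosRoot a) (hb : D.IsPosRoot b)
    (h : b ≠ a) (hC : C ∈ [1, -1]) (e : D.commTerms a b = [(r, C, 1, 1)]) (t : F) :
    D.X F r t ∈ ⁅D.posUnipotent F, D.posUnipotent F⁆ := by
  simpa [commWord, e, wordG, unit_cast hC] using wordG_mem_commutator ha hb h (-1 : F) (C * t)

theorem X_mem_commutator_two (hF : ∃ c : F, c ≠ 0 ∧ c ≠ 1) {a b r s : ℕ} {C C' : ℤ}
    (ha : D.IsPosRoot a) (hb : D.IsPosRoot b) (h : b ≠ a) (hC : C ∈ [1, -1]) (hC' : C' ∈ [1, -1])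
    (e : D.commTerms a b = [(r, C, 1, 1), (s, C', 2, 1)]) (t : F) :
    D.X F r t ∈ ⁅D.posUnipotent F, D.posUnipotent F⁆ ∧
      D.X F s t ∈ ⁅D.posUnipotent F, D.posUnipotent F⁆ := by
  obtain ⟨c, h0, h1⟩ := hF
  have h2 : ∀ t u : F, D.X F r (C * t * u) * D.X F s (C' * t ^ 2 * u) ∈
      ⁅D.posUnipotent F, D.posUnipotent F⁆ := fun t u => by
    simpa [commWord, e, wordG] using wordG_mem_commutator ha hb h (-t) u
  have h3 : ∀ t, D.X F s t ∈ ⁅D.posUnipotent F, D.posUnipotent F⁆ := fun t => by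
    have := mul_mem (inv_mem (h2 1 (c * (C' * t / (c * (c - 1)))))) (h2 c (C' * t / (c * (c - 1))))
    rw [mul_one, ← mul_assoc (C : F), mul_inv_rev, mul_assoc, inv_mul_cancel_left, ← X_neg,
      ← X_add] at this
    convert this using 2
    have := sub_ne_zero.2 h1
    field_simp
    linear_combination (1 - c) * unit_cast hC' t
  refine ⟨?_, h3 t⟩
  simpa [unit_cast hC] using (mul_mem_cancel_right (h3 _)).1 (h2 1 (C * t))

theorem uComm_of_sl (hL : D.stRoot.SL) : D.UComm F := fun r hr hs t => by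
  obtain ⟨i, hi⟩ : ∃ i, 0 < D.wt r i := by
    by_contra! h
    have h1 := D.pairing_self r
    have := Finset.sum_nonpos fun i (_ : i ∈ Finset.univ) =>
      mul_nonpos_of_nonneg_of_nonpos ((D.isPos_iff_cw r).1 hr i) (h i)
    rw [pairing_eq_dot, dotProduct] at h1
    omega
  have h1 : D.stRoot.A (D.sr i) r = 1 := by
    have := hL (D.sr i) r (hs i)
    have h2 : D.stRoot.A (D.sr i) r = D.wt r i := D.stRoot_A_sr i r
    omega
  obtain ⟨C, hC, e⟩ := hL.terms_eq D.std (a := D.sr i) (b := D.refl (D.sr i) r)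
    ((D.stRoot.A_refl_right _ _).trans (by rw [h1]))
  have h2 : D.IsPosRoot (D.refl (D.sr i) r) := by
    rw [refl_sr, sref_pos_iff]; exact Or.inl ⟨hr, hs i⟩
  have h4 : D.refl (D.sr i) (D.refl (D.sr i) r) = r := D.stRoot.refl_refl _ _
  have h3 := StRoot.IsComm.eq_single ((D.isModel_X F).comm (D.sr i) (D.refl (D.sr i) r)
    (fun h => (D.isPos_ng _).1 (by rwa [← D.refl_self, (congrArg _ h).symm.trans h4]) (D.sr_pos i))
    fun h => (D.isPos_ng _).1 ((show _ = D.ng _ from h) ▸ h2) (D.sr_pos i)) e (-1) (C * t)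
  rw [show D.stRoot.refl (D.sr i) (D.refl (D.sr i) r) = r from h4, neg_neg, mul_one, unit_cast (by simpa using hC)] at h3
  rw [← h3]
  convert Subgroup.commutator_mem_commutator (inv_mem (X_mem_posUnipotent h2 (C * t)))
    (inv_mem (X_mem_posUnipotent (D.sr_pos i) (-1 : F))) using 1
  group

theorem uComm_of_tab (hF : ∃ c : F, c ≠ 0 ∧ c ≠ 1) (w : ℕ → ℕ × ℕ)
    (h : ∀ r : D.Rt, D.IsPosRoot r → (∀ i : D.Nd, r.1 ≠ D.simple i) → D.IsPosRoot (w r).1 ∧
      D.IsPosRoot (w r).2 ∧ (w r).2 ≠ (w r).1 ∧ ∃ C ∈ [1, -1],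
        D.commTerms (w r).1 (w r).2 = [(r.1, C, 1, 1)] ∨ ∃ C' ∈ [1, -1], ∃ s < D.nroots,
          D.commTerms (w r).1 (w r).2 = [(r.1, C, 1, 1), (s, C', 2, 1)] ∨
          D.commTerms (w r).1 (w r).2 = [(s, C, 1, 1), (r.1, C', 2, 1)]) : D.UComm F :=
  fun r hr hs t => by
    obtain ⟨h1, h2, h3, C, hC, h4 | ⟨C', hC', s, -, h4 | h4⟩⟩ :=
      h r hr fun i e => hs i (Fin.ext e)
    exacts [X_mem_commutator_one h1 h2 h3 hC h4 t, (X_mem_commutator_two hF h1 h2 h3 hC hC' h4 t).1,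
      (X_mem_commutator_two hF h1 h2 h3 hC hC' h4 t).2]

theorem uComm_B2 (hF : ∃ c : F, c ≠ 0 ∧ c ≠ 1) : chevB2.UComm F :=
  uComm_of_tab hF (fun _ => (5, 4)) (by decide +kernel)

theorem uComm_F4 (hF : ∃ c : F, c ≠ 0 ∧ c ≠ 1) : chevF4.UComm F :=
  uComm_of_tab hF (fun r => [(24, 25), (0, 0), (27, 25), (27, 26), (27, 25), (24, 30), (25, 31),
    (0, 0), (27, 33), (28, 33), (29, 33), (27, 35), (27, 36), (28, 36), (27, 39), (33, 30),
    (24, 41), (25, 42), (33, 40), (30, 42), (25, 45), (24, 46)].getD (r - 26) (0, 0))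
    (by decide +kernel)

theorem uComm_G2 (hF : ∃ c d : F, c ≠ 0 ∧ c ≠ 1 ∧ d ≠ 0 ∧ d ≠ 1 ∧ c ≠ d) : chevG2.UComm F := by
  obtain ⟨c, d, hc0, hc1, hd0, hd1, hcd⟩ := hF
  set C := ⁅chevG2.posUnipotent F, chevG2.posUnipotent F⁆
  have h11 : ∀ t, chevG2.X F 11 t ∈ C :=
    X_mem_commutator_one (a := 6) (b := 10) (C := 1) (by decide +kernel) (by decide +kernel)
      (by decide) (by simp) (by decide +kernel)
  have e : chevG2.commTerms 7 6 = [(8, -1, 1, 1), (9, 1, 2, 1), (10, 1, 3, 1), (11, 1, 3, 2)] := by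
    decide +kernel
  have h1 : ∀ t v : F, t ≠ 0 →
      chevG2.X F 8 (-v) * (chevG2.X F 9 (t * v) * chevG2.X F 10 (t ^ 2 * v)) ∈ C := fun t v ht => by
    have := wordG_mem_commutator (D := chevG2) (a := 7) (b := 6) (by decide +kernel)
      (by decide +kernel) (by decide) (-t) (v / t)
    simp only [commWord, e, wordG, List.map_cons, List.map_nil, List.prod_cons, List.prod_nil,
      mul_one, ← mul_assoc] at this
    rw [mul_mem_cancel_right (h11 _), mul_assoc] at this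
    convert this using 3 <;> [skip; congr 1; congr 1] <;> field_simp <;> simp
  have h0' : ∀ t u : F, ⁅chevG2.X F 10 t, chevG2.X F 9 u⁆ ∈ C := fun t u =>
    Subgroup.commutator_mem_commutator
      (X_mem_posUnipotent (D := chevG2) (r := (10 : Fin 12)) (by decide +kernel) _)
      (X_mem_posUnipotent (D := chevG2) (r := (9 : Fin 12)) (by decide +kernel) _)
  have h2 : ∀ t w : F, t ≠ 0 → t ≠ 1 → chevG2.X F 9 w * chevG2.X F 10 ((t + 1) * w) ∈ C :=
    fun t w h0 h => by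
      have := mul_mem (inv_mem (h1 1 (w / (t - 1)) one_ne_zero)) (h1 t (w / (t - 1)) h0)
      rw [mul_inv_rev, mul_assoc, inv_mul_cancel_left, mul_inv_rev, mul_assoc,
        ← mul_assoc (chevG2.X F 9 _)⁻¹, ← X_neg, ← X_neg, ← X_add, ← mul_assoc,
        ← commutatorElement_mul_comm' (chevG2.X F 10 _), mul_assoc,
        mul_mem_cancel_left (h0' _ _), mul_assoc, ← X_add] at this
      have h3 := sub_ne_zero.2 h
      convert this using 3 <;> field_simp <;> ring
  have h10 : ∀ t, chevG2.X F 10 t ∈ C := fun t => by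
    have := mul_mem (inv_mem (h2 d (t / (c - d)) hd0 hd1)) (h2 c (t / (c - d)) hc0 hc1)
    rw [mul_inv_rev, mul_assoc, inv_mul_cancel_left, ← X_neg, ← X_add] at this
    have h3 := sub_ne_zero.2 hcd
    convert this using 2
    field_simp
    ring
  have h9 : ∀ t, chevG2.X F 9 t ∈ C := fun t => (mul_mem_cancel_right (h10 _)).1 (h2 c t hc0 hc1)
  have h8 : ∀ t, chevG2.X F 8 t ∈ C := fun t => by
    simpa using (mul_mem_cancel_right (mul_mem (h9 _) (h10 _))).1 (h1 1 (-t) one_ne_zero)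
  intro r hr hs t
  have : r.1 = 8 ∨ r.1 = 9 ∨ r.1 = 10 ∨ r.1 = 11 :=
    (by decide +kernel : ∀ r : chevG2.Rt, chevG2.IsPosRoot r →
      (∀ i : chevG2.Nd, r.1 ≠ chevG2.simple i) → r.1 = 8 ∨ r.1 = 9 ∨ r.1 = 10 ∨ r.1 = 11) r hr
      fun i e => hs i (Fin.ext e)
  rcases this with h | h | h | h <;> rw [h]
  exacts [h8 t, h9 t, h10 t, h11 t]

end Cfsg.Lie.ChevalleyDatum
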